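import Mathlib
import Cfsg.Agent.Helper16.DefOneSetup
import Cfsg.Agent.Helper31.CanonMap
import Cfsg.Agent.Helper74.DefectZero

set_option autoImplicit false

/-!
# Piece (CAN-a) of helper82's WANTED #5408 (defect-one engine): the canonical map of `C_G(P)`

`Helper31.Defect1.exists_canonical_map` (X-C) applied to `H = cen P`, `D = P ∩ cen P = P`; the
function `DefOne.can P` coincides with the map produced there.
-/

namespace Cfsg.Agent.Helper49.DefOneCANa

open Cfsg Cfsg.Agent.Helper16 Cfsg.Agent.Helper16.DefOne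

universe u

variable {G : Type u} [Group G] [Fintype G] {p : ℕ} [Fact p.Prime] (M : Ideal AlgInt)
  (P : Sylow p G)

/-! ### the group-theoretic input (local copies of three facts of (GR-a)) -/

theorem le_cen_aux (hP : Nat.card P = p) : (P : Subgroup G) ≤ cen P := by
  have hp : p.Prime := Fact.out
  haveI : IsCyclic (P : Subgroup G) := isCyclic_of_prime_card (p := p) hP
  intro x hx
  rw [Subgroup.mem_centralizer_iff]
  intro y hy
  have h := (IsCyclic.commGroup (α := (P : Subgroup G))).mul_comm ⟨y, hy⟩ ⟨x, hx⟩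
  exact congrArg Subtype.val h

theorem subgroupOf_cen_le_center_aux :
    (P : Subgroup G).subgroupOf (cen P) ≤ Subgroup.center ↥(cen P) := by
  intro u hu
  rw [Subgroup.mem_center_iff]
  intro c
  have hc := Subgroup.mem_centralizer_iff.mp c.2 (u : G) (Subgroup.mem_subgroupOf.mp hu)
  apply Subtype.ext
  simpa using hc.symm

theorem card_subgroupOf_cen_aux (hP : Nat.card P = p) :
    Nat.card ((P : Subgroup G).subgroupOf (cen P)) = p := by
  rw [Nat.card_congr (Subgroup.subgroupOfEquivOfLe (le_cen_aux P hP)).toEquiv]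
  exact hP

theorem not_dvd_index_subgroupOf_cen_aux (hP : Nat.card P = p) :
    ¬ p ∣ ((P : Subgroup G).subgroupOf (cen P)).index := by
  intro hd
  have h1 : (P : Subgroup G).relIndex (cen P) ∣ (P : Subgroup G).index :=
    ⟨_, (Subgroup.relIndex_mul_index (le_cen_aux P hP)).symm⟩
  exact P.not_dvd_index (hd.trans h1)

/-! ### (X-C) for `cen P` -/

/-- The conclusion of (X-C) for `H = cen P`, `D = P`. -/
def XC : Prop :=
  ∃ can' : IrrCharacter (cen P) → IrrCharacter (cen P),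
    (∀ φ, IsCanon P (can' φ)) ∧
    (∀ φ : IrrCharacter (cen P), IsCanon P φ → can' φ = φ) ∧
    (∀ (φ : IrrCharacter (cen P)) (x : cen P), ¬ p ∣ orderOf x →
      (φ : cen P → ℂ) x = (can' φ : cen P → ℂ) x) ∧
    (∀ φ ψ : IrrCharacter (cen P),
      SameBlock M (φ : cen P → ℂ) (ψ : cen P → ℂ) ↔ can' φ = can' ψ) ∧
    (∀ θ : IrrCharacter (cen P), IsCanon P θ →
      Nat.card {φ : IrrCharacter (cen P) // can' φ = θ} = p) ∧
    (∀ θ θ' : IrrCharacter (cen P), IsCanon P θ → IsCanon P θ' →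
      (∀ x : cen P, ¬ p ∣ orderOf x → (θ : cen P → ℂ) x = (θ' : cen P → ℂ) x) → θ = θ') ∧
    Nat.card {θ : IrrCharacter (cen P) // IsCanon P θ} =
      Nat.card {c : ConjClasses (cen P) // ∃ g : cen P, ConjClasses.mk g = c ∧ ¬ p ∣ orderOf g}

theorem xc (hM : IsPModular p M) (hP : Nat.card P = p) : XC M P := by
  letI : Fintype (cen P) := Fintype.ofFinite _
  exact Cfsg.Agent.Helper31.Defect1.exists_canonical_map p M hM
    ((P : Subgroup G).subgroupOf (cen P)) (subgroupOf_cen_le_center_aux P)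
    (card_subgroupOf_cen_aux P hP) (not_dvd_index_subgroupOf_cen_aux P hP)

/-- `DefOne.can P` is the map of (X-C). -/
theorem can_eq_of_xc {can' : IrrCharacter (cen P) → IrrCharacter (cen P)}
    (c1 : ∀ φ, IsCanon P (can' φ))
    (c3 : ∀ (φ : IrrCharacter (cen P)) (x : cen P), ¬ p ∣ orderOf x →
      (φ : cen P → ℂ) x = (can' φ : cen P → ℂ) x)
    (c6 : ∀ θ θ' : IrrCharacter (cen P), IsCanon P θ → IsCanon P θ' →
      (∀ x : cen P, ¬ p ∣ orderOf x → (θ : cen P → ℂ) x = (θ' : cen P → ℂ) x) → θ = θ')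
    (φ : IrrCharacter (cen P)) : can P φ = can' φ := by
  obtain ⟨hc, hr⟩ := can_spec P φ ⟨can' φ, c1 φ, c3 φ⟩
  exact c6 _ _ hc (c1 φ) (fun x hx => (hr x hx).symm.trans (c3 φ x hx))

/-! ### the statements of (CAN-a) -/

theorem isCanon_can (hP : Nat.card P = p) (φ : IrrCharacter (cen P)) : IsCanon P (can P φ) := by
  obtain ⟨M, hM⟩ := Cfsg.Agent.Helper74.exists_isPModular p Fact.out
  obtain ⟨can', c1, -, c3, -, -, -, -⟩ := xc M P hM hP
  exact (can_spec P φ ⟨can' φ, c1 φ, c3 φ⟩).1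

theorem can_eq_self (hP : Nat.card P = p) (θ : IrrCharacter (cen P)) (hθ : IsCanon P θ) :
    can P θ = θ := by
  obtain ⟨M, hM⟩ := Cfsg.Agent.Helper74.exists_isPModular p Fact.out
  obtain ⟨can', c1, c2, c3, -, -, c6, -⟩ := xc M P hM hP
  rw [can_eq_of_xc P c1 c3 c6 θ]
  exact c2 θ hθ

theorem can_apply_regular (hP : Nat.card P = p) (φ : IrrCharacter (cen P)) (x : cen P)
    (hx : ¬ p ∣ orderOf x) : (φ : cen P → ℂ) x = (can P φ : cen P → ℂ) x := by
  obtain ⟨M, hM⟩ := Cfsg.Agent.Helper74.exists_isPModular p Fact.out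
  obtain ⟨can', c1, -, c3, -, -, -, -⟩ := xc M P hM hP
  exact (can_spec P φ ⟨can' φ, c1 φ, c3 φ⟩).2 x hx

theorem canon_ext (hP : Nat.card P = p) (θ θ' : IrrCharacter (cen P)) (hθ : IsCanon P θ)
    (hθ' : IsCanon P θ')
    (h : ∀ x : cen P, ¬ p ∣ orderOf x → (θ : cen P → ℂ) x = (θ' : cen P → ℂ) x) : θ = θ' := by
  obtain ⟨M, hM⟩ := Cfsg.Agent.Helper74.exists_isPModular p Fact.out
  obtain ⟨can', -, -, -, -, -, c6, -⟩ := xc M P hM hP
  exact c6 θ θ' hθ hθ' h

theorem sameBlock_iff_can (hM : IsPModular p M) (hP : Nat.card P = p)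
    (φ ψ : IrrCharacter (cen P)) :
    SameBlock M (φ : cen P → ℂ) (ψ : cen P → ℂ) ↔ can P φ = can P ψ := by
  obtain ⟨can', c1, -, c3, c4, -, c6, -⟩ := xc M P hM hP
  rw [can_eq_of_xc P c1 c3 c6 φ, can_eq_of_xc P c1 c3 c6 ψ]
  exact c4 φ ψ

theorem card_fibre_can (hP : Nat.card P = p) (θ : IrrCharacter (cen P)) (hθ : IsCanon P θ) :
    Nat.card {φ : IrrCharacter (cen P) // can P φ = θ} = p := by
  obtain ⟨M, hM⟩ := Cfsg.Agent.Helper74.exists_isPModular p Fact.out
  obtain ⟨can', c1, -, c3, -, c5, c6, -⟩ := xc M P hM hP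
  have e : can P = can' := funext (can_eq_of_xc P c1 c3 c6)
  rw [e]
  exact c5 θ hθ

theorem card_canon (hP : Nat.card P = p) :
    Nat.card {θ : IrrCharacter (cen P) // IsCanon P θ} =
      Nat.card {c : ConjClasses (cen P) // ∃ g : cen P, ConjClasses.mk g = c ∧ ¬ p ∣ orderOf g} := by
  obtain ⟨M, hM⟩ := Cfsg.Agent.Helper74.exists_isPModular p Fact.out
  obtain ⟨can', -, -, -, -, -, -, c7⟩ := xc M P hM hP
  exact c7

end Cfsg.Agent.Helper49.DefOneCANa
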