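import Mathlib.GroupTheory.Sylow
import Cfsg.Prelude.Def_Solvable

set_option autoImplicit false

/-!
Helper lemmas about `Cfsg.pCore` and "characteristic p" groups (helper49).
-/

namespace Cfsg.Agent.Helper49

open Cfsg

variable {G : Type*} [Group G] {p : ℕ}

theorem pCore_isPGroup (p : ℕ) (G : Type*) [Group G] : IsPGroup p (pCore p G) :=
  Sylow.sSup_of_normal _ (fun _ h => h.2) (fun _ h => h.1)

theorem pCore_normal' (p : ℕ) (G : Type*) [Group G] : (pCore p G).Normal :=
  Subgroup.sSup_normal _ (fun _ h => h.1)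

theorem le_pCore {N : Subgroup G} (hN : N.Normal) (h : IsPGroup p N) : N ≤ pCore p G :=
  le_sSup ⟨hN, h⟩

theorem pCore_le_sylow (P : Sylow p G) : pCore p G ≤ P := by
  have := pCore_normal' p G
  exact (pCore_isPGroup p G).le_sylow_of_normal P

/-- Elementary lemma: if `e x e⁻¹ = x z` with `z` commuting with `e`, `z` a `p`-element and `e`
of order prime to `p`, then `z = 1`. -/
theorem eq_one_of_conj_eq_mul [Fact p.Prime] {x e z : G} (h : e * x * e⁻¹ = x * z)
    (hc : Commute e z) (hz : ∃ k : ℕ, z ^ (p ^ k) = 1) (he : (orderOf e).Coprime p) : z = 1 := by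
  have key : ∀ n : ℕ, e ^ n * x * (e ^ n)⁻¹ = x * z ^ n := by
    intro n
    induction n with
    | zero => simp
    | succ n ih =>
      have h1 : e ^ (n + 1) * x * (e ^ (n + 1))⁻¹ = e * (e ^ n * x * (e ^ n)⁻¹) * e⁻¹ := by
        rw [pow_succ']; group
      rw [h1, ih]
      have h2 : e * (x * z ^ n) * e⁻¹ = (e * x * e⁻¹) * (e * z ^ n * e⁻¹) := by group
      rw [h2, h]
      have h3 : e * z ^ n * e⁻¹ = z ^ n := by
        have := (hc.pow_right n).eq
        rw [this]; group
      rw [h3, pow_succ', mul_assoc]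
  have h1 := key (orderOf e)
  rw [pow_orderOf_eq_one] at h1
  simp at h1
  obtain ⟨k, hk⟩ := hz
  have hd1 : orderOf z ∣ orderOf e := orderOf_dvd_of_pow_eq_one h1
  have hd2 : orderOf z ∣ p ^ k := orderOf_dvd_of_pow_eq_one hk
  have hcop : (orderOf e).Coprime (p ^ k) := he.pow_right k
  have : orderOf z = 1 := Nat.eq_one_of_dvd_coprimes hcop hd1 hd2
  exact orderOf_eq_one_iff.mp this

/-- A subgroup of a finite group without nontrivial `p'`-elements is a `p`-group. -/
theorem isPGroup_of_forall_coprime [Fact p.Prime] [Finite G] (H : Subgroup G)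
    (h : ∀ c ∈ H, (orderOf c).Coprime p → c = 1) : IsPGroup p H := by
  intro ⟨g, hg⟩
  have hp : p.Prime := Fact.out
  have hpos : 0 < orderOf g := orderOf_pos g
  obtain ⟨k, m, hm, hkm⟩ := Nat.exists_eq_pow_mul_and_not_dvd hpos.ne' p hp.ne_one
  refine ⟨k, ?_⟩
  have hc : (orderOf (g ^ (p ^ k))).Coprime p := by
    rw [orderOf_pow' g (pow_ne_zero k hp.ne_zero), hkm, Nat.gcd_mul_right_left,
      Nat.mul_div_cancel_left _ (pow_pos hp.pos k)]
    exact ((Nat.Prime.coprime_iff_not_dvd hp).mpr hm).symm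
  have := h (g ^ (p ^ k)) (H.pow_mem hg _) hc
  ext
  simpa using this

section Sub

variable (p)

/-- `O_p(L)` viewed in the ambient group. -/
def coreIn (L : Subgroup G) : Subgroup G := (pCore p ↥L).map L.subtype

variable {p}

theorem coreIn_le (L : Subgroup G) : coreIn p L ≤ L := by
  rintro _ ⟨y, _, rfl⟩
  exact y.2

theorem coreIn_isPGroup (L : Subgroup G) : IsPGroup p (coreIn p L) :=
  (pCore_isPGroup p ↥L).map L.subtype

theorem mem_coreIn_iff {L : Subgroup G} {x : G} (hx : x ∈ L) :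
    x ∈ coreIn p L ↔ (⟨x, hx⟩ : ↥L) ∈ pCore p ↥L := by
  constructor
  · rintro ⟨y, hy, hyx⟩
    have : y = ⟨x, hx⟩ := Subtype.ext hyx
    rwa [← this]
  · intro h
    exact ⟨⟨x, hx⟩, h, rfl⟩

/-- A `p`-subgroup of `L` normalized by `L` lies in `O_p(L)`. -/
theorem le_coreIn {L N : Subgroup G} (hNL : N ≤ L)
    (hnorm : ∀ l ∈ L, ∀ n ∈ N, l * n * l⁻¹ ∈ N) (hN : IsPGroup p N) : N ≤ coreIn p L := by
  have hn : (N.subgroupOf L).Normal := by
    constructor
    intro n hn l
    rw [Subgroup.mem_subgroupOf] at hn ⊢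
    simpa using hnorm l l.2 n hn
  have hp : IsPGroup p (N.subgroupOf L) := hN.comap_subtype
  have hle : N.subgroupOf L ≤ pCore p ↥L := le_pCore hn hp
  intro x hx
  exact ⟨⟨x, hNL hx⟩, hle (by rw [Subgroup.mem_subgroupOf]; exact hx), rfl⟩

theorem coreIn_conj_mem {L : Subgroup G} {l r : G} (hl : l ∈ L) (hr : r ∈ coreIn p L) :
    l * r * l⁻¹ ∈ coreIn p L := by
  have hrL : r ∈ L := coreIn_le L hr
  rw [mem_coreIn_iff hrL] at hr
  have := (pCore_normal' p ↥L).conj_mem _ hr ⟨l, hl⟩
  rw [mem_coreIn_iff (L.mul_mem (L.mul_mem hl hrL) (L.inv_mem hl))]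
  exact this

/-- Criterion for characteristic `p`: it suffices to kill the `p'`-elements of `C_L(O_p(L))`. -/
theorem charP_of_forall [Fact p.Prime] [Finite G] (L : Subgroup G)
    (h : ∀ c ∈ L, (∀ r ∈ coreIn p L, c * r = r * c) → (orderOf c).Coprime p → c = 1) :
    Subgroup.centralizer (pCore p ↥L : Set ↥L) ≤ pCore p ↥L := by
  have : (pCore p ↥L).Normal := pCore_normal' p ↥L
  have hCn : (Subgroup.centralizer (pCore p ↥L : Set ↥L)).Normal := inferInstance
  apply le_pCore hCn
  apply isPGroup_of_forall_coprime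
  intro c hc hcop
  have hc1 : (c : G) = 1 := by
    apply h c c.2
    · rintro _ ⟨r, hr, rfl⟩
      have := hc r hr
      have h2 : (c : G) * (r : G) = ((c * r : ↥L) : G) := rfl
      have h3 : (r : G) * (c : G) = ((r * c : ↥L) : G) := rfl
      rw [Subgroup.coe_subtype, h2, h3, this]
    · rwa [Subgroup.orderOf_coe]
  exact Subtype.ext hc1

/-- Converse direction, elementwise: in a group of characteristic `p`, an element centralizing
`O_p` lies in `O_p`. -/
theorem mem_pCore_of_charP (hG : Subgroup.centralizer (pCore p G : Set G) ≤ pCore p G) {c : G}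
    (hc : ∀ x ∈ pCore p G, c * x = x * c) : c ∈ pCore p G := by
  apply hG
  rw [Subgroup.mem_centralizer_iff]
  intro x hx
  exact (hc x hx).symm

theorem eq_one_of_mem_pGroup_of_coprime [Fact p.Prime] {P : Subgroup G} (hP : IsPGroup p P) {c : G}
    (hc : c ∈ P) (hcop : (orderOf c).Coprime p) : c = 1 := by
  obtain ⟨k, hk⟩ := hP ⟨c, hc⟩
  have hk' : c ^ (p ^ k) = 1 := by
    have := congrArg Subtype.val hk
    simpa using this
  have hd2 : orderOf c ∣ p ^ k := orderOf_dvd_of_pow_eq_one hk'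
  have : orderOf c = 1 := Nat.eq_one_of_dvd_coprimes (hcop.pow_right k) dvd_rfl hd2
  exact orderOf_eq_one_iff.mp this

/-- The ambient form of "`L` has characteristic `p`". -/
def CharPIn (p : ℕ) (L : Subgroup G) : Prop :=
  ∀ c ∈ L, (∀ r ∈ coreIn p L, c * r = r * c) → c ∈ coreIn p L

theorem charPIn_iff (L : Subgroup G) :
    CharPIn p L ↔ Subgroup.centralizer (pCore p ↥L : Set ↥L) ≤ pCore p ↥L := by
  constructor
  · intro h c hc
    have hc' : (c : G) ∈ coreIn p L := by
      apply h c c.2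
      rintro _ ⟨r, hr, rfl⟩
      have := hc r hr
      have h2 : (c : G) * (r : G) = ((c * r : ↥L) : G) := rfl
      have h3 : (r : G) * (c : G) = ((r * c : ↥L) : G) := rfl
      rw [Subgroup.coe_subtype, h2, h3, this]
    exact (mem_coreIn_iff c.2).mp hc'
  · intro h c hcL hcR
    rw [mem_coreIn_iff hcL]
    apply h
    rw [Subgroup.mem_centralizer_iff]
    intro r hr
    have := hcR (r : G) ⟨r, hr, rfl⟩
    apply Subtype.ext
    exact this.symm

theorem charPIn_of_forall [Fact p.Prime] [Finite G] (L : Subgroup G)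
    (h : ∀ c ∈ L, (∀ r ∈ coreIn p L, c * r = r * c) → (orderOf c).Coprime p → c = 1) :
    CharPIn p L :=
  (charPIn_iff L).mpr (charP_of_forall L h)

theorem coreIn_top_eq : coreIn p (⊤ : Subgroup G) = pCore p G := by
  apply le_antisymm
  · have hn : (coreIn p (⊤ : Subgroup G)).Normal := by
      constructor
      intro n hn g
      exact coreIn_conj_mem (Subgroup.mem_top g) hn
    exact le_pCore hn (coreIn_isPGroup _)
  · apply le_coreIn le_top
    · intro l _ n hn
      exact (pCore_normal' p G).conj_mem n hn l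
    · exact pCore_isPGroup p G

theorem charPIn_top_iff :
    CharPIn p (⊤ : Subgroup G) ↔ Subgroup.centralizer (pCore p G : Set G) ≤ pCore p G := by
  unfold CharPIn
  rw [coreIn_top_eq]
  constructor
  · intro h c hc
    apply h c (Subgroup.mem_top c)
    intro r hr
    exact (hc r hr).symm
  · intro h c _ hc
    apply h
    rw [Subgroup.mem_centralizer_iff]
    intro r hr
    exact (hc r hr).symm

/-- Lemma A: if `M` has characteristic `p` and `O_p(M)` normalizes `L ≤ M`, then `L` has
characteristic `p`. -/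
theorem charPIn_of_normalized [Fact p.Prime] [Finite G] {M L : Subgroup G} (hM : CharPIn p M)
    (hLM : L ≤ M) (hL : coreIn p M ≤ Subgroup.normalizer (L : Set G)) : CharPIn p L := by
  apply charPIn_of_forall
  intro c hcL hcR hcop
  have hPp : IsPGroup p (coreIn p M) := coreIn_isPGroup M
  have hPL : coreIn p M ⊓ L ≤ coreIn p L := by
    apply le_coreIn inf_le_right
    · intro l hl n hn
      exact ⟨coreIn_conj_mem (hLM hl) hn.1, L.mul_mem (L.mul_mem hl hn.2) (L.inv_mem hl)⟩
    · exact hPp.to_inf_left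
  have hcP : ∀ x ∈ coreIn p M, c * x = x * c := by
    intro x hx
    set z : G := x⁻¹ * c * x * c⁻¹ with hz
    have hzP : z ∈ coreIn p M := by
      have h1 : c * x * c⁻¹ ∈ coreIn p M := coreIn_conj_mem (hLM hcL) hx
      have : z = x⁻¹ * (c * x * c⁻¹) := by rw [hz]; group
      rw [this]
      exact (coreIn p M).mul_mem ((coreIn p M).inv_mem hx) h1
    have hzL : z ∈ L := by
      have hx' : x⁻¹ ∈ Subgroup.normalizer (L : Set G) := hL ((coreIn p M).inv_mem hx)
      have h1 : x⁻¹ * c * x⁻¹⁻¹ ∈ L := (Subgroup.mem_normalizer_iff.mp hx' c).mp hcL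
      have : z = (x⁻¹ * c * x⁻¹⁻¹) * c⁻¹ := by rw [hz]; group
      rw [this]
      exact L.mul_mem h1 (L.inv_mem hcL)
    have hzR : z ∈ coreIn p L := hPL ⟨hzP, hzL⟩
    have hcz : Commute c z := hcR z hzR
    have hconj : c * x * c⁻¹ = x * z := by rw [hz]; group
    have hzp : ∃ k : ℕ, z ^ (p ^ k) = 1 := by
      obtain ⟨k, hk⟩ := hPp ⟨z, hzP⟩
      exact ⟨k, by simpa using congrArg Subtype.val hk⟩
    have hz1 : z = 1 := eq_one_of_conj_eq_mul hconj hcz hzp hcop
    rw [hz1, mul_one] at hconj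
    calc c * x = (c * x * c⁻¹) * c := by group
      _ = x * c := by rw [hconj]
  have hcP' : c ∈ coreIn p M := hM c (hLM hcL) hcP
  exact eq_one_of_mem_pGroup_of_coprime hPp hcP' hcop

end Sub

end Cfsg.Agent.Helper49
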