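import Cfsg.Agent.Helper49.CharP

set_option autoImplicit false

/-!
Self-centralizing normal subgroups of Sylow subgroups in groups of characteristic `p` (helper49).
-/

namespace Cfsg.Agent.Helper49

open Cfsg

variable {G : Type*} [Group G] {p : ℕ}

/-- `N_G(L)` normalizes `O_p(L)`. -/
theorem normalizer_le_normalizer_coreIn (L : Subgroup G) :
    Subgroup.normalizer (L : Set G) ≤ Subgroup.normalizer (coreIn p L : Set G) := by
  -- conjugation by `t ∈ N(L)` maps `coreIn p L` into itself
  have key : ∀ t ∈ Subgroup.normalizer (L : Set G), ∀ r ∈ coreIn p L, t * r * t⁻¹ ∈ coreIn p L := by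
    intro t ht r hr
    have ht' : ∀ l, l ∈ L ↔ t * l * t⁻¹ ∈ L := fun l => Subgroup.mem_normalizer_iff.mp ht l
    have htinv : t⁻¹ ∈ Subgroup.normalizer (L : Set G) := (Subgroup.normalizer (L : Set G)).inv_mem ht
    have htinv' : ∀ l, l ∈ L ↔ t⁻¹ * l * t⁻¹⁻¹ ∈ L := fun l => Subgroup.mem_normalizer_iff.mp htinv l
    -- N = image of coreIn under conj t
    let N : Subgroup G := (coreIn p L).map (MulAut.conj t).toMonoidHom
    have hN : N ≤ coreIn p L := by
      apply le_coreIn
      · rintro _ ⟨y, hy, rfl⟩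
        exact (ht' y).mp (coreIn_le L hy)
      · rintro l hl _ ⟨y, hy, rfl⟩
        refine ⟨(t⁻¹ * l * t⁻¹⁻¹) * y * (t⁻¹ * l * t⁻¹⁻¹)⁻¹,
          coreIn_conj_mem ((htinv' l).mp hl) hy, ?_⟩
        simp only [MulEquiv.coe_toMonoidHom, MulAut.conj_apply]
        group
      · exact (coreIn_isPGroup L).map _
    exact hN ⟨r, hr, rfl⟩
  intro t ht
  rw [Subgroup.mem_normalizer_iff]
  intro r
  constructor
  · exact key t ht r
  · intro h
    have htinv : t⁻¹ ∈ Subgroup.normalizer (L : Set G) := (Subgroup.normalizer (L : Set G)).inv_mem ht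
    have := key t⁻¹ htinv _ h
    have h2 : r = t⁻¹ * (t * r * t⁻¹) * t⁻¹⁻¹ := by group
    rw [h2]; exact this

theorem normalizer_le_normalizer_centralizer (Q : Subgroup G) :
    Subgroup.normalizer (Q : Set G) ≤
      Subgroup.normalizer ((Subgroup.centralizer (Q : Set G) : Subgroup G) : Set G) := by
  have key : ∀ t ∈ Subgroup.normalizer (Q : Set G), ∀ c ∈ Subgroup.centralizer (Q : Set G),
      t * c * t⁻¹ ∈ Subgroup.centralizer (Q : Set G) := by
    intro t ht c hc
    rw [Subgroup.mem_centralizer_iff] at hc ⊢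
    intro q hq
    have htinv : t⁻¹ ∈ Subgroup.normalizer (Q : Set G) := (Subgroup.normalizer (Q : Set G)).inv_mem ht
    have hq' : t⁻¹ * q * t⁻¹⁻¹ ∈ Q := (Subgroup.mem_normalizer_iff.mp htinv q).mp hq
    have := hc _ hq'
    calc q * (t * c * t⁻¹) = t * ((t⁻¹ * q * t⁻¹⁻¹) * c) * t⁻¹ := by group
      _ = t * (c * (t⁻¹ * q * t⁻¹⁻¹)) * t⁻¹ := by rw [this]
      _ = t * c * t⁻¹ * q := by group
  intro t ht
  rw [Subgroup.mem_normalizer_iff]
  intro c
  constructor
  · exact key t ht c
  · intro h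
    have htinv : t⁻¹ ∈ Subgroup.normalizer (Q : Set G) := (Subgroup.normalizer (Q : Set G)).inv_mem ht
    have := key t⁻¹ htinv _ h
    have h2 : c = t⁻¹ * (t * c * t⁻¹) * t⁻¹⁻¹ := by group
    rw [h2]; exact this

/-- A `p`-subgroup normalized by a Sylow `p`-subgroup lies in it. -/
theorem le_sylow_of_normalized [Fact p.Prime] (T : Sylow p G) {R : Subgroup G} (hR : IsPGroup p R)
    (hT : (T : Subgroup G) ≤ Subgroup.normalizer (R : Set G)) : R ≤ (T : Subgroup G) := by
  have h1 : IsPGroup p ((T : Subgroup G) ⊔ R : Subgroup G) :=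
    IsPGroup.to_sup_of_normal_right' T.isPGroup' hR hT
  have h2 : (T : Subgroup G) ⊔ R = T := T.is_maximal' h1 le_sup_left
  exact h2 ▸ le_sup_right

/-- S2960 in library form. -/
theorem centralizer_le_of_self_centralizing [Fact p.Prime] [Finite G]
    (hG : Subgroup.centralizer (pCore p G : Set G) ≤ pCore p G) (T : Sylow p G) (Q : Subgroup G)
    (hQn : (T : Subgroup G) ≤ Subgroup.normalizer (Q : Set G))
    (hC : (T : Subgroup G) ⊓ Subgroup.centralizer (Q : Set G) ≤ Q) :
    Subgroup.centralizer (Q : Set G) ≤ Q := by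
  set C : Subgroup G := Subgroup.centralizer (Q : Set G) with hCdef
  have hTC : (T : Subgroup G) ≤ Subgroup.normalizer (C : Set G) :=
    hQn.trans (normalizer_le_normalizer_centralizer Q)
  have hCchar : CharPIn p C := by
    apply charPIn_of_normalized (charPIn_top_iff.mpr hG) le_top
    rw [coreIn_top_eq]
    exact (pCore_le_sylow T).trans hTC
  have hRT : coreIn p C ≤ (T : Subgroup G) :=
    le_sylow_of_normalized T (coreIn_isPGroup C) (hTC.trans (normalizer_le_normalizer_coreIn C))
  have hRQ : coreIn p C ≤ Q := fun r hr => hC ⟨hRT hr, coreIn_le C hr⟩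
  intro c hc
  apply hRQ
  apply hCchar c hc
  intro r hr
  exact ((Subgroup.mem_centralizer_iff.mp hc) r (hRQ hr)).symm

end Cfsg.Agent.Helper49
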