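import Mathlib

set_option autoImplicit false

/-!
Small general lemmas: subgroups normalized by a subgroup, subgroups of prime relative index,
elements of odd order in `K ⊔ Q` with `Q` a 2-group, and the conjugation action on a
four-group (helper49).
-/

namespace Cfsg.Agent.Helper49.JComp

variable {G : Type*} [Group G]

/-- A subgroup `D` all of whose elements conjugate `H` into `H` normalizes `H`. -/
theorem le_normalizer_of_conj_mem {D H : Subgroup G}
    (h : ∀ g ∈ D, ∀ x ∈ H, g * x * g⁻¹ ∈ H) : D ≤ Subgroup.normalizer (H : Set G) := by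
  intro g hg
  rw [Subgroup.mem_normalizer_iff]
  intro x
  refine ⟨h g hg x, fun hx => ?_⟩
  have := h g⁻¹ (inv_mem hg) _ hx
  simpa [mul_assoc] using this

theorem conj_mem_of_mem_normalizer {H : Subgroup G} {g x : G}
    (hg : g ∈ Subgroup.normalizer (H : Set G)) (hx : x ∈ H) : g * x * g⁻¹ ∈ H :=
  (Subgroup.mem_normalizer_iff.1 hg x).1 hx

theorem conj_inv_mem_of_mem_normalizer {H : Subgroup G} {g x : G}
    (hg : g ∈ Subgroup.normalizer (H : Set G)) (hx : x ∈ H) : g⁻¹ * x * g ∈ H := by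
  have := (Subgroup.mem_normalizer_iff.1 (inv_mem hg) x).1 hx
  simpa using this

/-- The normalizer of `H` normalizes the centralizer of `H`. -/
theorem normalizer_le_normalizer_centralizer (H : Subgroup G) :
    Subgroup.normalizer (H : Set G) ≤
      Subgroup.normalizer (Subgroup.centralizer (H : Set G) : Set G) := by
  apply le_normalizer_of_conj_mem
  intro g hg x hx
  rw [Subgroup.mem_centralizer_iff] at hx ⊢
  intro y hy
  have hy' : g⁻¹ * y * g ∈ H := conj_inv_mem_of_mem_normalizer hg hy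
  have hc := hx _ hy'
  have e1 : y * (g * x * g⁻¹) = g * ((g⁻¹ * y * g) * x) * g⁻¹ := by group
  have e2 : g * x * g⁻¹ * y = g * (x * (g⁻¹ * y * g)) * g⁻¹ := by group
  rw [e1, e2, hc]

/-- A subgroup normalizing `H₁` and `H₂` normalizes `⁅H₁, H₂⁆`. -/
theorem le_normalizer_commutator_of_le {D H₁ H₂ : Subgroup G}
    (h₁ : D ≤ Subgroup.normalizer (H₁ : Set G)) (h₂ : D ≤ Subgroup.normalizer (H₂ : Set G)) :
    D ≤ Subgroup.normalizer ((⁅H₁, H₂⁆ : Subgroup G) : Set G) := by
  apply le_normalizer_of_conj_mem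
  intro g hg
  have hm : ∀ H : Subgroup G, g ∈ Subgroup.normalizer (H : Set G) →
      H.map (MulAut.conj g).toMonoidHom ≤ H := by
    intro H hH
    rintro _ ⟨x, hx, rfl⟩
    exact conj_mem_of_mem_normalizer hH hx
  have h := Subgroup.map_commutator H₁ H₂ (MulAut.conj g).toMonoidHom
  intro x hx
  have hx' : (MulAut.conj g).toMonoidHom x ∈ (⁅H₁, H₂⁆).map (MulAut.conj g).toMonoidHom :=
    ⟨x, hx, rfl⟩
  rw [h] at hx'
  exact Subgroup.commutator_mono (hm H₁ (h₁ hg)) (hm H₂ (h₂ hg)) hx'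

/-- Between `Q` and `K` with `|K : Q|` prime there is nothing. -/
theorem le_or_le_of_relIndex_prime {Q D K : Subgroup G} (hQD : Q ≤ D) (hDK : D ≤ K)
    (h : (Q.relIndex K).Prime) : D ≤ Q ∨ K ≤ D := by
  have h1 := Subgroup.relIndex_mul_relIndex Q D K hQD hDK
  have h2 : D.relIndex K ∣ Q.relIndex K := Dvd.intro_left _ h1
  rcases (Nat.dvd_prime h).1 h2 with h3 | h3
  · right; exact Subgroup.relIndex_eq_one.1 h3
  · left
    rw [h3] at h1
    have h4 : Q.relIndex D = 1 := by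
      have hpos : 0 < Q.relIndex K := h.pos
      have : Q.relIndex D * Q.relIndex K = 1 * Q.relIndex K := by rw [h1, one_mul]
      exact Nat.eq_of_mul_eq_mul_right hpos this
    exact Subgroup.relIndex_eq_one.1 h4

/-- If `|K : Q|` is prime, a subgroup containing `Q` and an element of `K` outside `Q`
contains `K`. -/
theorem le_of_relIndex_prime {Q D K : Subgroup G} (hQK : Q ≤ K) (h : (Q.relIndex K).Prime)
    (hQD : Q ≤ D) {x : G} (hxK : x ∈ K) (hxQ : x ∉ Q) (hxD : x ∈ D) : K ≤ D := by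
  rcases le_or_le_of_relIndex_prime (le_inf hQD hQK) (inf_le_right : D ⊓ K ≤ K) h with h1 | h1
  · exact absurd (h1 (Subgroup.mem_inf.2 ⟨hxD, hxK⟩)) hxQ
  · exact h1.trans inf_le_left

/-- An element of odd order of `K ⊔ J`, with `J` a 2-group normalizing `K`, lies in `K`. -/
theorem mem_left_of_odd_of_mem_sup {K J : Subgroup G}
    (hJK : J ≤ Subgroup.normalizer (K : Set G)) (hJ : IsPGroup 2 ↥J) {x : G} (hx : x ∈ K ⊔ J)
    (hodd : Odd (orderOf x)) : x ∈ K := by
  classical
  set N := Subgroup.normalizer (K : Set G) with hN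
  have hKN : K ≤ N := Subgroup.le_normalizer
  have : (K.subgroupOf N).Normal := Subgroup.normal_in_normalizer
  let π := QuotientGroup.mk' (K.subgroupOf N)
  have hle : K ⊔ J ≤ (((J.subgroupOf N).map π).comap π).map N.subtype := by
    apply sup_le
    · intro k hk
      refine ⟨⟨k, hKN hk⟩, ?_, rfl⟩
      show π ⟨k, hKN hk⟩ ∈ (J.subgroupOf N).map π
      have : π ⟨k, hKN hk⟩ = 1 := by
        rw [QuotientGroup.mk'_apply, QuotientGroup.eq_one_iff]
        exact hk
      rw [this]; exact one_mem _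
    · intro j hj
      refine ⟨⟨j, hJK hj⟩, ?_, rfl⟩
      exact ⟨⟨j, hJK hj⟩, hj, rfl⟩
  obtain ⟨y, hy, hyx⟩ := hle hx
  have hy' : π y ∈ (J.subgroupOf N).map π := hy
  have h2 : IsPGroup 2 ↥((J.subgroupOf N).map π) := by
    apply IsPGroup.map
    exact hJ.comap_subtype
  obtain ⟨k, hk⟩ := h2 ⟨π y, hy'⟩
  have hk' : (π y) ^ (2 ^ k) = 1 := by
    have := congrArg Subtype.val hk
    simpa using this
  have hordy : orderOf y = orderOf x := by
    rw [← hyx]; exact (orderOf_injective N.subtype N.subtype_injective y).symm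
  have hdvd1 : orderOf (π y) ∣ 2 ^ k := orderOf_dvd_of_pow_eq_one hk'
  have hdvd2 : orderOf (π y) ∣ orderOf x := by
    rw [← hordy]; exact orderOf_map_dvd π y
  have hcop : Nat.Coprime (orderOf x) (2 ^ k) :=
    Nat.Coprime.pow_right _ hodd.coprime_two_right
  have h1 : orderOf (π y) = 1 := Nat.eq_one_of_dvd_coprimes hcop hdvd2 hdvd1
  have hpy : π y = 1 := orderOf_eq_one_iff.1 h1
  rw [QuotientGroup.mk'_apply, QuotientGroup.eq_one_iff] at hpy
  rw [← hyx]; exact hpy

/-- An element of odd order of a 2-group is trivial. -/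
theorem eq_one_of_odd_of_mem_isPGroup {Q : Subgroup G} (hQ : IsPGroup 2 ↥Q) {x : G} (hx : x ∈ Q)
    (hodd : Odd (orderOf x)) : x = 1 := by
  obtain ⟨k, hk⟩ := hQ ⟨x, hx⟩
  have hk' : x ^ (2 ^ k) = 1 := by
    have := congrArg Subtype.val hk
    simpa using this
  have hdvd1 : orderOf x ∣ 2 ^ k := orderOf_dvd_of_pow_eq_one hk'
  have hcop : Nat.Coprime (orderOf x) (2 ^ k) :=
    Nat.Coprime.pow_right _ hodd.coprime_two_right
  have h1 : orderOf x = 1 := Nat.eq_one_of_dvd_coprimes hcop dvd_rfl hdvd1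
  exact orderOf_eq_one_iff.1 h1

/-! ### Four-groups -/

/-- `W` is a four-group. -/
structure IsFour (W : Subgroup G) : Prop where
  card : Nat.card ↥W = 4
  sq : ∀ w ∈ W, w * w = 1

namespace IsFour

variable {W : Subgroup G}

theorem inv_eq (hW : IsFour W) {w : G} (hw : w ∈ W) : w⁻¹ = w :=
  inv_eq_of_mul_eq_one_left (hW.sq w hw)

theorem comm (hW : IsFour W) {u v : G} (hu : u ∈ W) (hv : v ∈ W) : u * v = v * u := by
  have h1 := hW.sq (u * v) (mul_mem hu hv)
  have h2 : u * v = (u * v)⁻¹ := (hW.inv_eq (mul_mem hu hv)).symm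
  rw [h2, mul_inv_rev, hW.inv_eq hu, hW.inv_eq hv]

theorem mem_zpowers_iff (hW : IsFour W) {t : G} (ht : t ∈ W) {x : G} :
    x ∈ Subgroup.zpowers t ↔ x = 1 ∨ x = t := by
  constructor
  · rintro ⟨n, rfl⟩
    show t ^ n = 1 ∨ t ^ n = t
    have ht2 : t ^ (2 : ℤ) = 1 := by
      rw [zpow_ofNat, pow_two]; exact hW.sq t ht
    rcases Int.emod_two_eq_zero_or_one n with h | h
    · left
      have : n = 2 * (n / 2) := by omega
      rw [this, zpow_mul, ht2, one_zpow]
    · right
      have : n = 2 * (n / 2) + 1 := by omega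
      rw [this, zpow_add, zpow_mul, ht2, one_zpow, one_mul, zpow_one]
  · rintro (rfl | rfl)
    · exact one_mem _
    · exact Subgroup.mem_zpowers _

theorem card_zpowers (hW : IsFour W) {t : G} (ht : t ∈ W) (ht1 : t ≠ 1) :
    Nat.card ↥(Subgroup.zpowers t) = 2 := by
  rw [Nat.card_zpowers]
  exact orderOf_eq_prime (by rw [pow_two]; exact hW.sq t ht) ht1

/-- Two elements of `W` outside `{1, t}` are equal or differ by `t`. -/
theorem eq_or_eq_mul (hW : IsFour W) {t u v : G} (ht : t ∈ W) (ht1 : t ≠ 1) (hu : u ∈ W)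
    (hv : v ∈ W) (hu1 : u ≠ 1) (hut : u ≠ t) (hv1 : v ≠ 1) (hvt : v ≠ t) :
    v = u ∨ v = t * u := by
  have hle : Subgroup.zpowers t ≤ W := (Subgroup.zpowers_le).2 ht
  set H : Subgroup ↥W := (Subgroup.zpowers t).subgroupOf W with hH
  have hcardH : Nat.card ↥H = 2 := by
    rw [hH, Nat.card_congr (Subgroup.subgroupOfEquivOfLe hle).toEquiv]
    exact hW.card_zpowers ht ht1
  have hidx : H.index = 2 := by
    have := H.card_mul_index
    rw [hcardH, hW.card] at this
    omega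
  have hmem : ∀ x : ↥W, x ∈ H ↔ ((x : G) = 1 ∨ (x : G) = t) := by
    intro x
    rw [hH, Subgroup.mem_subgroupOf, hW.mem_zpowers_iff ht]
  have h1 := Subgroup.mul_mem_iff_of_index_two hidx (a := (⟨u, hu⟩ : ↥W)) (b := ⟨v, hv⟩)
  have hu' : ¬ (⟨u, hu⟩ : ↥W) ∈ H := by
    rw [hmem, not_or]; exact ⟨hu1, hut⟩
  have hv' : ¬ (⟨v, hv⟩ : ↥W) ∈ H := by
    rw [hmem, not_or]; exact ⟨hv1, hvt⟩
  have h2 : (⟨u, hu⟩ : ↥W) * ⟨v, hv⟩ ∈ H := h1.2 ⟨fun h => absurd h hu', fun h => absurd h hv'⟩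
  rw [hmem] at h2
  rcases h2 with h2 | h2
  · left
    have h3 : u * v = 1 := h2
    have := eq_inv_of_mul_eq_one_right h3
    rw [this, hW.inv_eq hu]
  · right
    have h3 : u * v = t := h2
    have : v = u⁻¹ * t := by rw [← h3]; group
    rw [this, hW.inv_eq hu, hW.comm hu ht]

/-- There is an element of `W` outside `{1, t}`. -/
theorem exists_not_mem (hW : IsFour W) {t : G} (ht : t ∈ W) :
    ∃ u ∈ W, u ≠ 1 ∧ u ≠ t := by
  by_contra hcon
  have hle : W ≤ Subgroup.zpowers t := by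
    intro u hu
    rw [hW.mem_zpowers_iff ht]
    by_cases h1 : u = 1
    · left; exact h1
    · right
      by_contra h2
      exact hcon ⟨u, hu, h1, h2⟩
  have hfin : IsOfFinOrder t :=
    isOfFinOrder_iff_pow_eq_one.2 ⟨2, by norm_num, by rw [pow_two]; exact hW.sq t ht⟩
  haveI : Finite ↥(Subgroup.zpowers t) :=
    Nat.finite_of_card_ne_zero (by rw [Nat.card_zpowers]; exact (orderOf_pos_iff.2 hfin).ne')
  have h1 := Subgroup.card_le_of_le hle
  rw [hW.card, Nat.card_zpowers] at h1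
  have h2 : orderOf t ≤ 2 := by
    apply orderOf_le_of_pow_eq_one (by norm_num)
    rw [pow_two]; exact hW.sq t ht
  omega

/-- An element normalizing `W` and fixing `t ≠ 1` moves every element of `W` by `1` or `t`. -/
theorem conj_eq_or (hW : IsFour W) {t x : G} (ht : t ∈ W) (ht1 : t ≠ 1)
    (hx : x ∈ Subgroup.normalizer (W : Set G)) (hxt : x * t * x⁻¹ = t) {u : G} (hu : u ∈ W) :
    x * u * x⁻¹ = u ∨ x * u * x⁻¹ = t * u := by
  by_cases hu1 : u = 1
  · left; rw [hu1]; group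
  by_cases hut : u = t
  · left; rw [hut]; exact hxt
  have hv : x * u * x⁻¹ ∈ W := conj_mem_of_mem_normalizer hx hu
  have hv1 : x * u * x⁻¹ ≠ 1 := by
    intro h
    apply hu1
    have : u = x⁻¹ * (x * u * x⁻¹) * x := by group
    rw [this, h]; group
  have hvt : x * u * x⁻¹ ≠ t := by
    intro h
    apply hut
    have : u = x⁻¹ * (x * u * x⁻¹) * x := by group
    rw [this, h]
    have : t = x⁻¹ * (x * t * x⁻¹) * x := by group
    rw [hxt] at this
    exact this.symm
  exact hW.eq_or_eq_mul ht ht1 hu hv hu1 hut hv1 hvt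

/-- An element normalizing `W`, fixing `t ≠ 1` and not centralizing `W` maps every `u` outside
`{1, t}` to `t * u`. -/
theorem conj_eq_mul (hW : IsFour W) {t x : G} (ht : t ∈ W) (ht1 : t ≠ 1)
    (hx : x ∈ Subgroup.normalizer (W : Set G)) (hxt : x * t * x⁻¹ = t)
    (hxc : x ∉ Subgroup.centralizer (W : Set G)) {u : G} (hu : u ∈ W) (hu1 : u ≠ 1)
    (hut : u ≠ t) : x * u * x⁻¹ = t * u := by
  -- some element is moved
  have hex : ∃ u₀ ∈ W, x * u₀ * x⁻¹ ≠ u₀ := by
    by_contra hcon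
    apply hxc
    rw [Subgroup.mem_centralizer_iff]
    intro w hw
    have : x * w * x⁻¹ = w := by
      by_contra h2
      exact hcon ⟨w, hw, h2⟩
    have e : x * w = (x * w * x⁻¹) * x := by group
    rw [e, this]
  obtain ⟨u₀, hu₀, hmove⟩ := hex
  have h0 : x * u₀ * x⁻¹ = t * u₀ := (hW.conj_eq_or ht ht1 hx hxt hu₀).resolve_left hmove
  have hu₀1 : u₀ ≠ 1 := by
    intro h; apply hmove; rw [h]; group
  have hu₀t : u₀ ≠ t := by
    intro h; apply hmove; rw [h]; exact hxt
  rcases hW.eq_or_eq_mul ht ht1 hu₀ hu hu₀1 hu₀t hu1 hut with h | h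
  · rw [h]; exact h0
  · rw [h]
    have e : x * (t * u₀) * x⁻¹ = (x * t * x⁻¹) * (x * u₀ * x⁻¹) := by group
    rw [e, hxt, h0]

/-- Under the hypotheses of `conj_eq_mul`, the commutator with any element of `W` is `1` or `t`. -/
theorem conj_mul_inv_mem (hW : IsFour W) {t x : G} (ht : t ∈ W) (ht1 : t ≠ 1)
    (hx : x ∈ Subgroup.normalizer (W : Set G)) (hxt : x * t * x⁻¹ = t) {u : G} (hu : u ∈ W) :
    x * u * x⁻¹ * u⁻¹ = 1 ∨ x * u * x⁻¹ * u⁻¹ = t := by
  rcases hW.conj_eq_or ht ht1 hx hxt hu with h | h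
  · left; rw [h]; group
  · right; rw [h]; group

end IsFour

end Cfsg.Agent.Helper49.JComp
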