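import Mathlib.GroupTheory.Sylow
import Mathlib.GroupTheory.IsSubnormal

set_option autoImplicit false

/-!
The intersection of a Sylow subgroup with a subnormal subgroup is a Sylow subgroup of it (helper49).
-/

namespace Cfsg.Agent.Helper49

variable {G : Type*} [Group G] {p : ℕ}

/-- For `N` normal and `P` a Sylow `p`-subgroup of a finite group, `|N : P ∩ N|` is prime to `p`. -/
theorem not_dvd_relIndex_of_normal [Finite G] [Fact p.Prime] (P : Sylow p G) (N : Subgroup G)
    [N.Normal] : ¬ p ∣ (P : Subgroup G).relIndex N := by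
  set Q : Subgroup G := (P : Subgroup G) with hQ
  -- |PN| computed in two ways
  have h1 : Nat.card N * N.relIndex (Q ⊔ N) = Nat.card ↥(Q ⊔ N) := by
    rw [← Subgroup.relIndex_bot_left, ← Subgroup.relIndex_bot_left (H := Q ⊔ N)]
    exact Subgroup.relIndex_mul_relIndex _ _ _ bot_le le_sup_right
  have h2 : Nat.card Q * Q.relIndex (Q ⊔ N) = Nat.card ↥(Q ⊔ N) := by
    rw [← Subgroup.relIndex_bot_left, ← Subgroup.relIndex_bot_left (H := Q ⊔ N)]
    exact Subgroup.relIndex_mul_relIndex _ _ _ bot_le le_sup_left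
  have h3 : N.relIndex (Q ⊔ N) = N.relIndex Q := Subgroup.relIndex_sup_right Q N
  have h4 : Nat.card ↥(Q ⊓ N) * N.relIndex Q = Nat.card Q := by
    rw [← Subgroup.inf_relIndex_left, ← Subgroup.relIndex_bot_left, ← Subgroup.relIndex_bot_left (H := Q)]
    exact Subgroup.relIndex_mul_relIndex _ _ _ bot_le inf_le_left
  have h5 : Nat.card ↥(Q ⊓ N) * Q.relIndex N = Nat.card N := by
    rw [← Subgroup.inf_relIndex_right, ← Subgroup.relIndex_bot_left, ← Subgroup.relIndex_bot_left (H := N)]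
    exact Subgroup.relIndex_mul_relIndex _ _ _ bot_le inf_le_right
  have hpos1 : 0 < Nat.card ↥(Q ⊓ N) := Nat.card_pos
  have hpos2 : 0 < N.relIndex Q := by
    rcases Nat.eq_zero_or_pos (N.relIndex Q) with h | h
    · rw [h, mul_zero] at h4
      have : 0 < Nat.card Q := Nat.card_pos
      omega
    · exact h
  have key : Q.relIndex N = Q.relIndex (Q ⊔ N) := by
    have e1 : Nat.card ↥(Q ⊓ N) * N.relIndex Q * Q.relIndex N =
        Nat.card ↥(Q ⊓ N) * N.relIndex Q * Q.relIndex (Q ⊔ N) := by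
      calc Nat.card ↥(Q ⊓ N) * N.relIndex Q * Q.relIndex N
          = (Nat.card ↥(Q ⊓ N) * Q.relIndex N) * N.relIndex Q := by ring
        _ = Nat.card N * N.relIndex (Q ⊔ N) := by rw [h5, h3]
        _ = Nat.card Q * Q.relIndex (Q ⊔ N) := by rw [h1, h2]
        _ = Nat.card ↥(Q ⊓ N) * N.relIndex Q * Q.relIndex (Q ⊔ N) := by rw [h4]
    exact Nat.eq_of_mul_eq_mul_left (Nat.mul_pos hpos1 hpos2) e1
  rw [key]
  intro hdvd
  exact P.not_dvd_index (hdvd.trans (Subgroup.relIndex_dvd_index_of_le le_sup_left))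

/-- `S` is a Sylow `p`-subgroup of the subgroup `K` (ambient form). -/
def IsSylowOf (p : ℕ) (S K : Subgroup G) : Prop :=
  S ≤ K ∧ IsPGroup p S ∧ ¬ p ∣ S.relIndex K

/-- The Sylow subgroup of `↥K` attached to `IsSylowOf p S K`. -/
noncomputable def IsSylowOf.toSylow [Fact p.Prime] {S K : Subgroup G} (h : IsSylowOf p S K) :
    Sylow p ↥K :=
  IsPGroup.toSylow (P := S.subgroupOf K) h.2.1.comap_subtype h.2.2

theorem IsSylowOf.coe_toSylow [Fact p.Prime] {S K : Subgroup G} (h : IsSylowOf p S K) :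
    (h.toSylow : Subgroup ↥K) = S.subgroupOf K := rfl

theorem IsSylowOf.inf_of_normal [Finite G] [Fact p.Prime] {S K H : Subgroup G}
    (h : IsSylowOf p S K) (hHK : H ≤ K) (hn : (H.subgroupOf K).Normal) :
    IsSylowOf p (S ⊓ H) H := by
  refine ⟨inf_le_right, h.2.1.to_inf_left, ?_⟩
  rw [Subgroup.inf_relIndex_right]
  haveI := hn
  have := not_dvd_relIndex_of_normal h.toSylow (H.subgroupOf K)
  rw [h.coe_toSylow, Subgroup.relIndex_subgroupOf hHK] at this
  exact this

theorem isSylowOf_inf_of_isSubnormal [Finite G] [Fact p.Prime] (T : Sylow p G) {K : Subgroup G}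
    (hK : K.IsSubnormal) : IsSylowOf p ((T : Subgroup G) ⊓ K) K := by
  induction hK with
  | top =>
    refine ⟨inf_le_right, T.isPGroup'.to_inf_left, ?_⟩
    rw [inf_top_eq, Subgroup.relIndex_top_right]
    exact T.not_dvd_index
  | step H K' hle _ hN ih =>
    have := ih.inf_of_normal hle hN
    have e : (T : Subgroup G) ⊓ K' ⊓ H = (T : Subgroup G) ⊓ H := by
      rw [inf_assoc, inf_eq_right.mpr hle]
    rwa [e] at this

end Cfsg.Agent.Helper49
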