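import Mathlib.GroupTheory.Sylow
import Cfsg.Prelude.Def_SylowControl
import Cfsg.Agent.Helper49.SylowSubnormal

set_option autoImplicit false

/-!
Right conjugation `X^g = g⁻¹ X g` of subgroups (`Cfsg.subgroupConjRight`) and the ambient
Sylow predicate `IsSylowOf` (helper49).
-/

namespace Cfsg.Agent.Helper49

open Cfsg

variable {G : Type*} [Group G] {p : ℕ}

theorem mem_scr {g a : G} {X : Subgroup G} : a ∈ subgroupConjRight g X ↔ g * a * g⁻¹ ∈ X := by
  unfold subgroupConjRight
  rw [Subgroup.mem_map]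
  constructor
  · rintro ⟨b, hb, rfl⟩
    simpa [MulAut.conj_apply, mul_assoc] using hb
  · intro h
    exact ⟨g * a * g⁻¹, h, by simp [MulAut.conj_apply, mul_assoc]⟩

theorem scr_one (X : Subgroup G) : subgroupConjRight 1 X = X := by
  ext a; rw [mem_scr]; simp

theorem scr_mul (g h : G) (X : Subgroup G) :
    subgroupConjRight (g * h) X = subgroupConjRight h (subgroupConjRight g X) := by
  ext a; rw [mem_scr, mem_scr, mem_scr]; simp [mul_assoc]

theorem scr_scr_inv (g : G) (X : Subgroup G) :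
    subgroupConjRight g⁻¹ (subgroupConjRight g X) = X := by
  rw [← scr_mul, mul_inv_cancel, scr_one]

theorem scr_inv_scr (g : G) (X : Subgroup G) :
    subgroupConjRight g (subgroupConjRight g⁻¹ X) = X := by
  rw [← scr_mul, inv_mul_cancel, scr_one]

theorem scr_mono (g : G) {X Y : Subgroup G} (h : X ≤ Y) :
    subgroupConjRight g X ≤ subgroupConjRight g Y :=
  Subgroup.map_mono h

theorem scr_le_scr_iff {g : G} {X Y : Subgroup G} :
    subgroupConjRight g X ≤ subgroupConjRight g Y ↔ X ≤ Y :=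
  Subgroup.map_le_map_iff_of_injective (MulAut.conj g⁻¹).injective

theorem scr_inj {g : G} {X Y : Subgroup G} :
    subgroupConjRight g X = subgroupConjRight g Y ↔ X = Y :=
  (Subgroup.map_injective (MulAut.conj g⁻¹).injective).eq_iff

theorem scr_le_iff {g : G} {X Y : Subgroup G} :
    subgroupConjRight g X ≤ Y ↔ X ≤ subgroupConjRight g⁻¹ Y := by
  rw [← scr_le_scr_iff (g := g⁻¹), scr_scr_inv]

theorem le_scr_iff {g : G} {X Y : Subgroup G} :
    X ≤ subgroupConjRight g Y ↔ subgroupConjRight g⁻¹ X ≤ Y := by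
  rw [← scr_le_scr_iff (g := g⁻¹), scr_scr_inv]

theorem scr_eq_iff {g : G} {X Y : Subgroup G} :
    subgroupConjRight g X = Y ↔ X = subgroupConjRight g⁻¹ Y := by
  rw [← scr_inj (g := g⁻¹), scr_scr_inv]

theorem scr_inf (g : G) (X Y : Subgroup G) :
    subgroupConjRight g (X ⊓ Y) = subgroupConjRight g X ⊓ subgroupConjRight g Y :=
  Subgroup.map_inf X Y _ (MulAut.conj g⁻¹).injective

theorem scr_bot (g : G) : subgroupConjRight g (⊥ : Subgroup G) = ⊥ :=
  Subgroup.map_bot _

theorem scr_top (g : G) : subgroupConjRight g (⊤ : Subgroup G) = ⊤ := by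
  ext a; rw [mem_scr]; simp

theorem scr_ne_bot {g : G} {X : Subgroup G} (h : X ≠ ⊥) : subgroupConjRight g X ≠ ⊥ := by
  intro h'
  apply h
  rw [← scr_bot g] at h'
  exact scr_inj.mp h'

theorem card_scr (g : G) (X : Subgroup G) : Nat.card (subgroupConjRight g X) = Nat.card X :=
  Subgroup.card_map_of_injective (MulAut.conj g⁻¹).injective

theorem isPGroup_scr {g : G} {X : Subgroup G} (h : IsPGroup p X) :
    IsPGroup p (subgroupConjRight g X) :=
  h.map _

theorem relIndex_scr (g : G) (X Y : Subgroup G) :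
    (subgroupConjRight g X).relIndex (subgroupConjRight g Y) = X.relIndex Y :=
  Subgroup.relIndex_map_map_of_injective X Y (MulAut.conj g⁻¹).injective

theorem scr_eq_self_of_mem_normalizer {g : G} {X : Subgroup G}
    (hg : g ∈ Subgroup.normalizer (X : Set G)) : subgroupConjRight g X = X := by
  ext a
  rw [mem_scr]
  exact (Subgroup.mem_normalizer_iff.mp hg a).symm

theorem mem_normalizer_of_scr_eq_self {g : G} {X : Subgroup G}
    (h : subgroupConjRight g X = X) : g ∈ Subgroup.normalizer (X : Set G) := by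
  rw [Subgroup.mem_normalizer_iff]
  intro a
  rw [← mem_scr, h]

theorem scr_eq_self_of_mem {g : G} {X : Subgroup G} (hg : g ∈ X) : subgroupConjRight g X = X :=
  scr_eq_self_of_mem_normalizer (Subgroup.le_normalizer hg)

theorem scr_normalizer (g : G) (X : Subgroup G) :
    subgroupConjRight g (Subgroup.normalizer (X : Set G)) =
      Subgroup.normalizer ((subgroupConjRight g X : Subgroup G) : Set G) := by
  ext a
  rw [mem_scr, Subgroup.mem_normalizer_iff, Subgroup.mem_normalizer_iff]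
  constructor
  · intro h b
    rw [mem_scr, mem_scr, h]
    simp [mul_assoc]
  · intro h b
    have := h (g⁻¹ * b * g)
    rw [mem_scr, mem_scr] at this
    simpa [mul_assoc] using this

theorem conj_mem_scr {g x : G} {X : Subgroup G} (hx : x ∈ X) :
    g⁻¹ * x * g ∈ subgroupConjRight g X := by
  rw [mem_scr]; simpa [mul_assoc] using hx

/-! ### `IsSylowOf` -/

theorem isSylowOf_scr {A K : Subgroup G} (g : G) (h : IsSylowOf p A K) :
    IsSylowOf p (subgroupConjRight g A) (subgroupConjRight g K) :=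
  ⟨scr_mono g h.1, isPGroup_scr h.2.1, by rw [relIndex_scr]; exact h.2.2⟩

theorem isSylowOf_scr_of_mem {A K : Subgroup G} {g : G} (hg : g ∈ K) (h : IsSylowOf p A K) :
    IsSylowOf p (subgroupConjRight g A) K := by
  have := isSylowOf_scr g h
  rwa [scr_eq_self_of_mem hg] at this

theorem isSylowOf_top [Finite G] [Fact p.Prime] (P : Sylow p G) : IsSylowOf p (P : Subgroup G) ⊤ :=
  ⟨le_top, P.isPGroup', by rw [Subgroup.relIndex_top_right]; exact P.not_dvd_index⟩

theorem IsSylowOf.mono_right {A K L : Subgroup G} (h : IsSylowOf p A K) (hAL : A ≤ L)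
    (hLK : L ≤ K) : IsSylowOf p A L :=
  ⟨hAL, h.2.1, fun hd => h.2.2 (hd.trans
    (Dvd.intro _ (Subgroup.relIndex_mul_relIndex A L K hAL hLK)))⟩

/-- The Sylow subgroup of `↥K` given by `IsSylowOf`, pushed back to the ambient group. -/
theorem IsSylowOf.map_toSylow [Fact p.Prime] {A K : Subgroup G} (h : IsSylowOf p A K) :
    (h.toSylow : Subgroup ↥K).map K.subtype = A := by
  rw [h.coe_toSylow]
  exact Subgroup.map_subgroupOf_eq_of_le h.1

theorem isSylowOf_map [Finite G] [Fact p.Prime] {K : Subgroup G} (P : Sylow p ↥K) :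
    IsSylowOf p ((P : Subgroup ↥K).map K.subtype) K := by
  refine ⟨Subgroup.map_subtype_le _, P.isPGroup'.map _, ?_⟩
  have : ((P : Subgroup ↥K).map K.subtype).relIndex K = (P : Subgroup ↥K).index := by
    unfold Subgroup.relIndex
    congr 1
    exact Subgroup.comap_map_eq_self_of_injective K.subtype_injective _
  rw [this]
  exact P.not_dvd_index

theorem IsSylowOf.card_eq [Finite G] [Fact p.Prime] {A K : Subgroup G} (h : IsSylowOf p A K) :
    Nat.card A = p ^ (Nat.card K).factorization p := by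
  have h1 := h.toSylow.card_eq_multiplicity
  rw [← h1, h.coe_toSylow]
  have := Subgroup.card_map_of_injective (K := A.subgroupOf K) K.subtype_injective
  rw [Subgroup.map_subgroupOf_eq_of_le h.1] at this
  exact this

theorem IsSylowOf.eq_of_le [Finite G] [Fact p.Prime] {A B K : Subgroup G} (h : IsSylowOf p A K)
    (hAB : A ≤ B) (hBK : B ≤ K) (hB : IsPGroup p B) : A = B := by
  have h1 := h.toSylow.is_maximal' (Q := B.subgroupOf K) hB.comap_subtype
    (by rw [h.coe_toSylow]; exact Subgroup.subgroupOf_mono K hAB)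
  rw [h.coe_toSylow, Subgroup.subgroupOf_inj, inf_eq_left.mpr hBK, inf_eq_left.mpr h.1] at h1
  exact h1.symm

theorem IsSylowOf.exists_conj [Finite G] [Fact p.Prime] {A B K : Subgroup G}
    (hA : IsSylowOf p A K) (hB : IsSylowOf p B K) :
    ∃ m ∈ K, subgroupConjRight m A = B := by
  obtain ⟨k, hk⟩ := MulAction.exists_smul_eq ↥K hA.toSylow hB.toSylow
  refine ⟨(k : G)⁻¹, K.inv_mem k.2, ?_⟩
  have h1 : ((k • hA.toSylow : Sylow p ↥K) : Subgroup ↥K) = (hB.toSylow : Subgroup ↥K) := by
    rw [hk]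
  rw [Sylow.smul_def, Sylow.pointwise_smul_def, hA.coe_toSylow, hB.coe_toSylow] at h1
  have key : ∀ a' : ↥K, a' ∈ B.subgroupOf K ↔ k⁻¹ * a' * k ∈ A.subgroupOf K := by
    intro a'
    rw [← h1, Subgroup.mem_pointwise_smul_iff_inv_smul_mem, MulAut.smul_def, ← map_inv,
      MulAut.conj_apply, inv_inv]
  ext a
  rw [mem_scr]
  constructor
  · intro ha
    have haK : a ∈ K := by
      have h2 : (k : G)⁻¹ * a * ((k : G)⁻¹)⁻¹ ∈ K := hA.1 ha
      have := K.mul_mem (K.mul_mem k.2 h2) (K.inv_mem k.2)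
      simpa [mul_assoc] using this
    have := (key ⟨a, haK⟩).mpr (by rw [Subgroup.mem_subgroupOf]; simpa using ha)
    rwa [Subgroup.mem_subgroupOf] at this
  · intro ha
    have haK : a ∈ K := hB.1 ha
    have := (key ⟨a, haK⟩).mp (by rw [Subgroup.mem_subgroupOf]; exact ha)
    rw [Subgroup.mem_subgroupOf] at this
    simpa using this

theorem exists_isSylowOf_ge [Finite G] [Fact p.Prime] {Q K : Subgroup G} (hQ : IsPGroup p Q)
    (hQK : Q ≤ K) : ∃ A, IsSylowOf p A K ∧ Q ≤ A := by
  obtain ⟨P, hP⟩ := (hQ.comap_subtype (K := K)).exists_le_sylow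
  refine ⟨(P : Subgroup ↥K).map K.subtype, isSylowOf_map P, ?_⟩
  intro q hq
  exact ⟨⟨q, hQK hq⟩, hP (by rw [Subgroup.mem_comap]; exact hq), rfl⟩

/-- A `p`-subgroup of `M` lies in a Sylow `p`-subgroup `T` of `G` with `T ∩ M` Sylow in `M`. -/
theorem exists_sylow_inf_isSylowOf [Finite G] [Fact p.Prime] {Q M : Subgroup G}
    (hQ : IsPGroup p Q) (hQM : Q ≤ M) :
    ∃ T : Sylow p G, IsSylowOf p ((T : Subgroup G) ⊓ M) M ∧ Q ≤ (T : Subgroup G) := by
  obtain ⟨A, hA, hQA⟩ := exists_isSylowOf_ge hQ hQM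
  obtain ⟨T, hT⟩ := hA.2.1.exists_le_sylow
  have : A = (T : Subgroup G) ⊓ M :=
    hA.eq_of_le (le_inf hT hA.1) inf_le_right (T.isPGroup'.to_inf_left)
  exact ⟨T, this ▸ hA, hQA.trans hT⟩

/-- Membership in `sylowMembers` in ambient form. -/
theorem mem_sylowMembers_iff [Finite G] [Fact p.Prime] {𝓕 : Set (Subgroup G)} {S X : Subgroup G} :
    X ∈ sylowMembers p 𝓕 S ↔ X ∈ 𝓕 ∧ IsSylowOf p (S ⊓ X) X := by
  unfold sylowMembers
  rw [Set.mem_setOf_eq]
  constructor
  · rintro ⟨hX, P, hP⟩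
    exact ⟨hX, hP ▸ isSylowOf_map P⟩
  · rintro ⟨hX, h⟩
    exact ⟨hX, h.toSylow, h.map_toSylow⟩

/-! ### Sylow subgroups of `G` -/

/-- Right conjugate of a Sylow subgroup. -/
noncomputable def sconj (g : G) (P : Sylow p G) : Sylow p G := g⁻¹ • P

theorem coe_sconj (g : G) (P : Sylow p G) :
    ((sconj g P : Sylow p G) : Subgroup G) = subgroupConjRight g (P : Subgroup G) := by
  unfold sconj subgroupConjRight
  rw [Sylow.smul_def, Sylow.pointwise_smul_def, Subgroup.pointwise_smul_def]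
  rfl

theorem exists_sconj_eq [Finite G] [Fact p.Prime] (P Q : Sylow p G) : ∃ g : G, sconj g P = Q := by
  obtain ⟨g, hg⟩ := MulAction.exists_smul_eq G P Q
  exact ⟨g⁻¹, by unfold sconj; rw [inv_inv]; exact hg⟩

theorem sylow_ext_of_le [Finite G] [Fact p.Prime] {P Q : Sylow p G}
    (h : (P : Subgroup G) ≤ (Q : Subgroup G)) : P = Q :=
  Sylow.ext (P.is_maximal' Q.isPGroup' h).symm

end Cfsg.Agent.Helper49
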