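import Mathlib.GroupTheory.Sylow
import Cfsg.Agent.Helper49.RConj

set_option autoImplicit false

/-!
More on the ambient Sylow predicate `IsSylowOf` (helper49).
-/

namespace Cfsg.Agent.Helper49

variable {G : Type*} [Group G] {p : ℕ}

/-- `|QN : Q| = |N : Q ∩ N|` for `N` normal. -/
theorem relIndex_sup_eq_of_normal [Finite G] (Q N : Subgroup G) [N.Normal] :
    Q.relIndex (Q ⊔ N) = Q.relIndex N := by
  have h1 : Nat.card N * N.relIndex (Q ⊔ N) = Nat.card ↥(Q ⊔ N) := by
    rw [← Subgroup.relIndex_bot_left, ← Subgroup.relIndex_bot_left (H := Q ⊔ N)]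
    exact Subgroup.relIndex_mul_relIndex _ _ _ bot_le le_sup_right
  have h2 : Nat.card Q * Q.relIndex (Q ⊔ N) = Nat.card ↥(Q ⊔ N) := by
    rw [← Subgroup.relIndex_bot_left, ← Subgroup.relIndex_bot_left (H := Q ⊔ N)]
    exact Subgroup.relIndex_mul_relIndex _ _ _ bot_le le_sup_left
  have h3 : N.relIndex (Q ⊔ N) = N.relIndex Q := Subgroup.relIndex_sup_right Q N
  have h4 : Nat.card ↥(Q ⊓ N) * N.relIndex Q = Nat.card Q := by
    rw [← Subgroup.inf_relIndex_left, ← Subgroup.relIndex_bot_left, ← Subgroup.relIndex_bot_left (H := Q)]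
    exact Subgroup.relIndex_mul_relIndex _ _ _ bot_le inf_le_left
  have h5 : Nat.card ↥(Q ⊓ N) * Q.relIndex N = Nat.card N := by
    rw [← Subgroup.inf_relIndex_right, ← Subgroup.relIndex_bot_left, ← Subgroup.relIndex_bot_left (H := N)]
    exact Subgroup.relIndex_mul_relIndex _ _ _ bot_le inf_le_right
  have hpos1 : 0 < Nat.card ↥(Q ⊓ N) := Nat.card_pos
  have hpos2 : 0 < N.relIndex Q := by
    rcases Nat.eq_zero_or_pos (N.relIndex Q) with h | h
    · rw [h, mul_zero] at h4
      have : 0 < Nat.card Q := Nat.card_pos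
      omega
    · exact h
  have e1 : Nat.card ↥(Q ⊓ N) * N.relIndex Q * Q.relIndex N =
      Nat.card ↥(Q ⊓ N) * N.relIndex Q * Q.relIndex (Q ⊔ N) := by
    calc Nat.card ↥(Q ⊓ N) * N.relIndex Q * Q.relIndex N
        = (Nat.card ↥(Q ⊓ N) * Q.relIndex N) * N.relIndex Q := by ring
      _ = Nat.card N * N.relIndex (Q ⊔ N) := by rw [h5, h3]
      _ = Nat.card Q * Q.relIndex (Q ⊔ N) := by rw [h1, h2]
      _ = Nat.card ↥(Q ⊓ N) * N.relIndex Q * Q.relIndex (Q ⊔ N) := by rw [h4]
  exact (Nat.eq_of_mul_eq_mul_left (Nat.mul_pos hpos1 hpos2) e1).symm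

/-- A subgroup of `K` of order the full `p`-part of `|K|` is a Sylow subgroup of `K`. -/
theorem isSylowOf_of_card [Finite G] [Fact p.Prime] {A K : Subgroup G} (hAK : A ≤ K)
    (hcard : Nat.card A = p ^ (Nat.card K).factorization p) : IsSylowOf p A K := by
  refine ⟨hAK, IsPGroup.of_card hcard, ?_⟩
  intro hd
  have h1 : Nat.card A * A.relIndex K = Nat.card K := by
    rw [← Subgroup.relIndex_bot_left, ← Subgroup.relIndex_bot_left (H := K)]
    exact Subgroup.relIndex_mul_relIndex _ _ _ bot_le hAK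
  have h2 : p ^ ((Nat.card K).factorization p + 1) ∣ Nat.card K := by
    have h3 : p ^ ((Nat.card K).factorization p + 1) ∣ Nat.card A * A.relIndex K := by
      rw [pow_succ, hcard]; exact Nat.mul_dvd_mul_left _ hd
    rwa [h1] at h3
  exact Nat.pow_succ_factorization_not_dvd (Nat.card_pos (α := K)).ne' (Fact.out : p.Prime) h2

/-- A `p`-subgroup `Q` is a Sylow subgroup of `QN` when `N` is a normal `p'`-subgroup. -/
theorem isSylowOf_sup_of_normal [Finite G] [Fact p.Prime] {Q N : Subgroup G} [N.Normal]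
    (hQ : IsPGroup p Q) (hN : ¬ p ∣ Nat.card N) : IsSylowOf p Q (Q ⊔ N) := by
  refine ⟨le_sup_left, hQ, ?_⟩
  rw [relIndex_sup_eq_of_normal]
  exact fun hd => hN (hd.trans (Subgroup.relIndex_dvd_card Q N))

theorem IsSylowOf.ne_bot [Finite G] [Fact p.Prime] {A K : Subgroup G} (h : IsSylowOf p A K)
    (hK : p ∣ Nat.card K) : A ≠ ⊥ := by
  intro h0
  have h1 := h.card_eq
  rw [h0, Subgroup.card_bot] at h1
  have hpos : 0 < (Nat.card K).factorization p :=
    Nat.Prime.factorization_pos_of_dvd Fact.out Nat.card_pos.ne' hK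
  have : 1 < p ^ (Nat.card K).factorization p :=
    Nat.one_lt_pow hpos.ne' (Fact.out : p.Prime).one_lt
  omega

theorem isSylowOf_inf_of_normal [Finite G] [Fact p.Prime] (P : Sylow p G) (N : Subgroup G)
    [N.Normal] : IsSylowOf p ((P : Subgroup G) ⊓ N) N :=
  ⟨inf_le_right, P.isPGroup'.to_inf_left, by
    rw [Subgroup.inf_relIndex_right]; exact not_dvd_relIndex_of_normal P N⟩

/-- An element of order `p` in a nontrivial `p`-subgroup. -/
theorem exists_orderOf_eq_of_isPGroup [Finite G] [Fact p.Prime] {Q : Subgroup G}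
    (hQ : IsPGroup p Q) (hQ1 : Q ≠ ⊥) : ∃ a ∈ Q, orderOf a = p := by
  have hd : p ∣ Nat.card Q := by
    rcases hQ.card_eq_or_dvd with h | h
    · exact absurd (Subgroup.card_eq_one.mp h) hQ1
    · exact h
  obtain ⟨x, hx⟩ := exists_prime_orderOf_dvd_card' p hd
  exact ⟨x, x.2, by rw [Subgroup.orderOf_coe]; exact hx⟩

theorem card_lt_of_le_of_ne [Finite G] {H K : Subgroup G} (h : H ≤ K) (hne : H ≠ K) :
    Nat.card H < Nat.card K := by
  by_contra hcon
  push Not at hcon
  exact hne (Subgroup.eq_of_le_of_card_ge h hcon)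

/-- The centralizer of an element normalizes the cyclic subgroup it generates. -/
theorem centralizer_singleton_le_normalizer_zpowers (c : G) :
    Subgroup.centralizer {c} ≤ Subgroup.normalizer ((Subgroup.zpowers c : Subgroup G) : Set G) := by
  have h1 : Subgroup.centralizer {c} =
      Subgroup.centralizer ((Subgroup.zpowers c : Subgroup G) : Set G) := by
    rw [Subgroup.zpowers_eq_closure, Subgroup.centralizer_closure]
  rw [h1]
  exact Subgroup.centralizer_le_normalizer _

end Cfsg.Agent.Helper49
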