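import Mathlib
import Cfsg.Agent.Helper49.RConj
import Cfsg.Agent.Helper49.FourGroup
import Cfsg.Agent.Helper50.CL2
import Cfsg.Agent.Helper49.SylowExtra

set_option autoImplicit false

/-!
Two subnormal subgroups acting irreducibly on incomparable commutator modules (helper49).

`V` is an elementary abelian `p`-subgroup of `G`; `K` normalizes `V`, acts faithfully, is
irreducible on `⁅V, K⁆`, has no nontrivial normal `p`-subgroup and `|K| > 2`.
This file has the basic facts and the three configurations `AA`, `AB`, `BB` used in the induction.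
-/

namespace Cfsg.Agent.Helper49.SubIrr

open Cfsg Subgroup Cfsg.Agent.Helper49 Cfsg.Agent.Helper49.JComp
open scoped commutatorElement

variable {G : Type*} [Group G] {p : ℕ}

/-- The standing hypotheses on an elementary abelian `V`. -/
structure VHyp (p : ℕ) (V : Subgroup G) : Prop where
  comm : ∀ a ∈ V, ∀ b ∈ V, a * b = b * a
  exp : ∀ a ∈ V, a ^ p = 1

/-- `K` normalizes `V`, acts faithfully, irreducibly on `⁅V, K⁆`, `O_p(K) = 1`, `|K| > 2`. -/
structure Irr (p : ℕ) (V K : Subgroup G) : Prop where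
  norm : K ≤ normalizer (V : Set G)
  faith : K ⊓ centralizer (V : Set G) = ⊥
  irr : ∀ U : Subgroup G, U ≤ ⁅V, K⁆ → K ≤ normalizer (U : Set G) → U = ⊥ ∨ U = ⁅V, K⁆
  noOp : ∀ P : Subgroup G, P ≤ K → IsPGroup p P → K ≤ normalizer (P : Set G) → P = ⊥
  card : 2 < Nat.card K

/-- Elementwise commuting of two subgroups. -/
def Comm (A B : Subgroup G) : Prop := ∀ a ∈ A, ∀ b ∈ B, a * b = b * a

theorem Comm.symm {A B : Subgroup G} (h : Comm A B) : Comm B A :=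
  fun b hb a ha => (h a ha b hb).symm

theorem Comm.le_centralizer {A B : Subgroup G} (h : Comm A B) : A ≤ centralizer (B : Set G) := by
  intro a ha
  rw [mem_centralizer_iff]
  intro b hb
  exact (h a ha b hb).symm

theorem comm_of_le_centralizer {A B : Subgroup G} (h : A ≤ centralizer (B : Set G)) : Comm A B := by
  intro a ha b hb
  exact ((mem_centralizer_iff.1 (h ha)) b hb).symm

theorem Comm.le_normalizer {A B : Subgroup G} (h : Comm A B) : A ≤ normalizer (B : Set G) :=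
  h.le_centralizer.trans (centralizer_le_normalizer _)

theorem comm_le {V K : Subgroup G} (h : K ≤ normalizer (V : Set G)) : ⁅V, K⁆ ≤ V := by
  rw [commutator_le]
  intro v hv k hk
  have h1 : k * v⁻¹ * k⁻¹ ∈ V := conj_mem_of_mem_normalizer (h hk) (V.inv_mem hv)
  have e : ⁅v, k⁆ = v * (k * v⁻¹ * k⁻¹) := by rw [commutatorElement_def]; group
  rw [e]; exact V.mul_mem hv h1

/-- `v⁻¹ (k v k⁻¹) ∈ [V,K]`. -/
theorem commElt_mem {V K : Subgroup G} {v k : G} (hv : v ∈ V) (hk : k ∈ K) :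
    v⁻¹ * (k * v * k⁻¹) ∈ ⁅V, K⁆ := by
  have h := commutator_mem_commutator (V.inv_mem hv) hk
  have e : ⁅v⁻¹, k⁆ = v⁻¹ * (k * v * k⁻¹) := by rw [commutatorElement_def]; group
  rwa [e] at h

theorem conj_eq_of_mem_centralizer {S : Subgroup G} {k u : G} (hk : k ∈ centralizer (S : Set G))
    (hu : u ∈ S) : k * u * k⁻¹ = u := by
  have := (mem_centralizer_iff.1 hk) u hu
  rw [← this]; group

theorem mem_centralizer_of_conj_eq {S : Subgroup G} {k : G} (h : ∀ u ∈ S, k * u * k⁻¹ = u) :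
    k ∈ centralizer (S : Set G) := by
  rw [mem_centralizer_iff]
  intro u hu
  have := h u hu
  calc u * k = (k * u * k⁻¹) * k := by rw [this]
    _ = k * u := by group

/-- If `K` and `K'` commute and their commutator modules meet trivially, `K` centralizes `[V,K']`. -/
theorem le_centralizer_comm {V K K' : Subgroup G} (hK : K ≤ normalizer (V : Set G))
    (hc : Comm K K') (hinf : ⁅V, K⁆ ⊓ ⁅V, K'⁆ = ⊥) (hK' : K' ≤ normalizer (V : Set G)) :
    K ≤ centralizer ((⁅V, K'⁆ : Subgroup G) : Set G) := by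
  have hn : K ≤ normalizer ((⁅V, K'⁆ : Subgroup G) : Set G) :=
    le_normalizer_commutator_of_le hK hc.le_normalizer
  intro k hk
  apply mem_centralizer_of_conj_eq
  intro u hu
  have h1 : u⁻¹ * (k * u * k⁻¹) ∈ ⁅V, K'⁆ :=
    mul_mem (inv_mem hu) (conj_mem_of_mem_normalizer (hn hk) hu)
  have h2 : u⁻¹ * (k * u * k⁻¹) ∈ ⁅V, K⁆ := commElt_mem (comm_le hK' hu) hk
  have h3 : u⁻¹ * (k * u * k⁻¹) ∈ ⁅V, K⁆ ⊓ ⁅V, K'⁆ := mem_inf.2 ⟨h2, h1⟩
  rw [hinf, mem_bot] at h3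
  exact (inv_mul_eq_one.1 h3).symm

namespace Irr

variable {V K : Subgroup G}

theorem ne_bot (h : Irr p V K) : K ≠ ⊥ := by
  intro hK
  have := h.card
  rw [hK] at this
  simp at this

theorem le_normalizer_comm (_h : Irr p V K) : K ≤ normalizer ((⁅V, K⁆ : Subgroup G) : Set G) :=
  normalizer_commutator_ge_right V K

theorem comm_ne_bot (h : Irr p V K) : ⁅V, K⁆ ≠ ⊥ := by
  intro hW
  rw [commutator_eq_bot_iff_le_centralizer, le_centralizer_iff] at hW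
  have : K ≤ K ⊓ centralizer (V : Set G) := le_inf le_rfl hW
  rw [h.faith] at this
  exact h.ne_bot (le_bot_iff.1 this)

/-- `C_K([V,K]) = 1`. -/
theorem inf_centralizer_comm (hV : VHyp p V) (h : Irr p V K) :
    K ⊓ centralizer ((⁅V, K⁆ : Subgroup G) : Set G) = ⊥ := by
  apply h.noOp _ inf_le_left
  · -- p-group
    have key : ∀ x ∈ K ⊓ centralizer ((⁅V, K⁆ : Subgroup G) : Set G), x ^ p = 1 := by
      intro x hx
      obtain ⟨hxK, hxC⟩ := mem_inf.1 hx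
      have h1 : ∀ v ∈ V, ∀ n : ℕ, x ^ n * v * (x ^ n)⁻¹ = v * (v⁻¹ * (x * v * x⁻¹)) ^ n := by
        intro v hv n
        induction n with
        | zero => simp
        | succ n ih =>
          have hw : v⁻¹ * (x * v * x⁻¹) ∈ ⁅V, K⁆ := commElt_mem hv hxK
          have hwn : (v⁻¹ * (x * v * x⁻¹)) ^ n ∈ ⁅V, K⁆ := pow_mem hw n
          have e1 := conj_eq_of_mem_centralizer hxC hwn
          calc x ^ (n + 1) * v * (x ^ (n + 1))⁻¹
              = x * (x ^ n * v * (x ^ n)⁻¹) * x⁻¹ := by rw [pow_succ']; group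
            _ = x * (v * (v⁻¹ * (x * v * x⁻¹)) ^ n) * x⁻¹ := by rw [ih]
            _ = (x * v * x⁻¹) * (x * (v⁻¹ * (x * v * x⁻¹)) ^ n * x⁻¹) := by group
            _ = (x * v * x⁻¹) * (v⁻¹ * (x * v * x⁻¹)) ^ n := by rw [e1]
            _ = v * (v⁻¹ * (x * v * x⁻¹)) ^ (n + 1) := by
                rw [pow_succ', ← mul_assoc v, mul_inv_cancel_left]
      have h2 : x ^ p ∈ K ⊓ centralizer (V : Set G) := by
        refine mem_inf.2 ⟨pow_mem hxK p, ?_⟩
        apply mem_centralizer_of_conj_eq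
        intro v hv
        rw [h1 v hv p]
        have hw : v⁻¹ * (x * v * x⁻¹) ∈ V := comm_le h.norm (commElt_mem hv hxK)
        rw [hV.exp _ hw, mul_one]
      rw [h.faith, mem_bot] at h2
      exact h2
    intro ⟨x, hx⟩
    refine ⟨1, ?_⟩
    apply Subtype.ext
    simpa using key x hx
  · -- normalized by K
    have h1 : K ≤ normalizer ((centralizer ((⁅V, K⁆ : Subgroup G) : Set G) : Subgroup G) : Set G) :=
      h.le_normalizer_comm.trans (normalizer_le_normalizer_centralizer _)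
    intro k hk
    have hkK : k ∈ normalizer (K : Set G) := le_normalizer hk
    rw [mem_normalizer_iff] at hkK ⊢
    have hkC := mem_normalizer_iff.1 (h1 hk)
    intro a
    rw [mem_inf, mem_inf, ← hkK a, ← hkC a]

theorem not_le_centralizer_comm (hV : VHyp p V) (h : Irr p V K) :
    ¬ K ≤ centralizer ((⁅V, K⁆ : Subgroup G) : Set G) := by
  intro hle
  have : K ≤ K ⊓ centralizer ((⁅V, K⁆ : Subgroup G) : Set G) := le_inf le_rfl hle
  rw [h.inf_centralizer_comm hV] at this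
  exact h.ne_bot (le_bot_iff.1 this)

end Irr


/-! ### Transport under conjugation -/

theorem comm_scr {V K : Subgroup G} {y : G} (hy : y ∈ normalizer (V : Set G)) :
    ⁅V, subgroupConjRight y K⁆ = subgroupConjRight y ⁅V, K⁆ := by
  have h := map_commutator V K (MulAut.conj y⁻¹).toMonoidHom
  have hV : subgroupConjRight y V = V := scr_eq_self_of_mem_normalizer hy
  unfold subgroupConjRight at hV ⊢
  rw [h, hV]

theorem Irr.scr {V K : Subgroup G} (h : Irr p V K) {y : G} (hy : y ∈ normalizer (V : Set G)) :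
    Irr p V (subgroupConjRight y K) where
  norm := by
    have := scr_mono y h.norm
    rwa [scr_normalizer, scr_eq_self_of_mem_normalizer hy] at this
  faith := by
    rw [eq_bot_iff]
    intro a ha
    obtain ⟨haK, haC⟩ := mem_inf.1 ha
    rw [mem_scr] at haK
    have h1 : y * a * y⁻¹ ∈ K ⊓ centralizer (V : Set G) := by
      refine mem_inf.2 ⟨haK, ?_⟩
      apply mem_centralizer_of_conj_eq
      intro v hv
      have hv' : y⁻¹ * v * y ∈ V := conj_inv_mem_of_mem_normalizer hy hv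
      have h2 := conj_eq_of_mem_centralizer haC hv'
      calc y * a * y⁻¹ * v * (y * a * y⁻¹)⁻¹ = y * (a * (y⁻¹ * v * y) * a⁻¹) * y⁻¹ := by group
        _ = y * (y⁻¹ * v * y) * y⁻¹ := by rw [h2]
        _ = v := by group
    rw [h.faith, mem_bot] at h1
    rw [mem_bot]
    have e : a = y⁻¹ * (y * a * y⁻¹) * y := by group
    rw [e, h1]; group
  irr := by
    intro U hU hn
    rw [comm_scr hy] at hU ⊢
    have h1 : subgroupConjRight y⁻¹ U ≤ ⁅V, K⁆ := by rwa [scr_le_iff, inv_inv]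
    have h2 : K ≤ normalizer ((subgroupConjRight y⁻¹ U : Subgroup G) : Set G) := by
      rw [← scr_normalizer, le_scr_iff, inv_inv]; exact hn
    rcases h.irr _ h1 h2 with h3 | h3
    · left
      have := congrArg (subgroupConjRight y) h3
      rwa [scr_inv_scr, scr_bot] at this
    · right
      have := congrArg (subgroupConjRight y) h3
      rwa [scr_inv_scr] at this
  noOp := by
    intro P hP hPp hn
    have h1 : subgroupConjRight y⁻¹ P ≤ K := by rwa [scr_le_iff, inv_inv]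
    have h2 : K ≤ normalizer ((subgroupConjRight y⁻¹ P : Subgroup G) : Set G) := by
      rw [← scr_normalizer, le_scr_iff, inv_inv]; exact hn
    have h3 := h.noOp _ h1 (isPGroup_scr hPp) h2
    have := congrArg (subgroupConjRight y) h3
    rwa [scr_inv_scr, scr_bot] at this
  card := by rw [card_scr]; exact h.card

theorem isSubnormal_scr {E K : Subgroup G} (h : (K.subgroupOf E).IsSubnormal) {y : G}
    (hy : y ∈ E) : ((subgroupConjRight y K).subgroupOf E).IsSubnormal := by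
  have hs := h.map (f := (MulAut.conj (⟨y, hy⟩ : E)⁻¹).toMonoidHom) (MulAut.conj _).surjective
  convert hs using 1
  ext ⟨a, ha⟩
  rw [mem_subgroupOf, mem_scr, mem_map]
  constructor
  · intro h1
    refine ⟨⟨y * a * y⁻¹, E.mul_mem (E.mul_mem hy ha) (E.inv_mem hy)⟩, ?_, ?_⟩
    · rw [mem_subgroupOf]; exact h1
    · apply Subtype.ext
      simp [mul_assoc]
  · rintro ⟨⟨b, hb⟩, hbK, hab⟩
    rw [mem_subgroupOf] at hbK
    have e : a = y⁻¹ * b * y := by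
      have := congrArg Subtype.val hab
      simpa [MulAut.conj_apply, mul_assoc] using this.symm
    show y * a * y⁻¹ ∈ K
    have e2 : y * a * y⁻¹ = b := by rw [e]; group
    rw [e2]; exact hbK

theorem isSubnormal_of_le {E E' K : Subgroup G} (h : (K.subgroupOf E).IsSubnormal)
    (hE : E' ≤ E) : (K.subgroupOf E').IsSubnormal := by
  have hs := h.comap (Subgroup.inclusion hE)
  convert hs using 1
  ext ⟨a, ha⟩
  simp [mem_subgroupOf]

theorem le_normalizer_inf_of {S A B : Subgroup G} (hA : S ≤ normalizer (A : Set G))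
    (hB : S ≤ normalizer (B : Set G)) : S ≤ normalizer ((A ⊓ B : Subgroup G) : Set G) := by
  intro s hs
  have h1 := mem_normalizer_iff.1 (hA hs)
  have h2 := mem_normalizer_iff.1 (hB hs)
  rw [mem_normalizer_iff]
  intro a
  rw [mem_inf, mem_inf, ← h1 a, ← h2 a]

/-- If `L` normalizes `W ≤ V` and `W ∩ [V,L] = 1` then `L` centralizes `W`. -/
theorem le_centralizer_of_inf_comm {V W L : Subgroup G} (hWV : W ≤ V)
    (hLW : L ≤ normalizer (W : Set G)) (hinf : W ⊓ ⁅V, L⁆ = ⊥) :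
    L ≤ centralizer (W : Set G) := by
  intro l hl
  apply mem_centralizer_of_conj_eq
  intro w hw
  have h1 : w⁻¹ * (l * w * l⁻¹) ∈ W :=
    mul_mem (inv_mem hw) (conj_mem_of_mem_normalizer (hLW hl) hw)
  have h2 : w⁻¹ * (l * w * l⁻¹) ∈ ⁅V, L⁆ := commElt_mem (hWV hw) hl
  have h3 : w⁻¹ * (l * w * l⁻¹) ∈ W ⊓ ⁅V, L⁆ := mem_inf.2 ⟨h1, h2⟩
  rw [hinf, mem_bot] at h3
  exact (inv_mul_eq_one.1 h3).symm

/-- An `L`-invariant commutator module `[V,K]` not containing `[V,L]` meets it trivially. -/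
theorem inf_eq_bot_of_normalizes {V K L : Subgroup G} (hL : Irr p V L)
    (hLK : L ≤ normalizer ((⁅V, K⁆ : Subgroup G) : Set G)) (h21 : ¬ ⁅V, L⁆ ≤ ⁅V, K⁆) :
    ⁅V, K⁆ ⊓ ⁅V, L⁆ = ⊥ := by
  rcases hL.irr (⁅V, K⁆ ⊓ ⁅V, L⁆) inf_le_right
    (le_normalizer_inf_of hLK hL.le_normalizer_comm) with h | h
  · exact h
  · exact absurd (h ▸ inf_le_left) h21

/-! ### The three configurations -/

theorem caseAA {V K L : Subgroup G} (hV : VHyp p V) (hK : Irr p V K) (hL : Irr p V L)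
    (hf : (K ⊔ L) ⊓ centralizer (V : Set G) = ⊥)
    (hLK : L ≤ normalizer ((⁅V, K⁆ : Subgroup G) : Set G))
    (hKL : K ≤ normalizer ((⁅V, L⁆ : Subgroup G) : Set G))
    (h21 : ¬ ⁅V, L⁆ ≤ ⁅V, K⁆) :
    Comm K L ∧ ⁅V, K⁆ ⊓ ⁅V, L⁆ = ⊥ := by
  have hinf : ⁅V, K⁆ ⊓ ⁅V, L⁆ = ⊥ := inf_eq_bot_of_normalizes hL hLK h21
  have hinf' : ⁅V, L⁆ ⊓ ⁅V, K⁆ = ⊥ := by rw [inf_comm]; exact hinf
  refine ⟨?_, hinf⟩
  have hLc : L ≤ centralizer ((⁅V, K⁆ : Subgroup G) : Set G) :=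
    le_centralizer_of_inf_comm (comm_le hK.norm) hLK hinf
  have hKc : K ≤ centralizer ((⁅V, L⁆ : Subgroup G) : Set G) :=
    le_centralizer_of_inf_comm (comm_le hL.norm) hKL hinf'
  intro k hk l hl
  have key : ∀ v ∈ V, (k * l) * v * (k * l)⁻¹ = (l * k) * v * (l * k)⁻¹ := by
    intro v hv
    have hu : v⁻¹ * (l * v * l⁻¹) ∈ ⁅V, L⁆ := commElt_mem hv hl
    have hw : v⁻¹ * (k * v * k⁻¹) ∈ ⁅V, K⁆ := commElt_mem hv hk
    have e1 := conj_eq_of_mem_centralizer (hKc hk) hu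
    have e2 := conj_eq_of_mem_centralizer (hLc hl) hw
    have e3 := hV.comm _ (comm_le hK.norm hw) _ (comm_le hL.norm hu)
    calc (k * l) * v * (k * l)⁻¹
        = (k * v * k⁻¹) * (k * (v⁻¹ * (l * v * l⁻¹)) * k⁻¹) := by group
      _ = (k * v * k⁻¹) * (v⁻¹ * (l * v * l⁻¹)) := by rw [e1]
      _ = v * ((v⁻¹ * (k * v * k⁻¹)) * (v⁻¹ * (l * v * l⁻¹))) := by group
      _ = v * ((v⁻¹ * (l * v * l⁻¹)) * (v⁻¹ * (k * v * k⁻¹))) := by rw [e3]
      _ = (l * v * l⁻¹) * (v⁻¹ * (k * v * k⁻¹)) := by group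
      _ = (l * v * l⁻¹) * (l * (v⁻¹ * (k * v * k⁻¹)) * l⁻¹) := by rw [e2]
      _ = (l * k) * v * (l * k)⁻¹ := by group
  have hc : (l * k)⁻¹ * (k * l) ∈ (K ⊔ L) ⊓ centralizer (V : Set G) := by
    refine mem_inf.2 ⟨?_, ?_⟩
    · have hk' : k ∈ K ⊔ L := mem_sup_left hk
      have hl' : l ∈ K ⊔ L := mem_sup_right hl
      exact mul_mem (inv_mem (mul_mem hl' hk')) (mul_mem hk' hl')
    · apply mem_centralizer_of_conj_eq
      intro v hv
      calc (l * k)⁻¹ * (k * l) * v * ((l * k)⁻¹ * (k * l))⁻¹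
          = (l * k)⁻¹ * ((k * l) * v * (k * l)⁻¹) * (l * k) := by group
        _ = (l * k)⁻¹ * ((l * k) * v * (l * k)⁻¹) * (l * k) := by rw [key v hv]
        _ = v := by group
  rw [hf, mem_bot] at hc
  have := inv_mul_eq_one.1 hc
  exact this.symm

theorem caseAB {V K L : Subgroup G} (hV : VHyp p V) (hK : Irr p V K) (hL : Irr p V L)
    (hLK : L ≤ normalizer ((⁅V, K⁆ : Subgroup G) : Set G))
    (h21 : ¬ ⁅V, L⁆ ≤ ⁅V, K⁆)
    {x : G} (hx : x ∈ K) (hc : Comm L (subgroupConjRight x L))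
    (hinf : ⁅V, L⁆ ⊓ ⁅V, subgroupConjRight x L⁆ = ⊥) : False := by
  have hxV : x ∈ normalizer (V : Set G) := hK.norm hx
  have hinfKL : ⁅V, K⁆ ⊓ ⁅V, L⁆ = ⊥ := inf_eq_bot_of_normalizes hL hLK h21
  have hLc : L ≤ centralizer ((⁅V, K⁆ : Subgroup G) : Set G) :=
    le_centralizer_of_inf_comm (comm_le hK.norm) hLK hinfKL
  have hLx : L ≤ centralizer ((⁅V, subgroupConjRight x L⁆ : Subgroup G) : Set G) :=
    le_centralizer_comm hL.norm hc hinf (hL.scr hxV).norm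
  apply hL.not_le_centralizer_comm hV
  intro l hl
  apply mem_centralizer_of_conj_eq
  intro u hu
  have huV : u ∈ V := comm_le hL.norm hu
  have hux : x⁻¹ * u * x ∈ ⁅V, subgroupConjRight x L⁆ := by
    rw [comm_scr hxV]; exact conj_mem_scr hu
  have hd : u⁻¹ * (x⁻¹ * u * x) ∈ ⁅V, K⁆ := by
    have := commElt_mem (K := K) huV (K.inv_mem hx)
    simpa using this
  have e1 := conj_eq_of_mem_centralizer (hLc hl) hd
  have e2 := conj_eq_of_mem_centralizer (hLx hl) hux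
  have e3 : l * (u⁻¹ * (x⁻¹ * u * x)) * l⁻¹ = (l * u * l⁻¹)⁻¹ * (l * (x⁻¹ * u * x) * l⁻¹) := by
    group
  rw [e3, e2] at e1
  have e4 := mul_right_cancel e1
  exact inv_injective e4


/-- The map `w ↦ w⁻¹ (y⁻¹ w y)` from `[V,K]` to `[V,L]` (`y ∈ L`). -/
def dmap {V K L : Subgroup G} (hK : K ≤ normalizer (V : Set G)) {y : G} (hy : y ∈ L) :
    ↥(⁅V, K⁆ : Subgroup G) → ↥(⁅V, L⁆ : Subgroup G) := fun w =>
  ⟨(w : G)⁻¹ * (y⁻¹ * w * y), by
    have := commElt_mem (K := L) (comm_le hK w.2) (L.inv_mem hy)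
    simpa using this⟩

theorem dmap_injective {V K L : Subgroup G} (hK : K ≤ normalizer (V : Set G)) {y : G}
    (hy : y ∈ L) (hyV : y ∈ normalizer (V : Set G))
    (hinf : ⁅V, K⁆ ⊓ ⁅V, subgroupConjRight y K⁆ = ⊥) :
    Function.Injective (dmap (L := L) hK hy) := by
  intro w₁ w₂ h
  have h' : (w₁ : G)⁻¹ * (y⁻¹ * w₁ * y) = (w₂ : G)⁻¹ * (y⁻¹ * w₂ * y) := congrArg Subtype.val h
  have ha2 : y⁻¹ * (w₂ : G) * y = w₂ * ((w₁ : G)⁻¹ * (y⁻¹ * w₁ * y)) := by rw [h']; group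
  have hd : y⁻¹ * ((w₂ : G) * (w₁ : G)⁻¹) * y = (w₂ : G) * (w₁ : G)⁻¹ := by
    calc y⁻¹ * ((w₂ : G) * (w₁ : G)⁻¹) * y = (y⁻¹ * (w₂ : G) * y) * (y⁻¹ * w₁ * y)⁻¹ := by group
      _ = (w₂ : G) * (w₁ : G)⁻¹ := by rw [ha2]; group
  have hdW : (w₂ : G) * (w₁ : G)⁻¹ ∈ ⁅V, K⁆ := mul_mem w₂.2 (inv_mem w₁.2)
  have hdW' : (w₂ : G) * (w₁ : G)⁻¹ ∈ ⁅V, subgroupConjRight y K⁆ := by
    rw [comm_scr hyV, mem_scr]
    have e : y * ((w₂ : G) * (w₁ : G)⁻¹) * y⁻¹ = (w₂ : G) * (w₁ : G)⁻¹ := by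
      conv_lhs => rw [← hd]
      group
    rw [e]; exact hdW
  have h1 : (w₂ : G) * (w₁ : G)⁻¹ ∈ ⁅V, K⁆ ⊓ ⁅V, subgroupConjRight y K⁆ := mem_inf.2 ⟨hdW, hdW'⟩
  rw [hinf, mem_bot] at h1
  apply Subtype.ext
  exact (mul_inv_eq_one.1 h1).symm

theorem le_normalizer_sup_of {S A B : Subgroup G} (hA : S ≤ normalizer (A : Set G))
    (hB : S ≤ normalizer (B : Set G)) : S ≤ normalizer ((A ⊔ B : Subgroup G) : Set G) := by
  intro s hs
  apply mem_normalizer_of_scr_eq_self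
  have h1 := scr_eq_self_of_mem_normalizer (hA hs)
  have h2 := scr_eq_self_of_mem_normalizer (hB hs)
  unfold subgroupConjRight at h1 h2 ⊢
  rw [Subgroup.map_sup, h1, h2]

/-- In configuration B for `K` (witness `y ∈ L`), with `|[V,L]| ≤ |[V,K]|`: `N_K([V,L]) = 1`
and `[V,L] ≤ [V,K] [V,K]^y`. -/
theorem configB [Finite G] {V K L : Subgroup G} (hV : VHyp p V) (hK : Irr p V K)
    {y : G} (hy : y ∈ L) (hyV : y ∈ normalizer (V : Set G))
    (hcK : Comm K (subgroupConjRight y K))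
    (hinfK : ⁅V, K⁆ ⊓ ⁅V, subgroupConjRight y K⁆ = ⊥)
    (hcard : Nat.card ↥(⁅V, L⁆ : Subgroup G) ≤ Nat.card ↥(⁅V, K⁆ : Subgroup G)) :
    K ⊓ normalizer ((⁅V, L⁆ : Subgroup G) : Set G) = ⊥ ∧
      ⁅V, L⁆ ≤ ⁅V, K⁆ ⊔ ⁅V, subgroupConjRight y K⁆ := by
  have hbij := (dmap_injective (L := L) hK.norm hy hyV hinfK).bijective_of_nat_card_le hcard
  have hsurj : ∀ u ∈ ⁅V, L⁆, ∃ w ∈ ⁅V, K⁆, u = w⁻¹ * (y⁻¹ * w * y) := by
    intro u hu
    obtain ⟨w, hw⟩ := hbij.2 ⟨u, hu⟩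
    exact ⟨w, w.2, (congrArg Subtype.val hw).symm⟩
  have hyW : ∀ w ∈ ⁅V, K⁆, y⁻¹ * w * y ∈ ⁅V, subgroupConjRight y K⁆ := by
    intro w hw
    rw [comm_scr hyV]; exact conj_mem_scr hw
  have hKc : K ≤ centralizer ((⁅V, subgroupConjRight y K⁆ : Subgroup G) : Set G) :=
    le_centralizer_comm hK.norm hcK hinfK (hK.scr hyV).norm
  refine ⟨?_, ?_⟩
  · rw [eq_bot_iff]
    intro k hk
    obtain ⟨hkK, hkN⟩ := mem_inf.1 hk
    rw [← hK.inf_centralizer_comm hV]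
    refine mem_inf.2 ⟨hkK, ?_⟩
    apply mem_centralizer_of_conj_eq
    intro w hw
    have hu : w⁻¹ * (y⁻¹ * w * y) ∈ ⁅V, L⁆ := (dmap (L := L) hK.norm hy ⟨w, hw⟩).2
    have hku : k * (w⁻¹ * (y⁻¹ * w * y)) * k⁻¹ ∈ ⁅V, L⁆ := conj_mem_of_mem_normalizer hkN hu
    obtain ⟨w', hw', e⟩ := hsurj _ hku
    have e1 := conj_eq_of_mem_centralizer (hKc hkK) (hyW w hw)
    have e2 : k * (w⁻¹ * (y⁻¹ * w * y)) * k⁻¹ = (k * w * k⁻¹)⁻¹ * (k * (y⁻¹ * w * y) * k⁻¹) := by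
      group
    rw [e2, e1] at e
    -- e : (k w k⁻¹)⁻¹ (y⁻¹ w y) = w'⁻¹ (y⁻¹ w' y)
    have hw'' : k * w * k⁻¹ ∈ ⁅V, K⁆ := conj_mem_of_mem_normalizer (hK.le_normalizer_comm hkK) hw
    have ht : w' * (k * w * k⁻¹)⁻¹ = y⁻¹ * (w' * w⁻¹) * y := by
      have : y⁻¹ * w' * y = w' * ((k * w * k⁻¹)⁻¹ * (y⁻¹ * w * y)) := by rw [e]; group
      calc w' * (k * w * k⁻¹)⁻¹ = (w' * ((k * w * k⁻¹)⁻¹ * (y⁻¹ * w * y))) * (y⁻¹ * w * y)⁻¹ := by
            group
        _ = (y⁻¹ * w' * y) * (y⁻¹ * w * y)⁻¹ := by rw [this]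
        _ = y⁻¹ * (w' * w⁻¹) * y := by group
    have ht1 : w' * (k * w * k⁻¹)⁻¹ ∈ ⁅V, K⁆ := mul_mem hw' (inv_mem hw'')
    have ht2 : w' * (k * w * k⁻¹)⁻¹ ∈ ⁅V, subgroupConjRight y K⁆ := by
      rw [ht]; exact hyW _ (mul_mem hw' (inv_mem hw))
    have ht3 : w' * (k * w * k⁻¹)⁻¹ ∈ ⁅V, K⁆ ⊓ ⁅V, subgroupConjRight y K⁆ := mem_inf.2 ⟨ht1, ht2⟩
    rw [hinfK, mem_bot] at ht3
    have hw'eq : w' = k * w * k⁻¹ := mul_inv_eq_one.1 ht3
    rw [ht3] at ht
    have h5 : w' * w⁻¹ = 1 := by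
      have : y * (y⁻¹ * (w' * w⁻¹) * y) * y⁻¹ = y * 1 * y⁻¹ := by rw [← ht]
      simpa [mul_assoc] using this
    rw [← hw'eq]
    exact mul_inv_eq_one.1 h5
  · intro u hu
    obtain ⟨w, hw, rfl⟩ := hsurj u hu
    exact mul_mem (mem_sup_left (inv_mem hw)) (mem_sup_right (hyW w hw))

theorem three_conj_false [Finite G] {V L T U₂ U₃ : Subgroup G} (hV : VHyp p V) (hL : Irr p V L)
    (hWT : ⁅V, L⁆ ≤ T) (hTV : T ≤ V) (hU2 : U₂ ≤ T) (hU3 : U₃ ≤ T) (h23 : U₂ ⊓ U₃ = ⊥)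
    (hc2 : L ≤ centralizer (U₂ : Set G)) (hc3 : L ≤ centralizer (U₃ : Set G))
    (hcard : Nat.card T ≤ Nat.card U₂ * Nat.card U₃) : False := by
  have hn : U₂ ≤ normalizer (U₃ : Set G) := by
    refine le_trans ?_ (centralizer_le_normalizer _)
    apply Comm.le_centralizer
    intro a ha b hb
    exact hV.comm a (hTV (hU2 ha)) b (hTV (hU3 hb))
  have h1 := Cfsg.Agent.Helper50.card_sup_mul_card_inf_of_le_normalizer U₂ U₃ hn
  rw [h23, card_bot, mul_one] at h1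
  have h2 : U₂ ⊔ U₃ = T := eq_of_le_of_card_ge (sup_le hU2 hU3) (by rw [h1]; exact hcard)
  have h3 : T ≤ centralizer (L : Set G) := by
    rw [← h2]
    exact sup_le (le_centralizer_iff.1 hc2) (le_centralizer_iff.1 hc3)
  apply hL.not_le_centralizer_comm hV
  exact (le_centralizer_iff.1 h3).trans (centralizer_le hWT)

theorem caseBB [Finite G] {V K L : Subgroup G} (hV : VHyp p V) (hK : Irr p V K) (hL : Irr p V L)
    {y : G} (hy : y ∈ L) (hcK : Comm K (subgroupConjRight y K))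
    (hinfK : ⁅V, K⁆ ⊓ ⁅V, subgroupConjRight y K⁆ = ⊥)
    {x : G} (hx : x ∈ K)
    (hinfL : ⁅V, L⁆ ⊓ ⁅V, subgroupConjRight x L⁆ = ⊥)
    (hD : ∀ k ∈ K, ⁅V, subgroupConjRight k L⁆ = ⁅V, L⁆ ∨
      (Comm L (subgroupConjRight k L) ∧ ⁅V, L⁆ ⊓ ⁅V, subgroupConjRight k L⁆ = ⊥)) : False := by
  have hyV : y ∈ normalizer (V : Set G) := hL.norm hy
  have hxV : x ∈ normalizer (V : Set G) := hK.norm hx
  have hcard1 : Nat.card ↥(⁅V, K⁆ : Subgroup G) ≤ Nat.card ↥(⁅V, L⁆ : Subgroup G) :=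
    Nat.card_le_card_of_injective _ (dmap_injective (L := L) hK.norm hy hyV hinfK)
  have hcard2 : Nat.card ↥(⁅V, L⁆ : Subgroup G) ≤ Nat.card ↥(⁅V, K⁆ : Subgroup G) :=
    Nat.card_le_card_of_injective _ (dmap_injective (L := K) hL.norm hx hxV hinfL)
  obtain ⟨hN, hWT⟩ := configB hV hK hy hyV hcK hinfK hcard2
  -- three distinct elements of K
  have hKc := hK.card
  have : Fintype K := Fintype.ofFinite K
  rw [Nat.card_eq_fintype_card] at hKc
  obtain ⟨a, b, c, hab, hac, hbc⟩ := Fintype.two_lt_card_iff.1 hKc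
  -- a general consequence of the dichotomy
  have hne : ∀ k ∈ K, k ≠ 1 → Comm L (subgroupConjRight k L) ∧
      ⁅V, L⁆ ⊓ ⁅V, subgroupConjRight k L⁆ = ⊥ := by
    intro k hk hk1
    rcases hD k hk with h | h
    · exfalso
      apply hk1
      rw [comm_scr (hK.norm hk)] at h
      have : k ∈ K ⊓ normalizer ((⁅V, L⁆ : Subgroup G) : Set G) :=
        mem_inf.2 ⟨hk, mem_normalizer_of_scr_eq_self h⟩
      rwa [hN, mem_bot] at this
    · exact h
  set k₁ : G := (a : G)⁻¹ * b with hk₁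
  set k₂ : G := (a : G)⁻¹ * c with hk₂
  have hk₁K : k₁ ∈ K := mul_mem (inv_mem a.2) b.2
  have hk₂K : k₂ ∈ K := mul_mem (inv_mem a.2) c.2
  have hk₁1 : k₁ ≠ 1 := by
    intro h
    apply hab
    apply Subtype.ext
    have := inv_mul_eq_one.1 h
    exact this
  have hk₂1 : k₂ ≠ 1 := by
    intro h
    apply hac
    apply Subtype.ext
    exact inv_mul_eq_one.1 h
  have hk₃K : k₂ * k₁⁻¹ ∈ K := mul_mem hk₂K (inv_mem hk₁K)
  have hk₃1 : k₂ * k₁⁻¹ ≠ 1 := by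
    intro h
    apply hbc
    apply Subtype.ext
    have h1 : k₂ = k₁ := mul_inv_eq_one.1 h
    have h2 : (a : G)⁻¹ * c = (a : G)⁻¹ * b := h1
    exact (mul_left_cancel h2).symm
  obtain ⟨hc1, hi1⟩ := hne k₁ hk₁K hk₁1
  obtain ⟨hc2, hi2⟩ := hne k₂ hk₂K hk₂1
  obtain ⟨-, hi3⟩ := hne _ hk₃K hk₃1
  have hk₁V := hK.norm hk₁K
  have hk₂V := hK.norm hk₂K
  have hL1 : L ≤ centralizer ((⁅V, subgroupConjRight k₁ L⁆ : Subgroup G) : Set G) :=
    le_centralizer_comm hL.norm hc1 hi1 (hL.scr hk₁V).norm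
  have hL2 : L ≤ centralizer ((⁅V, subgroupConjRight k₂ L⁆ : Subgroup G) : Set G) :=
    le_centralizer_comm hL.norm hc2 hi2 (hL.scr hk₂V).norm
  -- the subgroup T
  have hKcW : K ≤ centralizer ((⁅V, subgroupConjRight y K⁆ : Subgroup G) : Set G) :=
    le_centralizer_comm hK.norm hcK hinfK (hK.scr hyV).norm
  have hKT : K ≤ normalizer ((⁅V, K⁆ ⊔ ⁅V, subgroupConjRight y K⁆ : Subgroup G) : Set G) :=
    le_normalizer_sup_of hK.le_normalizer_comm (hKcW.trans (centralizer_le_normalizer _))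
  have hTV : ⁅V, K⁆ ⊔ ⁅V, subgroupConjRight y K⁆ ≤ V :=
    sup_le (comm_le hK.norm) (comm_le (hK.scr hyV).norm)
  have hU : ∀ k ∈ K, ⁅V, subgroupConjRight k L⁆ ≤ ⁅V, K⁆ ⊔ ⁅V, subgroupConjRight y K⁆ := by
    intro k hk
    rw [comm_scr (hK.norm hk)]
    have := scr_mono k hWT
    rwa [scr_eq_self_of_mem_normalizer (hKT hk)] at this
  have h23 : ⁅V, subgroupConjRight k₁ L⁆ ⊓ ⁅V, subgroupConjRight k₂ L⁆ = ⊥ := by
    have h := congrArg (subgroupConjRight k₁) hi3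
    rw [scr_inf, scr_bot, comm_scr (hK.norm hk₃K), ← scr_mul, inv_mul_cancel_right] at h
    rw [comm_scr hk₁V, comm_scr hk₂V]
    exact h
  have hcardT : Nat.card ↥(⁅V, K⁆ ⊔ ⁅V, subgroupConjRight y K⁆ : Subgroup G) ≤
      Nat.card ↥(⁅V, subgroupConjRight k₁ L⁆ : Subgroup G) *
        Nat.card ↥(⁅V, subgroupConjRight k₂ L⁆ : Subgroup G) := by
    have hn : ⁅V, K⁆ ≤ normalizer ((⁅V, subgroupConjRight y K⁆ : Subgroup G) : Set G) := by
      refine le_trans ?_ (centralizer_le_normalizer _)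
      apply Comm.le_centralizer
      intro a ha b hb
      exact hV.comm a (comm_le hK.norm ha) b (comm_le (hK.scr hyV).norm hb)
    have h1 := Cfsg.Agent.Helper50.card_sup_mul_card_inf_of_le_normalizer _ _ hn
    rw [hinfK, card_bot, mul_one] at h1
    rw [h1, comm_scr hk₁V, comm_scr hk₂V, comm_scr hyV, card_scr, card_scr, card_scr]
    have : Nat.card ↥(⁅V, K⁆ : Subgroup G) = Nat.card ↥(⁅V, L⁆ : Subgroup G) :=
      le_antisymm hcard1 hcard2
    rw [this]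
  exact three_conj_false hV hL hWT hTV (hU k₁ hk₁K) (hU k₂ hk₂K) h23 hL1 hL2 hcardT


/-- The dichotomy for a conjugate, given the theorem for smaller groups. -/
theorem dichotomy [Finite G] {V : Subgroup G} (n : ℕ)
    (ih : ∀ m < n, ∀ K L : Subgroup G, Nat.card ↥(K ⊔ L) = m → Irr p V K → Irr p V L →
      (K ⊔ L) ⊓ centralizer (V : Set G) = ⊥ →
      (K.subgroupOf (K ⊔ L)).IsSubnormal → (L.subgroupOf (K ⊔ L)).IsSubnormal →
      ¬ ⁅V, K⁆ ≤ ⁅V, L⁆ → ¬ ⁅V, L⁆ ≤ ⁅V, K⁆ → Comm K L ∧ ⁅V, K⁆ ⊓ ⁅V, L⁆ = ⊥)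
    {K L : Subgroup G} (hn : Nat.card ↥(K ⊔ L) = n) (hK : Irr p V K) (hL : Irr p V L)
    (hf : (K ⊔ L) ⊓ centralizer (V : Set G) = ⊥)
    (hKs : (K.subgroupOf (K ⊔ L)).IsSubnormal) (h21 : ¬ ⁅V, L⁆ ≤ ⁅V, K⁆)
    {y : G} (hy : y ∈ L) :
    ⁅V, subgroupConjRight y K⁆ = ⁅V, K⁆ ∨
      (Comm K (subgroupConjRight y K) ∧ ⁅V, K⁆ ⊓ ⁅V, subgroupConjRight y K⁆ = ⊥) := by
  have hyV : y ∈ normalizer (V : Set G) := hL.norm hy
  have hyE : y ∈ K ⊔ L := mem_sup_right hy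
  -- K is a proper subnormal subgroup of E
  have hne : K.subgroupOf (K ⊔ L) ≠ ⊤ := by
    intro h
    rw [subgroupOf_eq_top] at h
    apply h21
    have : L ≤ K := le_sup_right.trans h
    exact commutator_mono le_rfl this
  obtain ⟨N, hNn, hKN, hNt⟩ := hKs.exists_normal_and_le_and_lt_top_of_ne hne
  have hKN' : K ≤ N.map (K ⊔ L).subtype := by
    intro k hk
    exact ⟨⟨k, mem_sup_left hk⟩, hKN (by rw [mem_subgroupOf]; exact hk), rfl⟩
  have hK'N' : subgroupConjRight y K ≤ N.map (K ⊔ L).subtype := by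
    intro a ha
    rw [mem_scr] at ha
    have haE : y * a * y⁻¹ ∈ K ⊔ L := mem_sup_left ha
    have h1 : (⟨y * a * y⁻¹, haE⟩ : ↥(K ⊔ L)) ∈ N := hKN (by rw [mem_subgroupOf]; exact ha)
    have h2 := hNn.conj_mem _ h1 (⟨y, hyE⟩ : ↥(K ⊔ L))⁻¹
    refine ⟨_, h2, ?_⟩
    simp [mul_assoc]
  have hE'N : K ⊔ subgroupConjRight y K ≤ N.map (K ⊔ L).subtype := sup_le hKN' hK'N'
  have hN'E : N.map (K ⊔ L).subtype ≤ K ⊔ L := by
    rintro _ ⟨a, -, rfl⟩
    exact a.2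
  have hE'E : K ⊔ subgroupConjRight y K ≤ K ⊔ L := hE'N.trans hN'E
  have hE'ne : K ⊔ subgroupConjRight y K ≠ K ⊔ L := by
    intro h
    apply hNt.ne
    rw [eq_top_iff]
    intro a _
    have ha' : (a : G) ∈ K ⊔ subgroupConjRight y K := by rw [h]; exact a.2
    have : (a : G) ∈ N.map (K ⊔ L).subtype := hE'N ha'
    obtain ⟨b, hb, hab⟩ := this
    have : b = a := Subtype.ext hab
    rwa [← this]
  have hlt : Nat.card ↥(K ⊔ subgroupConjRight y K) < n := by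
    rw [← hn]; exact card_lt_of_le_of_ne hE'E hE'ne
  have hWy : ⁅V, subgroupConjRight y K⁆ = subgroupConjRight y ⁅V, K⁆ := comm_scr hyV
  by_cases h1 : ⁅V, K⁆ ≤ ⁅V, subgroupConjRight y K⁆
  · left
    refine (eq_of_le_of_card_ge h1 ?_).symm
    rw [hWy, card_scr]
  by_cases h2 : ⁅V, subgroupConjRight y K⁆ ≤ ⁅V, K⁆
  · left
    refine eq_of_le_of_card_ge h2 ?_
    rw [hWy, card_scr]
  right
  refine ih _ hlt K (subgroupConjRight y K) rfl hK (hK.scr hyV) ?_ ?_ ?_ h1 h2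
  · rw [eq_bot_iff, ← hf]
    exact inf_le_inf_right _ hE'E
  · exact isSubnormal_of_le hKs hE'E
  · exact isSubnormal_of_le (isSubnormal_scr hKs hyE) hE'E

/-- **Main theorem**: two subnormal subgroups irreducible on incomparable commutator modules
commute and their commutator modules meet trivially. -/
theorem main [Finite G] {V : Subgroup G} (hV : VHyp p V) :
    ∀ n : ℕ, ∀ K L : Subgroup G, Nat.card ↥(K ⊔ L) = n → Irr p V K → Irr p V L →
      (K ⊔ L) ⊓ centralizer (V : Set G) = ⊥ →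
      (K.subgroupOf (K ⊔ L)).IsSubnormal → (L.subgroupOf (K ⊔ L)).IsSubnormal →
      ¬ ⁅V, K⁆ ≤ ⁅V, L⁆ → ¬ ⁅V, L⁆ ≤ ⁅V, K⁆ → Comm K L ∧ ⁅V, K⁆ ⊓ ⁅V, L⁆ = ⊥ := by
  intro n
  induction n using Nat.strong_induction_on with
  | _ n ih =>
  intro K L hn hK hL hf hKs hLs h12 h21
  have hn' : Nat.card ↥(L ⊔ K) = n := by rw [sup_comm]; exact hn
  have hf' : (L ⊔ K) ⊓ centralizer (V : Set G) = ⊥ := by rw [sup_comm]; exact hf
  have hLs' : (L.subgroupOf (L ⊔ K)).IsSubnormal := by rw [sup_comm]; exact hLs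
  have dK := fun (y : G) (hy : y ∈ L) => dichotomy n ih hn hK hL hf hKs h21 hy
  have dL := fun (x : G) (hx : x ∈ K) => dichotomy n ih hn' hL hK hf' hLs' h12 hx
  by_cases hA : ∀ y ∈ L, ⁅V, subgroupConjRight y K⁆ = ⁅V, K⁆
  · have hLK : L ≤ normalizer ((⁅V, K⁆ : Subgroup G) : Set G) := by
      intro y hy
      have := hA y hy
      rw [comm_scr (hL.norm hy)] at this
      exact mem_normalizer_of_scr_eq_self this
    by_cases hB : ∀ x ∈ K, ⁅V, subgroupConjRight x L⁆ = ⁅V, L⁆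
    · have hKL : K ≤ normalizer ((⁅V, L⁆ : Subgroup G) : Set G) := by
        intro x hx
        have := hB x hx
        rw [comm_scr (hK.norm hx)] at this
        exact mem_normalizer_of_scr_eq_self this
      exact caseAA hV hK hL hf hLK hKL h21
    · exfalso
      simp only [not_forall] at hB
      obtain ⟨x, hx, hxne⟩ := hB
      rcases dL x hx with h | ⟨hc, hi⟩
      · exact hxne h
      · exact caseAB hV hK hL hLK h21 hx hc hi
  · exfalso
    simp only [not_forall] at hA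
    obtain ⟨y, hy, hyne⟩ := hA
    rcases dK y hy with h | ⟨hcK, hiK⟩
    · exact hyne h
    by_cases hB : ∀ x ∈ K, ⁅V, subgroupConjRight x L⁆ = ⁅V, L⁆
    · have hKL : K ≤ normalizer ((⁅V, L⁆ : Subgroup G) : Set G) := by
        intro x hx
        have := hB x hx
        rw [comm_scr (hK.norm hx)] at this
        exact mem_normalizer_of_scr_eq_self this
      exact caseAB hV hL hK hKL h12 hy hcK hiK
    · simp only [not_forall] at hB
      obtain ⟨x, hx, hxne⟩ := hB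
      rcases dL x hx with h | ⟨-, hiL⟩
      · exact hxne h
      · exact caseBB hV hK hL hy hcK hiK hx hiL dL

end Cfsg.Agent.Helper49.SubIrr
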