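import Mathlib
import Cfsg.Agent.Helper49.SubIrr
import Cfsg.Agent.Helper21.LargeSub
import Cfsg.Agent.Helper47.Comm

set_option autoImplicit false
set_option linter.unusedSectionVars false

/-!
Transvection groups on an elementary abelian `p`-subgroup `V` of `G`, in group language (helper49).

`Tv p V A`: `A` normalizes `V`, `|A| = p`, `|[V,A]| = p`, `|V : C_V(A)| = p` (what S0611 gives
for a minimal best offender).
-/

namespace Cfsg.Agent.Helper49.FF

open Cfsg Subgroup Cfsg.Agent.Helper49 Cfsg.Agent.Helper49.JComp Cfsg.Agent.Helper49.SubIrr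
open scoped commutatorElement

variable {G : Type*} [Group G] {p : ℕ}

/-- The conjugate `x A x⁻¹`, in the form used by the statements. -/
abbrev cj (x : G) (A : Subgroup G) : Subgroup G := A.map (MulAut.conj x).toMonoidHom

theorem cj_eq_scr (x : G) (A : Subgroup G) : cj x A = subgroupConjRight x⁻¹ A := by
  unfold subgroupConjRight
  rw [inv_inv]

theorem mem_cj {x g : G} {A : Subgroup G} : g ∈ cj x A ↔ x⁻¹ * g * x ∈ A := by
  rw [cj_eq_scr, mem_scr, inv_inv]

theorem conj_mem_cj {x a : G} {A : Subgroup G} (ha : a ∈ A) : x * a * x⁻¹ ∈ cj x A := by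
  rw [mem_cj]
  have e : x⁻¹ * (x * a * x⁻¹) * x = a := by group
  rw [e]; exact ha

theorem cj_mul (x y : G) (A : Subgroup G) : cj (x * y) A = cj x (cj y A) := by
  rw [cj_eq_scr, cj_eq_scr, cj_eq_scr, mul_inv_rev, scr_mul]

theorem cj_one (A : Subgroup G) : cj 1 A = A := by
  rw [cj_eq_scr, inv_one, scr_one]

theorem cj_eq_self_of_mem_normalizer {x : G} {A : Subgroup G}
    (hx : x ∈ normalizer (A : Set G)) : cj x A = A := by
  rw [cj_eq_scr]
  exact scr_eq_self_of_mem_normalizer (inv_mem hx)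

theorem mem_normalizer_of_cj_eq_self {x : G} {A : Subgroup G} (h : cj x A = A) :
    x ∈ normalizer (A : Set G) := by
  rw [cj_eq_scr] at h
  have := mem_normalizer_of_scr_eq_self h
  simpa using inv_mem this

theorem cj_mono (x : G) {A B : Subgroup G} (h : A ≤ B) : cj x A ≤ cj x B := map_mono h

theorem card_cj (x : G) (A : Subgroup G) : Nat.card (cj x A) = Nat.card A := by
  rw [cj_eq_scr, card_scr]

theorem comm_cj {V K : Subgroup G} {x : G} (hx : x ∈ normalizer (V : Set G)) :
    ⁅V, cj x K⁆ = cj x ⁅V, K⁆ := by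
  rw [cj_eq_scr, cj_eq_scr]
  exact comm_scr (inv_mem hx)

theorem scr_centralizer (g : G) (X : Subgroup G) :
    subgroupConjRight g (centralizer (X : Set G)) =
      centralizer ((subgroupConjRight g X : Subgroup G) : Set G) := by
  ext a
  rw [mem_scr, mem_centralizer_iff, mem_centralizer_iff]
  constructor
  · intro h b hb
    rw [SetLike.mem_coe, mem_scr] at hb
    have := h _ hb
    have e1 : b * a = g⁻¹ * ((g * b * g⁻¹) * (g * a * g⁻¹)) * g := by group
    have e2 : a * b = g⁻¹ * ((g * a * g⁻¹) * (g * b * g⁻¹)) * g := by group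
    rw [e1, e2, this]
  · intro h b hb
    have hb' : g⁻¹ * b * g ∈ subgroupConjRight g X := conj_mem_scr hb
    have := h _ hb'
    have e1 : b * (g * a * g⁻¹) = g * ((g⁻¹ * b * g) * a) * g⁻¹ := by group
    have e2 : g * a * g⁻¹ * b = g * (a * (g⁻¹ * b * g)) * g⁻¹ := by group
    rw [e1, e2, this]

theorem cj_centralizer (x : G) (X : Subgroup G) :
    cj x (centralizer (X : Set G)) = centralizer ((cj x X : Subgroup G) : Set G) := by
  rw [cj_eq_scr, cj_eq_scr, scr_centralizer]

theorem cj_inf (x : G) (A B : Subgroup G) : cj x (A ⊓ B) = cj x A ⊓ cj x B := by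
  rw [cj_eq_scr, cj_eq_scr, cj_eq_scr, scr_inf]

/-! ### Small general lemmas -/

theorem eq_zpowers_of_card_prime [hp : Fact p.Prime] {P : Subgroup G} (hP : Nat.card P = p)
    {w : G} (hw : w ∈ P) (hw1 : w ≠ 1) : P = zpowers w := by
  have hfin : Finite P := Nat.finite_of_card_ne_zero (by rw [hP]; exact hp.out.ne_zero)
  have hle : zpowers w ≤ P := by rw [zpowers_le]; exact hw
  have hdvd : Nat.card (zpowers w) ∣ p := hP ▸ card_dvd_of_le hle
  rcases (Nat.dvd_prime hp.out).1 hdvd with h | h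
  · exfalso
    apply hw1
    have : zpowers w = ⊥ := card_eq_one.1 h
    rw [zpowers_eq_bot] at this
    exact this
  · exact (eq_of_le_of_card_ge hle (by rw [hP, h])).symm

theorem eq_bot_or_eq_of_card_prime [hp : Fact p.Prime] {P S : Subgroup G} (hP : Nat.card P = p)
    (hS : S ≤ P) : S = ⊥ ∨ S = P := by
  have hfin : Finite P := Nat.finite_of_card_ne_zero (by rw [hP]; exact hp.out.ne_zero)
  have hdvd : Nat.card S ∣ p := hP ▸ card_dvd_of_le hS
  rcases (Nat.dvd_prime hp.out).1 hdvd with h | h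
  · left; exact card_eq_one.1 h
  · right; exact eq_of_le_of_card_ge hS (by rw [hP, h])

/-- In a group `U` of order `p²`, a subgroup properly containing a subgroup of order `p` is `U`. -/
theorem eq_of_prime_sq [hp : Fact p.Prime] {U P S : Subgroup G} (hU : Nat.card U = p ^ 2)
    (hP : Nat.card P = p) (hPS : P ≤ S) (hSU : S ≤ U) {u : G} (hu : u ∈ S) (hnu : u ∉ P) :
    S = U := by
  have hfin : Finite U := Nat.finite_of_card_ne_zero (by rw [hU]; exact pow_ne_zero _ hp.out.ne_zero)
  have hfinS : Finite S := Finite.of_injective (Subgroup.inclusion hSU) (inclusion_injective hSU)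
  have h1 : Nat.card S ∣ p ^ 2 := hU ▸ card_dvd_of_le hSU
  have h2 : p ∣ Nat.card S := hP ▸ card_dvd_of_le hPS
  obtain ⟨k, hk, hk2⟩ := (Nat.dvd_prime_pow hp.out).1 h1
  have hk' : k = 1 ∨ k = 2 := by
    rcases Nat.lt_or_ge k 1 with h | h
    · exfalso
      have : k = 0 := by omega
      rw [this, pow_zero] at hk2
      rw [hk2] at h2
      exact hp.out.one_lt.ne' (Nat.dvd_one.1 h2)
    · omega
  rcases hk' with rfl | rfl
  · exfalso
    apply hnu
    have : P = S := eq_of_le_of_card_ge hPS (by rw [hP, hk2, pow_one])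
    rw [this]; exact hu
  · exact eq_of_le_of_card_ge hSU (by rw [hU, hk2])

/-- Iterating a conjugation that moves `v` by an element of a centralized subgroup. -/
theorem pow_conj_eq {x v : G} {W : Subgroup G} (hxW : x ∈ centralizer (W : Set G))
    (hw : v⁻¹ * (x * v * x⁻¹) ∈ W) (n : ℕ) :
    x ^ n * v * (x ^ n)⁻¹ = v * (v⁻¹ * (x * v * x⁻¹)) ^ n := by
  induction n with
  | zero => simp
  | succ n ih =>
    have hwn : (v⁻¹ * (x * v * x⁻¹)) ^ n ∈ W := pow_mem hw n
    have e1 := conj_eq_of_mem_centralizer hxW hwn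
    calc x ^ (n + 1) * v * (x ^ (n + 1))⁻¹
        = x * (x ^ n * v * (x ^ n)⁻¹) * x⁻¹ := by rw [pow_succ']; group
      _ = x * (v * (v⁻¹ * (x * v * x⁻¹)) ^ n) * x⁻¹ := by rw [ih]
      _ = (x * v * x⁻¹) * (x * (v⁻¹ * (x * v * x⁻¹)) ^ n * x⁻¹) := by group
      _ = (x * v * x⁻¹) * (v⁻¹ * (x * v * x⁻¹)) ^ n := by rw [e1]
      _ = v * (v⁻¹ * (x * v * x⁻¹)) ^ (n + 1) := by
          rw [pow_succ', ← mul_assoc v, mul_inv_cancel_left]

/-- The two-step lemma: `x` centralizes `W`, moves `X` into `W`, `W` of exponent `p`: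
then `x ^ p` centralizes `X`. -/
theorem pow_p_mem_centralizer {x : G} {X W : Subgroup G} (hW : ∀ w ∈ W, w ^ p = 1)
    (hxW : x ∈ centralizer (W : Set G)) (h : ∀ v ∈ X, v⁻¹ * (x * v * x⁻¹) ∈ W) :
    x ^ p ∈ centralizer (X : Set G) := by
  apply mem_centralizer_of_conj_eq
  intro v hv
  rw [pow_conj_eq hxW (h v hv) p, hW _ (h v hv), mul_one]

theorem comm_sup_eq {V K K' : Subgroup G} (hK : K ≤ normalizer (V : Set G))
    (hK' : K' ≤ normalizer (V : Set G)) : ⁅V, K ⊔ K'⁆ = ⁅V, K⁆ ⊔ ⁅V, K'⁆ := by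
  apply le_antisymm
  · have key : ∀ K₁ K₂ : Subgroup G, K₂ ≤ normalizer (V : Set G) →
        K₁ ≤ normalizer ((⁅V, K₁⁆ ⊔ ⁅V, K₂⁆ : Subgroup G) : Set G) := by
      intro K₁ K₂ h₂
      apply le_normalizer_of_conj_mem
      intro k hk w hw
      have hsub : ⁅V, K₁⁆ ⊔ ⁅V, K₂⁆ ≤
          (⁅V, K₁⁆ ⊔ ⁅V, K₂⁆).comap (MulAut.conj k).toMonoidHom := by
        apply sup_le
        · intro w hw
          rw [mem_comap]
          exact mem_sup_left (conj_mem_of_mem_normalizer
            ((normalizer_commutator_ge_right V K₁) hk) hw)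
        · intro w hw
          rw [mem_comap]
          have hwV : w ∈ V := comm_le h₂ hw
          have h3 : w⁻¹ * (k * w * k⁻¹) ∈ ⁅V, K₁⁆ := commElt_mem hwV hk
          have e : (MulAut.conj k).toMonoidHom w = w * (w⁻¹ * (k * w * k⁻¹)) := by
            simp
          rw [e]
          exact mul_mem (mem_sup_right hw) (mem_sup_left h3)
      have := hsub hw
      rw [mem_comap] at this
      simpa using this
    have h1 := key K K' hK'
    have h2 := key K' K hK
    rw [sup_comm] at h2
    exact Cfsg.Agent.Helper47.commutator_sup_right_le le_sup_left le_sup_right h1 h2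
  · exact sup_le (commutator_mono le_rfl le_sup_left) (commutator_mono le_rfl le_sup_right)


theorem card_mul_relIndex_of_le {H K : Subgroup G} (h : H ≤ K) :
    Nat.card H * H.relIndex K = Nat.card K := by
  have h1 := relIndex_mul_relIndex ⊥ H K bot_le h
  rwa [relIndex_bot_left, relIndex_bot_left] at h1

/-- A transvection group on `V`. -/
structure Tv (p : ℕ) (V A : Subgroup G) : Prop where
  norm : A ≤ normalizer (V : Set G)
  cardA : Nat.card A = p
  cardP : Nat.card ↥(⁅V, A⁆ : Subgroup G) = p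
  idx : (V ⊓ centralizer (A : Set G)).relIndex V = p

namespace Tv

variable [Finite G] [hp : Fact p.Prime] {V A : Subgroup G}

theorem isPGroup (h : Tv p V A) : IsPGroup p A :=
  IsPGroup.of_card (n := 1) (by rw [h.cardA, pow_one])

theorem ne_bot (h : Tv p V A) : A ≠ ⊥ := by
  intro hA
  have := h.cardA
  rw [hA, card_bot] at this
  exact hp.out.one_lt.ne this

theorem comm_ne_bot (h : Tv p V A) : ⁅V, A⁆ ≠ ⊥ := by
  intro hA
  have := h.cardP
  rw [hA, card_bot] at this
  exact hp.out.one_lt.ne this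

theorem le_centralizer_comm (h : Tv p V A) :
    A ≤ centralizer ((⁅V, A⁆ : Subgroup G) : Set G) := by
  have hP : IsPGroup p ↥(⁅V, A⁆ : Subgroup G) :=
    IsPGroup.of_card (n := 1) (by rw [h.cardP, pow_one])
  have hne := Cfsg.Agent.Helper21.inf_centralizer_ne_bot_of_le_normalizer h.isPGroup hP
    (normalizer_commutator_ge_right V A) h.comm_ne_bot
  rcases eq_bot_or_eq_of_card_prime h.cardP
    (inf_le_left : ⁅V, A⁆ ⊓ centralizer (A : Set G) ≤ ⁅V, A⁆) with h1 | h1
  · exact absurd h1 hne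
  · rw [le_centralizer_iff]
    rw [← h1]; exact inf_le_right

theorem comm_le_fix (h : Tv p V A) : ⁅V, A⁆ ≤ V ⊓ centralizer (A : Set G) :=
  le_inf (comm_le h.norm) (le_centralizer_iff.1 h.le_centralizer_comm)

theorem eq_zpowers (h : Tv p V A) {a : G} (ha : a ∈ A) (ha1 : a ≠ 1) : A = zpowers a :=
  eq_zpowers_of_card_prime h.cardA ha ha1

theorem comm_eq_zpowers (h : Tv p V A) {w : G} (hw : w ∈ ⁅V, A⁆) (hw1 : w ≠ 1) :
    ⁅V, A⁆ = zpowers w :=
  eq_zpowers_of_card_prime h.cardP hw hw1

/-- If a nontrivial element of `A` fixes `v`, then `A` centralizes `v`. -/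
theorem mem_centralizer_of_conj_eq' (h : Tv p V A) {a v : G} (ha : a ∈ A) (ha1 : a ≠ 1)
    (hv : a * v * a⁻¹ = v) : v ∈ centralizer (A : Set G) := by
  have h1 : zpowers a ≤ centralizer ({v} : Set G) := by
    rw [zpowers_le, mem_centralizer_singleton_iff]
    symm
    calc v * a = (a * v * a⁻¹) * a := by rw [hv]
      _ = a * v := by group
  rw [mem_centralizer_iff]
  intro g hg
  rw [SetLike.mem_coe, h.eq_zpowers ha ha1] at hg
  have := mem_centralizer_singleton_iff.1 (h1 hg)
  exact this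

theorem card_eq (h : Tv p V A) :
    Nat.card V = Nat.card ↥(V ⊓ centralizer (A : Set G) : Subgroup G) * p := by
  have := card_mul_relIndex_of_le (inf_le_left : V ⊓ centralizer (A : Set G) ≤ V)
  rw [h.idx] at this
  exact this.symm

theorem cj (h : Tv p V A) {x : G} (hx : x ∈ normalizer (V : Set G)) : Tv p V (cj x A) where
  norm := by
    intro g hg
    rw [mem_cj] at hg
    have h1 := h.norm hg
    have e : g = x * (x⁻¹ * g * x) * x⁻¹ := by group
    rw [e]
    exact mul_mem (mul_mem hx h1) (inv_mem hx)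
  cardA := by rw [card_cj]; exact h.cardA
  cardP := by rw [comm_cj hx, card_cj]; exact h.cardP
  idx := by
    have hV : FF.cj x V = V := cj_eq_self_of_mem_normalizer hx
    have e : V ⊓ centralizer ((FF.cj x A : Subgroup G) : Set G) =
        FF.cj x (V ⊓ centralizer (A : Set G)) := by
      rw [cj_inf, cj_centralizer, hV]
    rw [e]
    have e2 : (FF.cj x (V ⊓ centralizer (A : Set G))).relIndex V =
        (FF.cj x (V ⊓ centralizer (A : Set G))).relIndex (FF.cj x V) := by rw [hV]
    rw [e2, cj_eq_scr, cj_eq_scr, relIndex_scr]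
    exact h.idx

end Tv

end Cfsg.Agent.Helper49.FF
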