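import Mathlib
import Cfsg.Agent.Helper49.FFTv
import Cfsg.Agent.Helper5.ProjLine

set_option autoImplicit false
set_option linter.unusedSectionVars false

/-!
The FF-module setting of Kurzweil–Stellmacher 9.3 with the results on minimal offenders as
hypotheses (helper49): all `Q`-conjugates of a minimal offender `A` lie in `L = ⟨A, A^x⟩`.
-/

namespace Cfsg.Agent.Helper49.FF

open Cfsg Subgroup Cfsg.Agent.Helper49 Cfsg.Agent.Helper49.JComp Cfsg.Agent.Helper49.SubIrr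
open scoped commutatorElement

variable {G : Type*} [Group G] {p : ℕ}

/-- The FF-setting: `Q = O_{p'}(H)`, `𝒯` the set of minimal nontrivial best offenders. -/
structure Setting (p : ℕ) (V H Q : Subgroup G) (T : Set (Subgroup G)) : Prop where
  vh : VHyp p V
  norm : H ≤ normalizer (V : Set G)
  faith : H ⊓ centralizer (V : Set G) = ⊥
  QH : Q ≤ H
  Qnorm : H ≤ normalizer (Q : Set G)
  Qcop : (Nat.card Q).Coprime p
  Qself : H ⊓ centralizer (Q : Set G) ≤ Q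
  gen : H ≤ sSup T
  le : ∀ A ∈ T, A ≤ H
  tv : ∀ A ∈ T, Tv p V A
  pair : ∀ A ∈ T, ∀ x ∈ Q, x ∉ centralizer (A : Set G) →
    (p = 2 ∨ p = 3) ∧ Nat.card ↥(⁅V, A ⊔ cj x A⁆ : Subgroup G) = p ^ 2 ∧
      (A ⊔ cj x A) ⊓ centralizer ((⁅V, A ⊔ cj x A⁆ : Subgroup G) : Set G) = ⊥ ∧
      Nonempty (↥(A ⊔ cj x A) ≃* Matrix.SpecialLinearGroup (Fin 2) (ZMod p))

namespace Setting

variable [Finite G] [hp : Fact p.Prime] {V H Q : Subgroup G} {T : Set (Subgroup G)}

theorem eq_one_of_mem_Q (hF : Setting p V H Q T) {q : G} (hq : q ∈ Q) {k : ℕ}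
    (hk : q ^ p ^ k = 1) : q = 1 := by
  have h1 : orderOf q ∣ p ^ k := orderOf_dvd_of_pow_eq_one hk
  have h2 : orderOf q ∣ Nat.card Q := Subgroup.orderOf_dvd_natCard Q hq
  have h4 : orderOf q = 1 :=
    Nat.eq_one_of_dvd_coprimes (Nat.Coprime.pow_right k hF.Qcop) h2 h1
  exact orderOf_eq_one_iff.1 h4

theorem A_inf_Q (hF : Setting p V H Q T) {A : Subgroup G} (hA : A ∈ T) : A ⊓ Q = ⊥ := by
  rw [eq_bot_iff]
  intro g hg
  obtain ⟨hgA, hgQ⟩ := mem_inf.1 hg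
  rw [mem_bot]
  apply hF.eq_one_of_mem_Q hgQ (k := 1)
  rw [pow_one]
  have h1 : (⟨g, hgA⟩ : A) ^ Nat.card A = 1 := pow_card_eq_one'
  rw [(hF.tv A hA).cardA] at h1
  exact congrArg Subtype.val h1

theorem QA_le (hF : Setting p V H Q T) {A : Subgroup G} (hA : A ∈ T) : Q ⊔ A ≤ H :=
  sup_le hF.QH (hF.le A hA)

theorem A_le_normalizer_Q (hF : Setting p V H Q T) {A : Subgroup G} (hA : A ∈ T) :
    A ≤ normalizer (Q : Set G) := (hF.le A hA).trans hF.Qnorm

theorem exists_not_centralizing (hF : Setting p V H Q T) {A : Subgroup G} (hA : A ∈ T) :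
    ∃ x ∈ Q, x ∉ centralizer (A : Set G) := by
  by_contra hcon
  have hQA : Q ≤ centralizer (A : Set G) := by
    intro x hx
    by_contra hx'
    exact hcon ⟨x, hx, hx'⟩
  have h1 : A ≤ Q := (le_inf (hF.le A hA) (le_centralizer_iff.1 hQA)).trans hF.Qself
  have h2 : A ≤ A ⊓ Q := le_inf le_rfl h1
  rw [hF.A_inf_Q hA] at h2
  exact (hF.tv A hA).ne_bot (le_bot_iff.1 h2)

/-- `N_Q(A) ≤ C_Q(A)`. -/
theorem mem_centralizer_of_cj_eq (hF : Setting p V H Q T) {A : Subgroup G} (hA : A ∈ T) {q : G}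
    (hq : q ∈ Q) (h : cj q A = A) : q ∈ centralizer (A : Set G) := by
  have hqN := mem_normalizer_of_cj_eq_self h
  rw [mem_centralizer_iff]
  intro a ha
  have h1 : q * a * q⁻¹ * a⁻¹ ∈ A := mul_mem (conj_mem_of_mem_normalizer hqN ha) (inv_mem ha)
  have h2 : q * a * q⁻¹ * a⁻¹ ∈ Q := by
    have := conj_mem_of_mem_normalizer (hF.A_le_normalizer_Q hA ha) (inv_mem hq)
    have e : q * a * q⁻¹ * a⁻¹ = q * (a * q⁻¹ * a⁻¹) := by group
    rw [e]; exact mul_mem hq this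
  have h3 : q * a * q⁻¹ * a⁻¹ ∈ A ⊓ Q := mem_inf.2 ⟨h1, h2⟩
  rw [hF.A_inf_Q hA, mem_bot] at h3
  calc a * q = (q * a * q⁻¹ * a⁻¹)⁻¹ * (q * a) := by group
    _ = q * a := by rw [h3]; group

/-- The basic non-degeneracy of a pair `A`, `qAq⁻¹`. -/
theorem tvPair (hF : Setting p V H Q T) {A : Subgroup G} (hA : A ∈ T) {q : G} (hq : q ∈ Q)
    (h : ⁅V, cj q A⁆ ≤ centralizer (A : Set G) ∨
      ⁅V, A⁆ ≤ centralizer ((cj q A : Subgroup G) : Set G)) :
    q ∈ centralizer (A : Set G) := by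
  by_contra hqc
  obtain ⟨-, -, hfaith, -⟩ := hF.pair A hA q hq hqc
  have hqV : q ∈ normalizer (V : Set G) := hF.norm (hF.QH hq)
  have htA := hF.tv A hA
  have htB : Tv p V (cj q A) := htA.cj hqV
  have hU : ⁅V, A ⊔ cj q A⁆ = ⁅V, A⁆ ⊔ ⁅V, cj q A⁆ := comm_sup_eq htA.norm htB.norm
  rw [hU] at hfaith
  rcases h with h | h
  · have h1 : A ≤ centralizer ((⁅V, A⁆ ⊔ ⁅V, cj q A⁆ : Subgroup G) : Set G) := by
      rw [le_centralizer_iff]
      exact sup_le (le_centralizer_iff.1 htA.le_centralizer_comm) h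
    have h2 : A ≤ (A ⊔ cj q A) ⊓ centralizer ((⁅V, A⁆ ⊔ ⁅V, cj q A⁆ : Subgroup G) : Set G) :=
      le_inf le_sup_left h1
    rw [hfaith] at h2
    exact htA.ne_bot (le_bot_iff.1 h2)
  · have h1 : cj q A ≤ centralizer ((⁅V, A⁆ ⊔ ⁅V, cj q A⁆ : Subgroup G) : Set G) := by
      rw [le_centralizer_iff]
      exact sup_le h (le_centralizer_iff.1 htB.le_centralizer_comm)
    have h2 : cj q A ≤
        (A ⊔ cj q A) ⊓ centralizer ((⁅V, A⁆ ⊔ ⁅V, cj q A⁆ : Subgroup G) : Set G) :=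
      le_inf le_sup_right h1
    rw [hfaith] at h2
    exact htB.ne_bot (le_bot_iff.1 h2)

/-- Conjugates of `A` under `Q ⊔ A` are `Q`-conjugates. -/
theorem exists_cj_eq (hF : Setting p V H Q T) {A : Subgroup G} (hA : A ∈ T) {r : G}
    (hr : r ∈ Q ⊔ A) : ∃ q ∈ Q, cj r A = cj q A := by
  have hcoe := Subgroup.coe_mul_of_right_le_normalizer_left Q A (hF.A_le_normalizer_Q hA)
  have hr' : r ∈ ((Q ⊔ A : Subgroup G) : Set G) := hr
  rw [hcoe, Set.mem_mul] at hr'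
  obtain ⟨q, hq, a, ha, rfl⟩ := hr'
  refine ⟨q, hq, ?_⟩
  rw [cj_mul, cj_eq_self_of_mem_normalizer (le_normalizer (H := A) ha)]

theorem tvPair' (hF : Setting p V H Q T) {A : Subgroup G} (hA : A ∈ T) {r : G}
    (hr : r ∈ Q ⊔ A)
    (h : ⁅V, cj r A⁆ ≤ centralizer (A : Set G) ∨
      ⁅V, A⁆ ≤ centralizer ((cj r A : Subgroup G) : Set G)) : cj r A = A := by
  obtain ⟨q, hq, e⟩ := hF.exists_cj_eq hA hr
  rw [e] at h ⊢
  have := hF.tvPair hA hq h
  exact cj_eq_self_of_mem_normalizer (centralizer_le_normalizer _ this)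

theorem tvPair'' (hF : Setting p V H Q T) {A : Subgroup G} (hA : A ∈ T) {g r : G}
    (hg : g ∈ Q ⊔ A) (hr : r ∈ Q ⊔ A)
    (h : ⁅V, cj g A⁆ ≤ centralizer ((cj r A : Subgroup G) : Set G)) : cj r A = cj g A := by
  have hgV : g⁻¹ ∈ normalizer (V : Set G) := inv_mem (hF.norm (hF.QA_le hA hg))
  have h1 := cj_mono g⁻¹ h
  rw [← comm_cj hgV, cj_centralizer, ← cj_mul, ← cj_mul, inv_mul_cancel, cj_one] at h1
  have h2 := hF.tvPair' hA (mul_mem (inv_mem hg) hr) (Or.inr h1)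
  have h3 := congrArg (cj g) h2
  rwa [← cj_mul, mul_inv_cancel_left] at h3

end Setting

theorem le_normalizer_of_le_abelian {V X Y : Subgroup G} (hV : VHyp p V) (hX : X ≤ V)
    (hY : Y ≤ V) : X ≤ normalizer (Y : Set G) := by
  refine le_trans ?_ (centralizer_le_normalizer _)
  apply Comm.le_centralizer
  intro a ha b hb
  exact hV.comm a (hX ha) b (hY hb)

theorem exists_mul_of_mem_sup_abelian {V X Y : Subgroup G} (hV : VHyp p V) (hX : X ≤ V)
    (hY : Y ≤ V) {u : G} (hu : u ∈ X ⊔ Y) : ∃ a ∈ X, ∃ b ∈ Y, u = a * b := by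
  have hcoe := Subgroup.coe_mul_of_left_le_normalizer_right X Y
    (le_normalizer_of_le_abelian hV hX hY)
  have hu' : u ∈ ((X ⊔ Y : Subgroup G) : Set G) := hu
  rw [hcoe, Set.mem_mul] at hu'
  obtain ⟨a, ha, b, hb, rfl⟩ := hu'
  exact ⟨a, ha, b, hb, rfl⟩

theorem exists_pow_eq_of_mem_zpowers [Finite G] {w u : G} (hu : u ∈ zpowers w) :
    ∃ i : ℕ, w ^ i = u := by
  have h1 : u ∈ Submonoid.powers w := (mem_powers_iff_mem_zpowers).2 hu
  exact (Submonoid.mem_powers_iff _ _).1 h1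

theorem cj_zpowers (g u : G) : cj g (zpowers u) = zpowers (g * u * g⁻¹) := by
  unfold cj
  rw [MonoidHom.map_zpowers]
  rfl

/-- A minimal offender `A` and an element `x ∈ Q` not centralizing it. -/
structure PairData (p : ℕ) (V H Q : Subgroup G) (T : Set (Subgroup G)) (A : Subgroup G) (x : G) :
    Prop where
  hF : Setting p V H Q T
  hA : A ∈ T
  hx : x ∈ Q
  hxc : x ∉ centralizer (A : Set G)

namespace PairData

variable [Finite G] [hp : Fact p.Prime] {V H Q : Subgroup G} {T : Set (Subgroup G)}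
  {A : Subgroup G} {x : G}

theorem tvA (d : PairData p V H Q T A x) : Tv p V A := d.hF.tv A d.hA

theorem xV (d : PairData p V H Q T A x) : x ∈ normalizer (V : Set G) :=
  d.hF.norm (d.hF.QH d.hx)

theorem tvB (d : PairData p V H Q T A x) : Tv p V (cj x A) := d.tvA.cj d.xV

theorem U_eq (d : PairData p V H Q T A x) :
    ⁅V, A ⊔ cj x A⁆ = ⁅V, A⁆ ⊔ ⁅V, cj x A⁆ := comm_sup_eq d.tvA.norm d.tvB.norm

theorem card_U (d : PairData p V H Q T A x) :
    Nat.card ↥(⁅V, A ⊔ cj x A⁆ : Subgroup G) = p ^ 2 := (d.hF.pair A d.hA x d.hx d.hxc).2.1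

theorem faithful (d : PairData p V H Q T A x) :
    (A ⊔ cj x A) ⊓ centralizer ((⁅V, A ⊔ cj x A⁆ : Subgroup G) : Set G) = ⊥ :=
  (d.hF.pair A d.hA x d.hx d.hxc).2.2.1

theorem U_le (d : PairData p V H Q T A x) : ⁅V, A ⊔ cj x A⁆ ≤ V :=
  comm_le (sup_le d.tvA.norm d.tvB.norm)

theorem B_le_QA (d : PairData p V H Q T A x) : cj x A ≤ Q ⊔ A := by
  intro g hg
  rw [mem_cj] at hg
  have e : g = x * (x⁻¹ * g * x) * x⁻¹ := by group
  rw [e]
  exact mul_mem (mul_mem (mem_sup_left d.hx) (mem_sup_right hg)) (inv_mem (mem_sup_left d.hx))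

theorem L_le_QA (d : PairData p V H Q T A x) : A ⊔ cj x A ≤ Q ⊔ A :=
  sup_le le_sup_right d.B_le_QA

theorem L_le_H (d : PairData p V H Q T A x) : A ⊔ cj x A ≤ H :=
  d.L_le_QA.trans (d.hF.QA_le d.hA)

/-- `P_A` is not centralized by `B` and `P_B` is not centralized by `A`. -/
theorem not_PA_le (d : PairData p V H Q T A x) :
    ¬ ⁅V, A⁆ ≤ centralizer ((cj x A : Subgroup G) : Set G) :=
  fun h => d.hxc (d.hF.tvPair d.hA d.hx (Or.inr h))

theorem not_PB_le (d : PairData p V H Q T A x) :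
    ¬ ⁅V, cj x A⁆ ≤ centralizer (A : Set G) :=
  fun h => d.hxc (d.hF.tvPair d.hA d.hx (Or.inl h))

theorem PA_inf_PB (d : PairData p V H Q T A x) : ⁅V, A⁆ ⊓ ⁅V, cj x A⁆ = ⊥ := by
  rcases eq_bot_or_eq_of_card_prime d.tvA.cardP
    (inf_le_left : ⁅V, A⁆ ⊓ ⁅V, cj x A⁆ ≤ ⁅V, A⁆) with h | h
  · exact h
  · exfalso
    apply d.not_PA_le
    have h1 : ⁅V, A⁆ ≤ ⁅V, cj x A⁆ := by rw [← h]; exact inf_le_right
    exact h1.trans (le_centralizer_iff.1 d.tvB.le_centralizer_comm)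

/-- Every conjugate of `A` under `Q ⊔ A` lies in `L = ⟨A, A^x⟩`. -/
theorem cj_le_L (d : PairData p V H Q T A x) {r : G} (hr : r ∈ Q ⊔ A) :
    cj r A ≤ A ⊔ cj x A := by
  have hF := d.hF
  have htA := d.tvA
  have htB := d.tvB
  have hrV : r ∈ normalizer (V : Set G) := hF.norm (hF.QA_le d.hA hr)
  have htC : Tv p V (cj r A) := htA.cj hrV
  have hp1 : 1 < p := hp.out.one_lt
  -- a nontrivial element of `U ∩ C_V(C)`
  have hne : ⁅V, A ⊔ cj x A⁆ ⊓ (V ⊓ centralizer ((cj r A : Subgroup G) : Set G)) ≠ ⊥ := by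
    intro hbot
    have h1 := Cfsg.Agent.Helper50.card_sup_mul_card_inf_of_le_normalizer
      (⁅V, A ⊔ cj x A⁆) (V ⊓ centralizer ((cj r A : Subgroup G) : Set G))
      (le_normalizer_of_le_abelian hF.vh d.U_le inf_le_left)
    rw [hbot, card_bot, mul_one, d.card_U] at h1
    have h2 : Nat.card ↥(⁅V, A ⊔ cj x A⁆ ⊔ (V ⊓ centralizer ((cj r A : Subgroup G) : Set G)) :
        Subgroup G) ≤ Nat.card V := card_le_of_le (sup_le d.U_le inf_le_left)
    rw [h1, htC.card_eq] at h2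
    have hpos : 0 < Nat.card ↥(V ⊓ centralizer ((cj r A : Subgroup G) : Set G) : Subgroup G) :=
      Nat.card_pos
    have h3 : p ^ 2 ≤ p := by
      have h2' : p ^ 2 *
          Nat.card ↥(V ⊓ centralizer ((cj r A : Subgroup G) : Set G) : Subgroup G) ≤
          p * Nat.card ↥(V ⊓ centralizer ((cj r A : Subgroup G) : Set G) : Subgroup G) := by
        rw [mul_comm p]; exact h2
      exact Nat.le_of_mul_le_mul_right h2' hpos
    nlinarith
  obtain ⟨⟨u₀, hu₀⟩, hu₀1⟩ := (Subgroup.ne_bot_iff_exists_ne_one).1 hne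
  have hu₀1' : u₀ ≠ 1 := fun h => hu₀1 (Subtype.ext h)
  obtain ⟨hu₀U, hu₀C⟩ := mem_inf.1 hu₀
  have hu₀C' : u₀ ∈ centralizer ((cj r A : Subgroup G) : Set G) := (mem_inf.1 hu₀C).2
  rw [d.U_eq] at hu₀U
  obtain ⟨ua, hua, ub, hub, hu₀eq⟩ :=
    exists_mul_of_mem_sup_abelian hF.vh (comm_le htA.norm) (comm_le htB.norm) hu₀U
  -- the uniform mechanism
  have mech : ∀ g ∈ Q ⊔ A, cj g A ≤ A ⊔ cj x A →
      ⁅V, cj g A⁆ ≤ centralizer ((cj r A : Subgroup G) : Set G) → cj r A ≤ A ⊔ cj x A := by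
    intro g hg hgL hgc
    rw [hF.tvPair'' d.hA hg hr hgc]
    exact hgL
  by_cases hub1 : ub = 1
  · -- u₀ = ua ∈ P_A
    rw [hub1, mul_one] at hu₀eq
    apply mech 1 (one_mem _)
    · rw [cj_one]; exact le_sup_left
    · rw [cj_one, htA.comm_eq_zpowers (hu₀eq ▸ hua) hu₀1', zpowers_le]
      exact hu₀C'
  by_cases hua1 : ua = 1
  · rw [hua1, one_mul] at hu₀eq
    apply mech x (mem_sup_left d.hx) le_sup_right
    rw [htB.comm_eq_zpowers (hu₀eq ▸ hub) hu₀1', zpowers_le]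
    exact hu₀C'
  -- both nontrivial
  obtain ⟨⟨b, hb⟩, hb1⟩ := (Subgroup.ne_bot_iff_exists_ne_one).1 htB.ne_bot
  have hb1' : b ≠ 1 := fun h => hb1 (Subtype.ext h)
  have huaV : ua ∈ V := comm_le htA.norm hua
  have hw : ua⁻¹ * (b * ua * b⁻¹) ∈ ⁅V, cj x A⁆ := commElt_mem huaV hb
  have hw1 : ua⁻¹ * (b * ua * b⁻¹) ≠ 1 := by
    intro h
    have h1 : b * ua * b⁻¹ = ua := (inv_mul_eq_one.1 h).symm
    have h2 := htB.mem_centralizer_of_conj_eq' hb hb1' h1
    apply d.not_PA_le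
    rw [htA.comm_eq_zpowers hua hua1, zpowers_le]
    exact h2
  have hPB := htB.comm_eq_zpowers hw hw1
  rw [hPB] at hub
  obtain ⟨i, hi⟩ := exists_pow_eq_of_mem_zpowers hub
  have hconj := pow_conj_eq (htB.le_centralizer_comm hb) hw i
  rw [hi, ← hu₀eq] at hconj
  -- g = b ^ i
  have hgB : b ^ i ∈ cj x A := pow_mem hb i
  have hgL : b ^ i ∈ A ⊔ cj x A := mem_sup_right hgB
  have hgV : b ^ i ∈ normalizer (V : Set G) := htB.norm hgB
  apply mech (b ^ i) (d.B_le_QA hgB)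
  · have h1 := cj_mono (b ^ i) (le_sup_left : A ≤ A ⊔ cj x A)
    rwa [cj_eq_self_of_mem_normalizer (le_normalizer hgL)] at h1
  · rw [comm_cj hgV, htA.comm_eq_zpowers hua hua1, cj_zpowers, hconj, zpowers_le]
    exact hu₀C'

theorem L_eq (d : PairData p V H Q T A x) : A ⊔ cj x A = ⁅Q, A⁆ ⊔ A := by
  apply le_antisymm
  · apply sup_le le_sup_right
    intro g hg
    rw [mem_cj] at hg
    have e : g = ⁅x, x⁻¹ * g * x⁆ * (x⁻¹ * g * x) := by
      rw [commutatorElement_def]; group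
    rw [e]
    exact mul_mem (mem_sup_left (commutator_mem_commutator d.hx hg)) (mem_sup_right hg)
  · apply sup_le _ le_sup_left
    rw [commutator_le]
    intro q hq a ha
    have h1 : q * a * q⁻¹ ∈ A ⊔ cj x A := d.cj_le_L (mem_sup_left hq) (conj_mem_cj ha)
    have e : ⁅q, a⁆ = (q * a * q⁻¹) * a⁻¹ := by rw [commutatorElement_def]
    rw [e]
    exact mul_mem h1 (inv_mem (mem_sup_left ha))

theorem QA_le_normalizer_L (d : PairData p V H Q T A x) :
    Q ⊔ A ≤ normalizer ((A ⊔ cj x A : Subgroup G) : Set G) := by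
  intro q hq
  apply mem_normalizer_of_cj_eq_self
  have h1 : cj q (A ⊔ cj x A) ≤ A ⊔ cj x A := by
    unfold cj
    rw [Subgroup.map_sup]
    apply sup_le
    · exact d.cj_le_L hq
    · have := d.cj_le_L (mul_mem hq (mem_sup_left d.hx))
      rwa [cj_mul] at this
  exact eq_of_le_of_card_ge h1 (by rw [card_cj])


theorem U_inf_centralizer (d : PairData p V H Q T A x) :
    ⁅V, A ⊔ cj x A⁆ ⊓ centralizer ((A ⊔ cj x A : Subgroup G) : Set G) = ⊥ := by
  have htA := d.tvA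
  have htB := d.tvB
  rw [eq_bot_iff]
  intro u₀ hu₀
  obtain ⟨hu₀U, hu₀C⟩ := mem_inf.1 hu₀
  rw [d.U_eq] at hu₀U
  obtain ⟨ua, hua, ub, hub, rfl⟩ :=
    exists_mul_of_mem_sup_abelian d.hF.vh (comm_le htA.norm) (comm_le htB.norm) hu₀U
  obtain ⟨⟨a, ha⟩, ha1⟩ := (Subgroup.ne_bot_iff_exists_ne_one).1 htA.ne_bot
  have ha1' : a ≠ 1 := fun h => ha1 (Subtype.ext h)
  obtain ⟨⟨b, hb⟩, hb1⟩ := (Subgroup.ne_bot_iff_exists_ne_one).1 htB.ne_bot
  have hb1' : b ≠ 1 := fun h => hb1 (Subtype.ext h)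
  have e1 : a * (ua * ub) * a⁻¹ = ua * ub := by
    have ha' : a ∈ A ⊔ cj x A := mem_sup_left ha
    have := (mem_centralizer_iff.1 hu₀C) a ha'
    calc a * (ua * ub) * a⁻¹ = ((ua * ub) * a) * a⁻¹ := by rw [this]
      _ = ua * ub := by group
  have e2 : a * ua * a⁻¹ = ua := conj_eq_of_mem_centralizer (htA.le_centralizer_comm ha) hua
  have e3 : a * ub * a⁻¹ = ub := by
    have : a * (ua * ub) * a⁻¹ = (a * ua * a⁻¹) * (a * ub * a⁻¹) := by group
    rw [this, e2] at e1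
    exact mul_left_cancel e1
  have hub1 : ub = 1 := by
    by_contra hne
    apply d.not_PB_le
    rw [htB.comm_eq_zpowers hub hne, zpowers_le]
    exact htA.mem_centralizer_of_conj_eq' ha ha1' e3
  have f1 : b * (ua * ub) * b⁻¹ = ua * ub := by
    have hb' : b ∈ A ⊔ cj x A := mem_sup_right hb
    have := (mem_centralizer_iff.1 hu₀C) b hb'
    calc b * (ua * ub) * b⁻¹ = ((ua * ub) * b) * b⁻¹ := by rw [this]
      _ = ua * ub := by group
  have f2 : b * ub * b⁻¹ = ub := conj_eq_of_mem_centralizer (htB.le_centralizer_comm hb) hub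
  have f3 : b * ua * b⁻¹ = ua := by
    have : b * (ua * ub) * b⁻¹ = (b * ua * b⁻¹) * (b * ub * b⁻¹) := by group
    rw [this, f2] at f1
    exact mul_right_cancel f1
  have hua1 : ua = 1 := by
    by_contra hne
    apply d.not_PA_le
    rw [htA.comm_eq_zpowers hua hne, zpowers_le]
    exact htB.mem_centralizer_of_conj_eq' hb hb1' f3
  rw [mem_bot, hua1, hub1, mul_one]

theorem U_sup_fix (d : PairData p V H Q T A x) :
    ⁅V, A ⊔ cj x A⁆ ⊔ (V ⊓ centralizer ((A ⊔ cj x A : Subgroup G) : Set G)) = V := by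
  have htA := d.tvA
  have htB := d.tvB
  have hV := d.hF.vh
  have hle : ⁅V, A ⊔ cj x A⁆ ⊔ (V ⊓ centralizer ((A ⊔ cj x A : Subgroup G) : Set G)) ≤ V :=
    sup_le d.U_le inf_le_left
  apply eq_of_le_of_card_ge hle
  -- the fixed points of `L`
  have hF1 : (V ⊓ centralizer (A : Set G)) ⊓ (V ⊓ centralizer ((cj x A : Subgroup G) : Set G)) ≤
      V ⊓ centralizer ((A ⊔ cj x A : Subgroup G) : Set G) := by
    refine le_inf (inf_le_left.trans inf_le_left) ?_
    rw [le_centralizer_iff]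
    apply sup_le
    · rw [← le_centralizer_iff]; exact inf_le_left.trans inf_le_right
    · rw [← le_centralizer_iff]; exact inf_le_right.trans inf_le_right
  have h1 := Cfsg.Agent.Helper50.card_sup_mul_card_inf_of_le_normalizer
    (V ⊓ centralizer (A : Set G)) (V ⊓ centralizer ((cj x A : Subgroup G) : Set G))
    (le_normalizer_of_le_abelian hV inf_le_left inf_le_left)
  have h2 : Nat.card ↥((V ⊓ centralizer (A : Set G)) ⊔
      (V ⊓ centralizer ((cj x A : Subgroup G) : Set G)) : Subgroup G) ≤ Nat.card V :=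
    card_le_of_le (sup_le inf_le_left inf_le_left)
  have h3 := htA.card_eq
  have h4 := htB.card_eq
  have h5 := card_le_of_le hF1
  have h6 := Cfsg.Agent.Helper50.card_sup_mul_card_inf_of_le_normalizer
    (⁅V, A ⊔ cj x A⁆) (V ⊓ centralizer ((A ⊔ cj x A : Subgroup G) : Set G))
    (le_normalizer_of_le_abelian hV d.U_le inf_le_left)
  have h7 : ⁅V, A ⊔ cj x A⁆ ⊓ (V ⊓ centralizer ((A ⊔ cj x A : Subgroup G) : Set G)) = ⊥ := by
    rw [eq_bot_iff, ← d.U_inf_centralizer]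
    exact inf_le_inf_left _ inf_le_right
  rw [h7, card_bot, mul_one, d.card_U] at h6
  rw [h6]
  set n := Nat.card ↥(V ⊓ centralizer (A : Set G) : Subgroup G) with hn
  set m := Nat.card ↥(V ⊓ centralizer ((cj x A : Subgroup G) : Set G) : Subgroup G) with hm
  set s := Nat.card ↥((V ⊓ centralizer (A : Set G)) ⊔
      (V ⊓ centralizer ((cj x A : Subgroup G) : Set G)) : Subgroup G) with hs
  set t := Nat.card ↥((V ⊓ centralizer (A : Set G)) ⊓
      (V ⊓ centralizer ((cj x A : Subgroup G) : Set G)) : Subgroup G) with ht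
  set f := Nat.card ↥(V ⊓ centralizer ((A ⊔ cj x A : Subgroup G) : Set G) : Subgroup G) with hf
  have hnpos : 0 < n := Nat.card_pos
  have hp0 : 0 < p := hp.out.pos
  -- h1 : s * t = n * m, h2 : s ≤ |V|, h3 : |V| = n * p, h4 : |V| = m * p, h5 : t ≤ f
  have hnm : n = m := by
    have : n * p = m * p := by rw [← h3, ← h4]
    exact Nat.eq_of_mul_eq_mul_right hp0 this
  rw [h3]
  have h8 : n * n ≤ n * p * t := by
    calc n * n = s * t := by rw [h1, ← hnm]
      _ ≤ n * p * t := by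
        apply Nat.mul_le_mul_right
        rw [← h3]; exact h2
  have h9 : n ≤ p * t := by
    have : n * n ≤ n * (p * t) := by rw [← mul_assoc]; exact h8
    exact Nat.le_of_mul_le_mul_left this hnpos
  calc n * p ≤ (p * t) * p := Nat.mul_le_mul_right p h9
    _ = p ^ 2 * t := by ring
    _ ≤ p ^ 2 * f := Nat.mul_le_mul_left _ h5

end PairData

end Cfsg.Agent.Helper49.FF
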