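import Mathlib
import Cfsg.Agent.Helper49.FFPair

set_option autoImplicit false
set_option linter.unusedSectionVars false

/-!
FF-module setting (KS 9.3), continued (helper49): `Q₀ = L ∩ Q` is irreducible on `U = [V, L]`,
`H` normalizes `U`, `H = L × C_H(U)`.
-/

namespace Cfsg.Agent.Helper49.FF

open Cfsg Subgroup Cfsg.Agent.Helper49 Cfsg.Agent.Helper49.JComp Cfsg.Agent.Helper49.SubIrr
open scoped commutatorElement

variable {G : Type*} [Group G] {p : ℕ}

theorem natCard_ne_subtype {α : Type*} [Finite α] (a : α) :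
    Nat.card {x : α // x ≠ a} = Nat.card α - 1 := by
  classical
  have := Fintype.ofFinite α
  rw [Nat.card_eq_fintype_card, Nat.card_eq_fintype_card]
  convert Set.card_ne_eq a

/-- A proper nontrivial subgroup of a group of order `p²` has order `p`. -/
theorem card_eq_prime_of_proper [hp : Fact p.Prime] {U U₁ : Subgroup G}
    (hU : Nat.card U = p ^ 2) (hle : U₁ ≤ U) (h1 : U₁ ≠ ⊥) (h2 : U₁ ≠ U) : Nat.card U₁ = p := by
  have hfin : Finite U := Nat.finite_of_card_ne_zero (by rw [hU]; exact pow_ne_zero _ hp.out.ne_zero)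
  have hd : Nat.card U₁ ∣ p ^ 2 := hU ▸ card_dvd_of_le hle
  obtain ⟨k, hk, hk2⟩ := (Nat.dvd_prime_pow hp.out).1 hd
  interval_cases k
  · exfalso; apply h1
    rw [pow_zero] at hk2
    exact card_eq_one.1 hk2
  · rw [hk2, pow_one]
  · exfalso; apply h2
    exact eq_of_le_of_card_ge hle (by rw [hU, hk2])

namespace PairData

variable [Finite G] [hp : Fact p.Prime] {V H Q : Subgroup G} {T : Set (Subgroup G)}
  {A : Subgroup G} {x : G}

theorem L_le_normalizer_U (_d : PairData p V H Q T A x) :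
    A ⊔ cj x A ≤ normalizer ((⁅V, A ⊔ cj x A⁆ : Subgroup G) : Set G) :=
  normalizer_commutator_ge_right V _

theorem exists_mul_L (d : PairData p V H Q T A x) {l : G} (hl : l ∈ A ⊔ cj x A) :
    ∃ q ∈ (A ⊔ cj x A) ⊓ Q, ∃ a ∈ A, l = q * a := by
  have hcoe := Subgroup.coe_mul_of_right_le_normalizer_left Q A (d.hF.A_le_normalizer_Q d.hA)
  have hl' : l ∈ ((Q ⊔ A : Subgroup G) : Set G) := d.L_le_QA hl
  rw [hcoe, Set.mem_mul] at hl'
  obtain ⟨q, hq, a, ha, rfl⟩ := hl'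
  refine ⟨q, mem_inf.2 ⟨?_, hq⟩, a, ha, rfl⟩
  have : q = (q * a) * a⁻¹ := by group
  rw [this]
  exact mul_mem hl (inv_mem (mem_sup_left ha))

theorem QA_le_normalizer_Q0 (d : PairData p V H Q T A x) :
    Q ⊔ A ≤ normalizer (((A ⊔ cj x A) ⊓ Q : Subgroup G) : Set G) :=
  le_normalizer_inf_of d.QA_le_normalizer_L ((d.hF.QA_le d.hA).trans d.hF.Qnorm)

theorem Q0_sup_A (d : PairData p V H Q T A x) : (A ⊔ cj x A) ⊓ Q ⊔ A = A ⊔ cj x A := by
  apply le_antisymm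
  · exact sup_le inf_le_left le_sup_left
  · intro l hl
    obtain ⟨q, hq, a, ha, rfl⟩ := d.exists_mul_L hl
    exact mul_mem (mem_sup_left hq) (mem_sup_right ha)

theorem card_L (d : PairData p V H Q T A x) :
    Nat.card ↥(A ⊔ cj x A : Subgroup G) = p * (p ^ 2 - 1) := by
  obtain ⟨e⟩ := (d.hF.pair A d.hA x d.hx d.hxc).2.2.2
  have : NeZero p := ⟨hp.out.ne_zero⟩
  rw [Nat.card_congr e.toEquiv, Cfsg.Agent.Helper5.card_SL2, ZMod.card]

theorem card_Q0 (d : PairData p V H Q T A x) :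
    Nat.card ↥((A ⊔ cj x A) ⊓ Q : Subgroup G) = p ^ 2 - 1 := by
  have h1 := Cfsg.Agent.Helper50.card_sup_mul_card_inf_of_le_normalizer A ((A ⊔ cj x A) ⊓ Q)
    (le_sup_right.trans d.QA_le_normalizer_Q0)
  have h2 : A ⊓ ((A ⊔ cj x A) ⊓ Q) = ⊥ := by
    rw [eq_bot_iff, ← d.hF.A_inf_Q d.hA]
    exact inf_le_inf_left _ inf_le_right
  rw [h2, card_bot, mul_one, sup_comm, d.Q0_sup_A, d.card_L, d.tvA.cardA] at h1
  exact (Nat.eq_of_mul_eq_mul_left hp.out.pos h1).symm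

theorem Q0_ne_bot (d : PairData p V H Q T A x) : (A ⊔ cj x A) ⊓ Q ≠ ⊥ := by
  intro h
  have := d.card_Q0
  rw [h, card_bot] at this
  have hp2 : 2 ≤ p := hp.out.two_le
  have : 4 ≤ p ^ 2 := by nlinarith
  omega

/-- `Q₀ = L ∩ Q` acts irreducibly on `U = [V, L]`. -/
theorem irr_Q0 (d : PairData p V H Q T A x) (U₁ : Subgroup G) (hU₁ : U₁ ≤ ⁅V, A ⊔ cj x A⁆)
    (hn : (A ⊔ cj x A) ⊓ Q ≤ normalizer (U₁ : Set G)) :
    U₁ = ⊥ ∨ U₁ = ⁅V, A ⊔ cj x A⁆ := by
  by_contra hcon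
  rw [not_or] at hcon
  obtain ⟨h1, h2⟩ := hcon
  have hcard : Nat.card U₁ = p := card_eq_prime_of_proper d.card_U hU₁ h1 h2
  have hU₁p : IsPGroup p U₁ := IsPGroup.of_card (n := 1) (by rw [hcard, pow_one])
  have hp2 : 2 ≤ p := hp.out.two_le
  by_cases hA : A ≤ normalizer (U₁ : Set G)
  · -- then `L` normalizes `U₁`, impossible
    have hL : A ⊔ cj x A ≤ normalizer (U₁ : Set G) := by
      rw [← d.Q0_sup_A]; exact sup_le hn hA
    have hfix : ∀ P : Subgroup G, IsPGroup p P → P ≤ normalizer (U₁ : Set G) →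
        U₁ ≤ centralizer (P : Set G) := by
      intro P hP hPn
      have hne := Cfsg.Agent.Helper21.inf_centralizer_ne_bot_of_le_normalizer hP hU₁p hPn h1
      rcases eq_bot_or_eq_of_card_prime hcard
        (inf_le_left : U₁ ⊓ centralizer (P : Set G) ≤ U₁) with h | h
      · exact absurd h hne
      · exact h.symm.le.trans inf_le_right
    have hcA := hfix A d.tvA.isPGroup hA
    have hcB := hfix (cj x A) d.tvB.isPGroup (le_sup_right.trans hL)
    have h3 : U₁ ≤ ⁅V, A ⊔ cj x A⁆ ⊓ centralizer ((A ⊔ cj x A : Subgroup G) : Set G) := by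
      refine le_inf hU₁ ?_
      rw [le_centralizer_iff]
      exact sup_le (le_centralizer_iff.1 hcA) (le_centralizer_iff.1 hcB)
    rw [d.U_inf_centralizer] at h3
    exact h1 (le_bot_iff.1 h3)
  · -- a conjugate `U₁' ≠ U₁`
    have : ∃ a ∈ A, a ∉ normalizer (U₁ : Set G) := by
      by_contra hc
      apply hA
      intro a ha
      by_contra ha'
      exact hc ⟨a, ha, ha'⟩
    obtain ⟨a, ha, haN⟩ := this
    have hne : cj a U₁ ≠ U₁ := fun h => haN (mem_normalizer_of_cj_eq_self h)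
    have haL : a ∈ A ⊔ cj x A := mem_sup_left ha
    have hcard' : Nat.card (cj a U₁) = p := by rw [card_cj]; exact hcard
    have hU₁' : cj a U₁ ≤ ⁅V, A ⊔ cj x A⁆ := by
      have := cj_mono a hU₁
      rwa [cj_eq_self_of_mem_normalizer (d.L_le_normalizer_U haL)] at this
    have hn' : (A ⊔ cj x A) ⊓ Q ≤ normalizer ((cj a U₁ : Subgroup G) : Set G) := by
      intro q hq
      apply mem_normalizer_of_cj_eq_self
      have hq' : a⁻¹ * q * a ∈ (A ⊔ cj x A) ⊓ Q :=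
        conj_inv_mem_of_mem_normalizer (d.QA_le_normalizer_Q0 (mem_sup_right ha)) hq
      have e : q * a = a * (a⁻¹ * q * a) := by group
      rw [← cj_mul, e, cj_mul, cj_eq_self_of_mem_normalizer (hn hq')]
    have hinf : U₁ ⊓ cj a U₁ = ⊥ := by
      rcases eq_bot_or_eq_of_card_prime hcard (inf_le_left : U₁ ⊓ cj a U₁ ≤ U₁) with h | h
      · exact h
      · exfalso
        apply hne
        have hle : U₁ ≤ cj a U₁ := h.symm.le.trans inf_le_right
        exact (eq_of_le_of_card_ge hle (by rw [hcard', hcard])).symm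
    have hsup : U₁ ⊔ cj a U₁ = ⁅V, A ⊔ cj x A⁆ := by
      apply eq_of_le_of_card_ge (sup_le hU₁ hU₁')
      have := Cfsg.Agent.Helper50.card_sup_mul_card_inf_of_le_normalizer U₁ (cj a U₁)
        (le_normalizer_of_le_abelian d.hF.vh (hU₁.trans d.U_le) (hU₁'.trans d.U_le))
      rw [hinf, card_bot, mul_one, hcard, hcard'] at this
      rw [this, d.card_U, sq]
    -- generators
    obtain ⟨⟨u, hu⟩, hu1⟩ := (Subgroup.ne_bot_iff_exists_ne_one).1 h1
    have hu1' : u ≠ 1 := fun h => hu1 (Subtype.ext h)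
    have hne' : cj a U₁ ≠ ⊥ := by
      intro h
      rw [h, card_bot] at hcard'
      omega
    obtain ⟨⟨u', hu'⟩, hu'1⟩ := (Subgroup.ne_bot_iff_exists_ne_one).1 hne'
    have hu'1' : u' ≠ 1 := fun h => hu'1 (Subtype.ext h)
    have hz : U₁ = zpowers u := eq_zpowers_of_card_prime hcard hu hu1'
    have hz' : cj a U₁ = zpowers u' := eq_zpowers_of_card_prime hcard' hu' hu'1'
    -- the injection
    let f : ↥((A ⊔ cj x A) ⊓ Q : Subgroup G) →
        {w : ↥U₁ // w ≠ 1} × {w : ↥(cj a U₁) // w ≠ 1} := fun q =>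
      (⟨⟨q * u * (q : G)⁻¹, conj_mem_of_mem_normalizer (hn q.2) hu⟩, by
          intro h
          apply hu1'
          have h' : (q : G) * u * (q : G)⁻¹ = 1 := congrArg Subtype.val h
          have : u = (q : G)⁻¹ * ((q : G) * u * (q : G)⁻¹) * q := by group
          rw [this, h']; group⟩,
        ⟨⟨q * u' * (q : G)⁻¹, conj_mem_of_mem_normalizer (hn' q.2) hu'⟩, by
          intro h
          apply hu'1'
          have h' : (q : G) * u' * (q : G)⁻¹ = 1 := congrArg Subtype.val h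
          have : u' = (q : G)⁻¹ * ((q : G) * u' * (q : G)⁻¹) * q := by group
          rw [this, h']; group⟩)
    have hf : Function.Injective f := by
      intro q q' hqq
      have e1 : (q : G) * u * (q : G)⁻¹ = (q' : G) * u * (q' : G)⁻¹ := by
        have := congrArg (fun z => ((z.1 : ↥U₁) : G)) hqq
        exact this
      have e2 : (q : G) * u' * (q : G)⁻¹ = (q' : G) * u' * (q' : G)⁻¹ := by
        have := congrArg (fun z => ((z.2 : ↥(cj a U₁)) : G)) hqq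
        exact this
      -- c = q'⁻¹ q centralizes u and u'
      have hc : (q' : G)⁻¹ * q ∈
          (A ⊔ cj x A) ⊓ centralizer ((⁅V, A ⊔ cj x A⁆ : Subgroup G) : Set G) := by
        refine mem_inf.2 ⟨mul_mem (inv_mem (mem_inf.1 q'.2).1) (mem_inf.1 q.2).1, ?_⟩
        have hcu : zpowers u ≤ centralizer ({(q' : G)⁻¹ * q} : Set G) := by
          rw [zpowers_le, mem_centralizer_singleton_iff]
          have : (q' : G)⁻¹ * q * u = u * ((q' : G)⁻¹ * q) := by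
            calc (q' : G)⁻¹ * q * u = (q' : G)⁻¹ * ((q : G) * u * (q : G)⁻¹) * q := by group
              _ = (q' : G)⁻¹ * ((q' : G) * u * (q' : G)⁻¹) * q := by rw [e1]
              _ = u * ((q' : G)⁻¹ * q) := by group
          exact this.symm
        have hcu' : zpowers u' ≤ centralizer ({(q' : G)⁻¹ * q} : Set G) := by
          rw [zpowers_le, mem_centralizer_singleton_iff]
          have : (q' : G)⁻¹ * q * u' = u' * ((q' : G)⁻¹ * q) := by
            calc (q' : G)⁻¹ * q * u' = (q' : G)⁻¹ * ((q : G) * u' * (q : G)⁻¹) * q := by group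
              _ = (q' : G)⁻¹ * ((q' : G) * u' * (q' : G)⁻¹) * q := by rw [e2]
              _ = u' * ((q' : G)⁻¹ * q) := by group
          exact this.symm
        rw [← hsup, hz', hz, mem_centralizer_iff]
        intro w hw
        have hw' := (sup_le hcu hcu') hw
        exact mem_centralizer_singleton_iff.1 hw'
      rw [d.faithful, mem_bot] at hc
      apply Subtype.ext
      exact (inv_mul_eq_one.1 hc).symm
    have hle := Nat.card_le_card_of_injective f hf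
    rw [Nat.card_prod, natCard_ne_subtype, natCard_ne_subtype, hcard, hcard', d.card_Q0] at hle
    have h4 : 4 ≤ p ^ 2 := by nlinarith
    obtain ⟨k, rfl⟩ : ∃ k, p = k + 2 := ⟨p - 2, by omega⟩
    have e1 : (k + 2) ^ 2 - 1 = k * k + 4 * k + 3 := by
      have : (k + 2) ^ 2 = k * k + 4 * k + 4 := by ring
      omega
    have e2 : (k + 2 - 1) * (k + 2 - 1) = k * k + 2 * k + 1 := by
      have : k + 2 - 1 = k + 1 := by omega
      rw [this]; ring
    rw [e1, e2] at hle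
    omega


/-- Every line of `U` is the centre `[V, A']` of a conjugate `A' ≤ L` of `A`. -/
theorem exists_cj_with_center (d : PairData p V H Q T A x) {w : G}
    (hw : w ∈ ⁅V, A ⊔ cj x A⁆) (hw1 : w ≠ 1) :
    ∃ g ∈ Q ⊔ A, cj g A ≤ A ⊔ cj x A ∧ ⁅V, cj g A⁆ = zpowers w := by
  have htA := d.tvA
  have htB := d.tvB
  rw [d.U_eq] at hw
  obtain ⟨ua, hua, ub, hub, hweq⟩ :=
    exists_mul_of_mem_sup_abelian d.hF.vh (comm_le htA.norm) (comm_le htB.norm) hw
  by_cases hub1 : ub = 1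
  · rw [hub1, mul_one] at hweq
    refine ⟨1, one_mem _, ?_, ?_⟩
    · rw [cj_one]; exact le_sup_left
    · rw [cj_one]; exact htA.comm_eq_zpowers (hweq ▸ hua) hw1
  by_cases hua1 : ua = 1
  · rw [hua1, one_mul] at hweq
    exact ⟨x, mem_sup_left d.hx, le_sup_right, htB.comm_eq_zpowers (hweq ▸ hub) hw1⟩
  obtain ⟨⟨b, hb⟩, hb1⟩ := (Subgroup.ne_bot_iff_exists_ne_one).1 htB.ne_bot
  have hb1' : b ≠ 1 := fun h => hb1 (Subtype.ext h)
  have huaV : ua ∈ V := comm_le htA.norm hua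
  have hc : ua⁻¹ * (b * ua * b⁻¹) ∈ ⁅V, cj x A⁆ := commElt_mem huaV hb
  have hc1 : ua⁻¹ * (b * ua * b⁻¹) ≠ 1 := by
    intro h
    have h1 : b * ua * b⁻¹ = ua := (inv_mul_eq_one.1 h).symm
    have h2 := htB.mem_centralizer_of_conj_eq' hb hb1' h1
    apply d.not_PA_le
    rw [htA.comm_eq_zpowers hua hua1, zpowers_le]
    exact h2
  have hPB := htB.comm_eq_zpowers hc hc1
  rw [hPB] at hub
  obtain ⟨i, hi⟩ := exists_pow_eq_of_mem_zpowers hub
  have hconj := pow_conj_eq (htB.le_centralizer_comm hb) hc i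
  rw [hi, ← hweq] at hconj
  have hgB : b ^ i ∈ cj x A := pow_mem hb i
  have hgL : b ^ i ∈ A ⊔ cj x A := mem_sup_right hgB
  have hgV : b ^ i ∈ normalizer (V : Set G) := htB.norm hgB
  refine ⟨b ^ i, d.B_le_QA hgB, ?_, ?_⟩
  · have h1 := cj_mono (b ^ i) (le_sup_left : A ≤ A ⊔ cj x A)
    rwa [cj_eq_self_of_mem_normalizer (le_normalizer hgL)] at h1
  · rw [comm_cj hgV, htA.comm_eq_zpowers hua hua1, cj_zpowers, hconj]

theorem comm_Q0 (d : PairData p V H Q T A x) :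
    ⁅V, (A ⊔ cj x A) ⊓ Q⁆ = ⁅V, A ⊔ cj x A⁆ := by
  rcases d.irr_Q0 ⁅V, (A ⊔ cj x A) ⊓ Q⁆ (commutator_mono le_rfl inf_le_left)
    (normalizer_commutator_ge_right V _) with h | h
  · exfalso
    apply d.Q0_ne_bot
    rw [commutator_eq_bot_iff_le_centralizer, le_centralizer_iff] at h
    have h1 : (A ⊔ cj x A) ⊓ Q ≤ H ⊓ centralizer (V : Set G) :=
      le_inf (inf_le_left.trans d.L_le_H) h
    rw [d.hF.faith] at h1
    exact le_bot_iff.1 h1
  · exact h

/-- Every minimal offender normalizes `U`. -/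
theorem tv_le_normalizer_U (d : PairData p V H Q T A x) {B' : Subgroup G} (hB' : B' ∈ T) :
    B' ≤ normalizer ((⁅V, A ⊔ cj x A⁆ : Subgroup G) : Set G) := by
  have hF := d.hF
  have htB' := hF.tv B' hB'
  intro b hb
  apply mem_normalizer_of_cj_eq_self
  by_contra hne
  have hbH : b ∈ H := hF.le B' hB' hb
  have hbV : b ∈ normalizer (V : Set G) := hF.norm hbH
  -- `U' = [V, Q₀^b]` is `Q₀`-invariant
  have hU' : cj b ⁅V, A ⊔ cj x A⁆ = ⁅V, cj b ((A ⊔ cj x A) ⊓ Q)⁆ := by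
    rw [comm_cj hbV, d.comm_Q0]
  have hQn : Q ≤ normalizer ((cj b ((A ⊔ cj x A) ⊓ Q) : Subgroup G) : Set G) := by
    have h1 : Q ≤ normalizer (((A ⊔ cj x A) ⊓ Q : Subgroup G) : Set G) :=
      le_sup_left.trans d.QA_le_normalizer_Q0
    have h2 := cj_mono b h1
    rw [cj_eq_self_of_mem_normalizer (hF.Qnorm hbH)] at h2
    rw [cj_eq_scr] at h2 ⊢
    rwa [scr_normalizer] at h2
  have hQ0n : (A ⊔ cj x A) ⊓ Q ≤ normalizer ((cj b ⁅V, A ⊔ cj x A⁆ : Subgroup G) : Set G) := by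
    rw [hU']
    exact le_normalizer_commutator_of_le
      ((inf_le_left.trans d.L_le_H).trans hF.norm) (inf_le_right.trans hQn)
  have hQ0U : (A ⊔ cj x A) ⊓ Q ≤ normalizer ((⁅V, A ⊔ cj x A⁆ : Subgroup G) : Set G) :=
    inf_le_left.trans d.L_le_normalizer_U
  rcases d.irr_Q0 (⁅V, A ⊔ cj x A⁆ ⊓ cj b ⁅V, A ⊔ cj x A⁆) inf_le_left
    (le_normalizer_inf_of hQ0U hQ0n) with h | h
  · -- trivial intersection: too big
    have hUV := d.U_le
    have hU'V : cj b ⁅V, A ⊔ cj x A⁆ ≤ V := by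
      have := cj_mono b hUV
      rwa [cj_eq_self_of_mem_normalizer hbV] at this
    have h1 := Cfsg.Agent.Helper50.card_sup_mul_card_inf_of_le_normalizer
      (⁅V, A ⊔ cj x A⁆) (cj b ⁅V, A ⊔ cj x A⁆) (le_normalizer_of_le_abelian hF.vh hUV hU'V)
    rw [h, card_bot, mul_one, card_cj, d.card_U] at h1
    have h2 : ⁅V, A ⊔ cj x A⁆ ⊔ cj b ⁅V, A ⊔ cj x A⁆ ≤ ⁅V, A ⊔ cj x A⁆ ⊔ ⁅V, B'⁆ := by
      apply sup_le le_sup_left
      intro g hg
      rw [mem_cj] at hg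
      have hgV : b⁻¹ * g * b ∈ V := hUV hg
      have h3 := commElt_mem (K := B') hgV hb
      have e : g = (b⁻¹ * g * b) * ((b⁻¹ * g * b)⁻¹ * (b * (b⁻¹ * g * b) * b⁻¹)) := by group
      rw [e]
      exact mul_mem (mem_sup_left hg) (mem_sup_right h3)
    have h3 := Cfsg.Agent.Helper50.card_sup_mul_card_inf_of_le_normalizer
      (⁅V, A ⊔ cj x A⁆) (⁅V, B'⁆)
      (le_normalizer_of_le_abelian hF.vh hUV (comm_le htB'.norm))
    rw [d.card_U, htB'.cardP] at h3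
    have h4 := card_le_of_le h2
    rw [h1] at h4
    have hpos : 0 < Nat.card ↥(⁅V, A ⊔ cj x A⁆ ⊓ ⁅V, B'⁆ : Subgroup G) := Nat.card_pos
    have h5 : Nat.card ↥(⁅V, A ⊔ cj x A⁆ ⊔ ⁅V, B'⁆ : Subgroup G) ≤ p ^ 2 * p := by
      rw [← h3]
      exact Nat.le_mul_of_pos_right _ hpos
    have hp2 : 2 ≤ p := hp.out.two_le
    have h6 : p ^ 2 * p ^ 2 ≤ p ^ 2 * p := h4.trans h5
    have h7 : p ^ 2 ≤ p := Nat.le_of_mul_le_mul_left h6 (by positivity)
    nlinarith
  · apply hne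
    have hle : ⁅V, A ⊔ cj x A⁆ ≤ cj b ⁅V, A ⊔ cj x A⁆ := h.symm.le.trans inf_le_right
    exact (eq_of_le_of_card_ge hle (by rw [card_cj])).symm


theorem H_le_normalizer_U (d : PairData p V H Q T A x) :
    H ≤ normalizer ((⁅V, A ⊔ cj x A⁆ : Subgroup G) : Set G) :=
  d.hF.gen.trans (sSup_le fun _ hB' => d.tv_le_normalizer_U hB')

/-- An element centralizing a subgroup of order `p` of `U` and one element outside it
centralizes `U`. -/
theorem mem_centralizer_U_of (d : PairData p V H Q T A x) {P' : Subgroup G}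
    (hP'U : P' ≤ ⁅V, A ⊔ cj x A⁆) (hP' : Nat.card P' = p) {c u : G}
    (hcP : c ∈ centralizer (P' : Set G)) (hu : u ∈ ⁅V, A ⊔ cj x A⁆) (huP : u ∉ P')
    (hcu : c * u * c⁻¹ = u) : c ∈ centralizer ((⁅V, A ⊔ cj x A⁆ : Subgroup G) : Set G) := by
  have hS : ⁅V, A ⊔ cj x A⁆ ⊓ centralizer (zpowers c : Set G) = ⁅V, A ⊔ cj x A⁆ := by
    apply eq_of_prime_sq d.card_U hP' (le_inf hP'U _) inf_le_left (u := u) _ huP
    · rw [le_centralizer_iff, zpowers_le]; exact hcP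
    · refine mem_inf.2 ⟨hu, ?_⟩
      have : zpowers c ≤ centralizer ({u} : Set G) := by
        rw [zpowers_le, mem_centralizer_singleton_iff]
        calc c * u = (c * u * c⁻¹) * c := by group
          _ = u * c := by rw [hcu]
      rw [mem_centralizer_iff]
      intro g hg
      exact mem_centralizer_singleton_iff.1 (this hg)
  have h1 : ⁅V, A ⊔ cj x A⁆ ≤ centralizer (zpowers c : Set G) := hS.symm.le.trans inf_le_right
  exact (le_centralizer_iff.1 h1) (mem_zpowers c)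

/-- Every minimal offender lies in `L · C_H(U)`. -/
theorem tv_le_L_sup_C (d : PairData p V H Q T A x) {B' : Subgroup G} (hB' : B' ∈ T) :
    B' ≤ (A ⊔ cj x A) ⊔ (H ⊓ centralizer ((⁅V, A ⊔ cj x A⁆ : Subgroup G) : Set G)) := by
  have hF := d.hF
  have htB' := hF.tv B' hB'
  intro b hb
  have hbH : b ∈ H := hF.le B' hB' hb
  have hbU := d.tv_le_normalizer_U hB' hb
  by_cases hbc : b ∈ centralizer ((⁅V, A ⊔ cj x A⁆ : Subgroup G) : Set G)
  · exact mem_sup_right (mem_inf.2 ⟨hbH, hbc⟩)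
  -- `b` moves some `u ∈ U`
  have : ∃ u ∈ ⁅V, A ⊔ cj x A⁆, b * u * b⁻¹ ≠ u := by
    by_contra hcon
    apply hbc
    apply mem_centralizer_of_conj_eq
    intro u hu
    by_contra hne
    exact hcon ⟨u, hu, hne⟩
  obtain ⟨u, hu, hub⟩ := this
  have hw : u⁻¹ * (b * u * b⁻¹) ∈ ⁅V, B'⁆ := commElt_mem (d.U_le hu) hb
  have hwU : u⁻¹ * (b * u * b⁻¹) ∈ ⁅V, A ⊔ cj x A⁆ :=
    mul_mem (inv_mem hu) (conj_mem_of_mem_normalizer hbU hu)
  have hw1 : u⁻¹ * (b * u * b⁻¹) ≠ 1 := fun h => hub (inv_mul_eq_one.1 h).symm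
  have hP' := htB'.comm_eq_zpowers hw hw1
  have hP'U : ⁅V, B'⁆ ≤ ⁅V, A ⊔ cj x A⁆ := by rw [hP', zpowers_le]; exact hwU
  -- a conjugate `A'` of `A` in `L` with the same centre
  obtain ⟨g, hg, hgL, hgP⟩ := d.exists_cj_with_center hwU hw1
  rw [← hP'] at hgP
  have hgV : g ∈ normalizer (V : Set G) := hF.norm (hF.QA_le d.hA hg)
  have htA' : Tv p V (cj g A) := d.tvA.cj hgV
  obtain ⟨⟨a', ha'⟩, ha'1⟩ := (Subgroup.ne_bot_iff_exists_ne_one).1 htA'.ne_bot
  have ha'1' : a' ≠ 1 := fun h => ha'1 (Subtype.ext h)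
  have ha'L : a' ∈ A ⊔ cj x A := hgL ha'
  -- an element of `U` outside `P'`
  have hlt : ⁅V, B'⁆ < ⁅V, A ⊔ cj x A⁆ := by
    refine lt_of_le_of_ne hP'U ?_
    intro h
    have h1 := d.card_U
    rw [← h, htB'.cardP] at h1
    have hp2 : 2 ≤ p := hp.out.two_le
    nlinarith
  obtain ⟨u₂, hu₂, hu₂P⟩ := SetLike.exists_of_lt hlt
  have hu₂V : u₂ ∈ V := d.U_le hu₂
  have hwb : u₂⁻¹ * (b * u₂ * b⁻¹) ∈ ⁅V, B'⁆ := commElt_mem hu₂V hb
  have hwa : u₂⁻¹ * (a' * u₂ * a'⁻¹) ∈ ⁅V, cj g A⁆ := commElt_mem hu₂V ha'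
  have ha'c : a' ∈ centralizer ((⁅V, B'⁆ : Subgroup G) : Set G) := by
    rw [← hgP]; exact htA'.le_centralizer_comm ha'
  have hbc' : b ∈ centralizer ((⁅V, B'⁆ : Subgroup G) : Set G) := htB'.le_centralizer_comm hb
  have hwa1 : u₂⁻¹ * (a' * u₂ * a'⁻¹) ≠ 1 := by
    intro h
    have h1 : a' * u₂ * a'⁻¹ = u₂ := (inv_mul_eq_one.1 h).symm
    have h2 := d.mem_centralizer_U_of hP'U htB'.cardP ha'c hu₂ hu₂P h1
    have h3 : a' ∈ (A ⊔ cj x A) ⊓ centralizer ((⁅V, A ⊔ cj x A⁆ : Subgroup G) : Set G) :=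
      mem_inf.2 ⟨ha'L, h2⟩
    rw [d.faithful, mem_bot] at h3
    exact ha'1' h3
  rw [hgP] at hwa
  have hz := htB'.comm_eq_zpowers hwa hwa1
  rw [hz] at hwb
  obtain ⟨i, hi⟩ := exists_pow_eq_of_mem_zpowers hwb
  have hconj := pow_conj_eq ha'c hwa i
  rw [hi] at hconj
  -- hconj : a'^i u₂ a'^-i = u₂ * (u₂⁻¹ * (b u₂ b⁻¹))
  have hconj' : a' ^ i * u₂ * (a' ^ i)⁻¹ = b * u₂ * b⁻¹ := by
    rw [hconj]; group
  have hcH : (a' ^ i)⁻¹ * b ∈ H := mul_mem (inv_mem (pow_mem (d.L_le_H ha'L) i)) hbH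
  have hcc : (a' ^ i)⁻¹ * b ∈ centralizer ((⁅V, A ⊔ cj x A⁆ : Subgroup G) : Set G) := by
    apply d.mem_centralizer_U_of hP'U htB'.cardP _ hu₂ hu₂P
    · calc (a' ^ i)⁻¹ * b * u₂ * ((a' ^ i)⁻¹ * b)⁻¹
          = (a' ^ i)⁻¹ * (b * u₂ * b⁻¹) * (a' ^ i) := by group
        _ = (a' ^ i)⁻¹ * (a' ^ i * u₂ * (a' ^ i)⁻¹) * (a' ^ i) := by rw [hconj']
        _ = u₂ := by group
    · exact mul_mem (inv_mem (pow_mem ha'c i)) hbc'
  have e : b = a' ^ i * ((a' ^ i)⁻¹ * b) := by group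
  rw [e]
  exact mul_mem (mem_sup_left (pow_mem ha'L i)) (mem_sup_right (mem_inf.2 ⟨hcH, hcc⟩))

end PairData

end Cfsg.Agent.Helper49.FF
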