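import Mathlib
import Cfsg.Agent.Helper49.FFSplit
import Cfsg.Agent.Helper87.FusionSolv2

set_option autoImplicit false
set_option linter.unusedSectionVars false

/-!
FF-module setting (KS 9.3), the splitting `H = L × C_H(U)` (helper49).
-/

namespace Cfsg.Agent.Helper49.FF

open Cfsg Subgroup Cfsg.Agent.Helper49 Cfsg.Agent.Helper49.JComp Cfsg.Agent.Helper49.SubIrr
open scoped commutatorElement

variable {G : Type*} [Group G] {p : ℕ}

theorem conj_pow_eq_of_conj_eq {g h : G} {U : Subgroup G} (hU : ∀ u ∈ U, h * u * h⁻¹ ∈ U)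
    (heq : ∀ u ∈ U, g * u * g⁻¹ = h * u * h⁻¹) (k : ℕ) :
    ∀ u ∈ U, g ^ k * u * (g ^ k)⁻¹ = h ^ k * u * (h ^ k)⁻¹ := by
  induction k with
  | zero => intro u _; simp
  | succ k ih =>
    intro u hu
    have h1 : h * u * h⁻¹ ∈ U := hU u hu
    calc g ^ (k + 1) * u * (g ^ (k + 1))⁻¹ = g ^ k * (g * u * g⁻¹) * (g ^ k)⁻¹ := by
          rw [pow_succ]; group
      _ = g ^ k * (h * u * h⁻¹) * (g ^ k)⁻¹ := by rw [heq u hu]
      _ = h ^ k * (h * u * h⁻¹) * (h ^ k)⁻¹ := ih _ h1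
      _ = h ^ (k + 1) * u * (h ^ (k + 1))⁻¹ := by rw [pow_succ]; group

namespace PairData

variable [Finite G] [hp : Fact p.Prime] {V H Q : Subgroup G} {T : Set (Subgroup G)}
  {A : Subgroup G} {x : G}

theorem C_le_H (_d : PairData p V H Q T A x) :
    H ⊓ centralizer ((⁅V, A ⊔ cj x A⁆ : Subgroup G) : Set G) ≤ H := inf_le_left

theorem H_le_normalizer_C (d : PairData p V H Q T A x) :
    H ≤ normalizer ((H ⊓ centralizer ((⁅V, A ⊔ cj x A⁆ : Subgroup G) : Set G) : Subgroup G) :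
      Set G) :=
  le_normalizer_inf_of le_normalizer
    (d.H_le_normalizer_U.trans (normalizer_le_normalizer_centralizer _))

theorem L_sup_C (d : PairData p V H Q T A x) :
    (A ⊔ cj x A) ⊔ (H ⊓ centralizer ((⁅V, A ⊔ cj x A⁆ : Subgroup G) : Set G)) = H := by
  apply le_antisymm
  · exact sup_le d.L_le_H inf_le_left
  · exact d.hF.gen.trans (sSup_le fun _ hB' => d.tv_le_L_sup_C hB')

theorem L_inf_C (d : PairData p V H Q T A x) :
    (A ⊔ cj x A) ⊓ (H ⊓ centralizer ((⁅V, A ⊔ cj x A⁆ : Subgroup G) : Set G)) = ⊥ := by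
  rw [eq_bot_iff, ← d.faithful]
  exact inf_le_inf_left _ inf_le_right

/-- `Q = Q₀ · C_Q(U)`. -/
theorem exists_mul_Q (d : PairData p V H Q T A x) {q : G} (hq : q ∈ Q) :
    ∃ q₀ ∈ (A ⊔ cj x A) ⊓ Q, ∃ c ∈ Q ⊓ centralizer ((⁅V, A ⊔ cj x A⁆ : Subgroup G) : Set G),
      q = q₀ * c := by
  have hF := d.hF
  have hqH : q ∈ (A ⊔ cj x A) ⊔ (H ⊓ centralizer ((⁅V, A ⊔ cj x A⁆ : Subgroup G) : Set G)) := by
    rw [d.L_sup_C]; exact hF.QH hq
  have hcoe := Subgroup.coe_mul_of_left_le_normalizer_right (A ⊔ cj x A)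
    (H ⊓ centralizer ((⁅V, A ⊔ cj x A⁆ : Subgroup G) : Set G))
    (d.L_le_H.trans d.H_le_normalizer_C)
  have hq' : q ∈ (((A ⊔ cj x A) ⊔ (H ⊓ centralizer ((⁅V, A ⊔ cj x A⁆ : Subgroup G) : Set G)) :
      Subgroup G) : Set G) := hqH
  rw [hcoe, Set.mem_mul] at hq'
  obtain ⟨l, hl, c, hc, hlc⟩ := hq'
  obtain ⟨q₀, hq₀, a', ha', rfl⟩ := d.exists_mul_L hl
  have hcU := (mem_inf.1 hc).2
  -- q' = q₀⁻¹ q = a' c ∈ Q
  have hq'Q : a' * c ∈ Q := by
    have : a' * c = q₀⁻¹ * q := by rw [← hlc]; group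
    rw [this]; exact mul_mem (inv_mem (mem_inf.1 hq₀).2) hq
  -- a' and a' c act in the same way on U
  have ha'L : a' ∈ A ⊔ cj x A := mem_sup_left ha'
  have hact : ∀ u ∈ ⁅V, A ⊔ cj x A⁆, (a' * c) * u * (a' * c)⁻¹ = a' * u * a'⁻¹ := by
    intro u hu
    have := conj_eq_of_mem_centralizer hcU hu
    calc (a' * c) * u * (a' * c)⁻¹ = a' * (c * u * c⁻¹) * a'⁻¹ := by group
      _ = a' * u * a'⁻¹ := by rw [this]
  have hinv : ∀ u ∈ ⁅V, A ⊔ cj x A⁆, a' * u * a'⁻¹ ∈ ⁅V, A ⊔ cj x A⁆ := fun u hu =>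
    conj_mem_of_mem_normalizer (d.L_le_normalizer_U ha'L) hu
  have hpow := conj_pow_eq_of_conj_eq hinv hact (orderOf (a' * c))
  have ha'm : a' ^ orderOf (a' * c) = 1 := by
    have h1 : a' ^ orderOf (a' * c) ∈
        (A ⊔ cj x A) ⊓ centralizer ((⁅V, A ⊔ cj x A⁆ : Subgroup G) : Set G) := by
      refine mem_inf.2 ⟨pow_mem ha'L _, ?_⟩
      apply mem_centralizer_of_conj_eq
      intro u hu
      rw [← hpow u hu, pow_orderOf_eq_one]
      simp
    rw [d.faithful, mem_bot] at h1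
    exact h1
  have ha'p : a' ^ p = 1 := by
    have h1 : (⟨a', ha'⟩ : A) ^ Nat.card A = 1 := pow_card_eq_one'
    rw [d.tvA.cardA] at h1
    exact congrArg Subtype.val h1
  have hcop : (orderOf (a' * c)).Coprime p :=
    Nat.Coprime.coprime_dvd_left (Subgroup.orderOf_dvd_natCard Q hq'Q) hF.Qcop
  have ha'1 : a' = 1 := by
    have := pow_gcd_eq_one.2 ⟨ha'm, ha'p⟩
    rwa [hcop, pow_one] at this
  subst ha'1
  rw [mul_one] at hlc
  rw [one_mul] at hq'Q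
  exact ⟨q₀, hq₀, c, mem_inf.2 ⟨hq'Q, hcU⟩, hlc.symm⟩


/-- `C_H(U)` normalizes `Q₀`. -/
theorem C_le_normalizer_Q0 (d : PairData p V H Q T A x) :
    H ⊓ centralizer ((⁅V, A ⊔ cj x A⁆ : Subgroup G) : Set G) ≤
      normalizer (((A ⊔ cj x A) ⊓ Q : Subgroup G) : Set G) := by
  have hF := d.hF
  apply le_normalizer_of_conj_mem
  intro c hc q₀ hq₀
  obtain ⟨hcH, hcU⟩ := mem_inf.1 hc
  have hcQ : c * q₀ * c⁻¹ ∈ Q := conj_mem_of_mem_normalizer (hF.Qnorm hcH) (mem_inf.1 hq₀).2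
  obtain ⟨q₁, hq₁, qc, hqc, e⟩ := d.exists_mul_Q hcQ
  -- qc = q₁⁻¹ (c q₀ c⁻¹) acts trivially on U and on V/U
  have hcV : c ∈ normalizer (V : Set G) := hF.norm hcH
  have hcNU : c ∈ normalizer ((⁅V, A ⊔ cj x A⁆ : Subgroup G) : Set G) := d.H_le_normalizer_U hcH
  have hQ0V : (A ⊔ cj x A) ⊓ Q ≤ normalizer (V : Set G) :=
    (inf_le_left.trans d.L_le_H).trans hF.norm
  have hcjV : cj c ((A ⊔ cj x A) ⊓ Q) ≤ normalizer (V : Set G) := by
    intro g hg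
    rw [mem_cj] at hg
    have e : g = c * (c⁻¹ * g * c) * c⁻¹ := by group
    rw [e]
    exact mul_mem (mul_mem hcV (hQ0V hg)) (inv_mem hcV)
  have hX : ⁅V, (A ⊔ cj x A) ⊓ Q ⊔ cj c ((A ⊔ cj x A) ⊓ Q)⁆ = ⁅V, A ⊔ cj x A⁆ := by
    rw [comm_sup_eq hQ0V hcjV, comm_cj hcV, d.comm_Q0, cj_eq_self_of_mem_normalizer hcNU,
      sup_idem]
  have hqcX : qc ∈ (A ⊔ cj x A) ⊓ Q ⊔ cj c ((A ⊔ cj x A) ⊓ Q) := by
    have : qc = q₁⁻¹ * (c * q₀ * c⁻¹) := by rw [e]; group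
    rw [this]
    exact mul_mem (mem_sup_left (inv_mem hq₁)) (mem_sup_right (conj_mem_cj hq₀))
  have hqcp : qc ^ p ∈ centralizer (V : Set G) := by
    apply pow_p_mem_centralizer (W := ⁅V, A ⊔ cj x A⁆)
    · intro w hw; exact hF.vh.exp w (d.U_le hw)
    · exact (mem_inf.1 hqc).2
    · intro v hv
      rw [← hX]
      exact commElt_mem hv hqcX
  have hqc1 : qc = 1 := by
    apply hF.eq_one_of_mem_Q (mem_inf.1 hqc).1 (k := 1)
    rw [pow_one]
    have : qc ^ p ∈ H ⊓ centralizer (V : Set G) :=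
      mem_inf.2 ⟨pow_mem (hF.QH (mem_inf.1 hqc).1) p, hqcp⟩
    rwa [hF.faith, mem_bot] at this
  rw [hqc1, mul_one] at e
  rw [e]; exact hq₁

theorem H_le_normalizer_Q0 (d : PairData p V H Q T A x) :
    H ≤ normalizer (((A ⊔ cj x A) ⊓ Q : Subgroup G) : Set G) := by
  rw [← d.L_sup_C]
  exact sup_le (d.L_le_QA.trans d.QA_le_normalizer_Q0) d.C_le_normalizer_Q0

/-- `C_V(Q₀) = C_V(L)`. -/
theorem fix_Q0 (d : PairData p V H Q T A x) :
    V ⊓ centralizer (((A ⊔ cj x A) ⊓ Q : Subgroup G) : Set G) =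
      V ⊓ centralizer ((A ⊔ cj x A : Subgroup G) : Set G) := by
  apply le_antisymm
  · intro v hv
    obtain ⟨hvV, hvC⟩ := mem_inf.1 hv
    have hvs : v ∈ ⁅V, A ⊔ cj x A⁆ ⊔ (V ⊓ centralizer ((A ⊔ cj x A : Subgroup G) : Set G)) := by
      rw [d.U_sup_fix]; exact hvV
    obtain ⟨u, hu, v', hv', rfl⟩ :=
      exists_mul_of_mem_sup_abelian d.hF.vh d.U_le inf_le_left hvs
    have hv'C : v' ∈ centralizer (((A ⊔ cj x A) ⊓ Q : Subgroup G) : Set G) :=
      centralizer_le (by intro g hg; exact (mem_inf.1 hg).1) (mem_inf.1 hv').2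
    have huC : u ∈ centralizer (((A ⊔ cj x A) ⊓ Q : Subgroup G) : Set G) := by
      have : u = (u * v') * v'⁻¹ := by group
      rw [this]; exact mul_mem hvC (inv_mem hv'C)
    -- U ∩ C(Q₀) is Q₀-invariant, hence trivial
    have hQ0U : (A ⊔ cj x A) ⊓ Q ≤ normalizer ((⁅V, A ⊔ cj x A⁆ : Subgroup G) : Set G) :=
      inf_le_left.trans d.L_le_normalizer_U
    have hQ0C : (A ⊔ cj x A) ⊓ Q ≤
        normalizer ((centralizer (((A ⊔ cj x A) ⊓ Q : Subgroup G) : Set G) : Subgroup G) : Set G) :=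
      le_normalizer.trans (normalizer_le_normalizer_centralizer _)
    rcases d.irr_Q0 (⁅V, A ⊔ cj x A⁆ ⊓ centralizer (((A ⊔ cj x A) ⊓ Q : Subgroup G) : Set G))
      inf_le_left (le_normalizer_inf_of hQ0U hQ0C) with h | h
    · have hu1 : u ∈ (⊥ : Subgroup G) := by rw [← h]; exact mem_inf.2 ⟨hu, huC⟩
      rw [mem_bot] at hu1
      rw [hu1, one_mul]; exact hv'
    · exfalso
      apply d.Q0_ne_bot
      have h1 : ⁅V, A ⊔ cj x A⁆ ≤ centralizer (((A ⊔ cj x A) ⊓ Q : Subgroup G) : Set G) :=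
        h.symm.le.trans inf_le_right
      have h2 : (A ⊔ cj x A) ⊓ Q ≤
          (A ⊔ cj x A) ⊓ centralizer ((⁅V, A ⊔ cj x A⁆ : Subgroup G) : Set G) :=
        le_inf inf_le_left (le_centralizer_iff.1 h1)
      rw [d.faithful] at h2
      exact le_bot_iff.1 h2
  · exact inf_le_inf_left _ (centralizer_le (by intro g hg; exact (mem_inf.1 hg).1))

theorem H_le_normalizer_fix (d : PairData p V H Q T A x) :
    H ≤ normalizer ((V ⊓ centralizer ((A ⊔ cj x A : Subgroup G) : Set G) : Subgroup G) : Set G) := by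
  rw [← d.fix_Q0]
  exact le_normalizer_inf_of d.hF.norm
    (d.H_le_normalizer_Q0.trans (normalizer_le_normalizer_centralizer _))

/-- `[L, C_H(U)] = 1`. -/
theorem comm_L_C (d : PairData p V H Q T A x) :
    ⁅A ⊔ cj x A, H ⊓ centralizer ((⁅V, A ⊔ cj x A⁆ : Subgroup G) : Set G)⁆ = ⊥ := by
  have hF := d.hF
  -- C' = C_H(V₀)
  have hC'n : H ≤ normalizer ((H ⊓ centralizer
      ((V ⊓ centralizer ((A ⊔ cj x A : Subgroup G) : Set G) : Subgroup G) : Set G) : Subgroup G) :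
        Set G) :=
    le_normalizer_inf_of le_normalizer
      (d.H_le_normalizer_fix.trans (normalizer_le_normalizer_centralizer _))
  have hLC' : A ⊔ cj x A ≤ H ⊓ centralizer
      ((V ⊓ centralizer ((A ⊔ cj x A : Subgroup G) : Set G) : Subgroup G) : Set G) :=
    le_inf d.L_le_H (le_centralizer_iff.1 inf_le_right)
  have hinf : (H ⊓ centralizer
      ((V ⊓ centralizer ((A ⊔ cj x A : Subgroup G) : Set G) : Subgroup G) : Set G)) ⊓
      (H ⊓ centralizer ((⁅V, A ⊔ cj x A⁆ : Subgroup G) : Set G)) = ⊥ := by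
    rw [eq_bot_iff, ← hF.faith]
    intro g hg
    obtain ⟨hg1, hg2⟩ := mem_inf.1 hg
    refine mem_inf.2 ⟨(mem_inf.1 hg1).1, ?_⟩
    have h1 : ⁅V, A ⊔ cj x A⁆ ⊔ (V ⊓ centralizer ((A ⊔ cj x A : Subgroup G) : Set G)) ≤
        centralizer (zpowers g : Set G) := by
      apply sup_le
      · rw [le_centralizer_iff, zpowers_le]; exact (mem_inf.1 hg2).2
      · rw [le_centralizer_iff, zpowers_le]; exact (mem_inf.1 hg1).2
    rw [d.U_sup_fix] at h1
    exact (le_centralizer_iff.1 h1) (mem_zpowers g)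
  rw [eq_bot_iff, ← hinf]
  apply le_inf
  · exact (commutator_mono hLC' le_rfl).trans (comm_le (inf_le_left.trans hC'n))
  · rw [commutator_comm]
    exact comm_le (d.L_le_H.trans d.H_le_normalizer_C)

/-- `[V, C_H(U)] ≤ C_V(L)`. -/
theorem comm_V_C (d : PairData p V H Q T A x) :
    ⁅V, H ⊓ centralizer ((⁅V, A ⊔ cj x A⁆ : Subgroup G) : Set G)⁆ ≤
      V ⊓ centralizer ((A ⊔ cj x A : Subgroup G) : Set G) := by
  have hF := d.hF
  have h1 : ⁅⁅V, A ⊔ cj x A⁆, H ⊓ centralizer ((⁅V, A ⊔ cj x A⁆ : Subgroup G) : Set G)⁆ ≤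
      V ⊓ centralizer ((A ⊔ cj x A : Subgroup G) : Set G) := by
    have : ⁅⁅V, A ⊔ cj x A⁆, H ⊓ centralizer ((⁅V, A ⊔ cj x A⁆ : Subgroup G) : Set G)⁆ = ⊥ := by
      rw [commutator_eq_bot_iff_le_centralizer, le_centralizer_iff]
      exact inf_le_right
    rw [this]; exact bot_le
  have h2 : ⁅V ⊓ centralizer ((A ⊔ cj x A : Subgroup G) : Set G),
      H ⊓ centralizer ((⁅V, A ⊔ cj x A⁆ : Subgroup G) : Set G)⁆ ≤
      V ⊓ centralizer ((A ⊔ cj x A : Subgroup G) : Set G) :=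
    comm_le (inf_le_left.trans d.H_le_normalizer_fix)
  have h3 := Cfsg.Agent.Helper87.commutator_sup_le h1 h2
    (le_normalizer_of_le_abelian hF.vh d.U_le inf_le_left) le_normalizer
  rwa [d.U_sup_fix] at h3

end PairData

end Cfsg.Agent.Helper49.FF
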