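import Mathlib
import Cfsg.Agent.Helper49.FFSplit2
import Cfsg.Agent.S0611
import Cfsg.Agent.S0612
import Cfsg.Agent.S0613
import Cfsg.Agent.Helper10.Thompson

set_option autoImplicit false

/-!
The FF-module setting of KS 9.3 built from the hypotheses of statements S0613–S0617 (helper49).
-/

namespace Cfsg.Agent.Helper49.FF

open Cfsg Subgroup Cfsg.Agent.Helper49 Cfsg.Agent.Helper49.JComp Cfsg.Agent.Helper49.SubIrr
open scoped commutatorElement

variable {G : Type*} [Group G] {p : ℕ}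

/-- The minimal nontrivially acting best offenders contained in `H`. -/
def minOffenders (p : ℕ) (V H : Subgroup G) : Set (Subgroup G) :=
  {A | A ≤ H ∧ Cfsg.IsBestOffenderOn p V A ∧ ⁅V, A⁆ ≠ ⊥ ∧
    ∀ B : Subgroup G, B ≤ A → Cfsg.IsBestOffenderOn p V B → ⁅V, B⁆ ≠ ⊥ → B = A}

theorem setting_of_hyps [Finite G] [Fact p.Prime] (V H : Subgroup G)
    (hV : Cfsg.IsElementaryAbelian p V) (hHV : H ≤ Subgroup.normalizer (V : Set G))
    (hf : H ⊓ Subgroup.centralizer (V : Set G) = ⊥)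
    (hS1 : Subgroup.centralizer (Cfsg.pPrimeCore p ↥H : Set ↥H) ≤ Cfsg.pPrimeCore p ↥H)
    (hS3 : H = ⨆ A : {A : Subgroup G // A ≤ H ∧ Cfsg.IsBestOffenderOn p V A}, (A : Subgroup G))
    (hH1 : H ≠ ⊥) :
    Setting p V H ((Cfsg.pPrimeCore p ↥H).map H.subtype) (minOffenders p V H) := by
  have hp : p.Prime := Fact.out
  have hS := Cfsg.Agent.Helper11.ffSetting_of_hyps V H hV hHV hf hS1
  have hV' := (Cfsg.Agent.Helper10.isElementaryAbelian_iff).1 hV
  refine
    { vh := ⟨hV'.1, hV'.2⟩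
      norm := hHV
      faith := hf
      QH := hS.QH
      Qnorm := hS.normQ
      Qcop := ((Nat.Prime.coprime_iff_not_dvd hp).2 hS.pQ).symm
      Qself := ?_
      gen := ?_
      le := fun A hA => hA.1
      tv := ?_
      pair := ?_ }
  · intro h hh
    obtain ⟨hhH, hhC⟩ := mem_inf.1 hh
    apply hS.selfC h hhH
    intro x hx
    exact ((mem_centralizer_iff.1 hhC) x hx).symm
  · refine hS3.le.trans (iSup_le ?_)
    rintro ⟨B, hBH, hB⟩
    by_cases hB1 : B = ⊥
    · simp [hB1]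
    · obtain ⟨k, C, hC, -, hsup⟩ :=
        Cfsg.Agent.S0612.result V H hV hHV hf hS1 hS3 hH1 B hBH hB hB1
      show B ≤ sSup (minOffenders p V H)
      rw [← hsup]
      apply iSup_le
      intro i
      apply le_sSup
      obtain ⟨h1, h2, h3, h4⟩ := hC i
      exact ⟨h1.trans hBH, h2, h3, h4⟩
  · rintro A ⟨hAH, hA, hAV, hmin⟩
    obtain ⟨h1, h2, h3⟩ := Cfsg.Agent.S0611.result V H hV hHV hf hS1 hS3 hH1 A hAH hA hAV hmin
    exact ⟨hAH.trans hHV, h1, h2, h3⟩
  · rintro A ⟨hAH, hA, hAV, hmin⟩ x hx hxc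
    exact Cfsg.Agent.S0613.result V H hV hHV hf hS1 hS3 hH1 A hAH hA hAV hmin x hx hxc

end Cfsg.Agent.Helper49.FF
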