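import Mathlib
import Cfsg.Agent.Helper1.ShultDefs
import Cfsg.Agent.Helper48.CoprimeGen
import Cfsg.Agent.Helper81.RealP1
import Cfsg.Agent.Helper11.ShultL

/-!
# Shult's theorem for `S₃` (S4305), piece (T): the chief factor step from the faithful core
(helper49 for helper1).  Transport to the model `V ⋊ H ⧸ C_G(V)`.
-/

set_option autoImplicit false
set_option linter.style.haveILetI false

namespace Cfsg.Agent.Helper49.ShultT

open Subgroup Cfsg.Agent.Helper1.Shult

universe u

section model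

variable {H : Type u} [Group H] (V C : Subgroup H) [hVn : V.Normal] [hCn : C.Normal]

/-- the action of `H ⧸ C` on `V` by conjugation, for `C ≤ C_H(V)`. -/
noncomputable def actHom (hC : C ≤ centralizer (V : Set H)) : H ⧸ C →* MulAut V :=
  QuotientGroup.lift C (MulAut.conjNormal (H := V)) (by
    intro c hc
    rw [MonoidHom.mem_ker]
    ext v
    have h1 : (v : H) * c = c * v := mem_centralizer_iff.mp (hC hc) v v.2
    rw [MulAut.conjNormal_apply, MulAut.one_apply]
    calc c * (v : H) * c⁻¹ = ((v : H) * c) * c⁻¹ := by rw [h1]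
      _ = v := by group)

/-- the model group `V ⋊ H ⧸ C`. -/
abbrev Gam (hC : C ≤ centralizer (V : Set H)) : Type u := ↥V ⋊[actHom V C hC] (H ⧸ C)

/-- the projection `H → V ⋊ H ⧸ C`. -/
noncomputable def proj (hC : C ≤ centralizer (V : Set H)) : H →* Gam V C hC :=
  (SemidirectProduct.inr).comp (QuotientGroup.mk' C)

/-- the embedding `V → V ⋊ H ⧸ C`. -/
noncomputable def emb (hC : C ≤ centralizer (V : Set H)) : ↥V →* Gam V C hC :=
  SemidirectProduct.inl

variable {V C}
variable (hC : C ≤ centralizer (V : Set H))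

theorem emb_injective : Function.Injective (emb V C hC) := SemidirectProduct.inl_injective

theorem proj_eq_one_iff (h : H) : proj V C hC h = 1 ↔ h ∈ C := by
  unfold proj
  rw [MonoidHom.comp_apply, ← map_one (SemidirectProduct.inr : H ⧸ C →* Gam V C hC),
    SemidirectProduct.inr_inj, QuotientGroup.mk'_apply, QuotientGroup.eq_one_iff]

theorem ker_proj : (proj V C hC).ker = C := by
  ext h
  rw [MonoidHom.mem_ker, proj_eq_one_iff]

theorem proj_conj_emb (h : H) (v : V) :
    proj V C hC h * emb V C hC v * (proj V C hC h)⁻¹ =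
      emb V C hC ⟨h * v * h⁻¹, hVn.conj_mem v v.2 h⟩ := by
  unfold proj emb
  rw [MonoidHom.comp_apply, ← map_inv, ← SemidirectProduct.inl_aut]
  congr 1

theorem range_emb_normal : (emb V C hC).range.Normal := by
  unfold emb
  rw [SemidirectProduct.range_inl_eq_ker_rightHom]
  infer_instance

theorem finite_gam [Finite H] : Finite (Gam V C hC) :=
  Finite.of_equiv _ SemidirectProduct.equivProd.symm

theorem emb_commute_proj_iff (h : H) (v : V) :
    emb V C hC v * proj V C hC h = proj V C hC h * emb V C hC v ↔ h * (v : H) * h⁻¹ = v := by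
  constructor
  · intro hcm
    have h1 : proj V C hC h * emb V C hC v * (proj V C hC h)⁻¹ = emb V C hC v := by
      rw [← hcm]; group
    rw [proj_conj_emb] at h1
    have := emb_injective hC h1
    exact congrArg Subtype.val this
  · intro hcm
    have h1 : proj V C hC h * emb V C hC v * (proj V C hC h)⁻¹ = emb V C hC v := by
      rw [proj_conj_emb]
      congr 1
      exact Subtype.ext hcm
    calc emb V C hC v * proj V C hC h
        = (proj V C hC h * emb V C hC v * (proj V C hC h)⁻¹) * proj V C hC h := by rw [h1]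
      _ = proj V C hC h * emb V C hC v := by group

end model

section aux

variable {H : Type u} [Group H]

/-- an abelian minimal normal subgroup has prime exponent. -/
theorem exists_prime_exponent [Finite H] (V : Subgroup H) (hVn : V.Normal) (hV1 : V ≠ ⊥)
    (hmin : ∀ U : Subgroup H, U.Normal → U ≤ V → U = ⊥ ∨ U = V)
    (hab : ∀ u ∈ V, ∀ v ∈ V, u * v = v * u) :
    ∃ q : ℕ, q.Prime ∧ q ∣ Nat.card V ∧ ∀ y ∈ V, y ^ q = 1 := by
  have hcard : Nat.card V ≠ 1 := fun h => hV1 (Subgroup.card_eq_one.mp h)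
  obtain ⟨q, hq, hqd⟩ := Nat.exists_prime_and_dvd hcard
  haveI : Fact q.Prime := ⟨hq⟩
  obtain ⟨x, hx⟩ := exists_prime_orderOf_dvd_card' q hqd
  let Ω : Subgroup H :=
    { carrier := {y | y ∈ V ∧ y ^ q = 1}
      mul_mem' := by
        rintro y z ⟨hy, hy1⟩ ⟨hz, hz1⟩
        refine ⟨V.mul_mem hy hz, ?_⟩
        have hc : Commute y z := hab y hy z hz
        rw [hc.mul_pow, hy1, hz1, one_mul]
      one_mem' := ⟨V.one_mem, one_pow _⟩
      inv_mem' := by
        rintro y ⟨hy, hy1⟩
        exact ⟨V.inv_mem hy, by rw [inv_pow, hy1, inv_one]⟩ }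
  have hΩV : Ω ≤ V := fun y hy => hy.1
  have hΩn : Ω.Normal := by
    constructor
    intro y hy g
    refine ⟨hVn.conj_mem y hy.1 g, ?_⟩
    rw [conj_pow, hy.2, mul_one, mul_inv_cancel]
  have hΩ1 : Ω ≠ ⊥ := by
    intro h
    have hxΩ : (x : H) ∈ Ω := by
      refine ⟨x.2, ?_⟩
      have := pow_orderOf_eq_one x
      rw [hx] at this
      have h2 := congrArg Subtype.val this
      simpa using h2
    rw [h, Subgroup.mem_bot] at hxΩ
    have hx1 : x = 1 := Subtype.ext hxΩ
    rw [hx1, orderOf_one] at hx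
    exact hq.one_lt.ne hx
  rcases hmin Ω hΩn hΩV with h | h
  · exact absurd h hΩ1
  · refine ⟨q, hq, hqd, ?_⟩
    intro y hy
    have hy' : y ∈ Ω := by rw [h]; exact hy
    exact hy'.2

theorem not_mem_of_orderOf [Finite H] {x : H} {G : Subgroup H} {p : ℕ} (hp : orderOf x = p)
    (hp1 : p ≠ 1) (hp6 : p ∣ 6) (hcop : (Nat.card G).Coprime 6) : x ∉ G := by
  intro hx
  have h1 : orderOf (⟨x, hx⟩ : G) = p := by rw [Subgroup.orderOf_mk, hp]
  have h2 : p ∣ Nat.card G := h1 ▸ orderOf_dvd_natCard _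
  have h3 : (Nat.card G).Coprime p := Nat.Coprime.coprime_dvd_right hp6 hcop
  exact hp1 (Nat.Coprime.eq_one_of_dvd h3.symm h2)

theorem normalizer_of_normal {K : Subgroup H} (hK : K.Normal) (x : H) :
    x ∈ normalizer (K : Set H) := by
  rw [Subgroup.normalizer_eq_top_iff.2 hK]
  exact mem_top x

end aux

/-- (T) relative to the lifting lemma (L). -/
theorem core_of_faithful_aux (hF : FaithfulCoreStmt.{u}) (H : Type u) [Group H] [Finite H]
    (σ τ : H) (G V : Subgroup H) (k : ℕ)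
    (hL : ∀ N : Subgroup H, Inv σ τ N → (Nat.card N).Coprime 6 → ∀ y : H,
      y⁻¹ * (σ * y * σ⁻¹) ∈ N → y⁻¹ * (τ * y * τ⁻¹) ∈ N →
      ∃ n ∈ N, σ * (y * n) * σ⁻¹ = y * n ∧ τ * (y * n) * τ⁻¹ = y * n)
    (hS : S3Pair σ τ) (hGn : G.Normal) (hGA : G ⊔ closure {σ, τ} = ⊤)
    (hGs : Group.IsSolvable G) (hcop : (Nat.card G).Coprime 6) (hfix : Fix σ τ G = ⊥)
    (hVn : V.Normal) (hVG : V ≤ G) (hV1 : V ≠ ⊥)
    (hmin : ∀ U : Subgroup H, U.Normal → U ≤ V → U = ⊥ ∨ U = V)
    (hk : (⁅G, G⁆).lowerCentralSeries k ≤ V) :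
    ⁅G, G⁆ ≤ centralizer (V : Set H) := by
  classical
  haveI := hGn
  haveI := hVn
  -- `V` is elementary abelian
  have hVsolv : Group.IsSolvable ↥V :=
    Group.isSolvable_of_isSolvable_injective (Subgroup.inclusion_injective hVG)
  have hVab : ∀ u ∈ V, ∀ v ∈ V, u * v = v * u :=
    Helper81.comm_of_minimal_normal_solvable V hV1 hmin hVsolv
  obtain ⟨r, hr, hrd, hexp⟩ := exists_prime_exponent V hVn hV1 hmin hVab
  haveI : Fact r.Prime := ⟨hr⟩
  have hrG : r ∣ Nat.card G := hrd.trans (Subgroup.card_dvd_of_le hVG)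
  have hr6 : Nat.Coprime r 6 := Nat.Coprime.coprime_dvd_left hrG hcop
  have hr2 : r ≠ 2 := by
    rintro rfl
    exact absurd hr6 (by decide)
  have hr3 : r ≠ 3 := by
    rintro rfl
    exact absurd hr6 (by decide)
  -- the kernel
  set C : Subgroup H := G ⊓ centralizer (V : Set H) with hCdef
  haveI hCn : C.Normal := by rw [hCdef]; infer_instance
  have hCG : C ≤ G := inf_le_left
  have hC : C ≤ centralizer (V : Set H) := inf_le_right
  have hVC : V ≤ C :=
    le_inf hVG (fun v hv => mem_centralizer_iff.mpr (fun w hw => hVab w hw v hv))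
  haveI : Finite (Gam V C hC) := finite_gam hC
  set π : H →* Gam V C hC := proj V C hC with hπ
  set ι : ↥V →* Gam V C hC := emb V C hC with hι
  have hπ1 : ∀ h : H, π h = 1 ↔ h ∈ C := proj_eq_one_iff hC
  have hcm : ∀ (h : H) (v : V), ι v * π h = π h * ι v ↔ h * (v : H) * h⁻¹ = v :=
    emb_commute_proj_iff hC
  have hσC : σ ∉ C := fun h =>
    not_mem_of_orderOf hS.oσ (by norm_num) (by norm_num) hcop (hCG h)
  have hτC : τ ∉ C := fun h =>
    not_mem_of_orderOf hS.oτ (by norm_num) (by norm_num) hcop (hCG h)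
  -- (a) the S3 pair
  have hS' : S3Pair (π σ) (π τ) := by
    refine ⟨?_, ?_, ?_⟩
    · haveI : Fact (Nat.Prime 3) := ⟨by norm_num⟩
      apply orderOf_eq_prime
      · rw [← map_pow, ← hS.oσ, pow_orderOf_eq_one, map_one]
      · rw [Ne, hπ1]; exact hσC
    · haveI : Fact (Nat.Prime 2) := ⟨by norm_num⟩
      apply orderOf_eq_prime
      · rw [← map_pow, ← hS.oτ, pow_orderOf_eq_one, map_one]
      · rw [Ne, hπ1]; exact hτC
    · rw [← map_inv, ← map_mul, ← map_mul, hS.rel, map_inv]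
  -- (b), (c)
  have hMs : Group.IsSolvable ↥(G.map π) :=
    Group.isSolvable_of_surjective (π.subgroupMap_surjective G)
  have hMc : (Nat.card ↥(G.map π)).Coprime 6 :=
    Nat.Coprime.coprime_dvd_left (Subgroup.card_map_dvd G π) hcop
  -- (d), (e)
  have hEA : IsEA r ι.range := by
    refine ⟨?_, ?_⟩
    · rintro _ ⟨a, rfl⟩ _ ⟨b, rfl⟩
      rw [← map_mul, ← map_mul]
      congr 1
      exact Subtype.ext (hVab a a.2 b b.2)
    · rintro _ ⟨a, rfl⟩
      rw [← map_pow]
      have : a ^ r = 1 := Subtype.ext (by simpa using hexp a a.2)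
      rw [this, map_one]
  have hPG : IsPGroup r ι.range := by
    rintro ⟨x, hx⟩
    refine ⟨1, Subtype.ext ?_⟩
    simpa using hEA.2 x hx
  -- (f), (g)
  have hπM : ∀ h : H, π h ∈ normalizer ((G.map π : Subgroup (Gam V C hC)) : Set (Gam V C hC)) := by
    have : π.range ≤ normalizer ((G.map π : Subgroup (Gam V C hC)) : Set (Gam V C hC)) := by
      apply Helper48.mem_normalizer_of_forall_conj_mem
      rintro _ ⟨h, rfl⟩ _ ⟨g, hg, rfl⟩
      refine ⟨h * g * h⁻¹, hGn.conj_mem g hg h, ?_⟩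
      rw [map_mul, map_mul, map_inv]
    intro h
    exact this ⟨h, rfl⟩
  have hιn : ι.range.Normal := range_emb_normal hC
  have hMinv : Inv (π σ) (π τ) (G.map π) := ⟨hπM σ, hπM τ⟩
  have hVinv : Inv (π σ) (π τ) ι.range := ⟨normalizer_of_normal hιn _, normalizer_of_normal hιn _⟩
  have hMV : G.map π ≤ normalizer ((ι.range : Subgroup (Gam V C hC)) : Set (Gam V C hC)) :=
    fun x _ => normalizer_of_normal hιn x
  -- (h)
  have hfaith : G.map π ⊓ centralizer ((ι.range : Subgroup (Gam V C hC)) : Set (Gam V C hC)) = ⊥ := by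
    rw [eq_bot_iff]
    rintro x ⟨⟨g, hg, rfl⟩, hxc⟩
    rw [mem_bot, hπ1]
    refine mem_inf.2 ⟨hg, ?_⟩
    rw [mem_centralizer_iff]
    intro v hv
    have h1 : ι ⟨v, hv⟩ * π g = π g * ι ⟨v, hv⟩ :=
      mem_centralizer_iff.mp hxc (ι ⟨v, hv⟩) ⟨⟨v, hv⟩, rfl⟩
    have h2 : g * v * g⁻¹ = v := (hcm g ⟨v, hv⟩).1 h1
    calc v * g = (g * v * g⁻¹) * g := by rw [h2]
      _ = g * v := by group
  -- membership in the centralizer of a pair
  have hpair : ∀ {K : Type u} [Group K] (a b x : K),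
      x ∈ centralizer ({a, b} : Set K) ↔ a * x = x * a ∧ b * x = x * b := by
    intro K _ a b x
    rw [mem_centralizer_iff]
    constructor
    · intro h
      exact ⟨h a (by simp), h b (by simp)⟩
    · rintro ⟨h1, h2⟩ y hy
      rcases hy with rfl | hy
      · exact h1
      · rw [Set.mem_singleton_iff] at hy
        rw [hy]; exact h2
  have hfixG : ∀ g ∈ G, σ * g * σ⁻¹ = g → τ * g * τ⁻¹ = g → g = 1 := by
    intro g hg h1 h2
    have : g ∈ Fix σ τ G := by
      refine mem_inf.2 ⟨hg, (hpair σ τ g).2 ⟨?_, ?_⟩⟩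
      · calc σ * g = (σ * g * σ⁻¹) * σ := by group
          _ = g * σ := by rw [h1]
      · calc τ * g = (τ * g * τ⁻¹) * τ := by group
          _ = g * τ := by rw [h2]
    rw [hfix, mem_bot] at this
    exact this
  -- (i)
  have hfixV' : Fix (π σ) (π τ) ι.range = ⊥ := by
    rw [eq_bot_iff]
    rintro x ⟨⟨v, rfl⟩, hxc0⟩
    have hxc : ι v ∈ centralizer ({π σ, π τ} : Set (Gam V C hC)) := hxc0
    rw [hpair] at hxc
    have h1 : σ * (v : H) * σ⁻¹ = v := (hcm σ v).1 hxc.1.symm
    have h2 : τ * (v : H) * τ⁻¹ = v := (hcm τ v).1 hxc.2.symm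
    have h3 : (v : H) = 1 := hfixG v (hVG v.2) h1 h2
    have h4 : v = 1 := Subtype.ext h3
    rw [mem_bot, h4, map_one]
  -- (j)
  have hCinv : Inv σ τ C := ⟨normalizer_of_normal hCn _, normalizer_of_normal hCn _⟩
  have hCc : (Nat.card C).Coprime 6 :=
    Nat.Coprime.coprime_dvd_left (Subgroup.card_dvd_of_le hCG) hcop
  have hfixM' : Fix (π σ) (π τ) (G.map π) = ⊥ := by
    rw [eq_bot_iff]
    rintro x ⟨⟨g, hg, rfl⟩, hxc0⟩
    have hxc : π g ∈ centralizer ({π σ, π τ} : Set (Gam V C hC)) := hxc0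
    rw [hpair] at hxc
    have h1 : g⁻¹ * (σ * g * σ⁻¹) ∈ C := by
      rw [← hπ1, map_mul, map_inv, map_mul, map_mul, map_inv, hxc.1]
      group
    have h2 : g⁻¹ * (τ * g * τ⁻¹) ∈ C := by
      rw [← hπ1, map_mul, map_inv, map_mul, map_mul, map_inv, hxc.2]
      group
    obtain ⟨n, hn, hn1, hn2⟩ := hL C hCinv hCc g h1 h2
    have h3 : g * n = 1 := hfixG (g * n) (G.mul_mem hg (hCG hn)) hn1 hn2
    have h4 : g = n⁻¹ := eq_inv_of_mul_eq_one_left h3
    rw [mem_bot, hπ1, h4]
    exact C.inv_mem hn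
  -- (k)
  have hirr : ∀ U : Subgroup (Gam V C hC), U ≤ ι.range →
      G.map π ≤ normalizer ((U : Subgroup (Gam V C hC)) : Set (Gam V C hC)) →
      Inv (π σ) (π τ) U → U = ⊥ ∨ U = ι.range := by
    intro U hU hMU hUinv
    set U1 : Subgroup H := (U.comap ι).map V.subtype with hU1
    have hU1V : U1 ≤ V := by
      rintro _ ⟨v, -, rfl⟩
      exact v.2
    have hmemU1 : ∀ v : V, (v : H) ∈ U1 ↔ ι v ∈ U := by
      intro v
      constructor
      · rintro ⟨w, hw, hwv⟩
        have : w = v := Subtype.ext hwv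
        rw [← this]; exact hw
      · intro hv
        exact ⟨v, hv, rfl⟩
    -- the subgroup of `H` normalizing `U` through `π`
    set L : Subgroup H := (normalizer ((U : Subgroup (Gam V C hC)) : Set (Gam V C hC))).comap π
      with hLdef
    have hGL : G ≤ L := fun g hg => hMU ⟨g, hg, rfl⟩
    have hσL : σ ∈ L := hUinv.1
    have hτL : τ ∈ L := hUinv.2
    have hLtop : L = ⊤ := by
      rw [eq_top_iff, ← hGA]
      apply sup_le hGL
      rw [closure_le]
      rintro x (rfl | hx)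
      · exact hσL
      · rw [Set.mem_singleton_iff] at hx
        rw [hx]; exact hτL
    have hU1n : U1.Normal := by
      constructor
      rintro _ ⟨v, hv, rfl⟩ h
      have hh : π h ∈ normalizer ((U : Subgroup (Gam V C hC)) : Set (Gam V C hC)) := by
        have : h ∈ L := by rw [hLtop]; exact mem_top h
        exact this
      have h1 : π h * ι v * (π h)⁻¹ ∈ U := (mem_normalizer_iff.mp hh (ι v)).mp hv
      rw [hι, hπ, proj_conj_emb] at h1
      exact (hmemU1 ⟨h * v * h⁻¹, hVn.conj_mem v v.2 h⟩).2 h1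
    rcases hmin U1 hU1n hU1V with h | h
    · left
      rw [eq_bot_iff]
      intro x hx
      obtain ⟨v, rfl⟩ := hU hx
      have : (v : H) ∈ U1 := (hmemU1 v).2 hx
      rw [h, mem_bot] at this
      have hv1 : v = 1 := Subtype.ext this
      rw [mem_bot, hv1, map_one]
    · right
      apply le_antisymm hU
      rintro _ ⟨v, rfl⟩
      have : (v : H) ∈ U1 := by rw [h]; exact v.2
      exact (hmemU1 v).1 this
  -- (l)
  have hlcs : (⁅G.map π, G.map π⁆).lowerCentralSeries k = ⊥ := by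
    rw [← Subgroup.map_commutator, ← Subgroup.map_lowerCentralSeries, eq_bot_iff]
    refine (Subgroup.map_mono (hk.trans hVC)).trans ?_
    rintro _ ⟨c, hc, rfl⟩
    rw [mem_bot, hπ1]; exact hc
  have key := hF (Gam V C hC) r (π σ) (π τ) (G.map π) ι.range k hS' hr2 hr3 hMs hMc hEA hPG
    hMinv hVinv hMV hfaith hfixV' hfixM' hirr hlcs
  rw [← Subgroup.map_commutator] at key
  intro x hx
  have h1 : π x ∈ (⁅G, G⁆).map π := ⟨x, hx, rfl⟩
  rw [key, mem_bot, hπ1] at h1
  exact hC h1

/-- **(T)** the chief factor step from the faithful core (transport to `V ⋊ H ⧸ C_G(V)`). -/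
theorem core_of_faithful (hF : FaithfulCoreStmt.{u}) : CoreStmt.{u} := by
  intro H _ _ σ τ G V k hS hGn hGA hGs hcop hfix hVn hVG hV1 hmin hk
  exact core_of_faithful_aux hF H σ τ G V k
    (fun N hN hc y h1 h2 => Cfsg.Agent.Helper11.Shult.s3_fixed_lift hS N hN hc y h1 h2)
    hS hGn hGA hGs hcop hfix hVn hVG hV1 hmin hk

end Cfsg.Agent.Helper49.ShultT
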