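import Mathlib

/-!
# (QF0) of helper99's WANTED #5835 (S5974): `star_of_dvd`

Pure arithmetic: if an odd prime `r ∤ q` divides `(q^(d-k) - 1) (q^(d-k-1) + 1)` for some `k < e`,
then, with `i` the multiplicative order of `q` modulo `r`, either `i ∣ d - k`, or
`i ∣ 2 (d - k - 1)` and `i ∤ d - k - 1`.
-/

set_option autoImplicit false

namespace Cfsg.Agent.Helper49.QSp

/-- the consequence of `r ∣ #Ω` in terms of `i` (same body as `Helper99.QSpSkel.Star`) -/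
def Star (i d e : ℕ) : Prop :=
  ∃ k : ℕ, k < e ∧ (i ∣ d - k ∨ (i ∣ 2 * (d - k - 1) ∧ ¬ i ∣ d - k - 1))

/-- (QF0) -/
theorem star_of_dvd {q r : ℕ} [Fact r.Prime] (hr2 : r ≠ 2) (hrq : ¬ r ∣ q) {d e : ℕ} (hed : e < d)
    (h : ∃ k : ℕ, k < e ∧ (r : ℤ) ∣ ((q : ℤ) ^ (d - k) - 1) * ((q : ℤ) ^ (d - k - 1) + 1)) :
    Star (orderOf (q : ZMod r)) d e := by
  have hr : r.Prime := Fact.out
  obtain ⟨k, hk, hdvd⟩ := h
  refine ⟨k, hk, ?_⟩
  have hrZ : Prime (r : ℤ) := Nat.prime_iff_prime_int.mp hr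
  rcases hrZ.dvd_or_dvd hdvd with h1 | h1
  · left
    have h2 : (((q : ℤ) ^ (d - k) - 1 : ℤ) : ZMod r) = 0 :=
      (ZMod.intCast_zmod_eq_zero_iff_dvd _ r).mpr h1
    push_cast at h2
    rw [orderOf_dvd_iff_pow_eq_one]
    exact sub_eq_zero.mp h2
  · right
    have h2 : (((q : ℤ) ^ (d - k - 1) + 1 : ℤ) : ZMod r) = 0 :=
      (ZMod.intCast_zmod_eq_zero_iff_dvd _ r).mpr h1
    push_cast at h2
    have h3 : (q : ZMod r) ^ (d - k - 1) = -1 := eq_neg_of_add_eq_zero_left h2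
    constructor
    · rw [orderOf_dvd_iff_pow_eq_one, pow_mul', h3]
      norm_num
    · intro h4
      rw [orderOf_dvd_iff_pow_eq_one, h3] at h4
      -- `-1 = 1` in `ZMod r` forces `r ∣ 2`
      have h5 : ((2 : ℕ) : ZMod r) = 0 := by
        have : (1 : ZMod r) + 1 = 0 := by
          nth_rewrite 1 [← h4]
          norm_num
        push_cast
        rw [← this]
        norm_num
      have h6 : r ∣ 2 := (ZMod.natCast_eq_zero_iff 2 r).mp h5
      exact hr2 ((Nat.prime_dvd_prime_iff_eq hr Nat.prime_two).mp h6)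

end Cfsg.Agent.Helper49.QSp
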