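import Mathlib
import Cfsg.Agent.Helper99.QSpDefs

/-!
# (QF1) of helper99's WANTED #5835 (S5974): `crit_of_rhs_odd`, `crit_of_rhs_even`

Pure arithmetic: the right hand side of S5974 implies `Crit i c d e b 1 1` for every admissible
number of blocks `b`.
-/

set_option autoImplicit false

namespace Cfsg.Agent.Helper49.QSp

open Cfsg.Agent.Helper99.QSp

/-- the right hand side of S5974 for even `i` (same body as `Helper99.QSpSkel.EvenRHS`) -/
def EvenRHS (i c d m : ℕ) : Prop :=
  ((2 * d) % c = 0 ∧ (Odd ((2 * d) / i) ∨ (m % c = 0 ∧ Even (m / i)))) ∨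
    (i ≤ m ∧ ((m % c < (2 * d) % c ∧ 0 < m % c) ∨
      ((2 * d) % c = m % c ∧ 0 < m % c ∧ Even ((2 * d + m - 2 * ((2 * d) % c)) / i)) ∨
      (0 < (2 * d) % c ∧ m % c = 0 ∧ Even (m / i))))

theorem bsign_of_odd {i : ℕ} (hi : Odd i) (j : ℕ) : bsign i j = 1 := by
  unfold bsign
  rw [if_neg (Nat.not_even_iff_odd.mpr hi)]

theorem bsign_of_even {i : ℕ} (hi : Even i) (j : ℕ) : bsign i j = (-1) ^ j := by
  unfold bsign
  rw [if_pos hi]

/-- (QF1), odd `i` -/
theorem crit_of_rhs_odd {i c d e b : ℕ} (hi : Odd i) (hc : c = 2 * i) (hed : e < d)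
    (hcm : c ≤ 2 * e) (hmod : (2 * e) % c ≤ (2 * d) % c) (hb1 : 1 ≤ b) (hbc : b * c ≤ 2 * d) :
    Crit i c d e b 1 1 := by
  have hc0 : 0 < c := by
    obtain ⟨t, rfl⟩ := hi
    omega
  -- division with remainder
  have hm := Nat.div_add_mod (2 * e) c
  have hl := Nat.mod_lt (2 * e) hc0
  have hn := Nat.div_add_mod (2 * d) c
  have hk := Nat.mod_lt (2 * d) hc0
  generalize (2 * e) / c = M at hm
  generalize (2 * e) % c = l0 at hm hl hmod
  generalize (2 * d) / c = B at hn
  generalize (2 * d) % c = k0 at hn hk hmod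
  have hMc : c * M = M * c := Nat.mul_comm _ _
  have hBc : c * B = B * c := Nat.mul_comm _ _
  unfold Crit
  simp only [bsign_of_odd hi, mul_one, and_true]
  by_cases hlt : b * c < 2 * e
  · exact ⟨b, le_rfl, hlt.le, Or.inr (Or.inl ⟨hlt, by omega⟩)⟩
  · have hlt := Nat.le_of_not_lt hlt
    -- `M ≤ b ≤ B`
    have hMb : M ≤ b := by
      have : M * c ≤ b * c := by omega
      exact Nat.le_of_mul_le_mul_right this hc0
    have hbB : b ≤ B := by
      have h1 : b * c < (B + 1) * c := by
        have : (B + 1) * c = B * c + c := by ring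
        omega
      have := Nat.lt_of_mul_lt_mul_right h1
      omega
    have hbBc : b * c ≤ B * c := Nat.mul_le_mul_right c hbB
    refine ⟨M, hMb, by omega, ?_⟩
    by_cases hl0 : l0 = 0
    · left; omega
    · right
      by_cases h2 : 2 * e - M * c < 2 * d - b * c
      · left; exact ⟨by omega, h2⟩
      · right; exact ⟨by omega, by omega⟩

/-- (QF1), even `i` -/
theorem crit_of_rhs_even {i c d e b : ℕ} (hi : Even i) (hi0 : 0 < i) (hc : c = i) (he : 1 ≤ e)
    (hed : e < d) (hrhs : EvenRHS i c d (2 * e)) (hb1 : 1 ≤ b) (hbc : b * c ≤ 2 * d)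
    (hadm : b * c = 2 * d → bsign i b = 1) : Crit i c d e b 1 1 := by
  subst hc
  unfold EvenRHS at hrhs
  -- division with remainder
  have hm := Nat.div_add_mod (2 * e) c
  have hl := Nat.mod_lt (2 * e) hi0
  have hn := Nat.div_add_mod (2 * d) c
  have hk := Nat.mod_lt (2 * d) hi0
  -- the quotient in `R4`
  have hR4 : (2 * d) % c = (2 * e) % c →
      (2 * d + 2 * e - 2 * ((2 * d) % c)) / c = (2 * d) / c + (2 * e) / c := by
    intro h
    have : 2 * d + 2 * e - 2 * ((2 * d) % c) = c * ((2 * d) / c + (2 * e) / c) := by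
      rw [Nat.mul_add]; omega
    rw [this, Nat.mul_div_cancel_left _ hi0]
  generalize (2 * e) / c = M at hm hrhs hR4
  generalize (2 * e) % c = l0 at hm hl hrhs hR4
  generalize (2 * d) / c = B at hn hrhs hR4
  generalize (2 * d) % c = k0 at hn hk hrhs hR4
  have hMc : c * M = M * c := Nat.mul_comm _ _
  have hBc : c * B = B * c := Nat.mul_comm _ _
  unfold Crit
  simp only [bsign_of_even hi, one_mul] at hadm ⊢
  by_cases hlt : b * c < 2 * e
  · exact ⟨b, le_rfl, hlt.le, Or.inr (Or.inl ⟨hlt, by omega⟩)⟩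
  have hlt := Nat.le_of_not_lt hlt
  -- `M ≤ b ≤ B`
  have hMb : M ≤ b := by
    have : M * c ≤ b * c := by omega
    exact Nat.le_of_mul_le_mul_right this hi0
  have hbB : b ≤ B := by
    have h1 : b * c < (B + 1) * c := by
      have : (B + 1) * c = B * c + c := by ring
      omega
    have := Nat.lt_of_mul_lt_mul_right h1
    omega
  -- `b = B` is admissible only for even `B` when `k0 = 0`
  have hadmB : b = B → k0 = 0 → Even B := by
    intro hbB' hk0
    subst hbB'
    have h1 : ((-1 : ℤ)) ^ b = 1 := hadm (by omega)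
    rcases Nat.even_or_odd b with hev | hod
    · exact hev
    · rw [hod.neg_one_pow] at h1; norm_num at h1
  by_cases hl0 : l0 = 0
  · by_cases hMev : Even M
    · -- `b' = M`, first alternative
      exact ⟨M, hMb, by omega, Or.inl ⟨by omega, hMev.neg_one_pow⟩⟩
    · -- only `R1` is possible
      have hMod : Odd M := Nat.not_even_iff_odd.mp hMev
      have hR1 : k0 = 0 ∧ Odd B := by
        rcases hrhs with ⟨h1, h2 | ⟨_, h3⟩⟩ | ⟨_, ⟨_, h2⟩ | ⟨_, h2, _⟩ | ⟨_, _, h3⟩⟩
        · exact ⟨h1, h2⟩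
        · exact absurd h3 hMev
        · omega
        · omega
        · exact absurd h3 hMev
      obtain ⟨hk0, hBod⟩ := hR1
      have hbne : b ≠ B := fun hb' => (Nat.not_even_iff_odd.mpr hBod) (hadmB hb' hk0)
      have hM1 : 1 ≤ M := by
        rcases hMod with ⟨t, rfl⟩; omega
      obtain ⟨M', rfl⟩ : ∃ M', M = M' + 1 := ⟨M - 1, by omega⟩
      have hM'ev : Even M' := by
        rcases hMod with ⟨t, ht⟩
        exact ⟨t, by omega⟩
      have hexp : (M' + 1) * c = M' * c + c := by ring
      -- `b ≤ B - 1`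
      obtain ⟨s, rfl⟩ : ∃ s, B = b + s + 1 := ⟨B - b - 1, by omega⟩
      have hexpB : (b + s + 1) * c = b * c + s * c + c := by ring
      refine ⟨M', by omega, by omega, ?_⟩
      right
      rcases Nat.eq_zero_or_pos s with hs | hs
      · -- `b = B - 1`: third alternative
        subst hs
        right
        refine ⟨by omega, by omega, ?_⟩
        have hbev : Even b := by
          rcases hBod with ⟨t, ht⟩
          exact ⟨t, by omega⟩
        rw [hM'ev.neg_one_pow, hbev.neg_one_pow]; norm_num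
      · -- `b ≤ B - 2`: second alternative
        left
        have : c ≤ s * c := Nat.le_mul_of_pos_left c hs
        exact ⟨by omega, by omega⟩
  · -- `l0 > 0`: `b' = M`
    have hl0' : 0 < l0 := Nat.pos_of_ne_zero hl0
    refine ⟨M, hMb, by omega, ?_⟩
    right
    rcases Nat.lt_or_ge b B with hbB' | hbB'
    · -- `b < B`: second alternative
      left
      obtain ⟨s, rfl⟩ : ∃ s, B = b + s + 1 := ⟨B - b - 1, by omega⟩
      have hexpB : (b + s + 1) * c = b * c + s * c + c := by ring
      exact ⟨by omega, by omega⟩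
    · -- `b = B`
      have hbeq : b = B := le_antisymm hbB hbB'
      subst hbeq
      rcases hrhs with ⟨h1, h2 | ⟨h3, _⟩⟩ | ⟨_, ⟨h2, _⟩ | ⟨h2, _, h3⟩ | ⟨_, h2, _⟩⟩
      · -- `R1`: `b = B` is not admissible
        exact absurd (hadmB rfl h1) (Nat.not_even_iff_odd.mpr h2)
      · omega
      · -- `R3`
        left; exact ⟨by omega, by omega⟩
      · -- `R4`
        right
        refine ⟨by omega, by omega, ?_⟩
        rw [hR4 h2] at h3
        rw [← pow_add, Nat.add_comm]
        exact h3.neg_one_pow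
      · omega

end Cfsg.Agent.Helper49.QSp
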