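import Mathlib.GroupTheory.Sylow
import Mathlib.GroupTheory.Nilpotent
import Cfsg.Prelude.Def_IsolatedElements

set_option autoImplicit false

/-!
Isolated elements (helper49).
-/

namespace Cfsg.Agent.Helper49

open Cfsg
open scoped Pointwise

variable {G : Type*} [Group G] {p : ℕ}

/-- In a finite `p`-group, an element commuting with none of its other conjugates is central. -/
theorem mem_center_of_isolated_pgroup {R : Type*} [Group R] [Finite R] [Fact p.Prime]
    (hR : IsPGroup p R) (x : R) (h : ∀ t : R, Commute x (t * x * t⁻¹) → t * x * t⁻¹ = x) :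
    x ∈ Subgroup.center R := by
  haveI : Group.IsNilpotent R := hR.isNilpotent
  have hnc := (normalizerCondition_iff_only_full_group_self_normalizing (G := R)).mp
    Group.normalizerCondition_of_isNilpotent
  set C : Subgroup R := Subgroup.centralizer ({x} : Set R) with hC
  have hxC : x ∈ C := by
    rw [hC, Subgroup.mem_centralizer_iff]
    intro y hy
    rw [Set.mem_singleton_iff] at hy
    rw [hy]
  have hN : Subgroup.normalizer (C : Set R) = C := by
    apply le_antisymm _ Subgroup.le_normalizer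
    intro t ht
    have h1 : t * x * t⁻¹ ∈ C := (Subgroup.mem_normalizer_iff.mp ht x).mp hxC
    rw [hC, Subgroup.mem_centralizer_iff] at h1
    have h2 : Commute x (t * x * t⁻¹) := h1 x rfl
    have h3 := h t h2
    rw [hC, Subgroup.mem_centralizer_iff]
    intro y hy
    rw [Set.mem_singleton_iff] at hy
    rw [hy]
    calc x * t = (t * x * t⁻¹) * t := by rw [h3]
      _ = t * x := by group
  have hCtop : C = ⊤ := hnc C hN
  rw [Subgroup.mem_center_iff]
  intro g
  have hg : g ∈ C := hCtop ▸ Subgroup.mem_top g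
  rw [hC, Subgroup.mem_centralizer_iff] at hg
  exact (hg x rfl).symm

theorem isolated_conj {x : G} (h : IsIsolated x) (g : G) : IsIsolated (g * x * g⁻¹) := by
  intro a ha
  -- a (g x g⁻¹) a⁻¹ commutes with g x g⁻¹; conjugate back by g⁻¹
  have h1 : Commute x ((g⁻¹ * a * g) * x * (g⁻¹ * a * g)⁻¹) := by
    have := ha.eq
    unfold Commute SemiconjBy
    have e1 : x * ((g⁻¹ * a * g) * x * (g⁻¹ * a * g)⁻¹)
        = g⁻¹ * ((g * x * g⁻¹) * (a * (g * x * g⁻¹) * a⁻¹)) * g := by group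
    have e2 : ((g⁻¹ * a * g) * x * (g⁻¹ * a * g)⁻¹) * x
        = g⁻¹ * ((a * (g * x * g⁻¹) * a⁻¹) * (g * x * g⁻¹)) * g := by group
    rw [e1, e2, this]
  have h2 := h _ h1
  calc a * (g * x * g⁻¹) * a⁻¹ = g * ((g⁻¹ * a * g) * x * (g⁻¹ * a * g)⁻¹) * g⁻¹ := by group
    _ = g * x * g⁻¹ := by rw [h2]

/-- An isolated element of a finite `p`-subgroup is central in it. -/
theorem isolated_commute_of_mem_pgroup [Finite G] [Fact p.Prime] {x : G} (hx : IsIsolated x)
    {R : Subgroup G} (hR : IsPGroup p R) (hxR : x ∈ R) : ∀ t ∈ R, t * x = x * t := by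
  have hc : (⟨x, hxR⟩ : ↥R) ∈ Subgroup.center ↥R := by
    apply mem_center_of_isolated_pgroup hR
    intro t ht
    have h1 : Commute x ((t : G) * x * (t : G)⁻¹) := by
      have := congrArg Subtype.val ht.eq
      simpa [Commute, SemiconjBy] using this
    have h2 := hx _ h1
    exact Subtype.ext (by simpa using h2)
  intro t ht
  have := (Subgroup.mem_center_iff.mp hc) ⟨t, ht⟩
  simpa using congrArg Subtype.val this

/-- A conjugate of an isolated element lying in a common finite `p`-subgroup is the element. -/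
theorem isolated_conj_eq_of_mem [Finite G] [Fact p.Prime] {x : G} (hx : IsIsolated x)
    {R : Subgroup G} (hR : IsPGroup p R) (hxR : x ∈ R) {g : G} (hg : g * x * g⁻¹ ∈ R) :
    g * x * g⁻¹ = x := by
  apply hx
  exact (isolated_commute_of_mem_pgroup hx hR hxR _ hg).symm

theorem isPGroup_zpowers_of_orderOf [Fact p.Prime] {x : G} (hx : ∃ k : ℕ, orderOf x = p ^ k) :
    IsPGroup p (Subgroup.zpowers x) := by
  obtain ⟨k, hk⟩ := hx
  apply IsPGroup.of_card (n := k)
  rw [Nat.card_zpowers, hk]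

/-- Local conjugacy: if an isolated `p`-element `x` and a conjugate of it lie in a subgroup `H`,
they are conjugate in `H`. -/
theorem isolated_exists_conj_mem [Finite G] [Fact p.Prime] {x : G} (hx : IsIsolated x)
    (hxp : ∃ k : ℕ, orderOf x = p ^ k) {H : Subgroup G} (hxH : x ∈ H) {g : G}
    (hyH : g * x * g⁻¹ ∈ H) : ∃ c ∈ H, g * x * g⁻¹ = c * x * c⁻¹ := by
  set y : G := g * x * g⁻¹ with hy
  have hyp : ∃ k : ℕ, orderOf y = p ^ k := by
    obtain ⟨k, hk⟩ := hxp
    refine ⟨k, ?_⟩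
    rw [hy, ← hk]
    have : g * x * g⁻¹ = MulAut.conj g x := by simp [MulAut.conj_apply]
    rw [this, MulEquiv.orderOf_eq]
  have hx' : IsPGroup p (Subgroup.zpowers (⟨x, hxH⟩ : ↥H)) := by
    apply isPGroup_zpowers_of_orderOf
    obtain ⟨k, hk⟩ := hxp
    exact ⟨k, by rw [← hk]; exact (Subgroup.orderOf_mk x hxH)⟩
  have hy' : IsPGroup p (Subgroup.zpowers (⟨y, hyH⟩ : ↥H)) := by
    apply isPGroup_zpowers_of_orderOf
    obtain ⟨k, hk⟩ := hyp
    exact ⟨k, by rw [← hk]; exact (Subgroup.orderOf_mk y hyH)⟩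
  obtain ⟨Sx, hSx⟩ := hx'.exists_le_sylow
  obtain ⟨Sy, hSy⟩ := hy'.exists_le_sylow
  obtain ⟨c, hc⟩ := MulAction.exists_smul_eq ↥H Sx Sy
  have hxSx : (⟨x, hxH⟩ : ↥H) ∈ Sx := hSx (Subgroup.mem_zpowers _)
  have hySy : (⟨y, hyH⟩ : ↥H) ∈ Sy := hSy (Subgroup.mem_zpowers _)
  have hcx : c * ⟨x, hxH⟩ * c⁻¹ ∈ Sy := by
    rw [← hc]
    change _ ∈ (MulAut.conj c • (Sx : Subgroup ↥H))
    have := Subgroup.smul_mem_pointwise_smul _ (MulAut.conj c) _ hxSx
    simpa [MulAut.smul_def, MulAut.conj_apply] using this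
  set R : Subgroup G := (Sy : Subgroup ↥H).map H.subtype with hR
  have hRp : IsPGroup p R := Sy.isPGroup'.map _
  have hyR : y ∈ R := ⟨⟨y, hyH⟩, hySy, rfl⟩
  have hcxR : (c : G) * x * (c : G)⁻¹ ∈ R := ⟨c * ⟨x, hxH⟩ * c⁻¹, hcx, by simp⟩
  have hyiso : IsIsolated y := isolated_conj hx g
  have h1 : ((c : G) * g⁻¹) * y * ((c : G) * g⁻¹)⁻¹ = (c : G) * x * (c : G)⁻¹ := by
    rw [hy]; group
  have h2 : ((c : G) * g⁻¹) * y * ((c : G) * g⁻¹)⁻¹ = y :=
    isolated_conj_eq_of_mem hyiso hRp hyR (by rw [h1]; exact hcxR)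
  exact ⟨c, c.2, by rw [← h2, h1]⟩

end Cfsg.Agent.Helper49
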