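import Mathlib
import Cfsg.Agent.Helper14.Spec4Grp

/-!
# (GNF) of #8271 (helper14, S3439): normal form and solvability of `F20 = ⟨eta, phi⟩`

Abstractly: a group generated by `e`, `p` with `e^5 = 1`, `p^4 = 1`, `p * e = e^3 * p`.
-/

set_option autoImplicit false

namespace Cfsg.Agent.Helper49.Spec4

open SemidirectProduct Cfsg.Agent.Helper14.Spec4

section abstract

variable {Γ : Type*} [Group Γ] (e p : Γ)

theorem p_mul_e_pow (hpe : p * e = e ^ 3 * p) (i : ℕ) : p * e ^ i = e ^ (3 * i) * p := by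
  induction i with
  | zero => simp
  | succ i ih =>
    rw [pow_succ, ← mul_assoc, ih, mul_assoc, hpe, ← mul_assoc, ← pow_add]
    congr 2

theorem p_pow_mul_e_pow (hpe : p * e = e ^ 3 * p) (k i : ℕ) :
    p ^ k * e ^ i = e ^ (3 ^ k * i) * p ^ k := by
  induction k generalizing i with
  | zero => simp
  | succ k ih =>
    rw [pow_succ, mul_assoc, p_mul_e_pow e p hpe, ← mul_assoc, ih, mul_assoc]
    congr 2
    ring

/-- normal form -/
theorem nf (he : e ^ 5 = 1) (hp : p ^ 4 = 1) (hpe : p * e = e ^ 3 * p) (f : Γ)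
    (hf : f ∈ Subgroup.closure ({e, p} : Set Γ)) : ∃ i j : ℕ, f = e ^ i * p ^ j := by
  have hei : e⁻¹ = e ^ 4 := inv_eq_of_mul_eq_one_right (by rw [← pow_succ', he])
  have hpi : p⁻¹ = p ^ 3 := inv_eq_of_mul_eq_one_right (by rw [← pow_succ', hp])
  induction hf using Subgroup.closure_induction_left with
  | one => exact ⟨0, 0, by simp⟩
  | mul_left x hx y hy ih =>
    obtain ⟨i, j, rfl⟩ := ih
    rcases hx with rfl | hx
    · exact ⟨i + 1, j, by rw [pow_succ', mul_assoc]⟩
    · rw [Set.mem_singleton_iff] at hx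
      subst hx
      exact ⟨3 * i, j + 1, by rw [← mul_assoc, p_mul_e_pow e x hpe, mul_assoc, ← pow_succ']⟩
  | inv_mul_cancel x hx y hy ih =>
    obtain ⟨i, j, rfl⟩ := ih
    rcases hx with rfl | hx
    · exact ⟨4 + i, j, by rw [hei, ← mul_assoc, ← pow_add]⟩
    · rw [Set.mem_singleton_iff] at hx
      subst hx
      exact ⟨3 ^ 3 * i, 3 + j, by
        rw [hpi, ← mul_assoc, p_pow_mul_e_pow e x hpe, mul_assoc, ← pow_add]⟩

/-- the generated group normalises `⟨e⟩` -/
theorem closure_le_normalizer (he : e ^ 5 = 1) (hpe : p * e = e ^ 3 * p) :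
    Subgroup.closure ({e, p} : Set Γ) ≤ Subgroup.normalizer (Subgroup.zpowers e : Set Γ) := by
  rw [Subgroup.closure_le]
  rintro x (rfl | hx)
  · exact Subgroup.le_normalizer (Subgroup.mem_zpowers x)
  · rw [Set.mem_singleton_iff] at hx
    subst hx
    have h1 : x * e * x⁻¹ = e ^ 3 := by rw [hpe, mul_inv_cancel_right]
    have h2 : x⁻¹ * e * x = e ^ 2 := by
      have : x * e ^ 2 * x⁻¹ = e := by
        rw [← conj_pow, h1, ← pow_mul]
        have : e ^ (3 * 2) = e ^ 5 * e := by rw [← pow_succ]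
        rw [this, he, one_mul]
      calc x⁻¹ * e * x = x⁻¹ * (x * e ^ 2 * x⁻¹) * x := by rw [this]
        _ = e ^ 2 := by group
    rw [SetLike.mem_coe, Subgroup.mem_normalizer_iff]
    intro h
    constructor
    · intro hh
      obtain ⟨m, rfl⟩ := Subgroup.mem_zpowers_iff.mp hh
      rw [← conj_zpow, h1]
      exact Subgroup.zpow_mem _ (Subgroup.pow_mem _ (Subgroup.mem_zpowers e) 3) m
    · intro hh
      obtain ⟨m, hm⟩ := Subgroup.mem_zpowers_iff.mp hh
      have h3 : h = x⁻¹ * (x * h * x⁻¹) * x := by group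
      rw [h3, ← hm]
      have h4 : x⁻¹ * e ^ m * x = (x⁻¹ * e * x) ^ m := by
        have := conj_zpow (a := x⁻¹) (b := e) (i := m)
        rw [inv_inv] at this
        exact this.symm
      rw [h4, h2]
      exact Subgroup.zpow_mem _ (Subgroup.pow_mem _ (Subgroup.mem_zpowers e) 2) m

/-- the generated group is solvable -/
theorem isSolvable_closure (he : e ^ 5 = 1) (hp : p ^ 4 = 1) (hpe : p * e = e ^ 3 * p) :
    Group.IsSolvable ↥(Subgroup.closure ({e, p} : Set Γ)) := by
  set H : Subgroup Γ := Subgroup.closure ({e, p} : Set Γ) with hH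
  set N : Subgroup H := (Subgroup.zpowers e).subgroupOf H with hN
  haveI hNn : N.Normal := Subgroup.normal_subgroupOf_of_le_normalizer (closure_le_normalizer e p he hpe)
  have heH : e ∈ H := Subgroup.subset_closure (by simp)
  have hpH : p ∈ H := Subgroup.subset_closure (by simp)
  -- `N` is commutative
  haveI hNs : Group.IsSolvable N := by
    apply Group.isSolvable_of_comm
    intro a b
    have ha : ((a : H) : Γ) ∈ Subgroup.zpowers e := Subgroup.mem_subgroupOf.mp a.2
    have hb : ((b : H) : Γ) ∈ Subgroup.zpowers e := Subgroup.mem_subgroupOf.mp b.2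
    obtain ⟨m, hm⟩ := Subgroup.mem_zpowers_iff.mp ha
    obtain ⟨n, hn⟩ := Subgroup.mem_zpowers_iff.mp hb
    apply Subtype.ext
    apply Subtype.ext
    show ((a : H) : Γ) * ((b : H) : Γ) = ((b : H) : Γ) * ((a : H) : Γ)
    rw [← hm, ← hn, ← zpow_add, ← zpow_add, add_comm]
  -- the quotient is generated by the image of `p`
  let q0 : H ⧸ N := QuotientGroup.mk' N ⟨p, hpH⟩
  have hq : ∀ q : H ⧸ N, ∃ j : ℕ, q = q0 ^ j := by
    intro q
    induction q using QuotientGroup.induction_on with
    | H x =>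
      obtain ⟨i, j, hx⟩ := nf e p he hp hpe x.1 x.2
      refine ⟨j, ?_⟩
      have hx' : x = (⟨e, heH⟩ : H) ^ i * (⟨p, hpH⟩ : H) ^ j := Subtype.ext (by simpa using hx)
      have he1 : (QuotientGroup.mk' N ⟨e, heH⟩ : H ⧸ N) = 1 := by
        rw [QuotientGroup.mk'_apply, QuotientGroup.eq_one_iff, hN, Subgroup.mem_subgroupOf]
        exact Subgroup.mem_zpowers e
      show QuotientGroup.mk' N x = q0 ^ j
      rw [hx', map_mul, map_pow, map_pow, he1, one_pow, one_mul]
  haveI hQs : Group.IsSolvable (H ⧸ N) := by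
    apply Group.isSolvable_of_comm
    intro a b
    obtain ⟨j, rfl⟩ := hq a
    obtain ⟨l, rfl⟩ := hq b
    rw [← pow_add, ← pow_add, add_comm]
  exact Group.isSolvable_of_ker_le_range N.subtype (QuotientGroup.mk' N)
    (by rw [QuotientGroup.ker_mk', Subgroup.range_subtype])

end abstract

/-- (GNF) normal form in `F20` -/
theorem mem_F20 (f : MulAut A) (hf : f ∈ F20) : ∃ i j : ℕ, f = eta ^ i * phi ^ j :=
  nf eta phi eta_pow_five phi_pow_four phi_mul_eta f hf

/-- (GNF), second half -/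
theorem isSolvable_F20 : Group.IsSolvable F20 :=
  isSolvable_closure eta phi eta_pow_five phi_pow_four phi_mul_eta

end Cfsg.Agent.Helper49.Spec4
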