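import Mathlib

/-!
# (GPOW) of #8271 (helper14, S3439): powers in a semidirect product
-/

set_option autoImplicit false

namespace Cfsg.Agent.Helper49.Spec4

open SemidirectProduct

/-- (GPOW) powers in a semidirect product -/
theorem inl_mul_inr_pow_two {N H : Type*} [Group N] [Group H] (φ : H →* MulAut N) (a : N) (f : H) :
    (inl a * inr f : N ⋊[φ] H) ^ 2 = inl (a * φ f a) * inr (f ^ 2) := by
  apply SemidirectProduct.ext
  · simp [pow_succ]
  · simp [pow_succ]

/-- (GPOW), second half -/
theorem inl_mul_inr_pow_four {N H : Type*} [Group N] [Group H] (φ : H →* MulAut N) (a : N) (f : H) :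
    (inl a * inr f : N ⋊[φ] H) ^ 4 =
      inl (a * φ f a * φ (f ^ 2) a * φ (f ^ 3) a) * inr (f ^ 4) := by
  apply SemidirectProduct.ext
  · simp [pow_succ, mul_assoc]
  · simp [pow_succ, mul_assoc]

end Cfsg.Agent.Helper49.Spec4
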