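import Mathlib

/-!
# (A9) of #8201 (helper16, S0997): DIGIT

A sum of few signed degrees of types `β^j`, `β^j (2 - β)` (`j < J`) that is divisible by `T^J`
(`β = ±T`) is empty.  Induction on `J`: modulo `T` the terms of level `0` contribute `1` or `2`,
the others `0`, so there are no terms of level `0`; divide everything by `β`.
-/

set_option autoImplicit false

namespace Cfsg.Agent.Helper49.BT97

/-- (A9) DIGIT: a sum of few signed degrees of types `β^j`, `β^j (2 - β)` (`j < J`) that is
divisible by `T^J` (`β = ±T`) is empty -/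
theorem digit_vanish {ι : Type*} (S : Finset ι) (sd : ι → ℤ) (T : ℕ) (β : ℤ)
    (hβ : β = (T : ℤ) ∨ β = -(T : ℤ)) (hT : 2 * S.card < T) (J : ℕ)
    (htype : ∀ i ∈ S, ∃ j : ℕ, j < J ∧ (sd i = β ^ j ∨ sd i = β ^ j * (2 - β)))
    (hdvd : (T : ℤ) ^ J ∣ ∑ i ∈ S, sd i) : S = ∅ := by
  classical
  induction J generalizing sd with
  | zero =>
    apply Finset.eq_empty_of_forall_notMem
    intro i hi
    obtain ⟨j, hj, -⟩ := htype i hi
    omega
  | succ J ih =>
    have hTpos : 0 < T := by omega
    have hT0 : (T : ℤ) ≠ 0 := by exact_mod_cast hTpos.ne'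
    have hβ0 : β ≠ 0 := by
      rcases hβ with h | h
      · rw [h]; exact hT0
      · rw [h]; exact neg_ne_zero.mpr hT0
    have hTβ : (T : ℤ) ∣ β := by
      rcases hβ with h | h
      · rw [h]
      · rw [h]; exact (dvd_neg).mpr dvd_rfl
    -- residues modulo `T`
    let c : ι → ℤ := fun i => if sd i = 1 then 1 else if sd i = 2 - β then 2 else 0
    have hc1 : ∀ i, sd i = 1 → c i = 1 := fun i h => by simp only [c, if_pos h]
    have hc2 : ∀ i, sd i ≠ 1 → sd i = 2 - β → c i = 2 := fun i h h' => by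
      simp only [c, if_neg h, if_pos h']
    have hc3 : ∀ i, sd i ≠ 1 → sd i ≠ 2 - β → c i = 0 := fun i h h' => by
      simp only [c, if_neg h, if_neg h']
    have hc : ∀ i ∈ S, (T : ℤ) ∣ sd i - c i := by
      intro i hi
      by_cases h1 : sd i = 1
      · rw [hc1 i h1, h1, sub_self]; exact dvd_zero _
      · by_cases h2 : sd i = 2 - β
        · rw [hc2 i h1 h2, h2]
          have : (2 - β - 2 : ℤ) = -β := by ring
          rw [this]
          exact (dvd_neg).mpr hTβ
        · rw [hc3 i h1 h2, sub_zero]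
          obtain ⟨j, -, hj'⟩ := htype i hi
          rcases Nat.eq_zero_or_pos j with rfl | hjpos
          · exfalso
            rcases hj' with h | h
            · exact h1 (by rw [h, pow_zero])
            · exact h2 (by rw [h, pow_zero, one_mul])
          · have hβj : β ∣ β ^ j := dvd_pow_self β hjpos.ne'
            rcases hj' with h | h
            · rw [h]; exact hTβ.trans hβj
            · rw [h]; exact hTβ.trans (hβj.mul_right _)
    have hsumc : (T : ℤ) ∣ ∑ i ∈ S, c i := by
      have h1 : (T : ℤ) ∣ ∑ i ∈ S, sd i :=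
        (dvd_pow_self (T : ℤ) (Nat.succ_ne_zero J)).trans hdvd
      have h2 : (T : ℤ) ∣ ∑ i ∈ S, (sd i - c i) := Finset.dvd_sum hc
      rw [Finset.sum_sub_distrib] at h2
      have h3 := dvd_sub h1 h2
      rwa [sub_sub_cancel] at h3
    have hcnn : ∀ i ∈ S, 0 ≤ c i := by
      intro i _
      by_cases h1 : sd i = 1
      · rw [hc1 i h1]; norm_num
      · by_cases h2 : sd i = 2 - β
        · rw [hc2 i h1 h2]; norm_num
        · rw [hc3 i h1 h2]
    have hcle : ∀ i ∈ S, c i ≤ 2 := by
      intro i _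
      by_cases h1 : sd i = 1
      · rw [hc1 i h1]; norm_num
      · by_cases h2 : sd i = 2 - β
        · rw [hc2 i h1 h2]
        · rw [hc3 i h1 h2]; norm_num
    have hle : ∑ i ∈ S, c i ≤ 2 * (S.card : ℤ) := by
      calc ∑ i ∈ S, c i ≤ ∑ _i ∈ S, (2 : ℤ) := Finset.sum_le_sum hcle
        _ = 2 * (S.card : ℤ) := by rw [Finset.sum_const, nsmul_eq_mul, mul_comm]
    have hnonneg : 0 ≤ ∑ i ∈ S, c i := Finset.sum_nonneg hcnn
    have hzero : ∑ i ∈ S, c i = 0 := by
      apply Int.eq_zero_of_abs_lt_dvd hsumc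
      rw [abs_of_nonneg hnonneg]
      have : (2 * (S.card : ℤ)) < (T : ℤ) := by exact_mod_cast hT
      linarith
    have hall0 : ∀ i ∈ S, c i = 0 := (Finset.sum_eq_zero_iff_of_nonneg hcnn).mp hzero
    -- all levels are `≥ 1`
    have hlev : ∀ i ∈ S, ∃ k : ℕ, k < J ∧
        (sd i = β * β ^ k ∨ sd i = β * (β ^ k * (2 - β))) := by
      intro i hi
      have hci := hall0 i hi
      have h1 : sd i ≠ 1 := by
        intro h
        rw [hc1 i h] at hci
        exact one_ne_zero hci
      have h2 : sd i ≠ 2 - β := by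
        intro h
        rw [hc2 i h1 h] at hci
        norm_num at hci
      obtain ⟨j, hj, hj'⟩ := htype i hi
      rcases Nat.eq_zero_or_pos j with rfl | hjpos
      · exfalso
        rcases hj' with h | h
        · exact h1 (by rw [h, pow_zero])
        · exact h2 (by rw [h, pow_zero, one_mul])
      · obtain ⟨k, rfl⟩ : ∃ k, j = k + 1 := ⟨j - 1, by omega⟩
        refine ⟨k, by omega, ?_⟩
        rcases hj' with h | h
        · left; rw [h, pow_succ']
        · right; rw [h, pow_succ', mul_assoc]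
    have htype' : ∀ i ∈ S, ∃ j : ℕ, j < J ∧
        (sd i / β = β ^ j ∨ sd i / β = β ^ j * (2 - β)) := by
      intro i hi
      obtain ⟨k, hk, h | h⟩ := hlev i hi
      · exact ⟨k, hk, Or.inl (by rw [h, Int.mul_ediv_cancel_left _ hβ0])⟩
      · exact ⟨k, hk, Or.inr (by rw [h, Int.mul_ediv_cancel_left _ hβ0])⟩
    have hsum' : ∑ i ∈ S, sd i = β * ∑ i ∈ S, sd i / β := by
      rw [Finset.mul_sum]
      apply Finset.sum_congr rfl
      intro i hi
      obtain ⟨k, -, h | h⟩ := hlev i hi
      · rw [h, Int.mul_ediv_cancel_left _ hβ0]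
      · rw [h, Int.mul_ediv_cancel_left _ hβ0]
    have hdvd' : (T : ℤ) ^ J ∣ ∑ i ∈ S, sd i / β := by
      rw [hsum', pow_succ'] at hdvd
      generalize (∑ i ∈ S, sd i / β) = X at hdvd ⊢
      rcases hβ with h | h
      · rw [h] at hdvd
        exact (mul_dvd_mul_iff_left hT0).mp hdvd
      · rw [h, neg_mul, dvd_neg] at hdvd
        exact (mul_dvd_mul_iff_left hT0).mp hdvd
    exact ih (fun i => sd i / β) htype' hdvd'

end Cfsg.Agent.Helper49.BT97
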