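/-
helper49: piece (II) of helper16's farm for S4427 (#12085).
The coefficients of an idempotent of the local group ring on the `p`-singular elements sum
to an element of the local ideal.  (`f = f ^ (p ^ N)`, expand the convolution power as a sum over
tuples, let the cyclic group of rotations of the tuples act.)
-/
import Cfsg.Agent.Helper16.PC.Defs
import Cfsg.Agent.Helper16.MinMax

set_option autoImplicit false
set_option linter.unusedSectionVars false
set_option linter.unusedVariables false

namespace Cfsg.Agent.Helper49.PC

open Cfsg Cfsg.Agent.Helper16 Cfsg.Agent.Helper16.PC Polynomial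
open scoped ComplexConjugate

universe u

section Rot

variable {α : Type*}

/-- the type of `(m + 1)`-tuples, as a synonym (to carry the rotation action) -/
def PcTup (m : ℕ) (α : Type*) : Type _ := Fin (m + 1) → α

instance pcTupFintype (m : ℕ) (α : Type*) [Fintype α] : Fintype (PcTup m α) :=
  inferInstanceAs (Fintype (Fin (m + 1) → α))

/-- rotation of tuples -/
def pcRot {m : ℕ} (v : PcTup m α) : PcTup m α := fun i => v (i + 1)

/-- the cyclic group of order `m + 1` acts on the tuples by rotation -/
instance pcRotAction (m : ℕ) : MulAction (Multiplicative (Fin (m + 1))) (PcTup m α) where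
  smul u v := fun i => v (i + Multiplicative.toAdd u)
  one_smul v := by
    funext i
    change v (i + 0) = v i
    rw [add_zero]
  mul_smul u w v := by
    funext i
    change v (i + (Multiplicative.toAdd u + Multiplicative.toAdd w)) =
      v (i + Multiplicative.toAdd u + Multiplicative.toAdd w)
    rw [add_assoc]

theorem pcRot_smul_apply {m : ℕ} (u : Multiplicative (Fin (m + 1))) (v : PcTup m α)
    (i : Fin (m + 1)) : (u • v) i = v (i + Multiplicative.toAdd u) := rfl

theorem pcRot_smul_ofAdd_one {m : ℕ} (v : PcTup m α) :
    (Multiplicative.ofAdd (1 : Fin (m + 1))) • v = pcRot v := rfl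

theorem pcRot_smul_succ {m : ℕ} (u : Fin (m + 1)) (v : PcTup m α) :
    (Multiplicative.ofAdd (u + 1)) • v = pcRot ((Multiplicative.ofAdd u) • v) := by
  funext i
  change v (i + (u + 1)) = v (i + 1 + u)
  congr 1
  abel

theorem pcRot_eq_snoc {m : ℕ} (v : Fin (m + 1) → α) :
    (fun i => v (i + 1)) = (Fin.snoc (Fin.tail v) (v 0) : Fin (m + 1) → α) := by
  funext i
  refine Fin.lastCases ?_ (fun j => ?_) i
  · simp
  · simp [Fin.tail]

theorem pcRot_fixed_const {m : ℕ} (v : PcTup m α) (h : pcRot v = v) (i : Fin (m + 1)) :
    v i = v 0 := by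
  induction i using Fin.induction with
  | zero => rfl
  | succ j ih =>
    have := congrFun h j.castSucc
    unfold pcRot at this
    rw [Fin.coeSucc_eq_succ] at this
    rw [this, ih]

/-- a function of tuples invariant under the basic rotation is invariant under the action -/
theorem pcRot_invariant {m : ℕ} {β : Type*} (F : PcTup m α → β)
    (hF : ∀ v, F (pcRot v) = F v) (u : Multiplicative (Fin (m + 1))) (v : PcTup m α) :
    F (u • v) = F v := by
  have key : ∀ a : Fin (m + 1), F ((Multiplicative.ofAdd a) • v) = F v := by
    intro a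
    induction a using Fin.induction with
    | zero =>
      have : (Multiplicative.ofAdd (0 : Fin (m + 1))) = 1 := rfl
      rw [this, one_smul]
    | succ j ih =>
      rw [← Fin.coeSucc_eq_succ, pcRot_smul_succ, hF, ih]
  exact key (Multiplicative.toAdd u)

end Rot

variable {G : Type u} [Group G] [Fintype G] {M : Ideal AlgInt} {p : ℕ}

theorem pcRot_prod_fun {m : ℕ} (v : Fin (m + 1) → G) :
    (List.ofFn (fun i => v (i + 1))).prod = (v 0)⁻¹ * (List.ofFn v).prod * v 0 := by
  classical
  rw [pcRot_eq_snoc, Cfsg.Agent.Helper49.ConvPowCount.prod_snoc, List.ofFn_succ, List.prod_cons,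
    inv_mul_cancel_left]
  rfl

theorem pcRot_prod {m : ℕ} (v : PcTup m G) :
    (List.ofFn (pcRot v)).prod = (v 0)⁻¹ * (List.ofFn v).prod * v 0 :=
  pcRot_prod_fun v


theorem pcRot_orderOf_prod {m : ℕ} (v : PcTup m G) :
    orderOf (List.ofFn (pcRot v)).prod = orderOf (List.ofFn v).prod := by
  rw [pcRot_prod]
  symm
  apply SemiconjBy.orderOf_eq (v 0)⁻¹
  unfold SemiconjBy
  group

theorem pcRot_prod_weights {m : ℕ} (b : G → ℂ) (v : PcTup m G) :
    ∏ i, b ((pcRot v) i) = ∏ i, b (v i) :=
  Equiv.prod_comp (Equiv.addRight (1 : Fin (m + 1))) (fun i => b (v i))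

theorem pc_not_dvd_orderOf_pow (p : ℕ) [Fact p.Prime] (k : G) :
    ¬ p ∣ orderOf (k ^ (p ^ (Nat.card G).factorization p)) := by
  have hp : p.Prime := Fact.out
  intro h
  have hG : Nat.card G ≠ 0 := Nat.card_pos.ne'
  have h1 : (k ^ (p ^ (Nat.card G).factorization p)) ^ (Nat.card G / p ^ (Nat.card G).factorization p)
      = 1 := by
    rw [← pow_mul, Nat.ordProj_mul_ordCompl_eq_self, pow_card_eq_one']
  exact Nat.not_dvd_ordCompl hp hG (h.trans (orderOf_dvd_of_pow_eq_one h1))

/-- (II) the coefficients of an idempotent of the local group ring on the `p`-singular elements sum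
to an element of the local ideal. -/
theorem PC_II [Fact p.Prime] (hM : IsPModular p M) (f : CAlg G) (hf : f * f = f)
    (hfR : RValued M (CAlg.fn f)) :
    MemLocalIdeal M (∑ k : G, if p ∣ orderOf k then CAlg.fn f k else 0) := by
  classical
  have hMp : M.IsPrime := IsPModular.isPrime hM
  have hp : p.Prime := Fact.out
  obtain ⟨m, hm⟩ : ∃ m, p ^ (Nat.card G).factorization p = m + 1 :=
    Nat.exists_eq_succ_of_ne_zero (pow_pos hp.pos _).ne'
  have hpow : ∀ n : ℕ, f ^ (n + 1) = f := by
    intro n
    induction n with
    | zero => simp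
    | succ n ih => rw [pow_succ, ih, hf]
  have hfk : ∀ k, CAlg.fn f k =
      ∑ v : Fin (m + 1) → G, if (List.ofFn v).prod = k then ∏ i, CAlg.fn f (v i) else 0 := by
    intro k
    conv_lhs => rw [← hpow m]
    rw [CAlg.fn_pow, convPow_apply_eq_sum_tuples]
  let F : PcTup m G → ℂ := fun v =>
    if p ∣ orderOf (List.ofFn v).prod then ∏ i, CAlg.fn f (v i) else 0
  have hsum : (∑ k : G, if p ∣ orderOf k then CAlg.fn f k else 0) = ∑ v : PcTup m G, F v := by
    calc (∑ k : G, if p ∣ orderOf k then CAlg.fn f k else 0)
        = ∑ k : G, ∑ v : PcTup m G, if (List.ofFn v).prod = k then F v else 0 := by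
          refine Finset.sum_congr rfl (fun k _ => ?_)
          rw [hfk k]
          by_cases hk : p ∣ orderOf k
          · rw [if_pos hk]
            refine Finset.sum_congr rfl (fun v _ => ?_)
            by_cases hv : (List.ofFn v).prod = k
            · simp only [F]
              rw [if_pos hv, if_pos hv, hv, if_pos hk]
            · rw [if_neg hv, if_neg hv]
          · rw [if_neg hk]
            symm
            apply Finset.sum_eq_zero
            intro v _
            by_cases hv : (List.ofFn v).prod = k
            · simp only [F]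
              rw [if_pos hv, hv, if_neg hk]
            · rw [if_neg hv]
      _ = ∑ v : PcTup m G, ∑ k : G, if (List.ofFn v).prod = k then F v else 0 := Finset.sum_comm
      _ = ∑ v : PcTup m G, F v := by
          refine Finset.sum_congr rfl (fun v _ => ?_)
          rw [Finset.sum_ite_eq]
          simp
  rw [hsum]
  refine memLocalIdeal_sum_of_pgroup_action (p := p) hM.2.2
    (Γ := Multiplicative (Fin (m + 1))) ?_ F ?_ ?_ ?_
  · apply IsPGroup.of_card (n := (Nat.card G).factorization p)
    rw [Nat.card_eq_fintype_card, Fintype.card_multiplicative, Fintype.card_fin, hm]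
  · intro v
    simp only [F]
    split_ifs
    · exact memLocalRing_prod _ _ (fun i _ => hfR _)
    · exact memLocalRing_zero
  · intro u v
    refine pcRot_invariant F (fun w => ?_) u v
    simp only [F]
    rw [pcRot_orderOf_prod, pcRot_prod_weights (CAlg.fn f) w]
  · intro v hv
    have h1 : pcRot v = v := hv (Multiplicative.ofAdd 1)
    have hc := pcRot_fixed_const v h1
    have hv' : (v : Fin (m + 1) → G) = fun _ => v 0 := funext hc
    have hprod : (List.ofFn v).prod = (v 0) ^ (p ^ (Nat.card G).factorization p) := by
      rw [hv', List.ofFn_const, List.prod_replicate, hm]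
    simp only [F]
    rw [hprod, if_neg (pc_not_dvd_orderOf_pow p (v 0))]
    exact memLocalIdeal_zero

end Cfsg.Agent.Helper49.PC
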