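import Cfsg.Agent.Helper22.Bender
import Cfsg.Agent.Helper49.CharP
import Cfsg.Agent.Helper65.Nilpotent

set_option autoImplicit false

/-!
`F*(H) = O_p(H)` iff `C_H(O_p(H)) ≤ O_p(H)` (helper49), on top of helper22's Bender theorem.
-/

namespace Cfsg.Agent.Helper49

open Cfsg

variable {H : Type*} [Group H] {p : ℕ}

theorem fittingSubgroup_le_pCore_of_charP [Finite H] [Fact p.Prime]
    (hc : Subgroup.centralizer (pCore p H : Set H) ≤ pCore p H) :
    fittingSubgroup H ≤ pCore p H := by
  have hFn : (fittingSubgroup H).Normal := Cfsg.Agent.Lib.fittingSubgroup_normal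
  haveI : Group.IsNilpotent ↥(fittingSubgroup H) := Cfsg.Agent.Lib.isNilpotent_fittingSubgroup
  have hPF : pCore p H ≤ fittingSubgroup H := Cfsg.Agent.Lib.pCore_le_fittingSubgroup p
  have hPp : IsPGroup p (pCore p H) := pCore_isPGroup p H
  apply le_pCore hFn
  apply isPGroup_of_forall_coprime
  intro c hcF hcop
  have hcP : ∀ x ∈ pCore p H, c * x = x * c := by
    intro x hx
    obtain ⟨k, hk⟩ := hPp ⟨x, hx⟩
    have hk' : x ^ (p ^ k) = 1 := by simpa using congrArg Subtype.val hk
    have hxo : orderOf x ∣ p ^ k := orderOf_dvd_of_pow_eq_one hk'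
    have hco : (orderOf (⟨c, hcF⟩ : ↥(fittingSubgroup H))).Coprime
        (orderOf (⟨x, hPF hx⟩ : ↥(fittingSubgroup H))) := by
      rw [Subgroup.orderOf_mk, Subgroup.orderOf_mk]
      exact Nat.Coprime.coprime_dvd_right hxo (hcop.pow_right k)
    have := Cfsg.Agent.Helper65.commute_of_coprime_orderOf ↥(fittingSubgroup H) _ _ hco
    have h2 := congrArg Subtype.val this.eq
    simpa using h2
  have hcP' : c ∈ pCore p H := mem_pCore_of_charP hc hcP
  exact eq_one_of_mem_pGroup_of_coprime hPp hcP' hcop

theorem layer_eq_bot_of_charP [Finite H] [Fact p.Prime]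
    (hc : Subgroup.centralizer (pCore p H : Set H) ≤ pCore p H) : layer H = ⊥ := by
  haveI hFn : (fittingSubgroup H).Normal := Cfsg.Agent.Lib.fittingSubgroup_normal
  have hPF : pCore p H ≤ fittingSubgroup H := Cfsg.Agent.Lib.pCore_le_fittingSubgroup p
  have h1 : ⁅layer H, fittingSubgroup H⁆ = ⊥ := Cfsg.Agent.Helper22.layer_commutator_fittingSubgroup
  have h2 : layer H ≤ Subgroup.centralizer (fittingSubgroup H : Set H) :=
    Subgroup.commutator_eq_bot_iff_le_centralizer.mp h1
  have h3 : layer H ≤ pCore p H := by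
    refine le_trans ?_ hc
    exact h2.trans (Subgroup.centralizer_le hPF)
  apply Cfsg.Agent.Helper22.layer_eq_bot_of_isSolvable
  haveI : Group.IsNilpotent ↥(pCore p H) := (pCore_isPGroup p H).isNilpotent
  exact Group.isSolvable_of_isSolvable_injective (f := Subgroup.inclusion h3)
    (Subgroup.inclusion_injective _)

/-- `F*(H) = O_p(H)` iff `H` has characteristic `p`. -/
theorem gfs_eq_pCore_iff [Finite H] [Fact p.Prime] :
    generalizedFittingSubgroup H = pCore p H ↔
      Subgroup.centralizer (pCore p H : Set H) ≤ pCore p H := by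
  constructor
  · intro h
    rw [← h]
    exact Cfsg.Agent.Helper22.centralizer_generalizedFittingSubgroup_le
  · intro hc
    unfold generalizedFittingSubgroup
    rw [layer_eq_bot_of_charP hc, bot_sup_eq]
    exact le_antisymm (fittingSubgroup_le_pCore_of_charP hc)
      (Cfsg.Agent.Lib.pCore_le_fittingSubgroup p)

end Cfsg.Agent.Helper49
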