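import Mathlib
import Cfsg.Agent.Helper21.THDefs2
import Cfsg.Agent.Helper38.THW5

set_option autoImplicit false

/-!
# Piece (P1b) of helper21's WANTED #5569 (for S3797): `SCfg.quot_hyps`

`N = N_G(T)`, `Q = N / T`: `Q` has one class of involutions, two commuting involutions, `O(Q) = 1`
and `|Q| < |G|`.
-/

namespace Cfsg.Agent.Helper49.THP1b

open Subgroup Cfsg Cfsg.Agent.Helper21.TH

universe u

variable {G : Type u} [Group G] [Finite G]

theorem oneClass_normalizer {V T : Subgroup G} (h : SCfg G V T) (h1 : OneClass G) :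
    OneClass ↥(normalizer (T : Set G)) := by
  intro x y hx1 hx2 hy1 hy2
  have hx1' : (x : G) ≠ 1 := fun e => hx1 (Subtype.ext e)
  have hx2' : (x : G) ^ 2 = 1 := by
    have := congrArg Subtype.val hx2
    simpa using this
  have hy1' : (y : G) ≠ 1 := fun e => hy1 (Subtype.ext e)
  have hy2' : (y : G) ^ 2 = 1 := by
    have := congrArg Subtype.val hy2
    simpa using this
  obtain ⟨g, hg⟩ := isConj_iff.1 (h1 _ _ hx1' hx2' hy1' hy2')
  have hg' : g ∈ ((normalizer (T : Set G) ⊔ pCore 2 G : Subgroup G) : Set G) := by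
    rw [h.hfrat]; trivial
  rw [Subgroup.mul_normal] at hg'
  obtain ⟨n, hn, p, hp, rfl⟩ := Set.mem_mul.1 hg'
  have hpx : p * (x : G) * p⁻¹ = x := by
    have hxV : (x : G) ∈ V := h.hinv _ hx2'
    have := mem_centralizer_iff.mp (h.hVZ hxV) p hp
    rw [this, mul_inv_cancel_right]
  rw [isConj_iff]
  refine ⟨⟨n, hn⟩, Subtype.ext ?_⟩
  simp only [Subgroup.coe_mul, Subgroup.coe_inv]
  rw [← hg]
  calc n * (x : G) * n⁻¹ = n * (p * (x : G) * p⁻¹) * n⁻¹ := by rw [hpx]
    _ = n * p * (x : G) * (n * p)⁻¹ := by group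

theorem le_normalizer_of_scfg {V T : Subgroup G} (h : SCfg G V T) :
    V ≤ normalizer (T : Set G) := by
  intro v hv
  have : v ∈ centralizer (T : Set G) := by
    rw [mem_centralizer_iff]
    intro t ht
    exact (mem_centralizer_iff.mp (h.hTV ht) v hv).symm
  exact Subgroup.centralizer_le_normalizer _ this

theorem twoInv_normalizer {V T : Subgroup G} (h : SCfg G V T) (h2 : TwoInv G) :
    TwoInv ↥(normalizer (T : Set G)) := by
  obtain ⟨x, y, hxy, hx1, hx2, hy1, hy2, hc⟩ := h2
  have hVN := le_normalizer_of_scfg h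
  refine ⟨⟨x, hVN (h.hinv x hx2)⟩, ⟨y, hVN (h.hinv y hy2)⟩, ?_, ?_, ?_, ?_, ?_, ?_⟩
  · intro e; exact hxy (congrArg Subtype.val e)
  · intro e; exact hx1 (congrArg Subtype.val e)
  · exact Subtype.ext (by simpa using hx2)
  · intro e; exact hy1 (congrArg Subtype.val e)
  · exact Subtype.ext (by simpa using hy2)
  · exact Subtype.ext (by simpa using hc)

theorem card_subgroupOf_normalizer (T : Subgroup G) :
    Nat.card (T.subgroupOf (normalizer (T : Set G))) = Nat.card T :=
  Nat.card_congr (Subgroup.subgroupOfEquivOfLe (le_normalizer (H := T))).toEquiv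

/-- the odd core of `N_G(T) / T` is trivial. -/
theorem pPrimeCore_quot_eq_bot {V T : Subgroup G} (h : SCfg G V T) :
    pPrimeCore 2 (↥(normalizer (T : Set G)) ⧸ T.subgroupOf (normalizer (T : Set G))) = ⊥ := by
  set N : Subgroup G := normalizer (T : Set G) with hN
  set T' : Subgroup N := T.subgroupOf N with hT'
  set O := pPrimeCore 2 (↥N ⧸ T') with hO
  set π : ↥N →* ↥N ⧸ T' := QuotientGroup.mk' T' with hπ
  set M' : Subgroup N := O.comap π with hM'
  set M : Subgroup G := M'.map N.subtype with hM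
  have hTN : T ≤ N := le_normalizer
  have hT'card : Nat.card T' = Nat.card T := card_subgroupOf_normalizer T
  have hOodd : (Nat.card O).Coprime 2 := Cfsg.Agent.Lib.card_pPrimeCore_coprime 2
  have hTodd : (Nat.card T).Coprime 2 := (Nat.coprime_two_right).2 h.hTodd
  -- `|M| = |M'| = |T| |O|` is odd
  have hMcard : Nat.card M = Nat.card M' :=
    Nat.card_congr (M'.equivMapOfInjective N.subtype N.subtype_injective).symm.toEquiv
  have hM'card : Nat.card M' = Nat.card T' * Nat.card O := Cfsg.Agent.Helper24.card_comap_mk T' O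
  have hModd : (Nat.card M).Coprime 2 := by
    rw [hMcard, hM'card, hT'card]
    exact Nat.Coprime.mul_left hTodd hOodd
  -- `T ≤ M`
  have hT'M' : T' ≤ M' := Cfsg.Agent.Helper24.le_comap_mk T' O
  have hTM : T ≤ M := by
    intro t ht
    exact ⟨⟨t, hTN ht⟩, hT'M' (Subgroup.mem_subgroupOf.mpr ht), rfl⟩
  have hMN : M ≤ N := by
    rintro _ ⟨m, -, rfl⟩
    exact m.2
  -- `N` normalizes `M`
  haveI hM'n : M'.Normal := by rw [hM']; infer_instance
  have hNM : ∀ n ∈ N, ∀ m ∈ M, n * m * n⁻¹ ∈ M := by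
    rintro n hn _ ⟨m, hm, rfl⟩
    exact ⟨⟨n, hn⟩ * m * ⟨n, hn⟩⁻¹, hM'n.conj_mem m hm ⟨n, hn⟩, rfl⟩
  -- `M ⊔ P` is normal
  have hSn : (M ⊔ pCore 2 G).Normal := by
    have hle : N ⊔ pCore 2 G ≤ normalizer ((M ⊔ pCore 2 G : Subgroup G) : Set G) := by
      apply sup_le
      · intro n hn
        have hconj : ∀ s ∈ M ⊔ pCore 2 G, n * s * n⁻¹ ∈ M ⊔ pCore 2 G := by
          intro s hs
          have hs' : s ∈ ((M ⊔ pCore 2 G : Subgroup G) : Set G) := hs
          rw [Subgroup.mul_normal] at hs'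
          obtain ⟨m, hm, p, hp, rfl⟩ := Set.mem_mul.1 hs'
          have e : n * (m * p) * n⁻¹ = (n * m * n⁻¹) * (n * p * n⁻¹) := by group
          rw [e]
          exact Subgroup.mul_mem _ (Subgroup.mem_sup_left (hNM n hn m hm))
            (Subgroup.mem_sup_right ((pCore_normal 2 G).conj_mem p hp n))
        rw [mem_normalizer_iff]
        intro s
        constructor
        · exact hconj s
        · intro hs
          have hn' : n⁻¹ ∈ N := N.inv_mem hn
          have hconj' : ∀ s ∈ M ⊔ pCore 2 G, n⁻¹ * s * n⁻¹⁻¹ ∈ M ⊔ pCore 2 G := by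
            intro s hs
            have hs' : s ∈ ((M ⊔ pCore 2 G : Subgroup G) : Set G) := hs
            rw [Subgroup.mul_normal] at hs'
            obtain ⟨m, hm, p, hp, rfl⟩ := Set.mem_mul.1 hs'
            have e : n⁻¹ * (m * p) * n⁻¹⁻¹ = (n⁻¹ * m * n⁻¹⁻¹) * (n⁻¹ * p * n⁻¹⁻¹) := by group
            rw [e]
            exact Subgroup.mul_mem _ (Subgroup.mem_sup_left (hNM n⁻¹ hn' m hm))
              (Subgroup.mem_sup_right ((pCore_normal 2 G).conj_mem p hp n⁻¹))
          have := hconj' _ hs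
          have e : n⁻¹ * (n * s * n⁻¹) * n⁻¹⁻¹ = s := by group
          rwa [e] at this
      · exact le_sup_right.trans le_normalizer
    rw [h.hfrat] at hle
    exact normalizer_eq_top_iff.mp (top_le_iff.mp hle)
  -- the image of `M ⊔ P` in `G / P` has odd order, so `M ⊔ P ≤ K`
  have hSK : M ⊔ pCore 2 G ≤ Cfsg.Agent.Helper21.GY.pqCore 2 G := by
    set f := QuotientGroup.mk' (pCore 2 G) with hf
    have himg : (M ⊔ pCore 2 G).map f = M.map f := by
      rw [Subgroup.map_sup]
      have : (pCore 2 G).map f = ⊥ :=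
        (Subgroup.map_eq_bot_iff _).mpr (QuotientGroup.ker_mk' (pCore 2 G)).ge
      rw [this, sup_bot_eq]
    have hn : ((M ⊔ pCore 2 G).map f).Normal :=
      hSn.map f (QuotientGroup.mk'_surjective _)
    have hc : (Nat.card ((M ⊔ pCore 2 G).map f)).Coprime 2 := by
      rw [himg]
      exact Nat.Coprime.coprime_dvd_left (Subgroup.card_map_dvd _ f) hModd
    have hle := Cfsg.Agent.Lib.le_pPrimeCore hn hc
    unfold Cfsg.Agent.Helper21.GY.pqCore
    rw [← Subgroup.map_le_iff_le_comap]
    exact hle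
  -- `|M|` divides `|T|`
  have hP2 : IsPGroup 2 (pCore 2 G) := Cfsg.Agent.Lib.isPGroup_pCore 2
  have hPM : pCore 2 G ⊓ M = ⊥ := by
    apply Disjoint.eq_bot
    apply Subgroup.disjoint_of_coprime_natCard
    obtain ⟨k, hk⟩ := (IsPGroup.iff_card).mp hP2
    rw [hk]
    exact Nat.Coprime.pow_left k hModd.symm
  have hidxM : (pCore 2 G).relIndex (M ⊔ pCore 2 G) = Nat.card M := by
    rw [Subgroup.relIndex_sup_right, ← Subgroup.inf_relIndex_right, hPM,
      Subgroup.relIndex_bot_left]
  have hidxT : (pCore 2 G).relIndex (Cfsg.Agent.Helper21.GY.pqCore 2 G) = Nat.card T := by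
    rw [h.hK, Subgroup.relIndex_sup_left, ← Subgroup.inf_relIndex_right, h.hPT,
      Subgroup.relIndex_bot_left]
  have hdvd : Nat.card M ∣ Nat.card T := by
    rw [← hidxM, ← hidxT]
    exact ⟨_, (Subgroup.relIndex_mul_relIndex _ _ _ le_sup_right hSK).symm⟩
  have hMT : M = T := by
    symm
    apply Subgroup.eq_of_le_of_card_ge hTM
    exact Nat.le_of_dvd Nat.card_pos hdvd
  -- conclude
  have hM'T' : M' = T' := by
    have h1 : M.subgroupOf N = M' := by
      rw [hM, Subgroup.subgroupOf, Subgroup.comap_map_eq_self_of_injective N.subtype_injective]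
    rw [← h1, hMT]
  have hsurj : Function.Surjective π := QuotientGroup.mk'_surjective T'
  have h2 : O = M'.map π := (Subgroup.map_comap_eq_self_of_surjective hsurj O).symm
  rw [h2, hM'T']
  exact (Subgroup.map_eq_bot_iff _).mpr (QuotientGroup.ker_mk' T').ge

/-- **(P1b)** of #5569. -/
theorem SCfg.quot_hyps {V T : Subgroup G} (h : SCfg G V T) (hsol : Group.IsSolvable G)
    (h1 : OneClass G) (h2 : TwoInv G) :
    OneClass (↥(normalizer (T : Set G)) ⧸ T.subgroupOf (normalizer (T : Set G))) ∧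
    TwoInv (↥(normalizer (T : Set G)) ⧸ T.subgroupOf (normalizer (T : Set G))) ∧
    pPrimeCore 2 (↥(normalizer (T : Set G)) ⧸ T.subgroupOf (normalizer (T : Set G))) = ⊥ ∧
    Nat.card (↥(normalizer (T : Set G)) ⧸ T.subgroupOf (normalizer (T : Set G))) < Nat.card G := by
  have hodd : Odd (Nat.card (T.subgroupOf (normalizer (T : Set G)))) := by
    rw [card_subgroupOf_normalizer]; exact h.hTodd
  refine ⟨Cfsg.Agent.Helper38.TH.oneClass_quotient_odd _ hodd (oneClass_normalizer h h1),
    Cfsg.Agent.Helper38.TH.twoInv_quotient_odd _ hodd (twoInv_normalizer h h2),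
    pPrimeCore_quot_eq_bot h, ?_⟩
  have hc := Subgroup.card_eq_card_quotient_mul_card_subgroup
    (T.subgroupOf (normalizer (T : Set G)))
  rw [card_subgroupOf_normalizer] at hc
  have hT2 : 2 ≤ Nat.card T := by
    have h1 : Nat.card T ≠ 1 := fun e => h.hTne (Subgroup.card_eq_one.mp e)
    have h0 : 0 < Nat.card T := Nat.card_pos
    omega
  have hNG : Nat.card ↥(normalizer (T : Set G)) ≤ Nat.card G := Subgroup.card_le_card_group _
  have hQpos : 0 < Nat.card (↥(normalizer (T : Set G)) ⧸ T.subgroupOf (normalizer (T : Set G))) :=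
    Nat.card_pos
  nlinarith

end Cfsg.Agent.Helper49.THP1b
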