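import Mathlib

set_option autoImplicit false

/-!
# Piece (W2) of helper21's WANTED #5260 (for S3797): `A_centralizes_comm`

`Y` a 2-group with `V ≤ Z(Y)` of exponent 2, `Y / V` of exponent 2 and `Ω₁(Y) = V`, so that squaring
is an anisotropic quadratic map `M := Y / V → V` with polar form the commutator.  If `g` acts on
`M` as an involution, then `(1 + g) M` is totally isotropic, hence squaring is an injective
homomorphism on it, and any `a` commuting with `g` and centralizing `V` fixes `(1 + g) M` pointwise.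
As `x (1 + t) m = (1 + x) m + (1 + x t) m` and `x`, `x t` are involutions on `M`, `A` is trivial on
`[M, t]`; the coprime action of `A` then gives that `A` centralizes `[Y, t]`.  Everything is done
elementwise inside `G` (no quotient types).  The hypothesis `Odd (orderOf t)` is not needed.
-/

namespace Cfsg.Agent.Helper49.THW2

open Subgroup

section Core

variable {G : Type*} [Group G]

/-- the commutator `p q p⁻¹ q⁻¹`. -/
def cm (p q : G) : G := p * q * p⁻¹ * q⁻¹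

/-- `V ≤ Z(Y)` of exponent 2, `Y / V` of exponent 2 and `Ω₁(Y) = V`. -/
structure QSet (Y V : Subgroup G) : Prop where
  hVY : V ≤ Y
  hVc : ∀ v ∈ V, ∀ y ∈ Y, v * y = y * v
  hV2 : ∀ v ∈ V, v * v = 1
  hsq : ∀ y ∈ Y, y ^ 2 ∈ V
  hΩ : ∀ y ∈ Y, y ^ 2 = 1 → y ∈ V

variable {Y V : Subgroup G}

theorem cm_conj (g p q : G) : g * cm p q * g⁻¹ = cm (g * p * g⁻¹) (g * q * g⁻¹) := by
  unfold cm; group

theorem mul_eq_cm_mul (p q : G) : p * q = cm p q * (q * p) := by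
  unfold cm; group

theorem QSet.conj_V (h : QSet Y V) {v y : G} (hv : v ∈ V) (hy : y ∈ Y) : y * v * y⁻¹ = v := by
  rw [← h.hVc v hv y hy, mul_assoc, mul_inv_cancel, mul_one]

theorem QSet.cm_mem (h : QSet Y V) {p q : G} (hp : p ∈ Y) (hq : q ∈ Y) : cm p q ∈ V := by
  have e : cm p q = (p * q) ^ 2 * (q⁻¹ * (p ^ 2)⁻¹ * q⁻¹⁻¹) * (q ^ 2)⁻¹ := by
    unfold cm; rw [pow_two, pow_two, pow_two]; group
  rw [e, h.conj_V (V.inv_mem (h.hsq p hp)) (Y.inv_mem hq)]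
  exact V.mul_mem (V.mul_mem (h.hsq _ (Y.mul_mem hp hq)) (V.inv_mem (h.hsq p hp)))
    (V.inv_mem (h.hsq q hq))

theorem QSet.cm_V_left (h : QSet Y V) {v q : G} (hv : v ∈ V) (hq : q ∈ Y) : cm v q = 1 := by
  unfold cm
  rw [h.hVc v hv q hq]
  group

theorem QSet.cm_mul_left (h : QSet Y V) {p q r : G} (hp : p ∈ Y) (hq : q ∈ Y) (hr : r ∈ Y) :
    cm (p * q) r = cm p r * cm q r := by
  have hc : cm q r ∈ V := h.cm_mem hq hr
  have e : cm (p * q) r = (p * cm q r * p⁻¹) * cm p r := by unfold cm; group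
  rw [e, h.conj_V hc hp]
  exact h.hVc _ hc _ (h.hVY (h.cm_mem hp hr))

theorem QSet.cm_mul_right (h : QSet Y V) {p q r : G} (hp : p ∈ Y) (hq : q ∈ Y) (hr : r ∈ Y) :
    cm p (q * r) = cm p q * cm p r := by
  have hc : cm p r ∈ V := h.cm_mem hp hr
  have e : cm p (q * r) = cm p q * (q * cm p r * q⁻¹) := by unfold cm; group
  rw [e, h.conj_V hc hq]

/-- `(1 + g) M` is totally isotropic: the elements `u (g u g⁻¹)` commute. -/
theorem QSet.commute_one_add (h : QSet Y V) {g : G} (hgY : g ∈ normalizer (Y : Set G))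
    (hgV : ∀ v ∈ V, g * v * g⁻¹ = v)
    (hg2 : ∀ y ∈ Y, g * (g * y * g⁻¹) * g⁻¹ * y⁻¹ ∈ V) {u u' : G} (hu : u ∈ Y) (hu' : u' ∈ Y) :
    (u * (g * u * g⁻¹)) * (u' * (g * u' * g⁻¹)) = (u' * (g * u' * g⁻¹)) * (u * (g * u * g⁻¹)) := by
  have hw : g * u * g⁻¹ ∈ Y := (mem_normalizer_iff.mp hgY u).mp hu
  have hw' : g * u' * g⁻¹ ∈ Y := (mem_normalizer_iff.mp hgY u').mp hu'
  set w := g * u * g⁻¹ with hwdef
  set w' := g * u' * g⁻¹ with hw'def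
  have h1 : cm w w' = cm u u' := by
    rw [hwdef, hw'def, ← cm_conj, hgV _ (h.cm_mem hu hu')]
  have h2 : cm w u' = cm u w' := by
    have hv0 : g * w * g⁻¹ * u⁻¹ ∈ V := hg2 u hu
    have e1 : g * w * g⁻¹ = (g * w * g⁻¹ * u⁻¹) * u := by group
    calc cm w u' = g * cm w u' * g⁻¹ := (hgV _ (h.cm_mem hw hu')).symm
      _ = cm (g * w * g⁻¹) w' := cm_conj g w u'
      _ = cm ((g * w * g⁻¹ * u⁻¹) * u) w' := by rw [← e1]
      _ = cm (g * w * g⁻¹ * u⁻¹) w' * cm u w' := h.cm_mul_left (h.hVY hv0) hu hw'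
      _ = cm u w' := by rw [h.cm_V_left hv0 hw', one_mul]
  have h3 : cm (u * w) (u' * w') = 1 := by
    rw [h.cm_mul_left hu hw (Y.mul_mem hu' hw'), h.cm_mul_right hu hu' hw',
      h.cm_mul_right hw hu' hw', h1, h2]
    have hA := h.hV2 _ (h.cm_mem hu hu')
    have hB := h.hV2 _ (h.cm_mem hu hw')
    calc cm u u' * cm u w' * (cm u w' * cm u u')
        = cm u u' * (cm u w' * cm u w') * cm u u' := by group
      _ = 1 := by rw [hB, mul_one, hA]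
  rw [mul_eq_cm_mul (u * w) (u' * w'), h3, one_mul]

/-- `z` is fixed by `a` modulo `V`. -/
def PA (Y V : Subgroup G) (a z : G) : Prop := z ∈ Y ∧ a * z * a⁻¹ * z⁻¹ ∈ V

theorem QSet.PA_of_V (h : QSet Y V) {a : G} (haV : ∀ v ∈ V, a * v * a⁻¹ = v) {v : G}
    (hv : v ∈ V) : PA Y V a v := by
  refine ⟨h.hVY hv, ?_⟩
  rw [haV v hv, mul_inv_cancel]
  exact V.one_mem

theorem QSet.PA_mul (h : QSet Y V) {a z z' : G} (hz : PA Y V a z) (hz' : PA Y V a z') :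
    PA Y V a (z * z') := by
  refine ⟨Y.mul_mem hz.1 hz'.1, ?_⟩
  have e : a * (z * z') * a⁻¹ * (z * z')⁻¹ =
      (a * z * a⁻¹ * z⁻¹) * (z * (a * z' * a⁻¹ * z'⁻¹) * z⁻¹) := by group
  rw [e, h.conj_V hz'.2 hz.1]
  exact V.mul_mem hz.2 hz'.2

theorem QSet.PA_inv (h : QSet Y V) {a z : G} (hz : PA Y V a z) : PA Y V a z⁻¹ := by
  refine ⟨Y.inv_mem hz.1, ?_⟩
  have e : a * z⁻¹ * a⁻¹ * z⁻¹⁻¹ = z⁻¹ * (a * z * a⁻¹ * z⁻¹)⁻¹ * z⁻¹⁻¹ := by group
  rw [e, h.conj_V (V.inv_mem hz.2) (Y.inv_mem hz.1)]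
  exact V.inv_mem hz.2

/-- `PA` is stable under conjugation by `Y`. -/
theorem QSet.PA_conj (h : QSet Y V) {a : G} (haV : ∀ v ∈ V, a * v * a⁻¹ = v) {z y : G}
    (hz : PA Y V a z) (hy : y ∈ Y) : PA Y V a (y * z * y⁻¹) := by
  have e : y * z * y⁻¹ = cm y z * z := by unfold cm; group
  rw [e]
  exact h.PA_mul (h.PA_of_V haV (h.cm_mem hy hz.1)) hz

/-- **Key lemma.**  If `g` is an involution on `Y / V` and `a` commutes with `g` on `Y`, then `a`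
fixes `(1 + g) (Y / V)` pointwise. -/
theorem QSet.PA_one_add (h : QSet Y V) {g a : G} (hgY : g ∈ normalizer (Y : Set G))
    (hgV : ∀ v ∈ V, g * v * g⁻¹ = v)
    (hg2 : ∀ y ∈ Y, g * (g * y * g⁻¹) * g⁻¹ * y⁻¹ ∈ V)
    (haY : a ∈ normalizer (Y : Set G)) (haV : ∀ v ∈ V, a * v * a⁻¹ = v)
    (hag : ∀ y ∈ Y, a * (g * y * g⁻¹) * a⁻¹ = g * (a * y * a⁻¹) * g⁻¹) {u : G} (hu : u ∈ Y) :
    PA Y V a (u * (g * u * g⁻¹)) := by
  have hw : g * u * g⁻¹ ∈ Y := (mem_normalizer_iff.mp hgY u).mp hu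
  have hu' : a * u * a⁻¹ ∈ Y := (mem_normalizer_iff.mp haY u).mp hu
  have hw' : g * (a * u * a⁻¹) * g⁻¹ ∈ Y := (mem_normalizer_iff.mp hgY _).mp hu'
  have hm : u * (g * u * g⁻¹) ∈ Y := Y.mul_mem hu hw
  have hm' : (a * u * a⁻¹) * (g * (a * u * a⁻¹) * g⁻¹) ∈ Y := Y.mul_mem hu' hw'
  have e : a * (u * (g * u * g⁻¹)) * a⁻¹ = (a * u * a⁻¹) * (g * (a * u * a⁻¹) * g⁻¹) := by
    rw [← hag u hu]; group
  refine ⟨hm, ?_⟩
  rw [e]
  apply h.hΩ _ (Y.mul_mem hm' (Y.inv_mem hm))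
  have hc : Commute ((a * u * a⁻¹) * (g * (a * u * a⁻¹) * g⁻¹)) (u * (g * u * g⁻¹)) :=
    h.commute_one_add hgY hgV hg2 hu' hu
  rw [(hc.inv_right).mul_pow 2, inv_pow, ← e, conj_pow, haV _ (h.hsq _ hm), mul_inv_cancel]

end Core

/-- **(W2)** of #5260.  (`htodd` is not used.) -/
theorem A_centralizes_comm {G : Type*} [Group G] [Finite G] (Y V A : Subgroup G) (x t : G)
    (hVY : V ≤ Y) (hVc : V ≤ centralizer (Y : Set G)) (hV2 : ∀ v ∈ V, v ^ 2 = 1)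
    (hsq : ∀ y ∈ Y, y ^ 2 ∈ V) (hΩ : ∀ y ∈ Y, y ^ 2 = 1 → y ∈ V)
    (hxY : x ∈ normalizer (Y : Set G)) (hxV : x ∈ centralizer (V : Set G))
    (hx2 : ∀ y ∈ Y, x ^ 2 * y * (x ^ 2)⁻¹ * y⁻¹ ∈ V)
    (htY : t ∈ normalizer (Y : Set G)) (htV : t ∈ centralizer (V : Set G)) (htodd : Odd (orderOf t))
    (hxt : x * t * x⁻¹ = t⁻¹)
    (hAY : A ≤ normalizer (Y : Set G)) (hAV : A ≤ centralizer (V : Set G)) (hAodd : Odd (Nat.card A))
    (hxA : ∀ a ∈ A, x * a = a * x)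
    (htA : ∀ a ∈ A, t * a * t⁻¹ * a⁻¹ ∈ centralizer (Y : Set G)) :
    ∀ a ∈ A, ∀ y ∈ Y, a * (t * y * t⁻¹ * y⁻¹) * a⁻¹ = t * y * t⁻¹ * y⁻¹ := by
  intro a ha y hy
  have h : QSet Y V :=
    ⟨hVY, fun v hv y hy => ((mem_centralizer_iff.mp (hVc hv)) y hy).symm,
      fun v hv => by rw [← pow_two]; exact hV2 v hv, hsq, hΩ⟩
  have cent_conj : ∀ {g : G}, g ∈ centralizer (V : Set G) → ∀ v ∈ V, g * v * g⁻¹ = v := by
    intro g hg v hv
    have := mem_centralizer_iff.mp hg v hv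
    rw [← this, mul_assoc, mul_inv_cancel, mul_one]
  have hxV' := cent_conj hxV
  have htV' := cent_conj htV
  have haV := cent_conj (hAV ha)
  have haY := hAY ha
  -- `g = x`
  have hg2x : ∀ y ∈ Y, x * (x * y * x⁻¹) * x⁻¹ * y⁻¹ ∈ V := by
    intro y hy
    have e : x * (x * y * x⁻¹) * x⁻¹ * y⁻¹ = x ^ 2 * y * (x ^ 2)⁻¹ * y⁻¹ := by
      rw [pow_two]; group
    rw [e]
    exact hx2 y hy
  have hax : ∀ y : G, a * (x * y * x⁻¹) * a⁻¹ = x * (a * y * a⁻¹) * x⁻¹ := by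
    intro y
    calc a * (x * y * x⁻¹) * a⁻¹ = (a * x) * y * (a * x)⁻¹ := by group
      _ = (x * a) * y * (x * a)⁻¹ := by rw [← hxA a ha]
      _ = x * (a * y * a⁻¹) * x⁻¹ := by group
  -- `g = x t`
  have hat : ∀ y ∈ Y, a * (t * y * t⁻¹) * a⁻¹ = t * (a * y * a⁻¹) * t⁻¹ := by
    intro y hy
    have hk := htA a ha
    have hz : a * (t * y * t⁻¹) * a⁻¹ ∈ Y :=
      (mem_normalizer_iff.mp haY _).mp ((mem_normalizer_iff.mp htY y).mp hy)
    have hc := mem_centralizer_iff.mp hk _ hz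
    have e : t * (a * y * a⁻¹) * t⁻¹ =
        (t * a * t⁻¹ * a⁻¹) * (a * (t * y * t⁻¹) * a⁻¹) * (t * a * t⁻¹ * a⁻¹)⁻¹ := by group
    rw [e, ← hc, mul_inv_cancel_right]
  have hgY : x * t ∈ normalizer (Y : Set G) := (normalizer (Y : Set G)).mul_mem hxY htY
  have hgV : ∀ v ∈ V, (x * t) * v * (x * t)⁻¹ = v := by
    intro v hv
    have e : (x * t) * v * (x * t)⁻¹ = x * (t * v * t⁻¹) * x⁻¹ := by group
    rw [e, htV' v hv, hxV' v hv]
  have hxt' : x * t = t⁻¹ * x := by rw [← hxt]; group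
  have hg2 : ∀ y ∈ Y, (x * t) * ((x * t) * y * (x * t)⁻¹) * (x * t)⁻¹ * y⁻¹ ∈ V := by
    intro y hy
    have hy' : t * y * t⁻¹ ∈ Y := (mem_normalizer_iff.mp htY y).mp hy
    have hsq2 : (x * t) * (x * t) = t⁻¹ * x ^ 2 * t := by
      calc (x * t) * (x * t) = (x * t) * x * t := by group
        _ = (t⁻¹ * x) * x * t := by rw [hxt']
        _ = t⁻¹ * x ^ 2 * t := by rw [pow_two]; group
    have e : (x * t) * ((x * t) * y * (x * t)⁻¹) * (x * t)⁻¹ * y⁻¹ =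
        t⁻¹ * (x ^ 2 * (t * y * t⁻¹) * (x ^ 2)⁻¹ * (t * y * t⁻¹)⁻¹) * t⁻¹⁻¹ := by
      calc (x * t) * ((x * t) * y * (x * t)⁻¹) * (x * t)⁻¹ * y⁻¹
          = ((x * t) * (x * t)) * y * ((x * t) * (x * t))⁻¹ * y⁻¹ := by group
        _ = (t⁻¹ * x ^ 2 * t) * y * (t⁻¹ * x ^ 2 * t)⁻¹ * y⁻¹ := by rw [hsq2]
        _ = t⁻¹ * (x ^ 2 * (t * y * t⁻¹) * (x ^ 2)⁻¹ * (t * y * t⁻¹)⁻¹) * t⁻¹⁻¹ := by group
    have hv := hx2 _ hy'
    rw [e, cent_conj ((centralizer (V : Set G)).inv_mem htV) _ hv]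
    exact hv
  have hag : ∀ y ∈ Y, a * ((x * t) * y * (x * t)⁻¹) * a⁻¹ =
      (x * t) * (a * y * a⁻¹) * (x * t)⁻¹ := by
    intro y hy
    calc a * ((x * t) * y * (x * t)⁻¹) * a⁻¹ = a * (x * (t * y * t⁻¹) * x⁻¹) * a⁻¹ := by group
      _ = x * (a * (t * y * t⁻¹) * a⁻¹) * x⁻¹ := hax _
      _ = x * (t * (a * y * a⁻¹) * t⁻¹) * x⁻¹ := by rw [hat y hy]
      _ = (x * t) * (a * y * a⁻¹) * (x * t)⁻¹ := by group
  -- the two isotropic pieces
  have P1 : PA Y V a (y * (x * y * x⁻¹)) :=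
    h.PA_one_add hxY hxV' hg2x haY haV (fun y _ => hax y) hy
  have P2 : PA Y V a (y * ((x * t) * y * (x * t)⁻¹)) :=
    h.PA_one_add hgY hgV hg2 haY haV hag hy
  set c := t * y * t⁻¹ * y⁻¹ with hc
  have hcY : c ∈ Y := Y.mul_mem ((mem_normalizer_iff.mp htY y).mp hy) (Y.inv_mem hy)
  have P3 : PA Y V a (y * (x * c * x⁻¹) * y⁻¹) := by
    have e3 : y * (x * c * x⁻¹) * y⁻¹ =
        (y * ((x * t) * y * (x * t)⁻¹)) * (y * (x * y * x⁻¹))⁻¹ := by rw [hc]; group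
    rw [e3]
    exact h.PA_mul P2 (h.PA_inv P1)
  have P4 : PA Y V a (x * c * x⁻¹) := by
    have e4 : x * c * x⁻¹ = y⁻¹ * (y * (x * c * x⁻¹) * y⁻¹) * y⁻¹⁻¹ := by group
    rw [e4]
    exact h.PA_conj haV P3 (Y.inv_mem hy)
  have hV4 : x * (a * c * a⁻¹ * c⁻¹) * x⁻¹ ∈ V := by
    have h4 := P4.2
    rw [hax c] at h4
    have e5 : x * (a * c * a⁻¹ * c⁻¹) * x⁻¹ = x * (a * c * a⁻¹) * x⁻¹ * (x * c * x⁻¹)⁻¹ := by
      group
    rw [e5]
    exact h4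
  have hv : a * c * a⁻¹ * c⁻¹ ∈ V := by
    have e6 : a * c * a⁻¹ * c⁻¹ = x⁻¹ * (x * (a * c * a⁻¹ * c⁻¹) * x⁻¹) * x⁻¹⁻¹ := by group
    rw [e6, cent_conj ((centralizer (V : Set G)).inv_mem hxV) _ hV4]
    exact hV4
  -- coprime action
  set v := a * c * a⁻¹ * c⁻¹ with hvdef
  have hac : a * c * a⁻¹ = v * c := by rw [hvdef]; group
  have hpow : ∀ k : ℕ, a ^ k * c * (a ^ k)⁻¹ = v ^ k * c := by
    intro k
    induction k with
    | zero => simp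
    | succ k ih =>
      calc a ^ (k + 1) * c * (a ^ (k + 1))⁻¹ = a * (a ^ k * c * (a ^ k)⁻¹) * a⁻¹ := by
            rw [pow_succ']; group
        _ = a * (v ^ k * c) * a⁻¹ := by rw [ih]
        _ = (a * v ^ k * a⁻¹) * (a * c * a⁻¹) := by group
        _ = v ^ k * (v * c) := by rw [haV _ (V.pow_mem hv k), hac]
        _ = v ^ (k + 1) * c := by rw [pow_succ]; group
  have hodd : Odd (orderOf a) := by
    have hd : orderOf a ∣ Nat.card A := by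
      have := orderOf_dvd_natCard (⟨a, ha⟩ : A)
      rwa [Subgroup.orderOf_mk] at this
    exact Odd.of_dvd_nat hAodd hd
  obtain ⟨j, hj⟩ := hodd
  have h1 := hpow (orderOf a)
  rw [pow_orderOf_eq_one, one_mul, inv_one, mul_one] at h1
  have hvk : v ^ orderOf a = 1 := by
    have : v ^ orderOf a * c = 1 * c := by rw [one_mul]; exact h1.symm
    exact mul_right_cancel this
  have hv1 : v = 1 := by
    rw [hj, pow_succ, pow_mul, hV2 v hv, one_pow, one_mul] at hvk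
    exact hvk
  rw [hac, hv1, one_mul]

end Cfsg.Agent.Helper49.THW2
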