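import Cfsg.Agent.Helper97.N3GAL

/-!
Helper49: piece (GAL) of helper61's S3616 farm (#9918): Galois' theorem, in the form "a solvable
transitive permutation group of prime degree has a normal Sylow `p`-subgroup".
-/

set_option autoImplicit false

namespace Cfsg.Agent.Helper49.Psl

open Equiv MulAction

/-- (GAL) Galois: a solvable transitive group of prime degree has a normal Sylow `p`-subgroup. -/
theorem sylow_normal_of_solvable {α : Type*} [Fintype α] [DecidableEq α] {p : ℕ} [Fact p.Prime]
    (hα : Fintype.card α = p) (G : Subgroup (Perm α)) [IsPretransitive G α]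
    (hG : Group.IsSolvable G) (P : Sylow p G) : (P : Subgroup G).Normal := by
  have hp : p.Prime := Fact.out
  have hdvd : Nat.card G ∣ p * (p - 1) := Cfsg.Agent.Helper97.N3.card_dvd_of_solvable_perm hα G hG
  have h1 : Nat.card (Sylow p G) ≡ 1 [MOD p] := card_sylow_modEq_one p G
  have h2 : Nat.card (Sylow p G) ∣ Nat.card G := by
    rw [P.card_eq_index_normalizer]; exact Subgroup.index_dvd_card _
  have h3 : Nat.card (Sylow p G) ∣ p * (p - 1) := h2.trans hdvd
  have h1' : Nat.card (Sylow p G) % p = 1 := by
    have h := h1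
    unfold Nat.ModEq at h
    rwa [Nat.mod_eq_of_lt hp.one_lt] at h
  have hcop : Nat.Coprime (Nat.card (Sylow p G)) p := by
    rw [Nat.coprime_comm, Nat.Prime.coprime_iff_not_dvd hp]
    intro hd
    have h0 : Nat.card (Sylow p G) % p = 0 := Nat.mod_eq_zero_of_dvd hd
    omega
  have h4 : Nat.card (Sylow p G) ∣ p - 1 := hcop.dvd_of_dvd_mul_left h3
  have hpos : 0 < p - 1 := by have := hp.two_le; omega
  have hle : Nat.card (Sylow p G) ≤ p - 1 := Nat.le_of_dvd hpos h4
  have hn1 : Nat.card (Sylow p G) = 1 := by
    rwa [Nat.mod_eq_of_lt (by omega)] at h1'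
  haveI : Subsingleton (Sylow p G) := (Nat.card_eq_one_iff_unique.mp hn1).1
  exact Sylow.normal_of_subsingleton P

end Cfsg.Agent.Helper49.Psl
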