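import Mathlib

/-!
# (ODD) of #9918 for helper61 (S3616): an even affine permutation of `ZMod p` containing all
translations and all square multiplications has square slope.
-/

namespace Cfsg.Agent.Helper49.Psl

/-- multiplication by a generator of the units is a cycle with support the nonzero elements,
hence an odd permutation when `p` is odd. -/
theorem pslODD_sign_mulLeft_generator {p : ℕ} [Fact p.Prime] (hp2 : p ≠ 2)
    (ω : (ZMod p)ˣ) (hω : ∀ v : (ZMod p)ˣ, v ∈ Subgroup.zpowers ω) :
    Equiv.Perm.sign (Units.mulLeft ω : Equiv.Perm (ZMod p)) = -1 := by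
  classical
  have hp : p.Prime := Fact.out
  set f : Equiv.Perm (ZMod p) := Units.mulLeft ω with hf
  have hfx : ∀ x : ZMod p, f x = (ω : ZMod p) * x := fun x => rfl
  have hpow : ∀ (k : ℤ) (x : ZMod p), (f ^ k) x = ((ω ^ k : (ZMod p)ˣ) : ZMod p) * x := by
    intro k x
    have hnat : ∀ (n : ℕ) (x : ZMod p), (f ^ n) x = ((ω ^ n : (ZMod p)ˣ) : ZMod p) * x := by
      intro n
      induction n with
      | zero => intro x; simp
      | succ n ih =>
        intro x
        rw [pow_succ', Equiv.Perm.mul_apply, ih, hfx, pow_succ', Units.val_mul, mul_assoc]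
    have hinv : ∀ (n : ℕ) (x : ZMod p),
        ((f ^ n)⁻¹) x = (((ω ^ n)⁻¹ : (ZMod p)ˣ) : ZMod p) * x := by
      intro n x
      rw [Equiv.Perm.inv_def, Equiv.symm_apply_eq, hnat, ← mul_assoc, ← Units.val_mul]
      simp
    cases k with
    | ofNat n => simpa using hnat n x
    | negSucc n =>
      rw [zpow_negSucc, zpow_negSucc]
      exact hinv (n + 1) x
  have hω1 : ω ≠ 1 := by
    intro h1
    -- then the unit group is trivial, so p = 2
    have hcard : Nat.card (ZMod p)ˣ = 1 := by
      rw [Nat.card_eq_one_iff_unique]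
      refine ⟨⟨fun a b => ?_⟩, ⟨1⟩⟩
      have ha := hω a
      have hb := hω b
      rw [h1] at ha hb
      simp at ha hb
      rw [ha, hb]
    rw [Nat.card_eq_fintype_card, ZMod.card_units_eq_totient, Nat.totient_prime hp] at hcard
    have := hp.two_le
    omega
  have hsupp : f.support = Finset.univ.filter (fun x : ZMod p => x ≠ 0) := by
    ext x
    rw [Equiv.Perm.mem_support, Finset.mem_filter]
    simp only [Finset.mem_univ, true_and]
    rw [hfx]
    constructor
    · intro h hx
      apply h
      rw [hx, mul_zero]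
    · intro hx h
      have : ((ω : ZMod p) - 1) * x = 0 := by rw [sub_mul, h, one_mul, sub_self]
      rcases mul_eq_zero.mp this with h0 | h0
      · apply hω1
        ext
        rw [Units.val_one]
        exact sub_eq_zero.mp h0
      · exact hx h0
  have hcyc : f.IsCycle := by
    refine ⟨1, ?_, ?_⟩
    · rw [hfx, mul_one]
      intro h
      apply hω1
      ext
      rw [Units.val_one]
      exact h
    · intro y hy
      have hy0 : y ≠ 0 := by
        intro h0
        apply hy
        rw [h0, hfx, mul_zero]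
      obtain ⟨k, hk⟩ := hω (Units.mk0 y hy0)
      refine ⟨k, ?_⟩
      rw [hpow, mul_one]
      have := congrArg (fun u : (ZMod p)ˣ => (u : ZMod p)) hk
      simpa using this
  rw [hcyc.sign, hsupp]
  have hcardsupp : (Finset.univ.filter (fun x : ZMod p => x ≠ 0)).card = p - 1 := by
    have h1 : (Finset.univ.filter (fun x : ZMod p => x ≠ 0)) = Finset.univ.erase 0 := by
      ext x
      simp
    rw [h1, Finset.card_erase_of_mem (Finset.mem_univ _), Finset.card_univ, ZMod.card]
  rw [hcardsupp]
  have hodd : Odd p := hp.odd_of_ne_two hp2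
  have heven : Even (p - 1) := by
    obtain ⟨k, hk⟩ := hodd
    exact ⟨k, by omega⟩
  rw [heven.neg_one_pow]

theorem isSquare_of_affine_mem {p : ℕ} [Fact p.Prime]
    (hp2 : p ≠ 2) (H : Subgroup (Equiv.Perm (ZMod p)))
    (heven : ∀ σ ∈ H, Equiv.Perm.sign σ = 1) (htr : ∀ b : ZMod p, Equiv.addRight b ∈ H)
    (hml : ∀ k : (ZMod p)ˣ, IsSquare k → (Units.mulLeft k : Equiv.Perm (ZMod p)) ∈ H)
    {g : Equiv.Perm (ZMod p)} (hg : g ∈ H) {a b : ZMod p} (hab : ∀ x, g x = a * x + b) :
    IsSquare a := by
  classical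
  have hp : p.Prime := Fact.out
  -- a ≠ 0
  have ha0 : a ≠ 0 := by
    intro h0
    have h1 : g 0 = g 1 := by rw [hab, hab, h0]; ring
    exact zero_ne_one (g.injective h1)
  set u : (ZMod p)ˣ := Units.mk0 a ha0 with hu
  -- mulLeft u ∈ H
  have hmu : (Units.mulLeft u : Equiv.Perm (ZMod p)) ∈ H := by
    have h1 : (Units.mulLeft u : Equiv.Perm (ZMod p)) = Equiv.addRight (-b) * g := by
      ext x
      rw [Equiv.Perm.mul_apply, hab]
      simp [hu]
    rw [h1]
    exact H.mul_mem (htr _) hg
  by_contra hns
  have huns : ¬ IsSquare u := by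
    rintro ⟨w, hw⟩
    apply hns
    refine ⟨(w : ZMod p), ?_⟩
    have := congrArg (fun v : (ZMod p)ˣ => (v : ZMod p)) hw
    simpa [hu] using this
  -- the multiplication-by-unit map as a hom
  have hmul : ∀ v w : (ZMod p)ˣ,
      (Units.mulLeft (v * w) : Equiv.Perm (ZMod p)) = Units.mulLeft v * Units.mulLeft w := by
    intro v w
    ext x
    simp [mul_assoc]
  -- every unit is a square or u * square
  obtain ⟨ω, hω⟩ := (inferInstance : IsCyclic (ZMod p)ˣ).exists_generator
  have hall : ∀ v : (ZMod p)ˣ, (Units.mulLeft v : Equiv.Perm (ZMod p)) ∈ H := by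
    -- u = ω ^ k with k odd
    obtain ⟨k, hk⟩ := hω u
    have hk' : ω ^ k = u := hk
    have hkodd : Odd k := by
      rcases Int.even_or_odd k with he | ho
      · exfalso
        apply huns
        obtain ⟨m, hm⟩ := he
        refine ⟨ω ^ m, ?_⟩
        rw [← hk', hm, zpow_add]
      · exact ho
    intro v
    obtain ⟨j, hj⟩ := hω v
    have hj' : ω ^ j = v := hj
    rcases Int.even_or_odd j with he | ho
    · apply hml
      obtain ⟨m, hm⟩ := he
      refine ⟨ω ^ m, ?_⟩
      rw [← hj', hm, zpow_add]
    · -- j - k is even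
      have hjk : Even (j - k) := ho.sub_odd hkodd
      obtain ⟨m, hm⟩ := hjk
      have hv : v = u * (ω ^ m * ω ^ m) := by
        rw [← hj', ← hk', ← zpow_add, ← zpow_add]
        congr 1
        omega
      rw [hv, hmul]
      exact H.mul_mem hmu (hml _ ⟨ω ^ m, rfl⟩)
  have hsign := pslODD_sign_mulLeft_generator hp2 ω hω
  have h1 := heven _ (hall ω)
  rw [hsign] at h1
  exact absurd h1 (by decide)

end Cfsg.Agent.Helper49.Psl
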