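import Mathlib
import Cfsg.Agent.Helper71.Alp.Defs
import Cfsg.Agent.Lib.Nilpotent

/-!
# (PE0) of #7709 (helper71, S3782 Alperin): a Nakayama-type reduction in a finite `p`-group

If `A`, `B` are normal subgroups of a finite `p`-group `G` and `A ≤ B [A,G] A^p`, then `A ≤ B`.
-/

set_option autoImplicit false

namespace Cfsg.Agent.Helper49.Alp

open Cfsg.Agent.Helper71.Alp

universe u

/-- the image of `pw k A` under a homomorphism lies in `pw k` of the image -/
theorem map_pw_le {G H : Type*} [Group G] [Group H] (f : G →* H) (k : ℕ) (A : Subgroup G) :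
    (pw k A).map f ≤ pw k (A.map f) := by
  unfold pw
  rw [MonoidHom.map_closure]
  apply Subgroup.closure_mono
  rintro _ ⟨y, ⟨x, hx, rfl⟩, rfl⟩
  exact ⟨f x, Subgroup.mem_map_of_mem f hx, map_pow f x k⟩

/-- the hypothesis `A ≤ B [A,G] A^p` passes to images under surjective-or-not homomorphisms -/
theorem map_le_of_le_sup {G H : Type*} [Group G] [Group H] (f : G →* H) (k : ℕ)
    (A B : Subgroup G) (h : A ≤ B ⊔ ⁅A, (⊤ : Subgroup G)⁆ ⊔ pw k A) :
    A.map f ≤ B.map f ⊔ ⁅A.map f, (⊤ : Subgroup H)⁆ ⊔ pw k (A.map f) := by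
  refine (Subgroup.map_mono h).trans ?_
  rw [Subgroup.map_sup, Subgroup.map_sup, Subgroup.map_commutator]
  exact sup_le_sup (sup_le_sup le_rfl (Subgroup.commutator_mono le_rfl le_top)) (map_pw_le f k A)

/-- key step: in a finite `p`-group a normal subgroup with `A ≤ [A,G] A^p` is trivial -/
theorem eq_bot_of_le_commutator_sup_pw_aux {p : ℕ} (hp : p.Prime) :
    ∀ n : ℕ, ∀ (G : Type u) [Group G] [Finite G], Nat.card G ≤ n → IsPGroup p G →
      ∀ A : Subgroup G, A.Normal → A ≤ ⁅A, (⊤ : Subgroup G)⁆ ⊔ pw p A → A = ⊥ := by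
  intro n
  induction n with
  | zero =>
    intro G _ _ hn
    have := Nat.card_pos (α := G)
    omega
  | succ n ih =>
    intro G _ _ hn hG A hA h
    by_contra hne
    haveI : Fact p.Prime := ⟨hp⟩
    haveI : Group.IsNilpotent G := hG.isNilpotent
    haveI := hA
    have hmeet := Cfsg.Agent.Lib.normal_inf_center_ne_bot A hne
    set K : Subgroup G := A ⊓ Subgroup.center G with hK
    have hKp : IsPGroup p K := hG.to_subgroup K
    have hdvd : p ∣ Nat.card K := by
      rcases hKp.card_eq_or_dvd with h1 | h1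
      · exact absurd (Subgroup.card_eq_one.mp h1) hmeet
      · exact h1
    obtain ⟨z, hz⟩ := exists_prime_orderOf_dvd_card' p hdvd
    have hzA : (z : G) ∈ A := z.2.1
    have hzC : (z : G) ∈ Subgroup.center G := z.2.2
    have hzo : orderOf (z : G) = p := by rw [Subgroup.orderOf_coe, hz]
    set Z : Subgroup G := Subgroup.zpowers (z : G) with hZ
    have hZC : Z ≤ Subgroup.center G := by
      rw [hZ, Subgroup.zpowers_le]; exact hzC
    haveI hZn : Z.Normal := ⟨fun x hx g => by
      have hxc := hZC hx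
      have : g * x * g⁻¹ = x := by
        rw [Subgroup.mem_center_iff] at hxc
        rw [hxc g, mul_inv_cancel_right]
      rw [this]; exact hx⟩
    have hZcard : Nat.card Z = p := by rw [hZ, Nat.card_zpowers, hzo]
    have hQcard : Nat.card (G ⧸ Z) ≤ n := by
      have h1 := Subgroup.card_eq_card_quotient_mul_card_subgroup Z
      rw [hZcard] at h1
      have h2 : 0 < Nat.card (G ⧸ Z) := Nat.card_pos
      have h3 : 2 ≤ p := hp.two_le
      nlinarith
    have hbar := map_le_of_le_sup (QuotientGroup.mk' Z) p A ⊥ (by rwa [bot_sup_eq])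
    rw [Subgroup.map_bot, bot_sup_eq] at hbar
    have hAbar := ih (G ⧸ Z) hQcard (hG.to_quotient Z) (A.map (QuotientGroup.mk' Z))
      (Subgroup.Normal.map hA _ (QuotientGroup.mk'_surjective Z)) hbar
    rw [Subgroup.map_eq_bot_iff, QuotientGroup.ker_mk'] at hAbar
    -- now `A ≤ Z`
    have h1 : ⁅A, (⊤ : Subgroup G)⁆ ≤ ⊥ := by
      rw [Subgroup.commutator_le]
      intro a ha g _
      have hac := hZC (hAbar ha)
      rw [Subgroup.mem_center_iff] at hac
      rw [Subgroup.mem_bot, commutatorElement_def, ← hac g, mul_inv_cancel_right, mul_inv_cancel]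
    have h2 : pw p A ≤ ⊥ := by
      unfold pw
      rw [Subgroup.closure_le]
      rintro _ ⟨x, hx, rfl⟩
      have hxZ := hAbar hx
      have h3 : (⟨x, hxZ⟩ : Z) ^ Nat.card Z = 1 := pow_card_eq_one'
      rw [hZcard] at h3
      have h4 := congrArg (Subtype.val) h3
      simpa using h4
    exact hne (le_bot_iff.mp (h.trans (sup_le h1 h2)))

/-- (PE0) Nakayama-type reduction in a finite `p`-group -/
theorem le_of_le_sup_commutator_sup_pw {G : Type*} [Group G] [Finite G] {p : ℕ} (hp : p.Prime)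
    (hG : IsPGroup p G) (A B : Subgroup G) [A.Normal] [B.Normal]
    (h : A ≤ B ⊔ ⁅A, (⊤ : Subgroup G)⁆ ⊔ pw p A) : A ≤ B := by
  have hbar := map_le_of_le_sup (QuotientGroup.mk' B) p A B h
  have hB : B.map (QuotientGroup.mk' B) = ⊥ := by
    rw [Subgroup.map_eq_bot_iff, QuotientGroup.ker_mk']
  rw [hB, bot_sup_eq] at hbar
  have hAbar := eq_bot_of_le_commutator_sup_pw_aux hp (Nat.card (G ⧸ B)) (G ⧸ B) le_rfl
    (hG.to_quotient B) (A.map (QuotientGroup.mk' B))
    (Subgroup.Normal.map inferInstance _ (QuotientGroup.mk'_surjective B)) hbar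
  rw [Subgroup.map_eq_bot_iff, QuotientGroup.ker_mk'] at hAbar
  exact hAbar

end Cfsg.Agent.Helper49.Alp
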