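import Mathlib

/-!
# (TR1), (TR2) of board #4465 (helper30, S4150): transitivity of groups generated by cycles
-/

set_option autoImplicit false

namespace Cfsg.Agent.Helper49.GenTR

open Equiv Equiv.Perm

/-- if every point can be moved to `c` by the subgroup `H`, then `H` is transitive -/
theorem isPretransitive_of_forall_exists {α : Type*} (H : Subgroup (Perm α)) (c : α)
    (h : ∀ a : α, ∃ g ∈ H, g a = c) : MulAction.IsPretransitive H α := by
  refine ⟨fun a b => ?_⟩
  obtain ⟨g, hg, hga⟩ := h a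
  obtain ⟨k, hk, hkb⟩ := h b
  refine ⟨⟨k⁻¹ * g, H.mul_mem (H.inv_mem hk) hg⟩, ?_⟩
  show (k⁻¹ * g) a = b
  rw [Perm.mul_apply, hga, ← hkb]
  exact k.symm_apply_apply b

/-- **(TR1)** -/
theorem isPretransitive_closure_of_cycles {α : Type*} [Fintype α] [DecidableEq α] (σ τ : Perm α)
    (hσ : σ.IsCycle) (hτ : τ.IsCycle) (hcov : σ.support ∪ τ.support = Finset.univ)
    (hint : (σ.support ∩ τ.support).Nonempty) :
    MulAction.IsPretransitive (Subgroup.closure ({σ, τ} : Set (Perm α))) α := by
  obtain ⟨c, hc⟩ := hint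
  rw [Finset.mem_inter] at hc
  have hσH : σ ∈ Subgroup.closure ({σ, τ} : Set (Perm α)) := Subgroup.subset_closure (by simp)
  have hτH : τ ∈ Subgroup.closure ({σ, τ} : Set (Perm α)) := Subgroup.subset_closure (by simp)
  apply isPretransitive_of_forall_exists _ c
  intro a
  have ha : a ∈ σ.support ∪ τ.support := by rw [hcov]; exact Finset.mem_univ a
  rcases Finset.mem_union.1 ha with h | h
  · obtain ⟨i, hi⟩ := hσ.sameCycle (Perm.mem_support.1 h) (Perm.mem_support.1 hc.1)
    exact ⟨σ ^ i, Subgroup.zpow_mem _ hσH i, hi⟩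
  · obtain ⟨i, hi⟩ := hτ.sameCycle (Perm.mem_support.1 h) (Perm.mem_support.1 hc.2)
    exact ⟨τ ^ i, Subgroup.zpow_mem _ hτH i, hi⟩

/-- **(TR2)** -/
theorem isPretransitive_closure_of_two_cycles {α : Type*} [Fintype α] [DecidableEq α] {p : ℕ}
    (hp : p.Prime) (σ τ : Perm α) (hσ : σ.cycleType = {p, p}) (hα : Fintype.card α = 2 * p)
    (hτ : τ.IsCycle) (hτc : p < τ.support.card) :
    MulAction.IsPretransitive (Subgroup.closure ({σ, τ} : Set (Perm α))) α := by
  have hσH : σ ∈ Subgroup.closure ({σ, τ} : Set (Perm α)) := Subgroup.subset_closure (by simp)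
  have hτH : τ ∈ Subgroup.closure ({σ, τ} : Set (Perm α)) := Subgroup.subset_closure (by simp)
  -- `σ` moves every point
  have hsupp : σ.support = Finset.univ := by
    apply Finset.eq_univ_of_card
    rw [← Perm.sum_cycleType, hσ, hα]
    simp [two_mul]
  -- a point of the support of `τ`
  have hne : τ.support.Nonempty := by
    rw [← Finset.card_pos]; omega
  obtain ⟨c, hc⟩ := hne
  apply isPretransitive_of_forall_exists _ c
  intro a
  have haσ : a ∈ σ.support := by rw [hsupp]; exact Finset.mem_univ a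
  -- the `σ`-orbit of `a` has `p` points
  have hcard : (σ.cycleOf a).support.card = p := by
    have hmem : σ.cycleOf a ∈ σ.cycleFactorsFinset :=
      Perm.cycleOf_mem_cycleFactorsFinset_iff.2 haσ
    have h1 : (σ.cycleOf a).support.card ∈ σ.cycleType := by
      rw [Perm.cycleType_def]
      exact Multiset.mem_map_of_mem (Finset.card ∘ Perm.support) hmem
    rw [hσ] at h1
    simpa using h1
  -- it meets the support of `τ`
  have hmeet : ((σ.cycleOf a).support ∩ τ.support).Nonempty := by
    rw [← Finset.card_pos]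
    have h1 := Finset.card_union_add_card_inter (σ.cycleOf a).support τ.support
    have h2 : ((σ.cycleOf a).support ∪ τ.support).card ≤ 2 * p := by
      rw [← hα]; exact Finset.card_le_univ _
    omega
  obtain ⟨b, hb⟩ := hmeet
  rw [Finset.mem_inter, Perm.mem_support_cycleOf_iff] at hb
  obtain ⟨⟨⟨i, hi⟩, -⟩, hbτ⟩ := hb
  obtain ⟨j, hj⟩ := hτ.sameCycle (Perm.mem_support.1 hbτ) (Perm.mem_support.1 hc)
  refine ⟨τ ^ j * σ ^ i, Subgroup.mul_mem _ (Subgroup.zpow_mem _ hτH j)
    (Subgroup.zpow_mem _ hσH i), ?_⟩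
  rw [Perm.mul_apply, hi, hj]

end Cfsg.Agent.Helper49.GenTR
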