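import Mathlib
import Cfsg.Agent.Helper30.HallSym.Defs
import Cfsg.Agent.Helper97.HallSymNTA

/-!
# (NT-D) of board #6074 (for helper30, Hall subgroups of `S_n` / `A_n`): `intransitive_numerics`
-/

set_option autoImplicit false

open Cfsg.Agent.Helper30.HallSym
open scoped Nat

namespace Cfsg.Agent.Helper49.HallSym

/-- primes `≤ 4` are `2` and `3` -/
theorem prime_le_four {r : ℕ} (hr : r.Prime) (h4 : r ≤ 4) : r = 2 ∨ r = 3 := by
  have h2 := hr.two_le
  interval_cases r
  · left; rfl
  · right; rfl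
  · exact absurd hr (by decide)

/-- (NT-D) -/
theorem intransitive_numerics {π : Set ℕ} {m j : ℕ} (hj1 : 1 ≤ j) (hjm : j ≤ m) (hgm : Good π m)
    (hgj : Good π j) (h2 : ¬ AtMostOne π m)
    (hcop : ∀ r : ℕ, r.Prime → r ∈ π → ¬ r ∣ Nat.choose (m + j) j) :
    (j = 1 ∧ (m + 1).Prime ∧ AllIn π m) ∨ (m = 4 ∧ j = 3 ∧ TwoThree π 4) := by
  -- two distinct primes of `π` up to `m`
  have h2' : ∃ r s : ℕ, r.Prime ∧ s.Prime ∧ r ∈ π ∧ s ∈ π ∧ r ≤ m ∧ s ≤ m ∧ r ≠ s := by
    by_contra hcon
    apply h2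
    intro r s hr hs hrπ hsπ hrm hsm
    by_contra hne
    exact hcon ⟨r, s, hr, hs, hrπ, hsπ, hrm, hsm, hne⟩
  obtain ⟨r, s, hr, hs, hrπ, hsπ, hrm, hsm, hrs⟩ := h2'
  have hm3 : 3 ≤ m := by
    have h1 := hr.two_le
    have h2 := hs.two_le
    omega
  rcases hgm with hall | hamo | ⟨hm8, h23⟩
  · -- `AllIn π m`
    have hA := Cfsg.Agent.Helper97.HallSym.choose_coprime_small_primes hm3 hj1 hjm
      (fun p hp hpm => hcop p hp (hall p hp hpm))
    rcases hA with ⟨hj, hpr⟩ | ⟨hm4, hj3⟩
    · exact Or.inl ⟨hj, hpr, hall⟩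
    · refine Or.inr ⟨hm4, hj3, ?_⟩
      intro t ht ht4
      constructor
      · intro _
        exact prime_le_four ht ht4
      · intro _
        exact hall t ht (by omega)
  · exact absurd hamo h2
  · -- `m = 8`, `π ∩ [1,8] = {2,3}`
    exfalso
    subst hm8
    have h2π : (2 : ℕ) ∈ π := (h23 2 Nat.prime_two (by norm_num)).mpr (Or.inl rfl)
    have h3π : (3 : ℕ) ∈ π := (h23 3 Nat.prime_three (by norm_num)).mpr (Or.inr rfl)
    have h5π : (5 : ℕ) ∉ π := fun h => by
      have := (h23 5 (by norm_num) (by norm_num)).mp h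
      omega
    -- `j ∈ {1,2,3,4,8}`
    have hj : j ≤ 4 ∨ j = 8 := by
      rcases hgj with hall | hamo | ⟨hj8, _⟩
      · left
        by_contra hcon
        exact h5π (hall 5 (by norm_num) (by omega))
      · left
        by_contra hcon
        have := hamo 2 3 Nat.prime_two Nat.prime_three h2π h3π (by omega) (by omega)
        omega
      · right; exact hj8
    rcases hj with hj4 | hj8
    · interval_cases j
      · exact hcop 3 Nat.prime_three h3π (by decide)
      · exact hcop 3 Nat.prime_three h3π (by decide)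
      · exact hcop 3 Nat.prime_three h3π (by decide)
      · exact hcop 3 Nat.prime_three h3π (by decide)
    · subst hj8
      exact hcop 2 Nat.prime_two h2π (by decide)

end Cfsg.Agent.Helper49.HallSym
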