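import Mathlib
import Cfsg.Agent.Helper30.HallSym.Defs
import Cfsg.Agent.Helper97.HallSymNTA
import Cfsg.Agent.Helper50.HallSymNTB
import Cfsg.Agent.Helper49.HallSymNTD

/-!
# (NT-C) of board #6074 (for helper30, Hall subgroups of `S_n` / `A_n`): `imprimitive_numerics`
-/

set_option autoImplicit false

open Cfsg.Agent.Helper30.HallSym
open scoped Nat

namespace Cfsg.Agent.Helper49.HallSym

/-- `v_r(n!) = 0` for `n < r` -/
theorem padicValNat_factorial_of_lt {r n : ℕ} (hr : r.Prime) (h : n < r) :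
    padicValNat r n ! = 0 := by
  apply padicValNat.eq_zero_of_not_dvd
  rw [hr.dvd_factorial]
  omega

/-- `1 ≤ v_r(n!)` for `r ≤ n` -/
theorem one_le_padicValNat_factorial {r n : ℕ} (hr : r.Prime) (h : r ≤ n) :
    1 ≤ padicValNat r n ! := by
  haveI : Fact r.Prime := ⟨hr⟩
  exact one_le_padicValNat_of_dvd (Nat.factorial_pos n).ne' (hr.dvd_factorial.mpr h)

/-- a number `≥ 2` is a power of at most one prime -/
theorem prime_eq_of_pow_eq_pow {r s k l a : ℕ} (hr : r.Prime) (hs : s.Prime) (ha : 2 ≤ a)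
    (h1 : a = r ^ k) (h2 : a = s ^ l) : r = s := by
  have hk : k ≠ 0 := by
    rintro rfl
    simp at h1; omega
  have hra : r ∣ a := h1 ▸ dvd_pow_self r hk
  rw [h2] at hra
  exact (Nat.prime_dvd_prime_iff_eq hr hs).mp (hr.dvd_of_dvd_pow hra)

/-- the central binomial coefficient: `C(2a'+2, a'+1) = 2 C(2a'+1, a')` -/
theorem choose_central (a' : ℕ) :
    Nat.choose (2 * a' + 2) (a' + 1) = 2 * Nat.choose (2 * a' + 1) a' := by
  rw [show 2 * a' + 2 = (2 * a' + 1) + 1 by ring, Nat.choose_succ_succ, Nat.choose_symm_half]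
  ring

/-- if `v_p((2a)!) = 2 v_p(a!) + v_p(2!)` then `p ∤ C(2a-1, a-1)` (written with `a = a' + 1`) -/
theorem not_dvd_choose_of_val {p a' : ℕ} (hp : p.Prime)
    (h : padicValNat p ((a' + 1) * 2)! = 2 * padicValNat p (a' + 1)! + padicValNat p 2 !) :
    ¬ p ∣ Nat.choose (2 * a' + 1) a' := by
  haveI : Fact p.Prime := ⟨hp⟩
  have h0 : Nat.choose (2 * a' + 2) (a' + 1) * (a' + 1)! * (a' + 1)! = (2 * a' + 2)! := by
    have := Nat.choose_mul_factorial_mul_factorial (n := 2 * a' + 2) (k := a' + 1) (by omega)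
    rwa [show 2 * a' + 2 - (a' + 1) = a' + 1 by omega] at this
  have hc0 : Nat.choose (2 * a' + 1) a' ≠ 0 :=
    (Nat.choose_pos (by omega)).ne'
  have hf0 : (a' + 1)! ≠ 0 := (Nat.factorial_pos _).ne'
  have h1 : padicValNat p (2 * a' + 2)! =
      padicValNat p 2 + padicValNat p (Nat.choose (2 * a' + 1) a') +
        padicValNat p (a' + 1)! + padicValNat p (a' + 1)! := by
    rw [← h0, choose_central, padicValNat.mul (by positivity) hf0,
      padicValNat.mul (by positivity) hf0, padicValNat.mul (by norm_num) hc0]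
  rw [show (a' + 1) * 2 = 2 * a' + 2 by ring, show (2 : ℕ)! = 2 by rfl] at h
  have h2 : padicValNat p (Nat.choose (2 * a' + 1) a') = 0 := by omega
  rcases padicValNat.eq_zero_iff.mp h2 with h3 | h3 | h3
  · exact absurd h3 hp.one_lt.ne'
  · exact absurd h3 hc0
  · exact h3

/-- `v_3(16!) = 6` and `v_3(8!) = 2` -/
theorem val_three_sixteen : padicValNat 3 (8 * 2)! ≠ 2 * padicValNat 3 8 ! + padicValNat 3 2 ! := by
  haveI : Fact (Nat.Prime 3) := ⟨Nat.prime_three⟩
  have e16 : (8 * 2)! = 3 ^ 6 * 28700672000 := by norm_num [Nat.factorial]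
  have e8 : (8 : ℕ)! = 3 ^ 2 * 4480 := by norm_num [Nat.factorial]
  have h16 : padicValNat 3 (8 * 2)! = 6 := by
    rw [e16, padicValNat.mul (by norm_num) (by norm_num), padicValNat.prime_pow,
      padicValNat.eq_zero_of_not_dvd (by norm_num)]
  have h8 : padicValNat 3 8 ! = 2 := by
    rw [e8, padicValNat.mul (by norm_num) (by norm_num), padicValNat.prime_pow,
      padicValNat.eq_zero_of_not_dvd (by norm_num)]
  have h2 : padicValNat 3 2 ! = 0 :=
    padicValNat_factorial_of_lt Nat.prime_three (by norm_num)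
  omega

/-- (NT-C) -/
theorem imprimitive_numerics {π : Set ℕ} {a b : ℕ} (ha : 2 ≤ a) (hb : 2 ≤ b) (hgood : Good π a)
    (hval : ∀ r : ℕ, r.Prime → r ∈ π →
      padicValNat r (a * b)! = b * padicValNat r a ! + padicValNat r b !)
    (h2 : ¬ AtMostOne π (a * b)) : a * b = 8 ∧ TwoThree π 8 := by
  -- (C1)
  have hC1 : ∀ r : ℕ, r.Prime → r ∈ π → r ≤ a * b → r ≤ a ∨ r ≤ b := by
    intro r hr hrπ hrab
    by_contra hcon
    have h1 := hval r hr hrπ
    rw [padicValNat_factorial_of_lt hr (n := a) (by omega),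
      padicValNat_factorial_of_lt hr (n := b) (by omega)] at h1
    have := one_le_padicValNat_factorial hr hrab
    omega
  -- (C2)
  have hC2 : ∀ r : ℕ, r.Prime → r ∈ π → (∃ k : ℕ, a = r ^ k) ∨ b < r := fun r hr hrπ =>
    Cfsg.Agent.Helper50.HallSym.wreath_index_prime hr (by omega) (by omega) (hval r hr hrπ)
  -- two distinct primes of `π` up to `a * b`
  have h2' : ∃ r s : ℕ, r.Prime ∧ s.Prime ∧ r ∈ π ∧ s ∈ π ∧ r ≤ a * b ∧ s ≤ a * b ∧ r ≠ s := by
    by_contra hcon
    apply h2
    intro r s hr hs hrπ hsπ hrm hsm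
    by_contra hne
    exact hcon ⟨r, s, hr, hs, hrπ, hsπ, hrm, hsm, hne⟩
  obtain ⟨r, s, hr, hs, hrπ, hsπ, hrab, hsab, hrs⟩ := h2'
  -- one of them, `t`, has `b < t`
  have ht : ∃ t : ℕ, t.Prime ∧ t ∈ π ∧ t ≤ a * b ∧ b < t := by
    rcases hC2 r hr hrπ with ⟨k, hk⟩ | hbr
    · rcases hC2 s hs hsπ with ⟨l, hl⟩ | hbs
      · exact absurd (prime_eq_of_pow_eq_pow hr hs ha hk hl) hrs
      · exact ⟨s, hs, hsπ, hsab, hbs⟩
    · exact ⟨r, hr, hrπ, hrab, hbr⟩
  obtain ⟨t, htp, htπ, htab, hbt⟩ := ht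
  have hta : t ≤ a := by
    rcases hC1 t htp htπ htab with h | h
    · exact h
    · omega
  have hba : b < a := by omega
  -- every prime of `π` up to `a * b` is `≤ a`
  have hC1' : ∀ q : ℕ, q.Prime → q ∈ π → q ≤ a * b → q ≤ a := by
    intro q hq hqπ hqab
    rcases hC1 q hq hqπ hqab with h | h
    · exact h
    · omega
  have hra := hC1' r hr hrπ hrab
  have hsa := hC1' s hs hsπ hsab
  have ha3 : 3 ≤ a := by
    have h1 := hr.two_le
    have h2 := hs.two_le
    omega
  have hnamo : ¬ AtMostOne π a := fun h => hrs (h r s hr hs hrπ hsπ hra hsa)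
  rcases hgood with hall | hamo | ⟨ha8, h23⟩
  · -- `AllIn π a`
    have h2π : (2 : ℕ) ∈ π := hall 2 Nat.prime_two (by omega)
    have h3π : (3 : ℕ) ∈ π := hall 3 Nat.prime_three ha3
    -- `a` is a power of `2`
    obtain ⟨k, hk⟩ : ∃ k : ℕ, a = 2 ^ k := by
      rcases hC2 2 Nat.prime_two h2π with h | h
      · exact h
      · omega
    -- `b = 2`
    have hb2 : b = 2 := by
      rcases hC2 3 Nat.prime_three h3π with ⟨l, hl⟩ | h
      · have := prime_eq_of_pow_eq_pow Nat.prime_two Nat.prime_three ha hk hl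
        omega
      · omega
    subst hb2
    obtain ⟨a', rfl⟩ : ∃ a', a = a' + 1 := ⟨a - 1, by omega⟩
    have hA := Cfsg.Agent.Helper97.HallSym.choose_coprime_small_primes (m := a' + 1) (j := a')
      ha3 (by omega) (by omega) (by
        intro p hp hpm
        rw [show a' + 1 + a' = 2 * a' + 1 by ring]
        exact not_dvd_choose_of_val hp (hval p hp (hall p hp hpm)))
    rcases hA with ⟨h1, _⟩ | ⟨h4, _⟩
    · omega
    · have ha'3 : a' = 3 := by omega
      subst ha'3
      refine ⟨by norm_num, ?_⟩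
      intro q hq hq8
      constructor
      · intro hqπ
        have := hC1' q hq hqπ (by omega)
        exact prime_le_four hq (by omega)
      · rintro (rfl | rfl)
        · exact h2π
        · exact h3π
  · exact absurd hamo hnamo
  · -- `a = 8`
    exfalso
    subst ha8
    have h3π : (3 : ℕ) ∈ π := (h23 3 Nat.prime_three (by norm_num)).mpr (Or.inr rfl)
    have hb2 : b = 2 := by
      rcases hC2 3 Nat.prime_three h3π with ⟨l, hl⟩ | h
      · have := prime_eq_of_pow_eq_pow Nat.prime_two Nat.prime_three (a := 8) (k := 3) (by norm_num)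
          (by norm_num) hl
        omega
      · omega
    subst hb2
    exact val_three_sixteen (hval 3 Nat.prime_three h3π)

end Cfsg.Agent.Helper49.HallSym
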