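/-
helper49: piece (HZ) `mt_zpow_hM` of helper84's farm for S2289 (#12729).
A wrapper of helper37's `mt_zpow_hM_aux` (a by-product of (UZ)), with the skeleton's signature
(section B variables, `include hb`).
-/
import Mathlib
import Cfsg.Agent.Helper84.SU3P.Defs
import Cfsg.Agent.Helper37.SU3P_UZ

set_option autoImplicit false
set_option linter.unusedSectionVars false
set_option linter.unusedVariables false

namespace Cfsg.Agent.Helper49.SU3P

open Matrix Polynomial Cfsg.Agent.Helper84.RU3 Cfsg.Agent.Helper96.SLPres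
  Cfsg.Agent.Helper96.StemSLTwo Cfsg.Agent.Helper96.StPres Cfsg.Agent.Helper84.SU3P

section B

variable {K : Type*} [Field K] (bar : K →+* K) (hb : ∀ x, bar (bar x) = x)
include hb

/-- (HZ) integer powers of a torus element -/
theorem mt_zpow_hM (H : SUJ bar) (l : K) (hl : l ≠ 0) (hH : mt bar H = hM bar l) (i : ℤ) :
    mt bar (H ^ i) = hM bar (l ^ i) :=
  Cfsg.Agent.Helper37.SU3P.mt_zpow_hM_aux bar H l hl hH i

end B

end Cfsg.Agent.Helper49.SU3P
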