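import Mathlib

/-!
# Helper49: piece [FD] `szc_frob_arith` of WANTED #11435 for helper6 / S4775

Arithmetic of the three non-linear character degrees of the Borel subgroup of `Sz(q)`.
-/

set_option autoImplicit false

namespace Cfsg.Agent.Helper49.Szc

theorem pow_sum_aux_lt (a b m : ℕ) (hab : a < b)
    (h : 2 ^ (2 * a) + 2 ^ (2 * b) = 2 ^ (2 * m + 1)) : False := by
  have h0 : 0 < 2 ^ (2 * a) := by positivity
  have h1 : 2 ^ (2 * a) < 2 ^ (2 * b) := Nat.pow_lt_pow_right (by norm_num) (by omega)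
  have h2 : 2 ^ (2 * b) < 2 ^ (2 * m + 1) := by omega
  have h3 : 2 ^ (2 * m + 1) < 2 ^ (2 * b + 1) := by
    have : 2 ^ (2 * b + 1) = 2 * 2 ^ (2 * b) := pow_succ' 2 (2 * b)
    omega
  have h4 := (Nat.pow_lt_pow_iff_right (by norm_num : 1 < 2)).mp h2
  have h5 := (Nat.pow_lt_pow_iff_right (by norm_num : 1 < 2)).mp h3
  omega

theorem pow_sum_aux (a b m : ℕ) (h : 2 ^ (2 * a) + 2 ^ (2 * b) = 2 ^ (2 * m + 1)) :
    a = m ∧ b = m := by
  rcases lt_trichotomy a b with hab | hab | hab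
  · exact (pow_sum_aux_lt a b m hab h).elim
  · subst hab
    have h1 : 2 ^ (2 * a + 1) = 2 ^ (2 * m + 1) := by
      have : 2 ^ (2 * a + 1) = 2 * 2 ^ (2 * a) := pow_succ' 2 (2 * a)
      omega
    have h2 := Nat.pow_right_injective (le_refl 2) h1
    constructor <;> omega
  · exact (pow_sum_aux_lt b a m hab (by omega)).elim

/-- FD: arithmetic -/
theorem szc_frob_arith (T : ℕ) (hT : ∃ m : ℕ, 1 ≤ m ∧ T = 2 ^ m) (d₁ d₂ d₃ : ℕ)
    (h₁ : d₁ ∣ (2 * T ^ 2) ^ 2) (h₂ : d₂ ∣ (2 * T ^ 2) ^ 2) (h₃ : d₃ ∣ (2 * T ^ 2) ^ 2)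
    (h : d₁ ^ 2 + d₂ ^ 2 + d₃ ^ 2 = 2 * T ^ 2 + 1) :
    (d₁ = 1 ∧ d₂ = T ∧ d₃ = T) ∨ (d₁ = T ∧ d₂ = 1 ∧ d₃ = T) ∨ (d₁ = T ∧ d₂ = T ∧ d₃ = 1) := by
  obtain ⟨m, hm, rfl⟩ := hT
  have hpow : (2 * (2 ^ m) ^ 2) ^ 2 = 2 ^ (4 * m + 2) := by ring
  rw [hpow] at h₁ h₂ h₃
  obtain ⟨a, -, rfl⟩ := (Nat.dvd_prime_pow Nat.prime_two).mp h₁
  obtain ⟨b, -, rfl⟩ := (Nat.dvd_prime_pow Nat.prime_two).mp h₂
  obtain ⟨c, -, rfl⟩ := (Nat.dvd_prime_pow Nat.prime_two).mp h₃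
  have e : ∀ k : ℕ, (2 ^ k) ^ 2 = 2 ^ (2 * k) := fun k => by rw [← pow_mul, mul_comm]
  have hm2 : 2 ^ (2 * m + 1) = 2 * 2 ^ (2 * m) := pow_succ' 2 (2 * m)
  have hsum : 2 ^ (2 * a) + 2 ^ (2 * b) + 2 ^ (2 * c) = 2 ^ (2 * m + 1) + 1 := by
    rw [e, e, e, e] at h
    omega
  have hev : ∀ k, 1 ≤ k → ∃ f, 2 ^ (2 * k) = 2 * f := fun k hk =>
    ⟨2 ^ (2 * k - 1), by rw [← pow_succ']; congr 1; omega⟩
  have hbig : 8 ≤ 2 ^ (2 * m + 1) := by
    calc 8 = 2 ^ 3 := by norm_num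
      _ ≤ 2 ^ (2 * m + 1) := Nat.pow_le_pow_right (by norm_num) (by omega)
  rcases Nat.eq_zero_or_pos a with rfl | ha <;> rcases Nat.eq_zero_or_pos b with rfl | hb <;>
    rcases Nat.eq_zero_or_pos c with rfl | hc
  · exfalso
    simp only [mul_zero, pow_zero] at hsum
    omega
  · exfalso
    obtain ⟨f, hf⟩ := hev c hc
    simp only [mul_zero, pow_zero] at hsum
    omega
  · exfalso
    obtain ⟨f, hf⟩ := hev b hb
    simp only [mul_zero, pow_zero] at hsum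
    omega
  · left
    simp only [mul_zero, pow_zero] at hsum
    obtain ⟨h1, h2⟩ := pow_sum_aux b c m (by omega)
    subst h1; subst h2
    exact ⟨by simp, rfl, rfl⟩
  · exfalso
    obtain ⟨f, hf⟩ := hev a ha
    simp only [mul_zero, pow_zero] at hsum
    omega
  · right; left
    simp only [mul_zero, pow_zero] at hsum
    obtain ⟨h1, h2⟩ := pow_sum_aux a c m (by omega)
    subst h1; subst h2
    exact ⟨rfl, by simp, rfl⟩
  · right; right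
    simp only [mul_zero, pow_zero] at hsum
    obtain ⟨h1, h2⟩ := pow_sum_aux a b m (by omega)
    subst h1; subst h2
    exact ⟨rfl, rfl, by simp⟩
  · exfalso
    obtain ⟨f, hf⟩ := hev a ha
    obtain ⟨g, hg⟩ := hev b hb
    obtain ⟨k, hk⟩ := hev c hc
    omega

end Cfsg.Agent.Helper49.Szc
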