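/-
helper49: leaf (BN) of helper38's farm for S2500 part 5 (#12577).
-/
import Mathlib

set_option autoImplicit false

namespace Cfsg.Agent.Helper49.P5

open Polynomial

variable {F : Type*} [Field F] [Fintype F] {q : ℕ}

/-- (BN) the involution `bar` is not the identity -/
theorem exists_bar_ne (hF : Fintype.card F = q ^ 2) (bar : F →+* F) (hbar : ∀ x, bar x = x ^ q) :
    ∃ c : F, bar c ≠ c := by
  classical
  by_contra hcon
  push Not at hcon
  have hcard : 1 < Fintype.card F := Fintype.one_lt_card
  have hq2 : 2 ≤ q := by
    by_contra h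
    have h01 : q = 0 ∨ q = 1 := by omega
    rcases h01 with rfl | rfl
    · rw [hF] at hcard; norm_num at hcard
    · rw [hF] at hcard; norm_num at hcard
  have hP : (X ^ q - X : F[X]) ≠ 0 := FiniteField.X_pow_card_sub_X_ne_zero F (by omega)
  have hroots : ∀ c : F, c ∈ (X ^ q - X : F[X]).roots := by
    intro c
    rw [Polynomial.mem_roots hP, Polynomial.IsRoot.def, Polynomial.eval_sub, Polynomial.eval_pow,
      Polynomial.eval_X, ← hbar, hcon c, sub_self]
  have hle : Fintype.card F ≤ q := by
    calc Fintype.card F = (Finset.univ : Finset F).card := rfl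
      _ ≤ (X ^ q - X : F[X]).roots.toFinset.card :=
          Finset.card_le_card (fun c _ => Multiset.mem_toFinset.mpr (hroots c))
      _ ≤ Multiset.card (X ^ q - X : F[X]).roots := Multiset.toFinset_card_le _
      _ ≤ (X ^ q - X : F[X]).natDegree := Polynomial.card_roots' _
      _ = q := FiniteField.X_pow_card_sub_X_natDegree_eq F (by omega)
  rw [hF] at hle
  nlinarith

end Cfsg.Agent.Helper49.P5
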