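/-
helper49: leaf (HJ) of helper38's farm for S2500 part 5 (#12559).
-/
import Mathlib
import Cfsg.Agent.Helper38.Cov2P5.Defs

set_option autoImplicit false
set_option linter.unusedSectionVars false

namespace Cfsg.Agent.Helper49.P5

open Matrix Polynomial Module Cfsg.Agent.S2587 Cfsg.Agent.S2578 Cfsg.Agent.Helper45.GU
  Cfsg.Agent.Helper38.Cov2

variable {F : Type*} [Field F] [Fintype F] {q : ℕ}

/-- (HJ) the Hermitian form in a basis with Gram matrix `J0` -/
theorem herm_mulVec_J0 (bar : F →+* F) (P : Matrix (Fin 3) (Fin 3) F) (hP : st bar P * P = J0)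
    (x : Fin 3 → F) :
    herm bar (P *ᵥ x) (P *ᵥ x) = x 0 * bar (x 2) + x 1 * bar (x 1) + x 2 * bar (x 0) := by
  have hJ : Pᵀ * P.map bar = (J0 : Matrix (Fin 3) (Fin 3) F) := by
    have h := congrArg Matrix.transpose hP
    unfold st at h
    rw [Matrix.transpose_mul, Matrix.transpose_transpose] at h
    rw [h]
    ext i j
    fin_cases i <;> fin_cases j <;> simp [J0]
  rw [herm_mulVec, hJ]
  simp [J0, dotProduct, Matrix.mulVec, Fin.sum_univ_three]

end Cfsg.Agent.Helper49.P5
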