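import Mathlib
import Cfsg.Agent.Helper38.SU2G.Defs
import Cfsg.Agent.Helper84.PSULevi

/-!
# Helper49: piece (EXN) `exists_cox` of WANTED #11621 for helper38 / S2412

The Coxeter element `e_0 → e_1 → … → e_last → μ f_0 → f_1 → … → f_last → ν e_0` exists in helper84's hyperbolic
model of `SU_n(q)`: `n = s * l`, `s = E(e_0,0,z) E(f_0,0,-z⁻¹) E(e_0,0,z)` (`z = s₀ - bar s₀`), `l` the block diagonal
cyclic shift.
-/

set_option autoImplicit false
set_option linter.unusedSectionVars false

namespace Cfsg.Agent.Helper49.SU2G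

open Matrix Cfsg.Agent.Helper84.PSU Cfsg.Agent.Helper38.SU2G

variable {K : Type*} [Field K] {m r : ℕ}

local notation "Vec" => (I (m + 2) r → K)
local notation "Mat" => Matrix (I (m + 2) r) (I (m + 2) r) K

/-- the cyclic shift of the indices -/
def rho (j : Fin (m + 2)) : Fin (m + 2) :=
  if h : j.val + 1 < m + 2 then ⟨j.val + 1, h⟩ else ⟨0, by omega⟩

theorem rho_of_lt (j : Fin (m + 2)) (h : j.val + 1 < m + 2) : rho j = ⟨j.val + 1, h⟩ := dif_pos h

theorem rho_il : rho (il : Fin (m + 2)) = i0 := by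
  unfold rho il i0
  rw [dif_neg (by simp)]

theorem rho_injective : Function.Injective (rho : Fin (m + 2) → Fin (m + 2)) := by
  intro a b hab
  unfold rho at hab
  by_cases ha : a.val + 1 < m + 2 <;> by_cases hb' : b.val + 1 < m + 2
  · rw [dif_pos ha, dif_pos hb'] at hab
    have := congrArg Fin.val hab
    simp only at this
    exact Fin.ext (by omega)
  · rw [dif_pos ha, dif_neg hb'] at hab
    have := congrArg Fin.val hab
    simp only at this
    omega
  · rw [dif_neg ha, dif_pos hb'] at hab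
    have := congrArg Fin.val hab
    simp only at this
    omega
  · have h1 := a.2
    have h2 := b.2
    exact Fin.ext (by omega)

/-- the matrix of the cyclic shift -/
def shiftP (K : Type*) [Field K] (m : ℕ) : Matrix (Fin (m + 2)) (Fin (m + 2)) K :=
  Matrix.of fun i j => if i = rho j then 1 else 0

theorem shiftP_apply (i j : Fin (m + 2)) : shiftP K m i j = if i = rho j then 1 else 0 := rfl

variable (bar : K →+* K)

theorem shiftP_map : (shiftP K m).map bar = shiftP K m := by
  ext i j
  rw [Matrix.map_apply, shiftP_apply]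
  split_ifs
  · exact map_one bar
  · exact map_zero bar

theorem shiftP_orth : (shiftP K m)ᵀ * shiftP K m = 1 := by
  ext i j
  rw [Matrix.mul_apply, Matrix.one_apply]
  simp only [Matrix.transpose_apply, shiftP_apply]
  by_cases hij : i = j
  · subst hij
    rw [if_pos rfl, Finset.sum_eq_single (rho i)]
    · rw [if_pos rfl, mul_one]
    · intro b _ hb
      rw [if_neg hb, zero_mul]
    · intro h
      exact absurd (Finset.mem_univ _) h
  · rw [if_neg hij]
    apply Finset.sum_eq_zero
    intro l _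
    by_cases h1 : l = rho i
    · rw [if_pos h1, if_neg, mul_zero]
      intro h2
      exact hij (rho_injective (h1.symm.trans h2))
    · rw [if_neg h1, zero_mul]

theorem shiftP_det : (shiftP K m).det * ((1 : Matrix (Fin r) (Fin r) K).det * (shiftP K m).det) = 1 := by
  rw [Matrix.det_one, one_mul]
  calc (shiftP K m).det * (shiftP K m).det = (shiftP K m)ᵀ.det * (shiftP K m).det := by
        rw [Matrix.det_transpose]
    _ = 1 := by rw [← Matrix.det_mul, shiftP_orth, Matrix.det_one]

set_option quotPrecheck false in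
local notation "SUk" => ↥(SUm (m + 2) r bar)

/-- the block diagonal cyclic shift as an element of the model group -/
def shiftL : SUk :=
  lvE bar (shiftP K m) (1 : Matrix (Fin r) (Fin r) K) (shiftP K m)
    (by rw [shiftP_map, shiftP_orth]) (by rw [shiftP_map, shiftP_orth])
    (by rw [Matrix.transpose_one, one_mul]; exact Matrix.map_one bar (map_zero bar) (map_one bar))
    shiftP_det

theorem av_shiftL_e (j : Fin (m + 2)) : av bar (shiftL (r := r) bar) (vE j : Vec) = vE (rho j) := by
  funext x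
  unfold vE
  rw [av_bv]
  show lvM (shiftP K m) (1 : Matrix (Fin r) (Fin r) K) (shiftP K m) x (eI j) = _
  rcases x with i | a | i
  · rw [lvM_ee, shiftP_apply, bv_apply]
    by_cases h : i = rho j
    · rw [if_pos h, if_pos (by rw [h])]
    · rw [if_neg h, if_neg (fun h' => h (Sum.inl.inj h'))]
  · rw [lvM_we, bv_apply, if_neg (by intro h; cases h)]
  · rw [lvM_fe, bv_apply, if_neg (by intro h; cases h)]

theorem av_shiftL_f (j : Fin (m + 2)) : av bar (shiftL (r := r) bar) (vF j : Vec) = vF (rho j) := by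
  funext x
  unfold vF
  rw [av_bv]
  show lvM (shiftP K m) (1 : Matrix (Fin r) (Fin r) K) (shiftP K m) x (fI j) = _
  rcases x with i | a | i
  · rw [lvM_ef, bv_apply, if_neg (by intro h; cases h)]
  · rw [lvM_wf, bv_apply, if_neg (by intro h; cases h)]
  · rw [lvM_ff, shiftP_apply, bv_apply]
    by_cases h : i = rho j
    · rw [if_pos h, if_pos (by rw [h])]
    · rw [if_neg h, if_neg (fun h' => h (Sum.inr.inj (Sum.inr.inj h')))]

theorem av_shiftL_w (a : Fin r) : av bar (shiftL (r := r) bar) (vW a : Vec) = vW a := by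
  funext x
  unfold vW
  rw [av_bv]
  show lvM (shiftP K m) (1 : Matrix (Fin r) (Fin r) K) (shiftP K m) x (wI a) = _
  rcases x with i | b | i
  · rw [lvM_ew, bv_apply, if_neg (by intro h; cases h)]
  · rw [lvM_ww, Matrix.one_apply, bv_apply]
    by_cases h : b = a
    · rw [if_pos h, if_pos (by rw [h])]
    · rw [if_neg h, if_neg (fun h' => h (Sum.inl.inj (Sum.inr.inj h')))]
  · rw [lvM_fw, bv_apply, if_neg (by intro h; cases h)]

variable (hb : ∀ x, bar (bar x) = x)

include hb in
/-- (EXN) the Coxeter element exists. -/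
theorem exists_cox {s₀ : K} (hs₀ : bar s₀ ≠ s₀) : ∃ (n : SUk) (μ ν : K), IsCox bar n μ ν := by
  set z : K := s₀ - bar s₀ with hz
  have hz0 : z ≠ 0 := fun h => hs₀ (sub_eq_zero.mp h).symm
  have hzb : bar z = -z := by rw [hz, map_sub, hb]; ring
  have hee : hf bar (vE i0 : Vec) (vE i0) = 0 := hf_bv_ee bar _ _
  have hff : hf bar (vF i0 : Vec) (vF i0) = 0 := hf_bv_ff bar _ _
  have hef : hf bar (vE i0 : Vec) (vF i0) = 1 := by
    unfold vE vF; rw [hf_bv_ef, if_pos rfl]
  have hfe : hf bar (vF i0 : Vec) (vE i0) = 1 := by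
    unfold vE vF; rw [hf_bv_fe, if_pos rfl]
  have hc1 : z + bar z + hf bar (0 : Vec) 0 = 0 := by rw [hzb, hf_zero_left]; ring
  have hc2 : -z⁻¹ + bar (-z⁻¹) + hf bar (0 : Vec) 0 = 0 := by
    rw [map_neg, map_inv₀, hzb, hf_zero_left, inv_neg]; ring
  set E1 : SUk := eich bar hb (vE i0) 0 z hee (hf_zero_left bar _) hc1 with hE1
  set E2 : SUk := eich bar hb (vF i0) 0 (-z⁻¹) hff (hf_zero_left bar _) hc2 with hE2
  have aE1 : ∀ x : Vec, av bar E1 x = x + (z * hf bar x (vE i0)) • vE i0 := by
    intro x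
    rw [hE1, av_eich, hf_zero_right, smul_zero, zero_smul, add_zero, sub_zero]
  have aE2 : ∀ x : Vec, av bar E2 x = x + (-z⁻¹ * hf bar x (vF i0)) • vF i0 := by
    intro x
    rw [hE2, av_eich, hf_zero_right, smul_zero, zero_smul, add_zero, sub_zero]
  set s : SUk := E1 * E2 * E1 with hs
  have sfix : ∀ x : Vec, hf bar x (vE i0) = 0 → hf bar x (vF i0) = 0 → av bar s x = x := by
    intro x h1 h2
    rw [hs, av_mul, av_mul, aE1 x, h1, mul_zero, zero_smul, add_zero, aE2 x, h2, mul_zero, zero_smul,
      add_zero, aE1 x, h1, mul_zero, zero_smul, add_zero]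
  have s_e0 : av bar s (vE i0 : Vec) = (-z⁻¹) • vF i0 := by
    have h1 : av bar E1 (vE i0 : Vec) = vE i0 := by
      rw [aE1, hee, mul_zero, zero_smul, add_zero]
    have h2 : av bar E2 (vE i0 : Vec) = vE i0 + (-z⁻¹) • vF i0 := by
      rw [aE2, hef, mul_one]
    have h3 : av bar E1 (vE i0 + (-z⁻¹) • vF i0 : Vec) = (-z⁻¹) • vF i0 := by
      rw [aE1, hf_add_left, hf_smul_left, hee, hfe, mul_one, zero_add]
      have : z * -z⁻¹ = -1 := by field_simp
      rw [this]
      module
    rw [hs, av_mul, av_mul, h1, h2, h3]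
  have s_f0 : av bar s (vF i0 : Vec) = z • vE i0 := by
    have h1 : av bar E1 (vF i0 : Vec) = vF i0 + z • vE i0 := by
      rw [aE1, hfe, mul_one]
    have h2 : av bar E2 (vF i0 + z • vE i0 : Vec) = z • vE i0 := by
      rw [aE2, hf_add_left, hf_smul_left, hff, hef, mul_one, zero_add]
      have : -z⁻¹ * z = -1 := by field_simp
      rw [this]
      module
    have h3 : av bar E1 (z • vE i0 : Vec) = z • vE i0 := by
      rw [aE1, hf_smul_left, hee, mul_zero, mul_zero, zero_smul, add_zero]
    rw [hs, av_mul, av_mul, h1, h2, h3]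
  refine ⟨s * shiftL bar, -z⁻¹, z, ?_⟩
  refine ⟨neg_ne_zero.mpr (inv_ne_zero hz0), hz0, ?_, ?_, ?_, ?_, ?_⟩
  · intro i h
    rw [av_mul, av_shiftL_e, rho_of_lt i h]
    apply sfix
    · exact hf_bv_ee bar _ _
    · unfold vE vF
      rw [hf_bv_ef, if_neg]
      intro h'
      have := congrArg Fin.val h'
      simp [i0] at this
  · rw [av_mul, av_shiftL_e, rho_il, s_e0]
  · intro i h
    rw [av_mul, av_shiftL_f, rho_of_lt i h]
    apply sfix
    · unfold vE vF
      rw [hf_bv_fe, if_neg]
      intro h'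
      have := congrArg Fin.val h'
      simp [i0] at this
    · exact hf_bv_ff bar _ _
  · rw [av_mul, av_shiftL_f, rho_il, s_f0]
  · intro a
    rw [av_mul, av_shiftL_w]
    apply sfix
    · exact hf_bv_we bar _ _
    · exact hf_bv_wf bar _ _

end Cfsg.Agent.Helper49.SU2G
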