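import Mathlib
import Cfsg.Agent.Helper38.VL.Defs

set_option autoImplicit false

/-!
# (GG) of helper38's Vaughan-Lee farm (S3777): good generators from the linear model
-/

namespace Cfsg.Agent.Helper49.VL

open Subgroup Cfsg.Agent.Helper38.VL

/-- The vectors of `V` hit (through `π`) by elements of `H` form a `ZMod p`-submodule. -/
def ggImage {G : Type*} [Group G] {p : ℕ} [Fact p.Prime] {V : Type*} [AddCommGroup V]
    [Module (ZMod p) V] (π : G →* Multiplicative V) (H : Subgroup G) :
    Submodule (ZMod p) V where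
  carrier := {v | ∃ h ∈ H, π h = Multiplicative.ofAdd v}
  add_mem' := by
    rintro a b ⟨h1, hh1, e1⟩ ⟨h2, hh2, e2⟩
    exact ⟨h1 * h2, H.mul_mem hh1 hh2, by rw [map_mul, e1, e2]; rfl⟩
  zero_mem' := ⟨1, H.one_mem, by rw [map_one]; rfl⟩
  smul_mem' := by
    rintro c v ⟨h, hh, e⟩
    refine ⟨h ^ c.val, H.pow_mem hh _, ?_⟩
    rw [map_pow, e, ← ofAdd_nsmul]
    congr 1
    rw [← Nat.cast_smul_eq_nsmul (ZMod p) c.val v, ZMod.natCast_zmod_val]

theorem mem_ggImage {G : Type*} [Group G] {p : ℕ} [Fact p.Prime] {V : Type*} [AddCommGroup V]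
    [Module (ZMod p) V] (π : G →* Multiplicative V) (H : Subgroup G) (v : V) :
    v ∈ ggImage (p := p) π H ↔ ∃ h ∈ H, π h = Multiplicative.ofAdd v := Iff.rfl

/-- (GG) good generators from the linear model. -/
theorem good_generators_of_model {G : Type*} [Group G] [Finite G] {p : ℕ} [Fact p.Prime]
    (hG : IsPGroup p G) {V : Type*} [AddCommGroup V] [Module (ZMod p) V] [Finite V]
    (π : G →* Multiplicative V) (hπ : Function.Surjective π) (hker : π.ker = frattini G)
    (R : Module.Dual (ZMod p) V → Submodule (ZMod p) V)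
    (hkey : ∀ α : Module.Dual (ZMod p) V, α ≠ 0 → ∀ x y : G, α (π x).toAdd = 0 →
        (π x).toAdd ∉ R α → Commute x y → α (π y).toAdd = 0)
    (hspan : Submodule.span (ZMod p) {v : V | GoodVec R v} = ⊤) :
    ∃ (d : ℕ) (x : Fin d → G), Subgroup.closure (Set.range x) = ⊤ ∧
      (frattini G).index = p ^ d ∧ ∀ i, Good (x i) ∧ x i ∉ frattini G := by
  classical
  have hp : p.Prime := Fact.out
  obtain ⟨b, hbs, hbspan, hli⟩ := exists_linearIndependent (ZMod p) {v : V | GoodVec R v}
  rw [hspan] at hbspan
  have : Fintype V := Fintype.ofFinite V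
  have : Fintype b := Fintype.ofFinite b
  let B : Module.Basis b (ZMod p) V :=
    Module.Basis.mk hli (by rw [Subtype.range_coe]; exact hbspan.ge)
  have hfr : Module.finrank (ZMod p) V = Fintype.card b := Module.finrank_eq_card_basis B
  obtain ⟨d, hd⟩ : ∃ d, d = Fintype.card b := ⟨_, rfl⟩
  let e : Fin d ≃ b := (Fintype.equivFinOfCardEq hd.symm).symm
  have hx : ∀ i : Fin d, ∃ g : G, π g = Multiplicative.ofAdd ((e i : b) : V) := fun i => hπ _
  choose x hx using hx
  have hgood : ∀ i, GoodVec R ((e i : b) : V) := fun i => hbs (e i).2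
  refine ⟨d, x, ?_, ?_, ?_⟩
  · -- generation
    apply frattini_nongenerating
    rw [eq_top_iff]
    intro g _
    have htop : ggImage (p := p) π (Subgroup.closure (Set.range x)) = ⊤ := by
      rw [eq_top_iff, ← hbspan, Submodule.span_le]
      intro v hv
      obtain ⟨i, hi⟩ := e.surjective ⟨v, hv⟩
      refine ⟨x i, Subgroup.subset_closure ⟨i, rfl⟩, ?_⟩
      rw [hx i, hi]
    have hg : (π g).toAdd ∈ ggImage (p := p) π (Subgroup.closure (Set.range x)) := by
      rw [htop]; trivial
    obtain ⟨h, hh, eh⟩ := hg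
    have hk : h⁻¹ * g ∈ frattini G := by
      rw [← hker, MonoidHom.mem_ker, map_mul, map_inv, eh]
      simp
    have : g = h * (h⁻¹ * g) := by group
    rw [this]
    exact Subgroup.mul_mem_sup hh hk
  · -- index
    rw [← hker, Subgroup.index_ker, MonoidHom.range_eq_top.mpr hπ, Subgroup.card_top,
      Nat.card_eq_fintype_card, Fintype.card_multiplicative,
      Module.card_eq_pow_finrank (K := ZMod p) (V := V), ZMod.card, hfr, hd]
  · intro i
    obtain ⟨hv0, hvw⟩ := hgood i
    refine ⟨?_, ?_⟩
    · intro y hy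
      have hc : Commute (x i) y := by
        have := (Subgroup.mem_centralizer_iff.mp hy) (x i) rfl
        exact this
      have hw : (π y).toAdd ∈ Submodule.span (ZMod p) {((e i : b) : V)} := by
        apply hvw
        intro α hα hαv hvR
        refine hkey α hα (x i) y ?_ ?_ hc
        · rw [hx i]; exact hαv
        · rw [hx i]; exact hvR
      obtain ⟨c, hc'⟩ := Submodule.mem_span_singleton.mp hw
      have hk : (x i ^ c.val)⁻¹ * y ∈ frattini G := by
        rw [← hker, MonoidHom.mem_ker, map_mul, map_inv, map_pow, hx i]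
        have e1 : π y = Multiplicative.ofAdd (c • ((e i : b) : V)) := by
          rw [hc']; rfl
        rw [e1, ← ofAdd_nsmul, ← Nat.cast_smul_eq_nsmul (ZMod p) c.val, ZMod.natCast_zmod_val]
        simp
      have : y = x i ^ c.val * ((x i ^ c.val)⁻¹ * y) := by group
      rw [this]
      exact Subgroup.mul_mem_sup (Subgroup.pow_mem _ (Subgroup.mem_zpowers _) _) hk
    · intro hmem
      rw [← hker, MonoidHom.mem_ker, hx i] at hmem
      exact hv0 (by simpa using hmem)

end Cfsg.Agent.Helper49.VL
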