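import Cfsg.Agent.Helper39.C320.Defs

/-!
# (A9) of #10066 for helper39 (S1903): `P / Z` is abelian.
-/

set_option autoImplicit false

namespace Cfsg.Agent.Helper49.C320

open Cfsg.Agent.Helper39.C320

variable {G : Type*} [Group G] [Finite G]
variable {P Z : Subgroup G} {x : G}

/-- (A9) `P / Z` is abelian -/
theorem Setup.comm_mem (h : Setup P Z x)
    (hcen : ∀ z ∈ Z, ∀ g : G, g * z = z * g)
    (hinv : ∀ K : Subgroup G, Z ≤ K → K ≤ P → (∀ k ∈ K, x * k * x⁻¹ ∈ K) → K = Z ∨ K = P) :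
    ∀ p ∈ P, ∀ q ∈ P, p * q * p⁻¹ * q⁻¹ ∈ Z := by
  classical
  have hnP := h.normP
  -- the preimage of the centre of `P / Z`
  obtain ⟨K, hKdef⟩ : ∃ K : Subgroup G,
      ∀ p, p ∈ K ↔ (p ∈ P ∧ ∀ q ∈ P, p * q * p⁻¹ * q⁻¹ ∈ Z) := by
    refine ⟨{ carrier := {p | p ∈ P ∧ ∀ q ∈ P, p * q * p⁻¹ * q⁻¹ ∈ Z}
              one_mem' := ⟨P.one_mem, fun q _ => by simp⟩
              mul_mem' := ?_
              inv_mem' := ?_ }, fun p => Iff.rfl⟩
    · rintro p1 p2 ⟨hp1, h1⟩ ⟨hp2, h2⟩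
      refine ⟨P.mul_mem hp1 hp2, fun q hq => ?_⟩
      have e : p1 * p2 * q * (p1 * p2)⁻¹ * q⁻¹
          = p1 * (p2 * q * p2⁻¹ * q⁻¹) * p1⁻¹ * (p1 * q * p1⁻¹ * q⁻¹) := by group
      rw [e, hcen _ (h2 q hq) p1, mul_inv_cancel_right]
      exact Z.mul_mem (h2 q hq) (h1 q hq)
    · rintro p ⟨hp, h1⟩
      refine ⟨P.inv_mem hp, fun q hq => ?_⟩
      have e : p⁻¹ * q * p⁻¹⁻¹ * q⁻¹ = p⁻¹ * (p * q * p⁻¹ * q⁻¹)⁻¹ * p := by group
      rw [e, hcen _ (Z.inv_mem (h1 q hq)) p⁻¹, inv_mul_cancel_right]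
      exact Z.inv_mem (h1 q hq)
  have hZK : Z ≤ K := by
    intro z hz
    rw [hKdef]
    refine ⟨h.Z_le hz, fun q hq => ?_⟩
    have e : z * q * z⁻¹ * q⁻¹ = 1 := by
      rw [← hcen z hz q]
      group
    rw [e]
    exact Z.one_mem
  have hKP : K ≤ P := fun k hk => ((hKdef k).mp hk).1
  have hKx : ∀ k ∈ K, x * k * x⁻¹ ∈ K := by
    intro k hk
    obtain ⟨hkP, h1⟩ := (hKdef k).mp hk
    rw [hKdef]
    refine ⟨hnP.conj_mem k hkP x, fun q hq => ?_⟩
    have hq' : x⁻¹ * q * x ∈ P := by simpa using hnP.conj_mem q hq x⁻¹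
    have hz := h1 _ hq'
    have e : x * k * x⁻¹ * q * (x * k * x⁻¹)⁻¹ * q⁻¹
        = x * (k * (x⁻¹ * q * x) * k⁻¹ * (x⁻¹ * q * x)⁻¹) * x⁻¹ := by group
    rw [e, hcen _ hz x, mul_inv_cancel_right]
    exact hz
  -- the centre of `P / Z` is nontrivial
  have hex : ∃ p ∈ K, p ∉ Z := by
    have hZ'n : (Z.subgroupOf P).Normal := by
      refine ⟨fun z hz g => ?_⟩
      rw [Subgroup.mem_subgroupOf] at hz ⊢
      have e : ((g * z * g⁻¹ : P) : G) = (z : G) := by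
        push_cast
        rw [hcen _ hz (g : G), mul_inv_cancel_right]
      rw [e]
      exact hz
    have : Fact (Nat.Prime 2) := ⟨Nat.prime_two⟩
    have hP2 : IsPGroup 2 P := IsPGroup.of_card (n := 6) (by rw [h.cardP]; norm_num)
    have hQ2 : IsPGroup 2 (P ⧸ Z.subgroupOf P) := hP2.to_quotient _
    have hcardZ' : Nat.card (Z.subgroupOf P) = 4 := by
      rw [Nat.card_congr (Subgroup.subgroupOfEquivOfLe h.Z_le).toEquiv, h.cardZ]
    have hidx : (Z.subgroupOf P).index = 16 := by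
      have := (Z.subgroupOf P).card_mul_index
      rw [hcardZ', h.cardP] at this
      omega
    have : Nontrivial (P ⧸ Z.subgroupOf P) := by
      rw [← Finite.one_lt_card_iff_nontrivial, ← Subgroup.index_eq_card, hidx]
      norm_num
    have := hQ2.center_nontrivial
    obtain ⟨⟨c, hc⟩, hc1⟩ := exists_ne (1 : Subgroup.center (P ⧸ Z.subgroupOf P))
    obtain ⟨p, rfl⟩ := QuotientGroup.mk_surjective c
    refine ⟨(p : G), ?_, ?_⟩
    · rw [hKdef]
      refine ⟨p.2, fun q hq => ?_⟩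
      have hcomm := Subgroup.mem_center_iff.mp hc (QuotientGroup.mk ⟨q, hq⟩)
      have e : ((p * ⟨q, hq⟩ * p⁻¹ * (⟨q, hq⟩ : P)⁻¹ : P) : P ⧸ Z.subgroupOf P) = 1 := by
        rw [QuotientGroup.mk_mul, QuotientGroup.mk_mul, QuotientGroup.mk_mul,
          QuotientGroup.mk_inv, QuotientGroup.mk_inv, ← hcomm]
        group
      rw [QuotientGroup.eq_one_iff, Subgroup.mem_subgroupOf] at e
      simpa using e
    · intro hpZ
      apply hc1
      apply Subtype.ext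
      show (QuotientGroup.mk p : P ⧸ Z.subgroupOf P) = 1
      rw [QuotientGroup.eq_one_iff, Subgroup.mem_subgroupOf]
      exact hpZ
  obtain ⟨p0, hp0K, hp0Z⟩ := hex
  rcases hinv K hZK hKP hKx with hK | hK
  · exfalso
    apply hp0Z
    rw [← hK]
    exact hp0K
  · intro p hp q hq
    have hpK : p ∈ K := by rw [hK]; exact hp
    exact ((hKdef p).mp hpK).2 q hq

end Cfsg.Agent.Helper49.C320
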