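import Cfsg.Agent.Helper39.X648.Conc

/-!
# Helper49: piece (K5) of WANTED #11032 for helper39 / S3366

From (K5a), (K5b), (K5c): the stabiliser `St` of `e0` in `Sp_4(3)` is isomorphic to the
centraliser of `cT` in `PSp_4(3)`.
-/

set_option autoImplicit false

namespace Cfsg.Agent.Helper49.X648

open Cfsg.Agent.Helper39.X648

/-- (K5) -/
theorem St_equiv
    (h1 : ∀ g ∈ St, (QuotientGroup.mk g : Sp3 ⧸ Subgroup.center Sp3) ∈
      Subgroup.centralizer ({cT} : Set (Sp3 ⧸ Subgroup.center Sp3)))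
    (h2 : ∀ g : Sp3, (QuotientGroup.mk g : Sp3 ⧸ Subgroup.center Sp3) ∈
      Subgroup.centralizer ({cT} : Set (Sp3 ⧸ Subgroup.center Sp3)) →
      ∃ s ∈ St, (QuotientGroup.mk s : Sp3 ⧸ Subgroup.center Sp3) = QuotientGroup.mk g)
    (h3 : ∀ s ∈ St, (QuotientGroup.mk s : Sp3 ⧸ Subgroup.center Sp3) = 1 → s = 1) :
    Nonempty (↥St ≃* ↥(Subgroup.centralizer ({cT} : Set (Sp3 ⧸ Subgroup.center Sp3)))) := by
  let φ : ↥St →* ↥(Subgroup.centralizer ({cT} : Set (Sp3 ⧸ Subgroup.center Sp3))) :=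
    ((QuotientGroup.mk' (Subgroup.center Sp3)).comp St.subtype).codRestrict
      (Subgroup.centralizer ({cT} : Set (Sp3 ⧸ Subgroup.center Sp3)))
      (fun s => h1 s.1 s.2)
  have hφ : ∀ s : ↥St, ((φ s : ↥(Subgroup.centralizer ({cT} : Set (Sp3 ⧸ Subgroup.center Sp3))))
      : Sp3 ⧸ Subgroup.center Sp3) = QuotientGroup.mk (s : Sp3) := fun _ => rfl
  have hinj : Function.Injective φ := by
    rw [injective_iff_map_eq_one]
    intro s hs
    have h4 : (QuotientGroup.mk (s : Sp3) : Sp3 ⧸ Subgroup.center Sp3) = 1 := by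
      rw [← hφ s, hs]; rfl
    exact Subtype.ext (h3 s.1 s.2 h4)
  have hsurj : Function.Surjective φ := by
    rintro ⟨x, hx⟩
    obtain ⟨g, rfl⟩ := QuotientGroup.mk_surjective x
    obtain ⟨s, hs, hsg⟩ := h2 g hx
    exact ⟨⟨s, hs⟩, Subtype.ext (by rw [hφ]; exact hsg)⟩
  exact ⟨MulEquiv.ofBijective φ ⟨hinj, hsurj⟩⟩

end Cfsg.Agent.Helper49.X648
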