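import Cfsg.Agent.Helper39.X648.Conc

/-!
# Helper49: piece (K5a) of WANTED #11032 for helper39 / S3366

The stabiliser `St` of `e0` in `Sp_4(3)` maps into the centraliser of the image `cT` of the
transvection along `e0` in `PSp_4(3)`.
-/

set_option autoImplicit false

namespace Cfsg.Agent.Helper49.X648

open Cfsg.Agent.Helper39.X648

open Matrix

/-- an element of the stabiliser of `e0` commutes with the transvection along `e0` -/
theorem St_comm_gT (g : Sp3) (hg : g ∈ St) : g * gT = gT * g := by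
  have hA : (g : Matrix I4 I4 (ZMod 3)) ∈ Matrix.symplecticGroup (Fin 2) (ZMod 3) := g.2
  have hv : (g : Matrix I4 I4 (ZMod 3)) *ᵥ e0 = (1 : ZMod 3) • e0 := by
    rw [one_smul]; exact (mem_St g).mp hg
  have hc := Cfsg.Agent.Helper13.sympTransvection_conj (m := 2) e0
    (g : Matrix I4 I4 (ZMod 3)) (1 : ZMod 3) hA hv (1 : ZMod 3)
  have hdet : IsUnit (g : Matrix I4 I4 (ZMod 3)).det := SymplecticGroup.symplectic_det hA
  have hAA : (g : Matrix I4 I4 (ZMod 3))⁻¹ * (g : Matrix I4 I4 (ZMod 3)) = 1 :=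
    Matrix.nonsing_inv_mul _ hdet
  have hcomm : (g : Matrix I4 I4 (ZMod 3)) * Cfsg.sympTransvection 2 e0 1
      = Cfsg.sympTransvection 2 e0 1 * (g : Matrix I4 I4 (ZMod 3)) := by
    have h2 := congrArg (fun M => M * (g : Matrix I4 I4 (ZMod 3))) hc
    simp only [Matrix.mul_assoc, hAA, Matrix.mul_one] at h2
    rw [h2]
    norm_num
  apply Subtype.ext
  show (g : Matrix I4 I4 (ZMod 3)) * (gT : Matrix I4 I4 (ZMod 3))
    = (gT : Matrix I4 I4 (ZMod 3)) * (g : Matrix I4 I4 (ZMod 3))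
  rw [gT_val]
  exact hcomm

/-- (K5a) -/
theorem St_le : ∀ g ∈ St, (QuotientGroup.mk g : Sp3 ⧸ Subgroup.center Sp3) ∈
    Subgroup.centralizer ({cT} : Set (Sp3 ⧸ Subgroup.center Sp3)) := by
  intro g hg
  rw [Subgroup.mem_centralizer_singleton_iff]
  show (QuotientGroup.mk g : Sp3 ⧸ Subgroup.center Sp3) * QuotientGroup.mk gT
    = QuotientGroup.mk gT * QuotientGroup.mk g
  rw [← QuotientGroup.mk_mul, ← QuotientGroup.mk_mul, St_comm_gT g hg]

end Cfsg.Agent.Helper49.X648
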