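/-
helper49: piece (ADJ) of helper41's sub-farm (U6) for S2500 part 7 (#12437).
The subalgebra generated by a matrix killed by an irreducible polynomial is a field of
degree `m.natDegree`.
-/
import Mathlib
import Cfsg.Prelude.Def_GeometricClasses

set_option autoImplicit false
set_option linter.unusedSectionVars false

namespace Cfsg.Agent.Helper49.Cov2P7U6

open Matrix Polynomial

variable {F : Type*} [Field F]

section

variable {ι : Type} [Fintype ι] [DecidableEq ι] [Nonempty ι]

/-- a polynomial not divisible by `m` is invertible modulo `m`, hence at `ℓ` -/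
theorem adj_inv_of_not_dvd (ℓ : Matrix ι ι F) (m : Polynomial F) (hm : Irreducible m)
    (hroot : Polynomial.aeval ℓ m = 0) (p : Polynomial F) (hp : ¬ m ∣ p) :
    ∃ b : Polynomial F, Polynomial.aeval ℓ b * Polynomial.aeval ℓ p = 1 := by
  obtain ⟨a, b, hab⟩ := (hm.coprime_iff_not_dvd).mpr hp
  refine ⟨b, ?_⟩
  have h := congrArg (Polynomial.aeval ℓ) hab
  rw [map_add, map_mul, map_mul, hroot, mul_zero, zero_add, map_one] at h
  exact h

theorem adj_not_dvd_of_ne_zero (ℓ : Matrix ι ι F) (m : Polynomial F)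
    (hroot : Polynomial.aeval ℓ m = 0) (p : Polynomial F) (hp : Polynomial.aeval ℓ p ≠ 0) :
    ¬ m ∣ p := by
  rintro ⟨c, rfl⟩
  apply hp
  rw [map_mul, hroot, zero_mul]

/-- the evaluation map on polynomials of degree `< m.natDegree` -/
noncomputable def adjEval (ℓ : Matrix ι ι F) (m : Polynomial F) :
    Polynomial.degreeLT F m.natDegree →ₗ[F] (Algebra.adjoin F {ℓ}) where
  toFun p := ⟨Polynomial.aeval ℓ (p : Polynomial F), by
    rw [Algebra.adjoin_singleton_eq_range_aeval]
    exact ⟨p, rfl⟩⟩
  map_add' p q := by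
    apply Subtype.ext
    simp
  map_smul' c p := by
    apply Subtype.ext
    simp

theorem adjEval_bijective (ℓ : Matrix ι ι F) (m : Polynomial F) (hm : Irreducible m)
    (hroot : Polynomial.aeval ℓ m = 0) : Function.Bijective (adjEval ℓ m) := by
  have hm0 : m ≠ 0 := hm.ne_zero
  constructor
  · rw [← LinearMap.ker_eq_bot, LinearMap.ker_eq_bot']
    intro p hp
    have hp' : Polynomial.aeval ℓ (p : Polynomial F) = 0 := congrArg Subtype.val hp
    by_contra hne
    have hp0 : (p : Polynomial F) ≠ 0 := fun h => hne (Subtype.ext h)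
    have hdeg : (p : Polynomial F).degree < m.degree := by
      have := Polynomial.mem_degreeLT.mp p.2
      rwa [Polynomial.degree_eq_natDegree hm0]
    have hnd : ¬ m ∣ (p : Polynomial F) := by
      intro hd
      exact absurd (Polynomial.degree_le_of_dvd hd hp0) (not_le.mpr hdeg)
    obtain ⟨b, hb⟩ := adj_inv_of_not_dvd ℓ m hm hroot p hnd
    rw [hp', mul_zero] at hb
    exact zero_ne_one hb
  · rintro ⟨x, hx⟩
    have hx' := hx
    rw [Algebra.adjoin_singleton_eq_range_aeval] at hx'
    obtain ⟨p, rfl⟩ := hx'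
    have hdeg : (p % m).degree < (m.natDegree : WithBot ℕ) := by
      rw [← Polynomial.degree_eq_natDegree hm0]
      exact Polynomial.degree_mod_lt p hm0
    refine ⟨⟨p % m, Polynomial.mem_degreeLT.mpr hdeg⟩, ?_⟩
    apply Subtype.ext
    change Polynomial.aeval ℓ (p % m) = Polynomial.aeval ℓ p
    conv_rhs => rw [← EuclideanDomain.div_add_mod p m]
    rw [map_add, map_mul, hroot, zero_mul, zero_add]

/-- (ADJ) the subalgebra generated by a matrix killed by an irreducible polynomial is a field -/
theorem isFieldSubalgebra_adjoin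
    (ℓ : Matrix ι ι F) (m : Polynomial F) (hm : Irreducible m) (hroot : Polynomial.aeval ℓ m = 0) :
    Cfsg.Geo.IsFieldSubalgebra m.natDegree (Algebra.adjoin F {ℓ}) := by
  refine ⟨?_, ?_, ?_⟩
  · intro x hx y hy
    rw [Algebra.adjoin_singleton_eq_range_aeval] at hx hy
    obtain ⟨p, rfl⟩ := hx
    obtain ⟨q, rfl⟩ := hy
    change Polynomial.aeval ℓ p * Polynomial.aeval ℓ q = Polynomial.aeval ℓ q * Polynomial.aeval ℓ p
    rw [← map_mul, ← map_mul, mul_comm]
  · intro x hx hx0
    rw [Algebra.adjoin_singleton_eq_range_aeval] at hx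
    obtain ⟨p, rfl⟩ := hx
    change Polynomial.aeval ℓ p ≠ 0 at hx0
    obtain ⟨b, hb⟩ := adj_inv_of_not_dvd ℓ m hm hroot p (adj_not_dvd_of_ne_zero ℓ m hroot p hx0)
    refine ⟨Polynomial.aeval ℓ b, ?_, ?_⟩
    · rw [Algebra.adjoin_singleton_eq_range_aeval]
      exact ⟨b, rfl⟩
    · change Polynomial.aeval ℓ p * Polynomial.aeval ℓ b = 1
      rw [← map_mul, mul_comm, map_mul]
      exact hb
  · have e := LinearEquiv.ofBijective (adjEval ℓ m) (adjEval_bijective ℓ m hm hroot)
    rw [← e.finrank_eq, (Polynomial.degreeLTEquiv F m.natDegree).finrank_eq]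
    simp

end

end Cfsg.Agent.Helper49.Cov2P7U6
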