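/-
helper49: piece (SA) of helper41's sub-farm (U6) for S2500 part 7 (#12437).
The subalgebra generated by a self-adjoint matrix consists of self-adjoint matrices.
-/
import Cfsg.Agent.Helper43.Cov2.P7Defs

set_option autoImplicit false

namespace Cfsg.Agent.Helper49.Cov2P7U6

open Matrix Cfsg.Agent.Helper43.Cov2.P7

variable {F : Type*} [Field F]

theorem sa_pow (ℓ : M6 F) (h : ℓᵀ * Matrix.J (Fin 3) F = Matrix.J (Fin 3) F * ℓ) (n : ℕ) :
    (ℓ ^ n)ᵀ * Matrix.J (Fin 3) F = Matrix.J (Fin 3) F * ℓ ^ n := by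
  induction n with
  | zero => simp
  | succ n ih =>
    rw [pow_succ, Matrix.transpose_mul, Matrix.mul_assoc, ih, ← Matrix.mul_assoc, h,
      Matrix.mul_assoc, ← pow_succ, ← pow_succ']

theorem sa_aeval (ℓ : M6 F) (h : ℓᵀ * Matrix.J (Fin 3) F = Matrix.J (Fin 3) F * ℓ)
    (p : Polynomial F) :
    (Polynomial.aeval ℓ p)ᵀ * Matrix.J (Fin 3) F = Matrix.J (Fin 3) F * Polynomial.aeval ℓ p := by
  induction p using Polynomial.induction_on' with
  | add p q hp hq => rw [map_add, Matrix.transpose_add, Matrix.add_mul, Matrix.mul_add, hp, hq]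
  | monomial n a =>
    rw [Polynomial.aeval_monomial, Algebra.algebraMap_eq_smul_one, smul_mul_assoc, one_mul,
      Matrix.transpose_smul, Matrix.smul_mul, Matrix.mul_smul, sa_pow ℓ h n]

/-- (SA) the subalgebra generated by a self-adjoint matrix consists of self-adjoint matrices -/
theorem isSelfAdjointFor_adjoin (ℓ : M6 F) (h : ℓᵀ * Matrix.J (Fin 3) F = Matrix.J (Fin 3) F * ℓ) :
    Cfsg.Geo.IsSelfAdjointFor (Cfsg.sympForm 3 F) (Algebra.adjoin F {ℓ}) := by
  intro k hk u v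
  rw [Algebra.adjoin_singleton_eq_range_aeval] at hk
  obtain ⟨p, rfl⟩ := hk
  have hp := sa_aeval ℓ h p
  unfold Cfsg.sympForm
  rw [← Matrix.vecMul_transpose, ← Matrix.dotProduct_mulVec, Matrix.mulVec_mulVec,
    Matrix.mulVec_mulVec]
  exact congrArg (fun A => u ⬝ᵥ (A *ᵥ v)) hp

end Cfsg.Agent.Helper49.Cov2P7U6
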