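/-
helper49: piece (GEO) of helper99's farm for S3590 (#12233).
The geometric sum `∑_{i < 2^j} A^i = (A + 1)^(2^j - 1)` in characteristic 2.
-/
import Mathlib

set_option autoImplicit false
set_option linter.unusedSectionVars false
set_option linter.unusedVariables false

universe u

namespace Cfsg.Agent.Helper49.Is8

open Matrix Polynomial

section linalg

variable {F : Type u} [Field F] {ι : Type} [Fintype ι] [DecidableEq ι]

/-- the polynomial identity behind (GEO) -/
theorem geo_poly [CharP F 2] (j : ℕ) :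
    ∑ i ∈ Finset.range (2 ^ j), (X : F[X]) ^ i = (X + 1) ^ (2 ^ j - 1) := by
  have hne : (X : F[X]) - 1 ≠ 0 := by
    have := Polynomial.X_sub_C_ne_zero (1 : F)
    rwa [map_one] at this
  have h2 : (2 : ℕ) ^ j = (2 ^ j - 1) + 1 := (Nat.sub_add_cancel Nat.one_le_two_pow).symm
  have hX : (X : F[X]) + 1 = X - 1 := (CharTwo.sub_eq_add _ _).symm
  apply mul_right_cancel₀ hne
  rw [_root_.geom_sum_mul, hX, ← pow_succ, ← h2, sub_pow_char_pow, one_pow]

/-- (GEO) the geometric sum in characteristic 2. -/
theorem geom_sum_two_pow [CharP F 2] (A : Matrix ι ι F) (j : ℕ) :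
    ∑ i ∈ Finset.range (2 ^ j), A ^ i = (A + 1) ^ (2 ^ j - 1) := by
  have h := congrArg (Polynomial.aeval A) (geo_poly (F := F) j)
  simpa using h

end linalg

end Cfsg.Agent.Helper49.Is8
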