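/-
helper49: piece (GEOM) of helper99's farm for S3590 (#12233).
-/
import Mathlib

set_option autoImplicit false
set_option linter.unusedSectionVars false
set_option linter.unusedVariables false

universe u

namespace Cfsg.Agent.Helper49.Is8

open Matrix Polynomial

section linalg

variable {F : Type u} [Field F] {ι : Type} [Fintype ι] [DecidableEq ι]

/-- (GEOM) -/
theorem geom_sum_mul (A : Matrix ι ι F) (a n : ℕ) (hA : A ^ a = 1) :
    ∑ i ∈ Finset.range (a * n), A ^ i = n • ∑ i ∈ Finset.range a, A ^ i := by
  induction n with
  | zero => simp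
  | succ n ih =>
    rw [Nat.mul_succ, Finset.sum_range_add, ih, succ_nsmul]
    congr 1
    refine Finset.sum_congr rfl (fun x _ => ?_)
    rw [pow_add, pow_mul, hA, one_pow, one_mul]

end linalg

end Cfsg.Agent.Helper49.Is8
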