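import Mathlib
import Cfsg.Agent.Helper42.StDefs

/-!
# (SIGN) for S2425 (helper42, board #4228): the signed sum over the permutations `κ` of `Fin n`
with `κ i ≤ i + 1`

Such a `κ` is a product of backward cycles on consecutive intervals; its cut set is
`cutD κ = {d ∈ (0,n) | κ maps [0,d) into itself}` (`cutSet_eq_cutD`), and the signed sum is
computed by induction on `n` through `Equiv.Perm.decomposeFin` (`sum_cutD`).
-/

set_option autoImplicit false

namespace Cfsg.Agent.Helper49.StSign

open Finset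

/-- the condition `κ i ≤ i + 1` -/
def Hess {n : ℕ} (κ : Equiv.Perm (Fin n)) : Prop := ∀ i : Fin n, (κ i).val ≤ 1 + i.val

/-- `κ` maps `[0,d)` into itself -/
def Closed {n : ℕ} (κ : Equiv.Perm (Fin n)) (d : ℕ) : Prop :=
  ∀ k : Fin n, k.val < d → (κ k).val < d

open Classical in
/-- the cut set of `κ` -/
noncomputable def cutD {n : ℕ} (κ : Equiv.Perm (Fin n)) : Finset ℕ :=
  (Ioo 0 n).filter (fun d => Closed κ d)

theorem mem_cutD {n : ℕ} {κ : Equiv.Perm (Fin n)} {d : ℕ} :
    d ∈ cutD κ ↔ (0 < d ∧ d < n) ∧ Closed κ d := by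
  classical
  unfold cutD
  rw [mem_filter, mem_Ioo]

/-- partial sums of `μ_κ i = 1 + i - κ i` -/
def pS {n : ℕ} (κ : Equiv.Perm (Fin n)) (m : ℕ) : ℕ :=
  ∑ k ∈ univ.filter (fun k : Fin n => k.val < m), (1 + k.val - (κ k).val)

theorem pS_zero {n : ℕ} (κ : Equiv.Perm (Fin n)) : pS κ 0 = 0 := by
  unfold pS
  apply Finset.sum_eq_zero
  intro k hk
  simp at hk

theorem pS_succ {n : ℕ} (κ : Equiv.Perm (Fin n)) {m : ℕ} (hm : m < n) :
    pS κ (m + 1) = pS κ m + (1 + m - (κ ⟨m, hm⟩).val) := by
  unfold pS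
  have h1 : univ.filter (fun k : Fin n => k.val < m + 1) =
      insert (⟨m, hm⟩ : Fin n) (univ.filter (fun k : Fin n => k.val < m)) := by
    ext k
    simp only [mem_filter, mem_univ, true_and, mem_insert, Fin.ext_iff]
    omega
  rw [h1, Finset.sum_insert (by simp), add_comm]

/-- a closed initial segment `[0,d)` has partial sum `d` -/
theorem pS_of_closed {n : ℕ} {κ : Equiv.Perm (Fin n)} (hκ : Hess κ) {d : ℕ} (hd : d ≤ n)
    (hc : Closed κ d) : pS κ d = d := by
  classical
  set s := univ.filter (fun k : Fin n => k.val < d) with hs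
  have himg : s.image κ = s := by
    apply Finset.eq_of_subset_of_card_le
    · intro x hx
      obtain ⟨k, hk, rfl⟩ := Finset.mem_image.1 hx
      rw [hs, mem_filter] at hk ⊢
      exact ⟨mem_univ _, hc k hk.2⟩
    · rw [Finset.card_image_of_injective _ κ.injective]
  have h1 : ∑ k ∈ s, (κ k).val = ∑ k ∈ s, k.val := by
    conv_rhs => rw [← himg]
    rw [Finset.sum_image (fun a _ b _ h => κ.injective h)]
  have h2 : pS κ d + ∑ k ∈ s, (κ k).val = ∑ k ∈ s, (1 + k.val) := by
    unfold pS
    rw [← Finset.sum_add_distrib]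
    apply Finset.sum_congr rfl
    intro k _
    exact Nat.sub_add_cancel (hκ k)
  have h3 : ∑ k ∈ s, (1 + k.val) = d + ∑ k ∈ s, k.val := by
    rw [Finset.sum_add_distrib, Finset.sum_const, smul_eq_mul, mul_one]
    congr 1
    rw [hs, Fin.card_filter_val_lt, min_eq_right hd]
  rw [h1, h3] at h2
  exact Nat.add_right_cancel h2

/-- at a non-closed point `κ m = m + 1` -/
theorem val_of_not_closed {n : ℕ} {κ : Equiv.Perm (Fin n)} (hκ : Hess κ) {m : ℕ} (hm : m < n)
    (hc : ¬ Closed κ (m + 1)) : (κ ⟨m, hm⟩).val = m + 1 := by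
  unfold Closed at hc
  obtain ⟨k, hk'⟩ := not_forall.1 hc
  obtain ⟨hk, hk2⟩ := Classical.not_imp.1 hk'
  have h1 := hκ k
  have hkm : k = ⟨m, hm⟩ := by
    apply Fin.ext
    simp only
    omega
  rw [← hkm]
  omega

theorem pS_zero_or_closed {n : ℕ} {κ : Equiv.Perm (Fin n)} (hκ : Hess κ) :
    ∀ m : ℕ, m ≤ n → pS κ m = 0 ∨ Closed κ (pS κ m) := by
  intro m
  induction m with
  | zero => intro _; left; exact pS_zero κ
  | succ m ih =>
    intro hm
    have hm' : m < n := hm
    by_cases hc : Closed κ (m + 1)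
    · right
      rw [pS_of_closed hκ hm hc]
      exact hc
    · rw [pS_succ κ hm', val_of_not_closed hκ hm' hc]
      have : 1 + m - (m + 1) = 0 := by omega
      rw [this, add_zero]
      exact ih hm'.le

/-- the cut set of the composition `μ_κ` is `cutD κ` -/
theorem cutSet_eq_cutD {n : ℕ} {κ : Equiv.Perm (Fin n)} (hκ : Hess κ) :
    Cfsg.Agent.Helper42.StVal.cutSet (fun i : Fin n => 1 + i.val - (κ i).val) = cutD κ := by
  classical
  have hsum : ∀ j : Fin n, (∑ k ∈ univ.filter (fun k : Fin n => k ≤ j),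
      (1 + k.val - (κ k).val)) = pS κ (j.val + 1) := by
    intro j
    unfold pS
    apply Finset.sum_congr _ (fun _ _ => rfl)
    ext k
    simp only [mem_filter, mem_univ, true_and, Fin.le_def]
    omega
  ext d
  unfold Cfsg.Agent.Helper42.StVal.cutSet
  rw [mem_filter, mem_image, mem_cutD]
  constructor
  · rintro ⟨⟨j, -, hj⟩, hd0, hdn⟩
    refine ⟨⟨hd0, hdn⟩, ?_⟩
    rw [hsum j] at hj
    rcases pS_zero_or_closed hκ (j.val + 1) j.2 with h | h
    · omega
    · rw [hj] at h; exact h
  · rintro ⟨⟨hd0, hdn⟩, hc⟩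
    refine ⟨⟨⟨d - 1, by omega⟩, mem_univ _, ?_⟩, hd0, hdn⟩
    rw [hsum]
    have : d - 1 + 1 = d := by omega
    simp only [this]
    exact pS_of_closed hκ hdn.le hc

/-! ### the recursion through `Equiv.Perm.decomposeFin` -/

open Equiv

theorem not_hess_of_two_le {N : ℕ} (p : Fin (N + 1)) (e : Perm (Fin N)) (hp : 2 ≤ p.val) :
    ¬ Hess (Equiv.Perm.decomposeFin.symm (p, e)) := by
  intro h
  have := h 0
  rw [Equiv.Perm.decomposeFin_symm_apply_zero] at this
  simp at this
  omega

theorem val_zero_succ {N : ℕ} (e : Perm (Fin N)) (x : Fin N) :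
    ((Equiv.Perm.decomposeFin.symm ((0 : Fin (N + 1)), e)) x.succ).val = (e x).val + 1 := by
  rw [Equiv.Perm.decomposeFin_symm_apply_succ]
  simp

theorem val_one_succ {m : ℕ} (e : Perm (Fin (m + 1))) (x : Fin (m + 1)) :
    ((Equiv.Perm.decomposeFin.symm ((1 : Fin (m + 2)), e)) x.succ).val =
      if e x = 0 then 0 else (e x).val + 1 := by
  rw [Equiv.Perm.decomposeFin_symm_apply_succ]
  by_cases h : e x = 0
  · rw [if_pos h, h]
    have : (0 : Fin (m + 1)).succ = 1 := Fin.succ_zero_eq_one
    rw [this, Equiv.swap_apply_right]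
    rfl
  · rw [if_neg h]
    rw [Equiv.swap_apply_of_ne_of_ne (Fin.succ_ne_zero _)]
    · simp
    · intro h1
      apply h
      have : (0 : Fin (m + 1)).succ = 1 := Fin.succ_zero_eq_one
      rw [← this] at h1
      exact Fin.succ_injective _ h1

theorem hess_zero {N : ℕ} (e : Perm (Fin N)) :
    Hess (Equiv.Perm.decomposeFin.symm ((0 : Fin (N + 1)), e)) ↔ Hess e := by
  constructor
  · intro h i
    have := h i.succ
    rw [val_zero_succ] at this
    simp at this
    omega
  · intro h i
    refine Fin.cases ?_ ?_ i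
    · rw [Equiv.Perm.decomposeFin_symm_apply_zero]; simp
    · intro j
      rw [val_zero_succ]
      have := h j
      simp
      omega

theorem hess_one {m : ℕ} (e : Perm (Fin (m + 1))) :
    Hess (Equiv.Perm.decomposeFin.symm ((1 : Fin (m + 2)), e)) ↔ Hess e := by
  constructor
  · intro h i
    have := h i.succ
    rw [val_one_succ] at this
    by_cases h0 : e i = 0
    · rw [h0]; simp
    · rw [if_neg h0] at this
      simp at this
      omega
  · intro h i
    refine Fin.cases ?_ ?_ i
    · rw [Equiv.Perm.decomposeFin_symm_apply_zero]; simp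
    · intro j
      rw [val_one_succ]
      have := h j
      split_ifs
      · omega
      · simp
        omega

theorem closed_zero {N : ℕ} (e : Perm (Fin N)) {d : ℕ} (hd : 0 < d) :
    Closed (Equiv.Perm.decomposeFin.symm ((0 : Fin (N + 1)), e)) d ↔ Closed e (d - 1) := by
  constructor
  · intro h k hk
    have := h k.succ (by simp; omega)
    rw [val_zero_succ] at this
    omega
  · intro h k
    refine Fin.cases ?_ ?_ k
    · intro _
      rw [Equiv.Perm.decomposeFin_symm_apply_zero]
      simpa using hd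
    · intro j hj
      rw [val_zero_succ]
      have := h j (by simp at hj; omega)
      omega

theorem closed_one {m : ℕ} (e : Perm (Fin (m + 1))) {d : ℕ} (hd : 0 < d) :
    Closed (Equiv.Perm.decomposeFin.symm ((1 : Fin (m + 2)), e)) d ↔
      (2 ≤ d ∧ Closed e (d - 1)) := by
  constructor
  · intro h
    have h0 := h 0 (by simpa using hd)
    rw [Equiv.Perm.decomposeFin_symm_apply_zero] at h0
    have h2 : 2 ≤ d := by
      have : ((1 : Fin (m + 2))).val = 1 := rfl
      omega
    refine ⟨h2, ?_⟩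
    intro k hk
    have := h k.succ (by simp; omega)
    rw [val_one_succ] at this
    by_cases hk0 : e k = 0
    · rw [hk0]
      simp
      omega
    · rw [if_neg hk0] at this
      omega
  · rintro ⟨h2, h⟩ k
    refine Fin.cases ?_ ?_ k
    · intro _
      rw [Equiv.Perm.decomposeFin_symm_apply_zero]
      have : ((1 : Fin (m + 2))).val = 1 := rfl
      omega
    · intro j hj
      rw [val_one_succ]
      have := h j (by simp at hj; omega)
      split_ifs
      · omega
      · omega

theorem cutD_zero {m : ℕ} (e : Perm (Fin (m + 1))) :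
    cutD (Equiv.Perm.decomposeFin.symm ((0 : Fin (m + 2)), e)) =
      insert 1 ((cutD e).image (· + 1)) := by
  ext d
  rw [mem_cutD, mem_insert, mem_image]
  constructor
  · rintro ⟨⟨hd0, hdn⟩, hc⟩
    rw [closed_zero e hd0] at hc
    by_cases h1 : d = 1
    · left; exact h1
    · right
      exact ⟨d - 1, mem_cutD.2 ⟨⟨by omega, by omega⟩, hc⟩, by omega⟩
  · rintro (rfl | ⟨d', hd', rfl⟩)
    · refine ⟨⟨by omega, by omega⟩, ?_⟩
      rw [closed_zero e (by omega)]
      intro k hk
      simp at hk
    · obtain ⟨⟨h0, hn⟩, hc⟩ := mem_cutD.1 hd'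
      refine ⟨⟨by omega, by omega⟩, ?_⟩
      rw [closed_zero e (by omega)]
      simpa using hc

theorem cutD_one {m : ℕ} (e : Perm (Fin (m + 1))) :
    cutD (Equiv.Perm.decomposeFin.symm ((1 : Fin (m + 2)), e)) = (cutD e).image (· + 1) := by
  ext d
  rw [mem_cutD, mem_image]
  constructor
  · rintro ⟨⟨hd0, hdn⟩, hc⟩
    rw [closed_one e hd0] at hc
    exact ⟨d - 1, mem_cutD.2 ⟨⟨by omega, by omega⟩, hc.2⟩, by omega⟩
  · rintro ⟨d', hd', rfl⟩
    obtain ⟨⟨h0, hn⟩, hc⟩ := mem_cutD.1 hd'
    refine ⟨⟨by omega, by omega⟩, ?_⟩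
    rw [closed_one e (by omega)]
    exact ⟨by omega, by simpa using hc⟩

theorem Ioo_succ_eq (m : ℕ) :
    Ioo 0 (m + 2) = insert 1 ((Ioo 0 (m + 1)).image (· + 1)) := by
  ext d
  rw [mem_insert, mem_image, mem_Ioo]
  constructor
  · rintro ⟨h0, hn⟩
    by_cases h1 : d = 1
    · left; exact h1
    · right; exact ⟨d - 1, mem_Ioo.2 ⟨by omega, by omega⟩, by omega⟩
  · rintro (rfl | ⟨d', hd', rfl⟩)
    · omega
    · rw [mem_Ioo] at hd'; omega

open Classical in
theorem sum_cutD_one {A : Type*} [AddCommGroup A] (g : Finset ℕ → A) :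
    (∑ κ : Perm (Fin 1),
      if Hess κ then ((Equiv.Perm.sign κ : ℤ)) • g (cutD κ) else 0) =
      ∑ D ∈ (Ioo 0 1).powerset, ((-1 : ℤ) ^ (0 + 1 + D.card + 1)) • g D := by
  have hI : Ioo 0 1 = (∅ : Finset ℕ) := by
    ext d
    simp only [mem_Ioo, Finset.notMem_empty, iff_false]
    omega
  rw [hI, Finset.powerset_empty, Finset.sum_singleton, Fintype.sum_unique]
  have hH : Hess (default : Perm (Fin 1)) := by
    intro i
    have : (default : Perm (Fin 1)) i = i := Subsingleton.elim _ _
    rw [this]; omega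
  rw [if_pos hH]
  have hc : cutD (default : Perm (Fin 1)) = ∅ := by
    ext d
    rw [mem_cutD]
    simp only [Finset.notMem_empty, iff_false]
    omega
  have hs : Equiv.Perm.sign (default : Perm (Fin 1)) = 1 := by
    have : (default : Perm (Fin 1)) = 1 := Subsingleton.elim _ _
    rw [this, Equiv.Perm.sign_one]
  rw [hc, hs]
  simp

open Classical in
/-- the signed sum, in terms of `cutD` -/
theorem sum_cutD (m : ℕ) {A : Type*} [AddCommGroup A] (g : Finset ℕ → A) :
    (∑ κ : Perm (Fin (m + 1)),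
      if Hess κ then ((Equiv.Perm.sign κ : ℤ)) • g (cutD κ) else 0) =
      ∑ D ∈ (Ioo 0 (m + 1)).powerset, ((-1 : ℤ) ^ (m + 1 + D.card + 1)) • g D := by
  induction m generalizing g with
  | zero => exact sum_cutD_one g
  | succ m ih =>
    -- left side
    have hL : (∑ κ : Perm (Fin (m + 1 + 1)),
        if Hess κ then ((Equiv.Perm.sign κ : ℤ)) • g (cutD κ) else 0) =
        (∑ e : Perm (Fin (m + 1)),
          if Hess e then ((Equiv.Perm.sign e : ℤ)) • g (insert 1 ((cutD e).image (· + 1)))
          else 0) -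
        (∑ e : Perm (Fin (m + 1)),
          if Hess e then ((Equiv.Perm.sign e : ℤ)) • g ((cutD e).image (· + 1)) else 0) := by
      rw [← Equiv.sum_comp (Equiv.Perm.decomposeFin (n := m + 1)).symm, Fintype.sum_prod_type,
        Fin.sum_univ_succ, Fin.sum_univ_succ]
      have h3 : (∑ p : Fin m, ∑ e : Perm (Fin (m + 1)),
          if Hess (Equiv.Perm.decomposeFin.symm (p.succ.succ, e)) then
            ((Equiv.Perm.sign (Equiv.Perm.decomposeFin.symm (p.succ.succ, e)) : ℤ)) •
              g (cutD (Equiv.Perm.decomposeFin.symm (p.succ.succ, e))) else 0) = 0 := by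
        apply Finset.sum_eq_zero
        intro p _
        apply Finset.sum_eq_zero
        intro e _
        rw [if_neg]
        apply not_hess_of_two_le
        simp
      rw [h3, add_zero, sub_eq_add_neg]
      congr 1
      · apply Finset.sum_congr rfl
        intro e _
        rw [hess_zero, cutD_zero, Equiv.Perm.decomposeFin.symm_sign]
        simp
      · rw [← Finset.sum_neg_distrib]
        apply Finset.sum_congr rfl
        intro e _
        have h1 : (0 : Fin (m + 1)).succ = (1 : Fin (m + 2)) := Fin.succ_zero_eq_one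
        rw [h1, hess_one, cutD_one, Equiv.Perm.decomposeFin.symm_sign]
        have hne : (1 : Fin (m + 2)) ≠ 0 := by
          intro h; exact absurd (congrArg Fin.val h) (by simp)
        rw [if_neg hne]
        split_ifs
        · simp
        · simp
    have e0 := ih (fun D => g (insert 1 (D.image (· + 1))))
    have e1 := ih (fun D => g (D.image (· + 1)))
    beta_reduce at e0 e1
    rw [hL, e0, e1]
    -- right side
    have h1n : (1 : ℕ) ∉ (Ioo 0 (m + 1)).image (· + 1) := by
      intro h
      obtain ⟨d', hd', hd1⟩ := mem_image.1 h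
      rw [mem_Ioo] at hd'
      omega
    have hinj : Function.Injective (fun d : ℕ => d + 1) := add_left_injective 1
    rw [Ioo_succ_eq, Finset.sum_powerset_insert h1n, Finset.powerset_image,
      Finset.sum_image (fun a _ b _ h => Finset.image_injective hinj h),
      Finset.sum_image (fun a _ b _ h => Finset.image_injective hinj h)]
    have hB : (∑ D' ∈ (Ioo 0 (m + 1)).powerset,
        ((-1 : ℤ) ^ (m + 1 + 1 + (D'.image (· + 1)).card + 1)) • g (D'.image (· + 1))) =
        - ∑ D' ∈ (Ioo 0 (m + 1)).powerset,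
          ((-1 : ℤ) ^ (m + 1 + D'.card + 1)) • g (D'.image (· + 1)) := by
      rw [← Finset.sum_neg_distrib]
      apply Finset.sum_congr rfl
      intro D' hD'
      rw [Finset.card_image_of_injective _ hinj, ← neg_smul]
      congr 1
      have : m + 1 + 1 + D'.card + 1 = (m + 1 + D'.card + 1) + 1 := by omega
      rw [this, pow_succ]
      simp
    have hA : (∑ D' ∈ (Ioo 0 (m + 1)).powerset,
        ((-1 : ℤ) ^ (m + 1 + 1 + (insert 1 (D'.image (· + 1))).card + 1)) •
          g (insert 1 (D'.image (· + 1)))) =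
        ∑ D' ∈ (Ioo 0 (m + 1)).powerset,
          ((-1 : ℤ) ^ (m + 1 + D'.card + 1)) • g (insert 1 (D'.image (· + 1))) := by
      apply Finset.sum_congr rfl
      intro D' hD'
      have hnot : (1 : ℕ) ∉ D'.image (· + 1) := by
        intro h
        apply h1n
        exact Finset.image_subset_image (Finset.mem_powerset.1 hD') h
      rw [Finset.card_insert_of_notMem hnot, Finset.card_image_of_injective _ hinj]
      congr 1
      have : m + 1 + 1 + (D'.card + 1) + 1 = (m + 1 + D'.card + 1) + 2 := by omega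
      rw [this, pow_add]
      simp
    rw [hA, hB]
    abel

/-- **(SIGN)** of board #4228 -/
theorem sign_sum {n : ℕ} (hn : 0 < n) {A : Type*} [AddCommGroup A] (g : Finset ℕ → A) :
    (∑ κ : Equiv.Perm (Fin n), if ∀ i : Fin n, (κ i).val ≤ 1 + i.val then
      ((Equiv.Perm.sign κ : ℤ)) • g (Cfsg.Agent.Helper42.StVal.cutSet
        fun i => 1 + i.val - (κ i).val) else 0) =
      ∑ D ∈ (Ioo 0 n).powerset, ((-1 : ℤ) ^ (n + D.card + 1)) • g D := by
  classical
  obtain ⟨m, rfl⟩ : ∃ m, n = m + 1 := ⟨n - 1, by omega⟩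
  rw [← sum_cutD m g]
  apply Finset.sum_congr rfl
  intro κ _
  by_cases h : Hess κ
  · have h' : ∀ i : Fin (m + 1), (κ i).val ≤ 1 + i.val := h
    rw [if_pos h', if_pos h, cutSet_eq_cutD h]
  · have h' : ¬ ∀ i : Fin (m + 1), (κ i).val ≤ 1 + i.val := h
    rw [if_neg h', if_neg h]

end Cfsg.Agent.Helper49.StSign
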