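import Cfsg.Agent.Helper43.Cov2.P8Defs

/-!
# Helper49: piece (8A) of WANTED #11867 for helper43 / S2500 part 8

Automorphisms of the Zorn algebra preserve the trace and the norm.
-/

set_option autoImplicit false

namespace Cfsg.Agent.Helper49.Cov2.P8

open Matrix Cfsg.Lie Cfsg.Agent.Helper43.Cov2.P8

variable {F : Type*} [Field F]

/-- the quadratic equation of the Zorn algebra -/
theorem zornMul_self (x : Fin 8 → F) : zornMul x x = tr8 x • x - N8 x • one8 := by
  ext i
  fin_cases i <;> simp [zornMul, one8, tr8, N8, dot3, cross3] <;> ring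

theorem tr8_smul_one8 (c : F) : tr8 (c • (one8 : Fin 8 → F)) = c + c := by
  simp [tr8, one8]

theorem N8_smul_one8 (c : F) : N8 (c • (one8 : Fin 8 → F)) = c * c := by
  simp [N8, one8]

/-- the common core of (8A) -/
theorem act_tr8_N8 (g : G2 F) (x : Fin 8 → F) : tr8 (act g x) = tr8 x ∧ N8 (act g x) = N8 x := by
  set y := act g x with hy
  have h1 : zornMul y y = tr8 x • y - N8 x • one8 := by
    rw [hy, ← act_zornMul, zornMul_self, act_sub, act_smul, act_smul, act_one8]
  have h2 : (tr8 y - tr8 x) • y = (N8 y - N8 x) • (one8 : Fin 8 → F) := by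
    have h3 := zornMul_self y
    rw [h1] at h3
    rw [sub_smul, sub_smul]
    have h4 : tr8 x • y - N8 x • (one8 : Fin 8 → F) = tr8 y • y - N8 y • one8 := h3
    calc tr8 y • y - tr8 x • y
        = (tr8 y • y - N8 y • (one8 : Fin 8 → F)) - (tr8 x • y - N8 x • one8)
          + (N8 y • one8 - N8 x • one8) := by abel
      _ = N8 y • one8 - N8 x • one8 := by rw [h4, sub_self, zero_add]
  have hd : tr8 y - tr8 x = 0 := by
    by_contra hne
    obtain ⟨c, hyc, hxc⟩ : ∃ c : F, y = c • (one8 : Fin 8 → F) ∧ x = c • (one8 : Fin 8 → F) := by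
      have h5 : y = ((tr8 y - tr8 x)⁻¹ * (N8 y - N8 x)) • (one8 : Fin 8 → F) := by
        rw [mul_smul, ← h2, smul_smul, inv_mul_cancel₀ hne, one_smul]
      refine ⟨_, h5, ?_⟩
      have := congrArg (act g⁻¹) h5
      rwa [hy, act_inv_act, act_smul, act_one8] at this
    apply hne
    have e1 : tr8 y = c + c := by rw [hyc, tr8_smul_one8]
    have e2 : tr8 x = c + c := by rw [hxc, tr8_smul_one8]
    rw [e1, e2, sub_self]
  refine ⟨sub_eq_zero.mp hd, ?_⟩
  rw [hd, zero_smul] at h2
  have h7 := congrFun h2 0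
  simp [one8] at h7
  exact sub_eq_zero.mp h7.symm

/-- (8A) automorphisms preserve the trace. -/
theorem act_tr8 (g : G2 F) (x : Fin 8 → F) : tr8 (act g x) = tr8 x := (act_tr8_N8 g x).1

/-- (8A) automorphisms preserve the norm. -/
theorem act_N8 (g : G2 F) (x : Fin 8 → F) : N8 (act g x) = N8 x := (act_tr8_N8 g x).2

end Cfsg.Agent.Helper49.Cov2.P8
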