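import Mathlib
import Cfsg.Prelude.Def_Classical
import Cfsg.Agent.Helper43.SylDefs
import Cfsg.Agent.Helper45.Isometry

/-!
# (W-C) of board #5040 (helper43, S4629-S4631): the isometry group of the Euclidean plane
`x² + y²` (helper49)
-/

set_option autoImplicit false

namespace Cfsg.Agent.Helper49.Syl

open Cfsg Cfsg.Agent.Helper43.Syl Matrix

variable {F : Type*} [Field F]

/-- the entry relations of an isometry of `x² + y²` -/
theorem E2_relations (h2 : (2 : F) ≠ 0) (g : GL (Fin 2) F)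
    (hg : g ∈ Cfsg.isometryGroup F ⇑(E2 F)) :
    (g : Matrix (Fin 2) (Fin 2) F) 0 0 * (g : Matrix (Fin 2) (Fin 2) F) 0 0 +
        (g : Matrix (Fin 2) (Fin 2) F) 1 0 * (g : Matrix (Fin 2) (Fin 2) F) 1 0 = 1 ∧
    (g : Matrix (Fin 2) (Fin 2) F) 0 1 * (g : Matrix (Fin 2) (Fin 2) F) 0 1 +
        (g : Matrix (Fin 2) (Fin 2) F) 1 1 * (g : Matrix (Fin 2) (Fin 2) F) 1 1 = 1 ∧
    (g : Matrix (Fin 2) (Fin 2) F) 0 0 * (g : Matrix (Fin 2) (Fin 2) F) 0 1 +
        (g : Matrix (Fin 2) (Fin 2) F) 1 0 * (g : Matrix (Fin 2) (Fin 2) F) 1 1 = 0 := by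
  rw [Cfsg.Agent.Helper45.mem_isometryGroup_iff] at hg
  set M : Matrix (Fin 2) (Fin 2) F := (g : Matrix (Fin 2) (Fin 2) F) with hM
  have e0 := hg ![1, 0]
  have e1 := hg ![0, 1]
  have e2 := hg ![1, 1]
  rw [E2_apply, E2_apply] at e0 e1 e2
  simp only [Matrix.mulVec, dotProduct, Fin.sum_univ_two, Matrix.cons_val_zero,
    Matrix.cons_val_one, mul_one, mul_zero, add_zero, zero_add] at e0 e1 e2
  refine ⟨by linear_combination e0, by linear_combination e1, ?_⟩
  have h3 : 2 * (M 0 0 * M 0 1 + M 1 0 * M 1 1) = 0 := by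
    linear_combination e2 - e0 - e1
  rcases mul_eq_zero.mp h3 with h | h
  · exact absurd h h2
  · exact h

theorem E2_det_sq (h2 : (2 : F) ≠ 0) (g : GL (Fin 2) F)
    (hg : g ∈ Cfsg.isometryGroup F ⇑(E2 F)) :
    (g : Matrix (Fin 2) (Fin 2) F).det = 1 ∨ (g : Matrix (Fin 2) (Fin 2) F).det = -1 := by
  obtain ⟨r1, r2, r3⟩ := E2_relations h2 g hg
  set M : Matrix (Fin 2) (Fin 2) F := (g : Matrix (Fin 2) (Fin 2) F) with hM
  have h : M.det * M.det = 1 := by
    rw [Matrix.det_fin_two]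
    linear_combination (M 0 1 * M 0 1 + M 1 1 * M 1 1) * r1 + r2
      - (M 0 0 * M 0 1 + M 1 0 * M 1 1) * r3
  exact mul_self_eq_one_iff.mp h

variable [Fintype F]

theorem E2_mul_self_of_det (h2 : (2 : F) ≠ 0) (g : Cfsg.isometryGroup F ⇑(E2 F))
    (hdet : ((g : GL (Fin 2) F) : Matrix (Fin 2) (Fin 2) F).det = -1) : g * g = 1 := by
  obtain ⟨r1, r2, r3⟩ := E2_relations h2 (g : GL (Fin 2) F) g.2
  set M : Matrix (Fin 2) (Fin 2) F := ((g : GL (Fin 2) F) : Matrix (Fin 2) (Fin 2) F) with hM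
  rw [Matrix.det_fin_two] at hdet
  have hb : M 0 1 = M 1 0 := by
    linear_combination (-(M 0 1)) * r1 + M 0 0 * r3 - M 1 0 * hdet
  have hd : M 1 1 = - M 0 0 := by
    linear_combination (-(M 1 1)) * r1 + M 1 0 * r3 + M 0 0 * hdet
  apply Subtype.ext
  apply Units.ext
  show M * M = 1
  ext i j
  fin_cases i <;> fin_cases j
  · simp only [Matrix.mul_apply, Fin.sum_univ_two, Fin.zero_eta, Matrix.one_apply_eq]
    linear_combination r1 + M 1 0 * hb
  · simp only [Matrix.mul_apply, Fin.sum_univ_two, Fin.zero_eta, Fin.mk_one]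
    rw [Matrix.one_apply_ne (by decide)]
    linear_combination M 0 1 * hd
  · simp only [Matrix.mul_apply, Fin.sum_univ_two, Fin.zero_eta, Fin.mk_one]
    rw [Matrix.one_apply_ne (by decide)]
    linear_combination M 1 0 * hd
  · simp only [Matrix.mul_apply, Fin.sum_univ_two, Fin.mk_one, Matrix.one_apply_eq]
    linear_combination r2 - M 0 1 * hb

theorem two_ne_zero_of_odd_card (hF : Odd (Fintype.card F)) : (2 : F) ≠ 0 := by
  apply Ring.two_ne_zero
  intro h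
  have := FiniteField.even_card_iff_char_two.mp h
  rw [Nat.odd_iff] at hF
  omega

/-- the reflection `diag(1, -1)` -/
def reflGL : GL (Fin 2) F :=
  ⟨!![1, 0; 0, -1], !![1, 0; 0, -1], by
    rw [Matrix.mul_fin_two]
    ext i j
    fin_cases i <;> fin_cases j <;> simp, by
    rw [Matrix.mul_fin_two]
    ext i j
    fin_cases i <;> fin_cases j <;> simp⟩

theorem reflGL_mem : (reflGL : GL (Fin 2) F) ∈ Cfsg.isometryGroup F ⇑(E2 F) := by
  rw [Cfsg.Agent.Helper45.mem_isometryGroup_iff]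
  intro u
  rw [E2_apply, E2_apply]
  show (!![1, 0; 0, -1] *ᵥ u) 0 * (!![1, 0; 0, -1] *ᵥ u) 0 +
    (!![1, 0; 0, -1] *ᵥ u) 1 * (!![1, 0; 0, -1] *ᵥ u) 1 = u 0 * u 0 + u 1 * u 1
  simp only [Matrix.mulVec, dotProduct, Fin.sum_univ_two, Matrix.of_apply, Matrix.cons_val_zero,
    Matrix.cons_val_one, Matrix.cons_val', Matrix.empty_val', Matrix.cons_val_fin_one]
  ring

theorem reflGL_det : ((reflGL : GL (Fin 2) F) : Matrix (Fin 2) (Fin 2) F).det = -1 := by
  show (!![1, 0; 0, -1] : Matrix (Fin 2) (Fin 2) F).det = -1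
  rw [Matrix.det_fin_two_of]
  ring

theorem E2_sylow_closure (hF : Odd (Fintype.card F))
    (D : Sylow 2 (Cfsg.isometryGroup F ⇑(E2 F))) :
    Subgroup.closure {d : Cfsg.isometryGroup F ⇑(E2 F) |
      d ∈ (D : Subgroup (Cfsg.isometryGroup F ⇑(E2 F))) ∧
        ((d : GL (Fin 2) F) : Matrix (Fin 2) (Fin 2) F).det = -1} =
      (D : Subgroup (Cfsg.isometryGroup F ⇑(E2 F))) := by
  classical
  have h2 : (2 : F) ≠ 0 := two_ne_zero_of_odd_card hF
  have h11 : (1 : F) ≠ -1 := by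
    intro h
    apply h2
    linear_combination h
  -- the determinant character
  let δ : Cfsg.isometryGroup F ⇑(E2 F) →* Fˣ :=
    Matrix.GeneralLinearGroup.det.comp (Cfsg.isometryGroup F ⇑(E2 F)).subtype
  have hδ : ∀ x : Cfsg.isometryGroup F ⇑(E2 F),
      ((δ x : Fˣ) : F) = ((x : GL (Fin 2) F) : Matrix (Fin 2) (Fin 2) F).det := by
    intro x
    show ((Matrix.GeneralLinearGroup.det (x : GL (Fin 2) F) : Fˣ) : F) = _
    rw [Matrix.GeneralLinearGroup.val_det_apply]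
  -- the reflection, inside the isometry group
  let r : Cfsg.isometryGroup F ⇑(E2 F) := ⟨reflGL, reflGL_mem⟩
  have hrdet : ((r : GL (Fin 2) F) : Matrix (Fin 2) (Fin 2) F).det = -1 := reflGL_det
  have hrr : r * r = 1 := E2_mul_self_of_det h2 r hrdet
  -- `⟨r⟩` is a 2-group
  have hP : IsPGroup 2 ↥(Subgroup.zpowers r) := by
    rintro ⟨x, hx⟩
    refine ⟨1, Subtype.ext ?_⟩
    obtain ⟨k, rfl⟩ := Subgroup.mem_zpowers_iff.mp hx
    show (r ^ k) ^ 2 ^ 1 = 1
    have h3 : (r ^ k) ^ (2 : ℕ) = (r ^ (2 : ℕ)) ^ k := by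
      rw [← zpow_natCast, ← _root_.zpow_mul, mul_comm, _root_.zpow_mul, zpow_natCast]
    rw [pow_one, h3, pow_two, hrr, _root_.one_zpow]
  obtain ⟨Q, hQ⟩ := hP.exists_le_sylow
  obtain ⟨g, hg⟩ := MulAction.exists_smul_eq (Cfsg.isometryGroup F ⇑(E2 F)) Q D
  have hrQ : r ∈ (Q : Subgroup (Cfsg.isometryGroup F ⇑(E2 F))) :=
    hQ (Subgroup.mem_zpowers r)
  have hd0 : g * r * g⁻¹ ∈ (D : Subgroup (Cfsg.isometryGroup F ⇑(E2 F))) := by
    rw [← hg, Sylow.smul_def, Sylow.pointwise_smul_def]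
    have := Subgroup.smul_mem_pointwise_smul r (MulAut.conj g)
      (Q : Subgroup (Cfsg.isometryGroup F ⇑(E2 F))) hrQ
    rwa [MulAut.smul_def, MulAut.conj_apply] at this
  have hd0det : (((g * r * g⁻¹ : Cfsg.isometryGroup F ⇑(E2 F)) : GL (Fin 2) F) :
      Matrix (Fin 2) (Fin 2) F).det = -1 := by
    rw [← hδ, map_mul, map_mul, map_inv, mul_comm (δ g), mul_assoc, mul_inv_cancel, mul_one, hδ]
    exact hrdet
  apply le_antisymm
  · rw [Subgroup.closure_le]
    rintro d ⟨hd, -⟩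
    exact hd
  · intro d hd
    rcases E2_det_sq h2 (d : GL (Fin 2) F) d.2 with h1 | h1
    · have e : d = (g * r * g⁻¹) * ((g * r * g⁻¹)⁻¹ * d) := by group
      rw [e]
      apply Subgroup.mul_mem
      · exact Subgroup.subset_closure ⟨hd0, hd0det⟩
      · apply Subgroup.subset_closure
        refine ⟨Subgroup.mul_mem _ (Subgroup.inv_mem _ hd0) hd, ?_⟩
        rw [← hδ, map_mul, map_inv, Units.val_mul, hδ, h1, mul_one]
        have h3 : ((δ (g * r * g⁻¹) : Fˣ) : F) = -1 := by rw [hδ]; exact hd0det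
        have h4 : ((δ (g * r * g⁻¹))⁻¹ : Fˣ) = δ (g * r * g⁻¹) := by
          apply Units.ext
          rw [Units.val_inv_eq_inv_val, h3]
          norm_num
        rw [h4, h3]
    · exact Subgroup.subset_closure ⟨hd, h1⟩

end Cfsg.Agent.Helper49.Syl
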