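import Mathlib
import Cfsg.Agent.Helper43.SylDefs
import Cfsg.Agent.Helper42.GLCard2

/-!
# (W-A) of board #5040 (helper43, S4629-S4631): the 2-parts of the orders of the orthogonal groups
in odd characteristic (helper49)
-/

set_option autoImplicit false

namespace Cfsg.Agent.Helper49.Syl

open Cfsg Cfsg.Agent.Helper43.Syl Cfsg.Agent.Helper42

section aux

variable (q : ℕ)

theorem sq_sub_one_eq (hq : 1 ≤ q) : q ^ 2 - 1 = (q - 1) * (q + 1) := by
  obtain ⟨k, rfl⟩ : ∃ k, q = k + 1 := ⟨q - 1, by omega⟩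
  simp only [Nat.add_sub_cancel]
  have : (k + 1) ^ 2 = k * (k + 1 + 1) + 1 := by ring
  rw [this, Nat.add_sub_cancel]

/-- `v₂(q - 1) + v₂(q + 1) = v₂(2 * ee q)` -/
theorem v_sub_add_v_add (hq : Odd q) (hq3 : 3 ≤ q) :
    padicValNat 2 (q - 1) + padicValNat 2 (q + 1) = padicValNat 2 (2 * ee q) := by
  have hodd : q % 2 = 1 := Nat.odd_iff.mp hq
  unfold ee
  split_ifs with h
  · rw [padicValNat.mul (by norm_num) (by omega), padicValNat_self,
      padicValNat_two_of_mod_four (n := q + 1) (by omega)]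
    ring
  · rw [padicValNat.mul (by norm_num) (by omega), padicValNat_self,
      padicValNat_two_of_mod_four (n := q - 1) (by omega)]

theorem v_sq_sub_one (hq : Odd q) (hq3 : 3 ≤ q) :
    padicValNat 2 (q ^ 2 - 1) = padicValNat 2 (2 * ee q) := by
  rw [sq_sub_one_eq q (by omega), padicValNat.mul (by omega) (by omega), v_sub_add_v_add q hq hq3]

theorem v_sub_one_of_mod_four_three (h : q % 4 = 3) : padicValNat 2 (q - 1) = 1 :=
  padicValNat_two_of_mod_four (by omega)

theorem v_add_one_of_mod_four_one (h : q % 4 = 1) : padicValNat 2 (q + 1) = 1 :=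
  padicValNat_two_of_mod_four (by omega)

theorem pow_sub_one_ne_zero (hq3 : 3 ≤ q) {k : ℕ} (hk : k ≠ 0) : q ^ k - 1 ≠ 0 := by
  have : 1 < q ^ k := Nat.one_lt_pow hk (by omega)
  omega

/-- `v₂(q^(2j) - 1) = d + v₂(j)` -/
theorem v_pow_even_sub_one (hq : Odd q) (hq3 : 3 ≤ q) {j : ℕ} (hj : j ≠ 0) :
    padicValNat 2 (q ^ (2 * j) - 1) = padicValNat 2 (2 * ee q) + padicValNat 2 j := by
  have hq2 : ¬ 2 ∣ q := by
    rw [← even_iff_two_dvd, Nat.not_even_iff_odd]; exact hq
  rw [padicValNat_two_pow_sub_one_even q (by omega) hq2 hj, v_sq_sub_one q hq hq3]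

/-- `v₂(q^m - 1) = v₂(q - 1)` for odd `m` -/
theorem v_pow_odd_sub_one (hq : Odd q) (hq3 : 3 ≤ q) {m : ℕ} (hm : Odd m) :
    padicValNat 2 (q ^ m - 1) = padicValNat 2 (q - 1) := by
  have hq2 : ¬ 2 ∣ q := by
    rw [← even_iff_two_dvd, Nat.not_even_iff_odd]; exact hq
  exact padicValNat_two_pow_sub_one_odd q (by omega) hq2 hm

/-- `v₂(q^m + 1) = v₂(q + 1)` for odd `m` -/
theorem v_pow_odd_add_one (hq : Odd q) (hq3 : 3 ≤ q) {m : ℕ} (hm : Odd m) :
    padicValNat 2 (q ^ m + 1) = padicValNat 2 (q + 1) := by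
  have hm0 : m ≠ 0 := by
    rintro rfl
    simp at hm
  have h1 : q ^ (2 * m) - 1 = (q ^ m - 1) * (q ^ m + 1) := by
    rw [mul_comm 2 m, pow_mul]
    exact sq_sub_one_eq (q ^ m) (Nat.one_le_pow _ _ (by omega))
  have h2 := v_pow_even_sub_one q hq hq3 hm0
  rw [h1, padicValNat.mul (pow_sub_one_ne_zero q hq3 hm0) (by positivity),
    v_pow_odd_sub_one q hq hq3 hm, ← v_sub_add_v_add q hq hq3,
    padicValNat.eq_zero_of_not_dvd (n := m)
      (by rw [← even_iff_two_dvd, Nat.not_even_iff_odd]; exact hm)] at h2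
  omega

/-- `v₂(q^m + 1) = 1` for even `m` -/
theorem v_pow_even_add_one (hq : Odd q) {m : ℕ} (hm : Even m) :
    padicValNat 2 (q ^ m + 1) = 1 := by
  obtain ⟨j, rfl⟩ := hm
  apply padicValNat_two_of_mod_four
  have h1 : q ^ (j + j) = (q ^ j) ^ 2 := by rw [← pow_mul]; congr 1; omega
  have hodd : Odd (q ^ j) := hq.pow
  have h2 : (q ^ j) ^ 2 % 4 = 1 := by
    obtain ⟨k, hk⟩ := hodd
    rw [hk]
    have : (2 * k + 1) ^ 2 = 4 * (k * k + k) + 1 := by ring
    rw [this]; omega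
  rw [h1]; omega

/-- the 2-part of `∏_{i<k} (q^(2(i+1)) - 1)` -/
theorem v_prod (hq : Odd q) (hq3 : 3 ≤ q) (k : ℕ) :
    padicValNat 2 (∏ i ∈ Finset.range k, (q ^ (2 * (i + 1)) - 1)) =
      k * padicValNat 2 (2 * ee q) + padicValNat 2 k.factorial := by
  induction k with
  | zero => simp
  | succ k ih =>
    have hne : (∏ i ∈ Finset.range k, (q ^ (2 * (i + 1)) - 1)) ≠ 0 := by
      apply Finset.prod_ne_zero_iff.2
      intro i _
      exact pow_sub_one_ne_zero q hq3 (by omega)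
    rw [Finset.prod_range_succ, padicValNat.mul hne (pow_sub_one_ne_zero q hq3 (by omega)), ih,
      v_pow_even_sub_one q hq hq3 (by omega), Nat.factorial_succ,
      padicValNat.mul (by omega) (Nat.factorial_ne_zero _)]
    ring

theorem prod_ne_zero' (hq3 : 3 ≤ q) (k : ℕ) :
    (∏ i ∈ Finset.range k, (q ^ (2 * (i + 1)) - 1)) ≠ 0 := by
  apply Finset.prod_ne_zero_iff.2
  intro i _
  exact pow_sub_one_ne_zero q hq3 (by omega)

theorem v_pow_q (hq : Odd q) (e : ℕ) : padicValNat 2 (q ^ e) = 0 := by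
  apply padicValNat.eq_zero_of_not_dvd
  intro h
  have := Nat.Prime.dvd_of_dvd_pow Nat.prime_two h
  rw [← even_iff_two_dvd] at this
  exact (Nat.not_even_iff_odd.2 hq) this

/-- the 2-part of `2 * q^e * X * Π` -/
theorem v_four (hq : Odd q) (hq3 : 3 ≤ q) (e X P : ℕ) (hX : X ≠ 0) (hP : P ≠ 0) :
    padicValNat 2 (2 * q ^ e * X * P) = 1 + padicValNat 2 X + padicValNat 2 P := by
  have hqe : q ^ e ≠ 0 := pow_ne_zero _ (by omega)
  rw [padicValNat.mul (by positivity) hP, padicValNat.mul (by positivity) hX,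
    padicValNat.mul (by norm_num) hqe, padicValNat_self, v_pow_q q hq]

end aux

variable (q m : ℕ)

theorem v2_card_odd (hq : Odd q) (hq3 : 3 ≤ q) :
    padicValNat 2 (2 * q ^ (m ^ 2) * ∏ i ∈ Finset.range m, (q ^ (2 * (i + 1)) - 1)) =
      m * padicValNat 2 (2 * ee q) + padicValNat 2 m.factorial + 1 := by
  have hqe : q ^ (m ^ 2) ≠ 0 := pow_ne_zero _ (by omega)
  rw [padicValNat.mul (by positivity) (prod_ne_zero' q hq3 m),
    padicValNat.mul (by norm_num) hqe, padicValNat_self, v_pow_q q hq, v_prod q hq hq3]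
  ring

theorem factorial_v (hm : 1 ≤ m) :
    padicValNat 2 m.factorial = padicValNat 2 m + padicValNat 2 (m - 1).factorial := by
  obtain ⟨k, rfl⟩ : ∃ k, m = k + 1 := ⟨m - 1, by omega⟩
  rw [Nat.factorial_succ, padicValNat.mul (by omega) (Nat.factorial_ne_zero _), Nat.add_sub_cancel]

theorem v2_card_plus_a (hq : Odd q) (hq3 : 3 ≤ q) (hm : 1 ≤ m) (h : q % 4 = 1 ∨ Even m) :
    padicValNat 2 (2 * q ^ (m * (m - 1)) * (q ^ m - 1) *
      ∏ i ∈ Finset.range (m - 1), (q ^ (2 * (i + 1)) - 1)) =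
      m * padicValNat 2 (2 * ee q) + padicValNat 2 m.factorial := by
  rw [v_four q hq hq3 _ _ _ (pow_sub_one_ne_zero q hq3 (by omega)) (prod_ne_zero' q hq3 _),
    v_prod q hq hq3, factorial_v m hm]
  have key : padicValNat 2 (q ^ m - 1) + 1 = padicValNat 2 (2 * ee q) + padicValNat 2 m := by
    rcases Nat.even_or_odd m with he | ho
    · obtain ⟨j, rfl⟩ := he
      have hj : j ≠ 0 := by omega
      have e1 : j + j = 2 * j := by ring
      rw [e1, v_pow_even_sub_one q hq hq3 hj, padicValNat.mul (by norm_num) hj, padicValNat_self]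
      ring
    · have h1 : q % 4 = 1 := by
        rcases h with h | h
        · exact h
        · exact absurd h (Nat.not_even_iff_odd.2 ho)
      rw [v_pow_odd_sub_one q hq hq3 ho, ← v_sub_add_v_add q hq hq3,
        v_add_one_of_mod_four_one q h1,
        padicValNat.eq_zero_of_not_dvd (n := m)
          (by rw [← even_iff_two_dvd, Nat.not_even_iff_odd]; exact ho)]
  obtain ⟨k, rfl⟩ : ∃ k, m = k + 1 := ⟨m - 1, by omega⟩
  simp only [Nat.add_sub_cancel] at *
  have : (k + 1) * padicValNat 2 (2 * ee q) = k * padicValNat 2 (2 * ee q) + padicValNat 2 (2 * ee q) := by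
    ring
  omega

theorem v2_card_plus_b (hq : Odd q) (hq3 : 3 ≤ q) (hm : 1 ≤ m) (h : q % 4 = 3 ∧ Odd m) :
    padicValNat 2 (2 * q ^ (m * (m - 1)) * (q ^ m - 1) *
      ∏ i ∈ Finset.range (m - 1), (q ^ (2 * (i + 1)) - 1)) =
      (m - 1) * padicValNat 2 (2 * ee q) + padicValNat 2 (m - 1).factorial + 2 := by
  rw [v_four q hq hq3 _ _ _ (pow_sub_one_ne_zero q hq3 (by omega)) (prod_ne_zero' q hq3 _),
    v_prod q hq hq3, v_pow_odd_sub_one q hq hq3 h.2, v_sub_one_of_mod_four_three q h.1]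
  ring

theorem v2_card_minus_a (hq : Odd q) (hq3 : 3 ≤ q) (hm : 1 ≤ m) (h : q % 4 = 3 ∧ Odd m) :
    padicValNat 2 (2 * q ^ (m * (m - 1)) * (q ^ m + 1) *
      ∏ i ∈ Finset.range (m - 1), (q ^ (2 * (i + 1)) - 1)) =
      m * padicValNat 2 (2 * ee q) + padicValNat 2 m.factorial := by
  rw [v_four q hq hq3 _ _ _ (by positivity) (prod_ne_zero' q hq3 _),
    v_prod q hq hq3, factorial_v m hm, v_pow_odd_add_one q hq hq3 h.2,
    padicValNat.eq_zero_of_not_dvd (n := m)
      (by rw [← even_iff_two_dvd, Nat.not_even_iff_odd]; exact h.2)]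
  have h1 := v_sub_add_v_add q hq hq3
  rw [v_sub_one_of_mod_four_three q h.1] at h1
  obtain ⟨k, rfl⟩ : ∃ k, m = k + 1 := ⟨m - 1, by omega⟩
  simp only [Nat.add_sub_cancel] at *
  have : (k + 1) * padicValNat 2 (2 * ee q) = k * padicValNat 2 (2 * ee q) + padicValNat 2 (2 * ee q) := by
    ring
  omega

theorem v2_card_minus_b (hq : Odd q) (hq3 : 3 ≤ q) (hm : 1 ≤ m) (h : q % 4 = 1 ∨ Even m) :
    padicValNat 2 (2 * q ^ (m * (m - 1)) * (q ^ m + 1) *
      ∏ i ∈ Finset.range (m - 1), (q ^ (2 * (i + 1)) - 1)) =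
      (m - 1) * padicValNat 2 (2 * ee q) + padicValNat 2 (m - 1).factorial + 2 := by
  rw [v_four q hq hq3 _ _ _ (by positivity) (prod_ne_zero' q hq3 _), v_prod q hq hq3]
  have key : padicValNat 2 (q ^ m + 1) = 1 := by
    rcases Nat.even_or_odd m with he | ho
    · exact v_pow_even_add_one q hq he
    · have h1 : q % 4 = 1 := by
        rcases h with h | h
        · exact h
        · exact absurd h (Nat.not_even_iff_odd.2 ho)
      rw [v_pow_odd_add_one q hq hq3 ho, v_add_one_of_mod_four_one q h1]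
  rw [key]
  ring

end Cfsg.Agent.Helper49.Syl
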