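import Cfsg.Agent.Helper49.PsuE2_RWaux

/-!
Helper49: piece (RW1) of helper5's farm #15283 (S2089 block I-even-2, `q = 2`): the Weyl element
`nE σ b c` conjugates `xE σ a b t` to `xE σ a c t`.
-/

set_option autoImplicit false
set_option linter.unusedSectionVars false
set_option linter.unusedVariables false

namespace Cfsg.Agent.Helper49.PsuE2

open Matrix
open scoped commutatorElement
open Cfsg.Agent.Helper43.PsuM.Ev
open Cfsg.Agent.Helper96.StLift
open Cfsg.Agent.Helper5.PsuE2

universe u

section matrix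

variable {K : Type u} [Field K] [Fintype K] {σ : K →+* K} {m : ℕ}

/-- (RW1) -/
theorem n_x (hK : Fintype.card K = 2 ^ 2) (hσq : ∀ x, σ x = x ^ 2) (a b c : Fin m) (hab : a ≠ b)
    (hac : a ≠ c) (hbc : b ≠ c) (t : K) :
    nE σ b c * xE σ a b t * (nE σ b c)⁻¹ = xE σ a c t := by
  have F := f4Facts hK hσq
  have hσ := F.invol
  have h2 := F.two
  have key : RW_PSL b c hbc * SpecialLinearGroup.transvection hab t =
      SpecialLinearGroup.transvection hac t * RW_PSL b c hbc := by
    apply Subtype.ext
    show (RW_PSL b c hbc : SpecialLinearGroup (Fin m) K).1 *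
        (SpecialLinearGroup.transvection hab t).1 =
      (SpecialLinearGroup.transvection hac t).1 * (RW_PSL b c hbc : SpecialLinearGroup (Fin m) K).1
    rw [RW_PSL_coe h2]
    exact RW_conj_x h2 hab hac hbc t
  rw [RW_nE_eq hσ b c hbc]
  unfold xE
  rw [dif_pos hab, dif_pos hac, ← Cfsg.Agent.Helper33.PsuM.iE_mul hσ, key,
    Cfsg.Agent.Helper33.PsuM.iE_mul hσ, mul_inv_cancel_right]

end matrix

end Cfsg.Agent.Helper49.PsuE2
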