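import Cfsg.Agent.Helper49.PsuE2_RWaux
import Cfsg.Agent.Helper41.PsuM_ACONJ
import Cfsg.Agent.Helper55.PsuM_AROOTa

/-!
Helper49: piece (RW2) of helper5's farm #15283 (S2089 block I-even-2, `q = 2`): the Weyl element
`nE σ b c` conjugates `zE σ b 1` to `zE σ c 1` and `cE σ a b u` to `cE σ a c u`.
-/

set_option autoImplicit false
set_option linter.unusedSectionVars false
set_option linter.unusedVariables false

namespace Cfsg.Agent.Helper49.PsuE2

open Matrix
open scoped commutatorElement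
open Cfsg.Agent.Helper43.PsuM.Ev
open Cfsg.Agent.Helper96.StLift
open Cfsg.Agent.Helper5.PsuE2

universe u

section matrix

variable {K : Type u} [Field K] [Fintype K] {σ : K →+* K} {m : ℕ}

/-- (RW2) -/
theorem n_z (hK : Fintype.card K = 2 ^ 2) (hσq : ∀ x, σ x = x ^ 2) (b c : Fin m) (hbc : b ≠ c) :
    nE σ b c * zE σ b 1 * (nE σ b c)⁻¹ = zE σ c 1 := by
  have F := f4Facts hK hσq
  have hσ := F.invol
  have h2 := F.two
  have h1 : σ (1 : K) + 1 = 0 := by rw [map_one]; exact h2 1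
  have hB : (Matrix.single b b (1 : K)) ∈ SkewH m σ :=
    Cfsg.Agent.Helper55.PsuM.single_mem_SkewH b h1
  have h := (Cfsg.Agent.Helper41.PsuM.iE_conj_qE hσ (RW_PSL b c hbc) hB).2
  rw [RW_PSL_coe h2, RW_P_map, RW_P_transpose, RW_conj_z h2 hbc] at h
  rw [RW_nE_eq hσ b c hbc]
  exact h

/-- (RW2) -/
theorem n_c (hK : Fintype.card K = 2 ^ 2) (hσq : ∀ x, σ x = x ^ 2) (a b c : Fin m) (hab : a ≠ b)
    (hac : a ≠ c) (hbc : b ≠ c) (u : K) :
    nE σ b c * cE σ a b u * (nE σ b c)⁻¹ = cE σ a c u := by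
  have F := f4Facts hK hσq
  have hσ := F.invol
  have h2 := F.two
  have hB : (Matrix.single a b u - Matrix.single b a (σ u)) ∈ SkewH m σ :=
    Cfsg.Agent.Helper55.PsuM.single_sub_mem_SkewH hσ hab u
  have h := (Cfsg.Agent.Helper41.PsuM.iE_conj_qE hσ (RW_PSL b c hbc) hB).2
  rw [RW_PSL_coe h2, RW_P_map, RW_P_transpose, RW_conj_c h2 hab hac hbc] at h
  rw [RW_nE_eq hσ b c hbc]
  exact h

end matrix

end Cfsg.Agent.Helper49.PsuE2
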