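import Mathlib
import Cfsg.Agent.Helper45.VL.Defs

set_option autoImplicit false

/-!
# (LA4) of helper45's Vaughan-Lee farm (S3777, #13620)
-/

universe u

namespace Cfsg.Agent.Helper49.VL

open Cfsg.Agent.Helper1.HKK Cfsg.Agent.Helper93.HKKLG Cfsg.Agent.Helper45.VL

variable {G : Type u} [Group G]

section LA

variable {K V W : Type*} [Field K] [Fintype K] [AddCommGroup V] [Module K V] [Finite V]
  [AddCommGroup W] [Module K W]

/-- (LA4) a property holding outside every hyperplane holds on some basis. -/
theorem la_basis_of_forall_functional (P : V → Prop)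
    (h : ∀ α : Module.Dual K V, α ≠ 0 → ∃ z : V, α z ≠ 0 ∧ P z) :
    ∃ (d : ℕ) (b : Module.Basis (Fin d) K V), ∀ i, P (b i) := by
  classical
  have hspan : Submodule.span K {z : V | P z} = ⊤ := by
    by_contra hne
    obtain ⟨f, hf0, hf⟩ := Submodule.exists_le_ker_of_lt_top _ (lt_top_iff_ne_top.mpr hne)
    obtain ⟨z, hz, hPz⟩ := h f hf0
    exact hz (hf (Submodule.subset_span hPz))
  obtain ⟨s, hsP, hsspan, hli⟩ := exists_linearIndependent K {z : V | P z}
  rw [hspan] at hsspan
  have : Fintype s := Fintype.ofFinite s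
  let B : Module.Basis s K V :=
    Module.Basis.mk hli (by rw [Subtype.range_coe]; exact hsspan.ge)
  refine ⟨Fintype.card s, B.reindex (Fintype.equivFin s), ?_⟩
  intro i
  rw [Module.Basis.reindex_apply, Module.Basis.mk_apply]
  exact hsP ((Fintype.equivFin s).symm i).2

end LA

end Cfsg.Agent.Helper49.VL
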