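import Mathlib
import Cfsg.Agent.Helper45.VL.Defs

set_option autoImplicit false

/-!
# (SUB2) of helper45's Vaughan-Lee farm (S3777, #13620)
-/

universe u

namespace Cfsg.Agent.Helper49.VL

open Cfsg.Agent.Helper1.HKK Cfsg.Agent.Helper93.HKKLG Cfsg.Agent.Helper45.VL

variable {G : Type u} [Group G]

/-- (SUB2) the derived subgroup of a subgroup. -/
theorem card_commutator_subgroup (M : Subgroup G) :
    Nat.card ↥(commutator ↥M) = Nat.card ↥(⁅M, M⁆ : Subgroup G) := by
  rw [← Subgroup.map_subtype_commutator M]
  exact (Subgroup.card_map_of_injective M.subtype_injective).symm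

end Cfsg.Agent.Helper49.VL
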