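import Cfsg.Agent.Helper49.SelfCent
import Cfsg.Agent.Helper24.Coprime

set_option autoImplicit false

/-!
Characteristic `p` passes to normalizers and centralizers of `p`-subgroups (helper49),
via Thompson's `P × Q` lemma (helper24).
-/

namespace Cfsg.Agent.Helper49

open Cfsg

variable {X : Type*} [Group X] {p : ℕ}

theorem le_normalizer_coreIn (L : Subgroup X) :
    L ≤ Subgroup.normalizer (coreIn p L : Set X) :=
  Subgroup.le_normalizer.trans (normalizer_le_normalizer_coreIn L)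

/-- Key lemma: `M` of characteristic `p`, `B ≤ M` a `p`-subgroup with `C_X(B) ≤ M`; a subgroup `H`
containing `C_X(B)` such that `C_H(O_p(H)) ≤ C_X(B)` has characteristic `p`. -/
theorem charPIn_of_centralizer_le [Finite X] [Fact p.Prime] {M B H : Subgroup X}
    (hM : CharPIn p M) (hB : IsPGroup p B) (hBM : B ≤ M)
    (hCM : Subgroup.centralizer (B : Set X) ≤ M) (hCH : Subgroup.centralizer (B : Set X) ≤ H)
    (hD : ∀ d ∈ H, (∀ r ∈ coreIn p H, d * r = r * d) → d ∈ Subgroup.centralizer (B : Set X)) :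
    CharPIn p H := by
  apply charPIn_of_forall
  intro d hdH hdR hcop
  set R : Subgroup X := coreIn p H with hR
  set Q : Subgroup X := coreIn p M with hQ
  have hQp : IsPGroup p Q := coreIn_isPGroup M
  have hdB : d ∈ Subgroup.centralizer (B : Set X) := hD d hdH hdR
  have hdM : d ∈ M := hCM hdB
  -- D = C_H(R)
  set D : Subgroup X := H ⊓ Subgroup.centralizer (R : Set X) with hDdef
  have hDH : D ≤ H := inf_le_left
  have hDB : D ≤ Subgroup.centralizer (B : Set X) := by
    intro e he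
    obtain ⟨heH, heR⟩ := Subgroup.mem_inf.mp he
    apply hD e heH
    intro r hr
    exact ((Subgroup.mem_centralizer_iff.mp heR) r hr).symm
  have hDM : D ≤ M := hDB.trans hCM
  have hdD : d ∈ D := by
    refine Subgroup.mem_inf.mpr ⟨hdH, ?_⟩
    rw [Subgroup.mem_centralizer_iff]
    intro r hr
    exact (hdR r hr).symm
  have hDnorm : ∀ m ∈ H, ∀ e ∈ D, m * e * m⁻¹ ∈ D := by
    intro m hm e heD
    obtain ⟨heH, he⟩ := Subgroup.mem_inf.mp heD
    refine Subgroup.mem_inf.mpr ⟨H.mul_mem (H.mul_mem hm heH) (H.inv_mem hm), ?_⟩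
    rw [Subgroup.mem_centralizer_iff] at he ⊢
    intro r hr
    have hr' : m⁻¹ * r * m⁻¹⁻¹ ∈ R := coreIn_conj_mem (H.inv_mem hm) hr
    have := he _ hr'
    calc r * (m * e * m⁻¹) = m * ((m⁻¹ * r * m⁻¹⁻¹) * e) * m⁻¹ := by group
      _ = m * (e * (m⁻¹ * r * m⁻¹⁻¹)) * m⁻¹ := by rw [this]
      _ = m * e * m⁻¹ * r := by group
  have hHND : H ≤ Subgroup.normalizer (D : Set X) := by
    intro m hm
    rw [Subgroup.mem_normalizer_iff]
    intro e
    constructor
    · exact hDnorm m hm e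
    · intro h
      have := hDnorm m⁻¹ (H.inv_mem hm) _ h
      have h2 : e = m⁻¹ * (m * e * m⁻¹) * m⁻¹⁻¹ := by group
      rw [h2]; exact this
  -- W = D ⊓ Q ≤ O_p(D) ≤ O_p(H) = R
  have hWD : D ⊓ Q ≤ coreIn p D := by
    apply le_coreIn inf_le_left
    · intro l hl n hn
      obtain ⟨hnD, hnQ⟩ := Subgroup.mem_inf.mp hn
      exact Subgroup.mem_inf.mpr ⟨D.mul_mem (D.mul_mem hl hnD) (D.inv_mem hl),
        coreIn_conj_mem (hDM hl) hnQ⟩
    · exact hQp.to_inf_right
  have hDR : coreIn p D ≤ R := by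
    apply le_coreIn ((coreIn_le D).trans hDH)
    · intro l hl n hn
      have hlN : l ∈ Subgroup.normalizer (coreIn p D : Set X) :=
        normalizer_le_normalizer_coreIn D (hHND hl)
      exact (Subgroup.mem_normalizer_iff.mp hlN n).mp hn
    · exact coreIn_isPGroup D
  -- d centralizes C_Q(B)
  have hC : ∀ u ∈ Q, (∀ b ∈ B, b * u = u * b) → d * u = u * d := by
    intro x hxQ hxB
    set z : X := x⁻¹ * (d * x * d⁻¹) with hz
    have hzQ : z ∈ Q := Q.mul_mem (Q.inv_mem hxQ) (coreIn_conj_mem hdM hxQ)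
    have hxinvH : x⁻¹ ∈ H := by
      apply hCH
      rw [Subgroup.mem_centralizer_iff]
      intro b hb
      have := hxB b hb
      calc b * x⁻¹ = x⁻¹ * (x * b) * x⁻¹ := by group
        _ = x⁻¹ * (b * x) * x⁻¹ := by rw [this]
        _ = x⁻¹ * b := by group
    have hzD : z ∈ D := by
      have : z = (x⁻¹ * d * x⁻¹⁻¹) * d⁻¹ := by rw [hz]; group
      rw [this]
      exact D.mul_mem (hDnorm x⁻¹ hxinvH d hdD) (D.inv_mem hdD)
    have hzR : z ∈ R := hDR (hWD (Subgroup.mem_inf.mpr ⟨hzD, hzQ⟩))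
    have hcz : Commute d z := hdR z hzR
    have hconj : d * x * d⁻¹ = x * z := by rw [hz]; group
    have hzp : ∃ k : ℕ, z ^ (p ^ k) = 1 := by
      obtain ⟨k, hk⟩ := hQp ⟨z, hzQ⟩
      exact ⟨k, by simpa using congrArg Subtype.val hk⟩
    have hz1 : z = 1 := eq_one_of_conj_eq_mul hconj hcz hzp hcop
    rw [hz1, mul_one] at hconj
    calc d * x = (d * x * d⁻¹) * d := by group
      _ = x * d := by rw [hconj]
  -- Thompson P × Q
  have hMQ : M ≤ Subgroup.normalizer (Q : Set X) := le_normalizer_coreIn M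
  have hdQ : ∀ u ∈ Q, d * u = u * d :=
    Cfsg.Agent.Helper24.thompson_PxQ hQp hB (hBM.trans hMQ) (hMQ hdM) hcop
      (fun b hb => ((Subgroup.mem_centralizer_iff.mp hdB) b hb).symm) hC
  have hdQ' : d ∈ Q := hM d hdM hdQ
  exact eq_one_of_mem_pGroup_of_coprime hQp hdQ' hcop

end Cfsg.Agent.Helper49
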