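import Cfsg.Agent.Helper87.FrakLDefs

/-!
# (SL2c) of board #4935/#4936 (helper87, S2863 + S2861): a nontrivial torus-invariant subgroup of
the upper unitriangular group of `SL₂(F)`, `F` finite, is the whole group (helper49)
-/

set_option autoImplicit false

namespace Cfsg.Agent.Helper49.FrakL

open Matrix Cfsg.Agent.Helper87.FrakL

/-- every element of a finite field is a sum of two squares -/
theorem exists_sq_add_sq_eq {F : Type*} [Field F] [Fintype F] (y : F) :
    ∃ a b : F, a ^ 2 + b ^ 2 = y := by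
  classical
  by_cases h2 : ringChar F = 2
  · obtain ⟨a, ha⟩ := FiniteField.isSquare_of_char_two h2 y
    exact ⟨a, 0, by rw [ha]; ring⟩
  · have hodd : Fintype.card F % 2 = 1 := FiniteField.odd_card_of_char_ne_two h2
    let f : Polynomial F := Polynomial.X ^ 2
    let g : Polynomial F := Polynomial.X ^ 2 - Polynomial.C y
    obtain ⟨a, b, hab⟩ : ∃ a b, f.eval a + g.eval b = 0 :=
      FiniteField.exists_root_sum_quadratic (f := f) (g := g) (Polynomial.degree_X_pow 2)
        (Polynomial.degree_X_pow_sub_C (by decide) _) hodd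
    refine ⟨a, b, ?_⟩
    rw [← sub_eq_zero]
    simpa only [f, g, Polynomial.eval_C, Polynomial.eval_X, Polynomial.eval_pow,
      Polynomial.eval_sub, ← add_sub_assoc] using hab

variable {F : Type*} [Field F]

theorem uU_mul_uU (s s' : F) :
    (uU s : Matrix.SpecialLinearGroup (Fin 2) F) * uU s' = uU (s + s') := by
  apply Subtype.ext
  rw [Matrix.SpecialLinearGroup.coe_mul]
  ext i j
  fin_cases i <;> fin_cases j <;> simp [uU, Matrix.mul_apply, Fin.sum_univ_two, add_comm]

theorem uU_zero : (uU (0 : F) : Matrix.SpecialLinearGroup (Fin 2) F) = 1 := by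
  apply Subtype.ext
  rw [Matrix.SpecialLinearGroup.coe_one]
  ext i j
  fin_cases i <;> fin_cases j <;> simp [uU]

theorem uU_inv (s : F) : (uU s : Matrix.SpecialLinearGroup (Fin 2) F)⁻¹ = uU (-s) := by
  apply inv_eq_of_mul_eq_one_right
  rw [uU_mul_uU, add_neg_cancel, uU_zero]

theorem hD_mul_uU (t : Fˣ) (s : F) :
    (hD t : Matrix.SpecialLinearGroup (Fin 2) F) * uU s = uU ((t : F) ^ 2 * s) * hD t := by
  have ht : (t : F) ≠ 0 := t.ne_zero
  have h1 : (t : F) * s = (t : F) ^ 2 * s * ((t⁻¹ : Fˣ) : F) := by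
    rw [Units.val_inv_eq_inv_val]
    field_simp
  apply Subtype.ext
  rw [Matrix.SpecialLinearGroup.coe_mul, Matrix.SpecialLinearGroup.coe_mul]
  ext i j
  fin_cases i <;> fin_cases j <;> simp [uU, hD, Matrix.mul_apply, Fin.sum_univ_two]
  field_simp

theorem hD_conj_uU (t : Fˣ) (s : F) :
    (hD t : Matrix.SpecialLinearGroup (Fin 2) F) * uU s * (hD t)⁻¹ = uU ((t : F) ^ 2 * s) := by
  rw [hD_mul_uU, mul_assoc, mul_inv_cancel, mul_one]

/-- **(SL2c)** -/
theorem eq_upper_of_torus_invariant {F : Type*} [Field F] [Fintype F]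
    (W : Subgroup (SpecialLinearGroup (Fin 2) F)) (hW : ∀ x ∈ W, ∃ s : F, x = uU s)
    (hne : W ≠ ⊥) (hT : ∀ t : Fˣ, ∀ x ∈ W, hD t * x * (hD t)⁻¹ ∈ W) : ∀ s : F, uU s ∈ W := by
  -- a nonzero parameter
  obtain ⟨⟨x, hxW⟩, hx1⟩ := Subgroup.ne_bot_iff_exists_ne_one.1 hne
  obtain ⟨s0, rfl⟩ := hW x hxW
  have hs0 : s0 ≠ 0 := by
    rintro rfl
    exact hx1 (Subtype.ext uU_zero)
  -- closed under multiplication by squares
  have hsq : ∀ (a s : F), uU s ∈ W → uU (a ^ 2 * s) ∈ W := by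
    intro a s hs
    by_cases ha : a = 0
    · rw [ha]
      have : (0 : F) ^ 2 * s = 0 := by ring
      rw [this, uU_zero]
      exact W.one_mem
    · have := hT (Units.mk0 a ha) _ hs
      rwa [hD_conj_uU] at this
  intro s
  obtain ⟨a, b, hab⟩ := exists_sq_add_sq_eq (s / s0)
  have : s = a ^ 2 * s0 + b ^ 2 * s0 := by
    rw [← add_mul, hab, div_mul_cancel₀ _ hs0]
  rw [this, ← uU_mul_uU]
  exact W.mul_mem (hsq a s0 hxW) (hsq b s0 hxW)

end Cfsg.Agent.Helper49.FrakL
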