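import Cfsg.Agent.Helper51.SidkiBasic

/-!
# SK-7P: the claim (P) in the Sidki minimal counterexample reduction (helper49 for helper51, S3048)
-/

set_option autoImplicit false
universe u

namespace Cfsg.Agent.Helper49.SidkiP

open Cfsg Cfsg.Agent.Helper51.Sidki

theorem claimP {G : Type u} [Group G] {V L : Subgroup G} (hV : IsElementaryAbelian 2 V) (hS : IsSidkiPair V)
    (hdisj : ∀ v ∈ V, v ∉ Subgroup.normalizer (L : Set G) → ∀ z ∈ L, v * z * v⁻¹ ∈ L → z = 1)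
    (hcomm : ∀ v ∈ V, v ∉ Subgroup.normalizer (L : Set G) → ∀ a ∈ L, ∀ b ∈ L, a * (v * b * v⁻¹) = (v * b * v⁻¹) * a)
    (hZ : ∀ x ∈ L, (∀ y ∈ L, x * y = y * x) → x = 1)
    (hV0 : ∃ v ∈ V, v ∉ Subgroup.normalizer (L : Set G))
    {x : G} (hx : x ∈ L) (hx1 : x ≠ 1) (hodd : Odd (orderOf x)) :
    ∃ w ∈ V, w ∈ Subgroup.normalizer (L : Set G) ∧ w ≠ 1 ∧ w * x = x * w := by
  obtain ⟨v, hv, hvn⟩ := hV0
  have hvv : v * v = 1 := elem_sq hV hv
  have hvi : v⁻¹ = v := elem_inv hV hv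
  have hxy : x * (v * x * v⁻¹) = (v * x * v⁻¹) * x := hcomm v hv hvn x hx x hx
  have hvy : v * (v * x * v⁻¹) * v⁻¹ = x := by
    calc v * (v * x * v⁻¹) * v⁻¹ = (v * v) * x * (v * v)⁻¹ := by group
      _ = x := by rw [hvv]; simp
  have hxiy : Commute x⁻¹ (v * x * v⁻¹) := Commute.inv_left (show Commute x (v * x * v⁻¹) from hxy)
  have hodd_h : Odd (orderOf (x⁻¹ * (v * x * v⁻¹))) :=
    odd_orderOf_mul_of_commute hxiy (odd_orderOf_inv hodd) (odd_orderOf_conj v hodd)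
  have hinv : v * (x⁻¹ * (v * x * v⁻¹)) * v⁻¹ = (x⁻¹ * (v * x * v⁻¹))⁻¹ := by
    calc v * (x⁻¹ * (v * x * v⁻¹)) * v⁻¹ = (v * x * v⁻¹)⁻¹ * (v * (v * x * v⁻¹) * v⁻¹) := by group
      _ = (v * x * v⁻¹)⁻¹ * x := by rw [hvy]
      _ = (x⁻¹ * (v * x * v⁻¹))⁻¹ := by group
  obtain ⟨w, hw, hw1, hwh⟩ := hS _ v hv hodd_h hinv
  have hww : w * w = 1 := elem_sq hV hw
  have hwi : w⁻¹ = w := elem_inv hV hw
  have hvw : v * w = w * v := elem_comm hV hv hw
  -- a := w x w⁻¹, b := w y w⁻¹, a⁻¹ b = x⁻¹ y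
  have hab : (w * x * w⁻¹)⁻¹ * (w * (v * x * v⁻¹) * w⁻¹) = x⁻¹ * (v * x * v⁻¹) := by
    calc (w * x * w⁻¹)⁻¹ * (w * (v * x * v⁻¹) * w⁻¹)
        = w * (x⁻¹ * (v * x * v⁻¹)) * w⁻¹ := by group
      _ = (x⁻¹ * (v * x * v⁻¹)) * w * w⁻¹ := by rw [hwh]
      _ = x⁻¹ * (v * x * v⁻¹) := by group
  by_cases hwn : w ∈ Subgroup.normalizer (L : Set G)
  · -- Case 1
    refine ⟨w, hw, hwn, hw1, ?_⟩
    have haL : w * x * w⁻¹ ∈ L := (Subgroup.mem_normalizer_iff.1 hwn x).1 hx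
    have hb : w * (v * x * v⁻¹) * w⁻¹ = v * (w * x * w⁻¹) * v⁻¹ := by
      calc w * (v * x * v⁻¹) * w⁻¹ = (w * v) * x * (w * v)⁻¹ := by group
        _ = (v * w) * x * (v * w)⁻¹ := by rw [hvw]
        _ = v * (w * x * w⁻¹) * v⁻¹ := by group
    have hzL : x * (w * x * w⁻¹)⁻¹ ∈ L := mul_mem hx (inv_mem haL)
    have hz : v * (x * (w * x * w⁻¹)⁻¹) * v⁻¹ = x * (w * x * w⁻¹)⁻¹ := by
      calc v * (x * (w * x * w⁻¹)⁻¹) * v⁻¹
          = (v * x * v⁻¹) * (v * (w * x * w⁻¹) * v⁻¹)⁻¹ := by group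
        _ = (v * x * v⁻¹) * (w * (v * x * v⁻¹) * w⁻¹)⁻¹ := by rw [hb]
        _ = x * (x⁻¹ * (v * x * v⁻¹)) * (w * (v * x * v⁻¹) * w⁻¹)⁻¹ := by group
        _ = x * ((w * x * w⁻¹)⁻¹ * (w * (v * x * v⁻¹) * w⁻¹)) * (w * (v * x * v⁻¹) * w⁻¹)⁻¹ := by
            rw [hab]
        _ = x * (w * x * w⁻¹)⁻¹ := by group
    have hz1 : x * (w * x * w⁻¹)⁻¹ = 1 := hdisj v hv hvn _ hzL (by rw [hz]; exact hzL)
    have hxa : x = w * x * w⁻¹ := by
      have := mul_inv_eq_one.1 hz1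
      exact this
    calc w * x = (w * x * w⁻¹) * w := by group
      _ = x * w := by rw [← hxa]
  · by_cases hun : w * v ∈ Subgroup.normalizer (L : Set G)
    · -- Case 2
      have hbL : (w * v) * x * (w * v)⁻¹ ∈ L := (Subgroup.mem_normalizer_iff.1 hun x).1 hx
      have hb : w * (v * x * v⁻¹) * w⁻¹ = (w * v) * x * (w * v)⁻¹ := by group
      have ha : w * x * w⁻¹ = v * ((w * v) * x * (w * v)⁻¹) * v⁻¹ := by
        calc w * x * w⁻¹ = w * ((v * v) * x * (v * v)⁻¹) * w⁻¹ := by rw [hvv]; simp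
          _ = (w * v) * (v * x * v⁻¹) * (w * v)⁻¹ := by group
          _ = (v * w) * (v * x * v⁻¹) * (v * w)⁻¹ := by rw [hvw]
          _ = v * ((w * v) * x * (w * v)⁻¹) * v⁻¹ := by group
      -- a⁻¹ commutes with b
      have hc1 : ((w * v) * x * (w * v)⁻¹) * (v * ((w * v) * x * (w * v)⁻¹) * v⁻¹)
          = (v * ((w * v) * x * (w * v)⁻¹) * v⁻¹) * ((w * v) * x * (w * v)⁻¹) :=
        hcomm v hv hvn _ hbL _ hbL
      have hc1' : Commute ((w * v) * x * (w * v)⁻¹) (v * ((w * v) * x * (w * v)⁻¹) * v⁻¹) := hc1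
      have hab2 : ((w * v) * x * (w * v)⁻¹) * (v * ((w * v) * x * (w * v)⁻¹) * v⁻¹)⁻¹
          = x⁻¹ * (v * x * v⁻¹) := by
        rw [← hab, hb, ← ha]
        rw [ha]
        exact (hc1'.inv_right).eq
      have hzL : x * ((w * v) * x * (w * v)⁻¹) ∈ L := mul_mem hx hbL
      have hz : v * (x * ((w * v) * x * (w * v)⁻¹)) * v⁻¹ = x * ((w * v) * x * (w * v)⁻¹) := by
        calc v * (x * ((w * v) * x * (w * v)⁻¹)) * v⁻¹
            = (v * x * v⁻¹) * (v * ((w * v) * x * (w * v)⁻¹) * v⁻¹) := by group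
          _ = x * (x⁻¹ * (v * x * v⁻¹)) * (v * ((w * v) * x * (w * v)⁻¹) * v⁻¹) := by group
          _ = x * (((w * v) * x * (w * v)⁻¹) * (v * ((w * v) * x * (w * v)⁻¹) * v⁻¹)⁻¹)
              * (v * ((w * v) * x * (w * v)⁻¹) * v⁻¹) := by rw [hab2]
          _ = x * ((w * v) * x * (w * v)⁻¹) := by group
      have hz1 : x * ((w * v) * x * (w * v)⁻¹) = 1 := hdisj v hv hvn _ hzL (by rw [hz]; exact hzL)
      have hux : (w * v) * x * (w * v)⁻¹ = x⁻¹ := by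
        exact (eq_inv_of_mul_eq_one_right hz1)
      obtain ⟨w', hw', hw'1, hw'x⟩ := hS x (w * v) (mul_mem hw hv) hodd hux
      refine ⟨w', hw', ?_, hw'1, hw'x⟩
      by_contra hw'n
      apply hx1
      apply hdisj w' hw' hw'n x hx
      have : w' * x * w'⁻¹ = x := by rw [hw'x]; group
      rw [this]; exact hx
    · -- Case 3
      exfalso
      apply hx1
      apply hZ x hx
      intro t ht
      have h1 : t * (w * x * w⁻¹) = (w * x * w⁻¹) * t := hcomm w hw hwn t ht x hx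
      have h2 : t * ((w * v) * x * (w * v)⁻¹) = ((w * v) * x * (w * v)⁻¹) * t :=
        hcomm (w * v) (mul_mem hw hv) hun t ht x hx
      have h3 : t * (v * x * v⁻¹) = (v * x * v⁻¹) * t := hcomm v hv hvn t ht x hx
      have hb : w * (v * x * v⁻¹) * w⁻¹ = (w * v) * x * (w * v)⁻¹ := by group
      have hxinv : x⁻¹ = (w * x * w⁻¹)⁻¹ * ((w * v) * x * (w * v)⁻¹) * (v * x * v⁻¹)⁻¹ := by
        rw [← hb, hab]; group
      have c1 : Commute t (w * x * w⁻¹) := h1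
      have c2 : Commute t ((w * v) * x * (w * v)⁻¹) := h2
      have c3 : Commute t (v * x * v⁻¹) := h3
      have c4 : Commute t x⁻¹ := by
        rw [hxinv]
        exact (c1.inv_right.mul_right c2).mul_right c3.inv_right
      have c5 : Commute t x := by
        have := c4.inv_right
        simpa using this
      exact c5.eq.symm

end Cfsg.Agent.Helper49.SidkiP
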