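import Mathlib

/-!
Subgroups of `GL₂(ℤ/2ᵏ)` isomorphic to `A₄` are conjugate (helper49, for S2874).

Plan: subgroups of order `3` are Sylow (the kernel of reduction mod `2` is a `2`-group and
`|GL₂(𝔽₂)| = 6`), hence conjugate to `⟨cStd⟩` with `cStd` the companion matrix of `x² + x + 1`.
For a subgroup `H ≅ A₄` containing `cStd` every involution `v` of `H` satisfies explicit relations
which force `v` into an explicit set `wSet` of at most four matrices.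
-/

set_option autoImplicit false

namespace Cfsg.Agent.Helper49.A4GL

open scoped Pointwise

/-! ### Facts about `A₄` -/

set_option maxRecDepth 100000 in
theorem a4_card : Fintype.card (alternatingGroup (Fin 4)) = 12 := by
  decide

set_option maxRecDepth 100000 in
theorem a4_exists : ∃ c : alternatingGroup (Fin 4), c ^ 3 = 1 ∧ c ≠ 1 := by
  decide

set_option maxRecDepth 100000 in
theorem a4_decomp : ∀ c : alternatingGroup (Fin 4), c ^ 3 = 1 → c ≠ 1 →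
    ∀ h : alternatingGroup (Fin 4), h * h = 1 ∨ (h * c⁻¹) * (h * c⁻¹) = 1 ∨
      (h * c) * (h * c) = 1 := by
  decide

set_option maxRecDepth 100000 in
theorem a4_rel : ∀ c : alternatingGroup (Fin 4), c ^ 3 = 1 → c ≠ 1 →
    ∀ v : alternatingGroup (Fin 4), v * v = 1 →
      v * (c * v * c⁻¹) = (c * v * c⁻¹) * v ∧ v * (c * v * c⁻¹) * (c⁻¹ * v * c) = 1 := by
  decide

/-! ### The matrices -/

section Ring

variable {R : Type*} [CommRing R]

/-- The companion matrix of `x² + x + 1`. -/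
def cM : Matrix (Fin 2) (Fin 2) R := !![0, -1; 1, -1]
/-- Its inverse. -/
def cI : Matrix (Fin 2) (Fin 2) R := !![-1, 1; -1, 0]

theorem cM_mul_cI : (cM : Matrix (Fin 2) (Fin 2) R) * cI = 1 := by
  ext i j
  fin_cases i <;> fin_cases j <;> simp [cM, cI, Matrix.mul_apply, Fin.sum_univ_two]

theorem cI_mul_cM : (cI : Matrix (Fin 2) (Fin 2) R) * cM = 1 := by
  ext i j
  fin_cases i <;> fin_cases j <;> simp [cM, cI, Matrix.mul_apply, Fin.sum_univ_two]

/-- `cStd` as an element of `GL₂(R)`. -/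
def cStd : GL (Fin 2) R := ⟨cM, cI, cM_mul_cI, cI_mul_cM⟩

theorem cStd_pow_three : (cStd : GL (Fin 2) R) ^ 3 = 1 := by
  apply Units.ext
  show (cM : Matrix (Fin 2) (Fin 2) R) ^ 3 = 1
  ext i j
  fin_cases i <;> fin_cases j <;>
    simp [cM, pow_succ, Matrix.mul_apply, Fin.sum_univ_two]

theorem cStd_ne_one [Nontrivial R] : (cStd : GL (Fin 2) R) ≠ 1 := by
  intro h
  have h1 := congrArg (fun g : GL (Fin 2) R => (g : Matrix (Fin 2) (Fin 2) R) 0 0) h
  simp [cStd, cM] at h1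

/-- The key computation. -/
theorem key (h3 : ∀ x : R, 3 * x = 0 → x = 0) (p q r s : R)
    (h1 : (!![p, q; r, s] : Matrix (Fin 2) (Fin 2) R) * !![p, q; r, s] = 1)
    (h2 : (!![p, q; r, s] : Matrix (Fin 2) (Fin 2) R) * (cM * !![p, q; r, s] * cI) =
      (cM * !![p, q; r, s] * cI) * !![p, q; r, s])
    (h3' : (!![p, q; r, s] : Matrix (Fin 2) (Fin 2) R) * (cM * !![p, q; r, s] * cI) *
      (cI * !![p, q; r, s] * cM) = 1) :
    2 * q = 0 ∧ 2 * (p - 1) = 0 ∧ s = p ∧ r = q + p - 1 := by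
  have e1 := congrFun (congrFun h1 0) 0
  have e2 := congrFun (congrFun h1 0) 1
  have e3 := congrFun (congrFun h1 1) 0
  have e4 := congrFun (congrFun h1 1) 1
  have f1 := congrFun (congrFun h2 0) 0
  have f2 := congrFun (congrFun h2 0) 1
  have f3 := congrFun (congrFun h2 1) 0
  have f4 := congrFun (congrFun h2 1) 1
  have g1 := congrFun (congrFun h3' 0) 0
  have g2 := congrFun (congrFun h3' 0) 1
  have g3 := congrFun (congrFun h3' 1) 0
  have g4 := congrFun (congrFun h3' 1) 1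
  simp [cM, cI, Matrix.mul_apply, Fin.sum_univ_two] at e1 e2 e3 e4 f1 f2 f3 f4 g1 g2 g3 g4
  have t1 : 3 * (2 * q) = 0 := by grind
  have t2 : 3 * (2 * (p - 1)) = 0 := by grind
  have t3 : 3 * (s - p) = 0 := by grind
  have t4 : 3 * (r - (q + p - 1)) = 0 := by grind
  refine ⟨h3 _ t1, h3 _ t2, ?_, ?_⟩
  · have := h3 _ t3; linear_combination this
  · have := h3 _ t4; linear_combination this

/-- The explicit set containing all involutions of an `A₄` through `cStd`. -/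
def wSet : Set (GL (Fin 2) R) :=
  {g | 2 * (g : Matrix (Fin 2) (Fin 2) R) 0 1 = 0 ∧
    2 * ((g : Matrix (Fin 2) (Fin 2) R) 0 0 - 1) = 0 ∧
    (g : Matrix (Fin 2) (Fin 2) R) 1 1 = (g : Matrix (Fin 2) (Fin 2) R) 0 0 ∧
    (g : Matrix (Fin 2) (Fin 2) R) 1 0 =
      (g : Matrix (Fin 2) (Fin 2) R) 0 1 + (g : Matrix (Fin 2) (Fin 2) R) 0 0 - 1}

theorem mem_wSet_of_rel (h3 : ∀ x : R, 3 * x = 0 → x = 0) (v : GL (Fin 2) R)
    (h1 : v * v = 1) (h2 : v * (cStd * v * cStd⁻¹) = (cStd * v * cStd⁻¹) * v)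
    (h3' : v * (cStd * v * cStd⁻¹) * (cStd⁻¹ * v * cStd) = 1) : v ∈ wSet := by
  have hv : (v : Matrix (Fin 2) (Fin 2) R) =
      !![(v : Matrix (Fin 2) (Fin 2) R) 0 0, (v : Matrix (Fin 2) (Fin 2) R) 0 1;
        (v : Matrix (Fin 2) (Fin 2) R) 1 0, (v : Matrix (Fin 2) (Fin 2) R) 1 1] :=
    Matrix.eta_fin_two _
  have m1 := congrArg (fun g : GL (Fin 2) R => (g : Matrix (Fin 2) (Fin 2) R)) h1
  have m2 := congrArg (fun g : GL (Fin 2) R => (g : Matrix (Fin 2) (Fin 2) R)) h2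
  have m3 := congrArg (fun g : GL (Fin 2) R => (g : Matrix (Fin 2) (Fin 2) R)) h3'
  have hc : ((cStd : GL (Fin 2) R) : Matrix (Fin 2) (Fin 2) R) = cM := rfl
  have hci : (((cStd : GL (Fin 2) R)⁻¹ : GL (Fin 2) R) : Matrix (Fin 2) (Fin 2) R) = cI := rfl
  simp only [Units.val_mul, Units.val_one, hc, hci] at m1 m2 m3
  rw [hv] at m1 m2 m3
  obtain ⟨k1, k2, k3, k4⟩ := key h3 _ _ _ _ m1 m2 m3
  exact ⟨k1, k2, k3, k4⟩

end Ring

/-! ### The ring `ℤ/2ᵏ` -/

section ZModPart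

theorem three_cancel (k : ℕ) : ∀ x : ZMod (2 ^ k), 3 * x = 0 → x = 0 := by
  intro x hx
  have hu : IsUnit ((3 : ℕ) : ZMod (2 ^ k)) := by
    rw [ZMod.isUnit_iff_coprime]
    exact Nat.Coprime.pow_right k (by decide)
  have h : ((3 : ℕ) : ZMod (2 ^ k)) * x = 0 := by push_cast; exact hx
  exact (hu.mul_right_eq_zero).mp h

theorem two_torsion (k : ℕ) (x : ZMod (2 ^ (k + 1))) (hx : 2 * x = 0) :
    x = 0 ∨ x = 2 ^ k := by
  have hxv : ((x.val : ℕ) : ZMod (2 ^ (k + 1))) = x := ZMod.natCast_zmod_val x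
  have h1 : ((2 * x.val : ℕ) : ZMod (2 ^ (k + 1))) = 0 := by
    push_cast; rw [hxv]; exact hx
  rw [ZMod.natCast_eq_zero_iff] at h1
  have hlt : x.val < 2 ^ (k + 1) := ZMod.val_lt x
  generalize x.val = n at hxv h1 hlt
  have h2 : 2 ^ k ∣ n := by
    have e : 2 ^ (k + 1) = 2 * 2 ^ k := by ring
    rw [e] at h1
    exact Nat.dvd_of_mul_dvd_mul_left (by norm_num) h1
  obtain ⟨m, hm⟩ := h2
  have hm2 : m < 2 := by
    by_contra hcon
    push Not at hcon
    have h5 : 2 ^ k * 2 ≤ 2 ^ k * m := Nat.mul_le_mul_left _ hcon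
    have e : 2 ^ (k + 1) = 2 ^ k * 2 := by ring
    omega
  interval_cases m
  · left
    rw [← hxv, hm]; simp
  · right
    rw [← hxv, hm]; simp

theorem ncard_two_torsion_le (k : ℕ) :
    {x : ZMod (2 ^ (k + 1)) | 2 * x = 0}.ncard ≤ 2 := by
  have hsub : {x : ZMod (2 ^ (k + 1)) | 2 * x = 0} ⊆ {0, 2 ^ k} := by
    intro x hx
    rcases two_torsion k x hx with h | h
    · left; exact h
    · right; exact h
  refine (Set.ncard_le_ncard hsub (Set.toFinite _)).trans ?_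
  refine (Set.ncard_insert_le _ _).trans ?_
  rw [Set.ncard_singleton]

theorem ncard_wSet_le (k : ℕ) : (wSet : Set (GL (Fin 2) (ZMod (2 ^ (k + 1))))).ncard ≤ 4 := by
  set T : Set (ZMod (2 ^ (k + 1))) := {x | 2 * x = 0} with hT
  let f : GL (Fin 2) (ZMod (2 ^ (k + 1))) → ZMod (2 ^ (k + 1)) × ZMod (2 ^ (k + 1)) :=
    fun g => ((g : Matrix (Fin 2) (Fin 2) (ZMod (2 ^ (k + 1)))) 0 1,
      (g : Matrix (Fin 2) (Fin 2) (ZMod (2 ^ (k + 1)))) 0 0 - 1)
  have hmaps : ∀ g ∈ (wSet : Set (GL (Fin 2) (ZMod (2 ^ (k + 1))))), f g ∈ T ×ˢ T := by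
    intro g hg
    exact ⟨hg.1, hg.2.1⟩
  have hinj : Set.InjOn f (wSet : Set (GL (Fin 2) (ZMod (2 ^ (k + 1))))) := by
    intro g hg g' hg' hfg
    have e1 : (g : Matrix (Fin 2) (Fin 2) (ZMod (2 ^ (k + 1)))) 0 1 =
        (g' : Matrix (Fin 2) (Fin 2) (ZMod (2 ^ (k + 1)))) 0 1 := congrArg Prod.fst hfg
    have e2 : (g : Matrix (Fin 2) (Fin 2) (ZMod (2 ^ (k + 1)))) 0 0 =
        (g' : Matrix (Fin 2) (Fin 2) (ZMod (2 ^ (k + 1)))) 0 0 := by
      have := congrArg Prod.snd hfg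
      simpa [f] using this
    apply Units.ext
    ext i j
    fin_cases i <;> fin_cases j
    · exact e2
    · exact e1
    · show (g : Matrix (Fin 2) (Fin 2) (ZMod (2 ^ (k + 1)))) 1 0 =
        (g' : Matrix (Fin 2) (Fin 2) (ZMod (2 ^ (k + 1)))) 1 0
      rw [hg.2.2.2, hg'.2.2.2, e1, e2]
    · show (g : Matrix (Fin 2) (Fin 2) (ZMod (2 ^ (k + 1)))) 1 1 =
        (g' : Matrix (Fin 2) (Fin 2) (ZMod (2 ^ (k + 1)))) 1 1
      rw [hg.2.2.1, hg'.2.2.1, e2]
  have h1 := Set.ncard_le_ncard_of_injOn f hmaps hinj (Set.toFinite _)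
  have h2 : (T ×ˢ T).ncard = T.ncard * T.ncard := Set.ncard_prod
  have h3 : T.ncard ≤ 2 := ncard_two_torsion_le k
  calc (wSet : Set (GL (Fin 2) (ZMod (2 ^ (k + 1))))).ncard ≤ (T ×ˢ T).ncard := h1
    _ = T.ncard * T.ncard := h2
    _ ≤ 2 * 2 := Nat.mul_le_mul h3 h3

/-- The standard `A₄` as a set. -/
def stdSet (R : Type*) [CommRing R] : Set (GL (Fin 2) R) :=
  (fun q : GL (Fin 2) R × Fin 3 => q.1 * cStd ^ (q.2 : ℕ)) '' (wSet ×ˢ Set.univ)

theorem ncard_stdSet_le (k : ℕ) : (stdSet (ZMod (2 ^ (k + 1)))).ncard ≤ 12 := by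
  have h1 : (stdSet (ZMod (2 ^ (k + 1)))).ncard ≤
      ((wSet : Set (GL (Fin 2) (ZMod (2 ^ (k + 1))))) ×ˢ (Set.univ : Set (Fin 3))).ncard :=
    Set.ncard_image_le (Set.toFinite _)
  have h2 : ((wSet : Set (GL (Fin 2) (ZMod (2 ^ (k + 1))))) ×ˢ (Set.univ : Set (Fin 3))).ncard =
      (wSet : Set (GL (Fin 2) (ZMod (2 ^ (k + 1))))).ncard * (Set.univ : Set (Fin 3)).ncard :=
    Set.ncard_prod
  have h3 : (Set.univ : Set (Fin 3)).ncard = 3 := by
    rw [Set.ncard_univ]; simp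
  have h4 := ncard_wSet_le k
  rw [h2, h3] at h1
  omega

end ZModPart

/-! ### Sylow `3`-subgroups of `GL₂(ℤ/2ᵏ)` -/

section Sylow3

theorem pow_two_pow_eq {S : Type*} [CommRing S] (A Y : Matrix (Fin 2) (Fin 2) S)
    (hA : A = 1 + (2 : S) • Y) (j : ℕ) :
    ∃ Y' : Matrix (Fin 2) (Fin 2) S, A ^ (2 ^ j) = 1 + ((2 : S) ^ (j + 1)) • Y' := by
  induction j with
  | zero => exact ⟨Y, by simpa using hA⟩
  | succ j ih =>
    obtain ⟨Y', hY'⟩ := ih
    refine ⟨Y' + ((2 : S) ^ j) • (Y' * Y'), ?_⟩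
    rw [pow_succ 2 j, pow_mul, hY', pow_two]
    simp only [add_mul, mul_add, one_mul, mul_one, smul_mul_assoc, mul_smul_comm, smul_smul,
      smul_add]
    have e1 : (2 : S) ^ (j + 1 + 1) = (2 : S) ^ (j + 1) + (2 : S) ^ (j + 1) := by ring
    have e2 : (2 : S) ^ (j + 1 + 1) * (2 : S) ^ j = (2 : S) ^ (j + 1) * (2 : S) ^ (j + 1) := by ring
    rw [e2, e1, add_smul]
    abel

theorem even_of_castHom_eq_zero (k : ℕ) (x : ZMod (2 ^ (k + 1)))
    (hx : ZMod.castHom (dvd_pow_self 2 (Nat.succ_ne_zero k)) (ZMod 2) x = 0) :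
    ∃ y : ZMod (2 ^ (k + 1)), x = 2 * y := by
  rw [ZMod.castHom_apply, ← ZMod.natCast_val, ZMod.natCast_eq_zero_iff] at hx
  obtain ⟨m, hm⟩ := hx
  refine ⟨(m : ZMod (2 ^ (k + 1))), ?_⟩
  have hxv : ((x.val : ℕ) : ZMod (2 ^ (k + 1))) = x := ZMod.natCast_zmod_val x
  rw [← hxv, hm]
  push_cast
  rfl

/-- Reduction modulo `2`. -/
noncomputable def redHom (k : ℕ) : GL (Fin 2) (ZMod (2 ^ (k + 1))) →* GL (Fin 2) (ZMod 2) :=
  Matrix.GeneralLinearGroup.map (ZMod.castHom (dvd_pow_self 2 (Nat.succ_ne_zero k)) (ZMod 2))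

theorem pow_eq_one_of_mem_ker (k : ℕ) (g : GL (Fin 2) (ZMod (2 ^ (k + 1))))
    (hg : g ∈ (redHom k).ker) : g ^ (2 ^ k) = 1 := by
  rw [MonoidHom.mem_ker] at hg
  set f := ZMod.castHom (dvd_pow_self 2 (Nat.succ_ne_zero k)) (ZMod 2) with hf
  have hentry : ∀ i j : Fin 2, ∃ y : ZMod (2 ^ (k + 1)),
      (g : Matrix (Fin 2) (Fin 2) (ZMod (2 ^ (k + 1)))) i j -
        (1 : Matrix (Fin 2) (Fin 2) (ZMod (2 ^ (k + 1)))) i j = 2 * y := by
    intro i j
    apply even_of_castHom_eq_zero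
    have h1 : (redHom k g) i j = ((1 : GL (Fin 2) (ZMod 2)) : Matrix (Fin 2) (Fin 2) (ZMod 2)) i j := by
      rw [hg]
    rw [redHom, Matrix.GeneralLinearGroup.map_apply] at h1
    rw [map_sub, h1]
    by_cases hij : i = j
    · subst hij; simp
    · simp [Matrix.one_apply_ne hij]
  choose Y hY using hentry
  have hA : (g : Matrix (Fin 2) (Fin 2) (ZMod (2 ^ (k + 1)))) =
      1 + (2 : ZMod (2 ^ (k + 1))) • (Matrix.of Y) := by
    ext i j
    have := hY i j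
    simp only [Matrix.add_apply, Matrix.smul_apply, Matrix.of_apply, smul_eq_mul]
    rw [← this]; ring
  obtain ⟨Y', hY'⟩ := pow_two_pow_eq _ _ hA k
  have hz : (2 : ZMod (2 ^ (k + 1))) ^ (k + 1) = 0 := by
    have := ZMod.natCast_self (2 ^ (k + 1))
    push_cast at this
    exact this
  rw [hz, zero_smul, add_zero] at hY'
  apply Units.ext
  rw [Units.val_pow_eq_pow_val, hY']
  rfl

theorem isPGroup_ker (k : ℕ) : IsPGroup 2 (redHom k).ker := by
  intro g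
  refine ⟨k, ?_⟩
  apply Subtype.ext
  have := pow_eq_one_of_mem_ker k g.1 g.2
  simpa using this

theorem card_GL2_F2 : Nat.card (GL (Fin 2) (ZMod 2)) = 6 := by
  have := Matrix.card_GL_field (𝔽 := ZMod 2) (n := 2)
  rw [this]
  simp [Fin.prod_univ_two]

theorem not_nine_dvd_card (k : ℕ) : ¬ 9 ∣ Nat.card (GL (Fin 2) (ZMod (2 ^ (k + 1)))) := by
  intro h9
  have h1 := Subgroup.card_eq_card_quotient_mul_card_subgroup (redHom k).ker
  have h2 : Nat.card (GL (Fin 2) (ZMod (2 ^ (k + 1))) ⧸ (redHom k).ker) =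
      Nat.card (redHom k).range :=
    Nat.card_congr (QuotientGroup.quotientKerEquivRange (redHom k)).toEquiv
  have h3 : Nat.card (redHom k).range ∣ 6 := by
    rw [← card_GL2_F2]
    exact Subgroup.card_subgroup_dvd_card _
  obtain ⟨m, hm⟩ := (IsPGroup.iff_card).mp (isPGroup_ker k)
  rw [h1, h2, hm] at h9
  have hcop : Nat.Coprime 9 (2 ^ m) := Nat.Coprime.pow_right m (by decide)
  have h4 : 9 ∣ Nat.card (redHom k).range := hcop.dvd_of_dvd_mul_right h9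
  have h5 : 9 ∣ 6 := h4.trans h3
  omega

/-- Subgroups of order `3` of `GL₂(ℤ/2ᵏ)` are conjugate. -/
theorem exists_conj_of_card_three (k : ℕ) (P Q : Subgroup (GL (Fin 2) (ZMod (2 ^ (k + 1)))))
    (hP : Nat.card P = 3) (hQ : Nat.card Q = 3) :
    ∃ g : GL (Fin 2) (ZMod (2 ^ (k + 1))), MulAut.conj g • P = Q := by
  have : Fact (Nat.Prime 3) := ⟨by norm_num⟩
  have hn9 := not_nine_dvd_card k
  have h3 : 3 ∣ Nat.card (GL (Fin 2) (ZMod (2 ^ (k + 1)))) := by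
    rw [← hP]; exact Subgroup.card_subgroup_dvd_card P
  have hpos : Nat.card (GL (Fin 2) (ZMod (2 ^ (k + 1)))) ≠ 0 := Nat.card_pos.ne'
  have he : (Nat.card (GL (Fin 2) (ZMod (2 ^ (k + 1))))).factorization 3 = 1 := by
    have h1 : 1 ≤ (Nat.card (GL (Fin 2) (ZMod (2 ^ (k + 1))))).factorization 3 :=
      (Nat.Prime.dvd_iff_one_le_factorization (by norm_num) hpos).mp h3
    have h2 : (Nat.card (GL (Fin 2) (ZMod (2 ^ (k + 1))))).factorization 3 < 2 := by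
      by_contra hcon
      push Not at hcon
      apply hn9
      have : 3 ^ 2 ∣ Nat.card (GL (Fin 2) (ZMod (2 ^ (k + 1)))) :=
        (pow_dvd_pow 3 hcon).trans (Nat.ordProj_dvd _ _)
      simpa using this
    omega
  let P' : Sylow 3 (GL (Fin 2) (ZMod (2 ^ (k + 1)))) :=
    Sylow.ofCard P (by rw [hP, he, pow_one])
  let Q' : Sylow 3 (GL (Fin 2) (ZMod (2 ^ (k + 1)))) :=
    Sylow.ofCard Q (by rw [hQ, he, pow_one])
  obtain ⟨g, hg⟩ := MulAction.exists_smul_eq (GL (Fin 2) (ZMod (2 ^ (k + 1)))) P' Q'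
  refine ⟨g, ?_⟩
  have := congrArg (fun S : Sylow 3 (GL (Fin 2) (ZMod (2 ^ (k + 1)))) =>
    (S : Subgroup (GL (Fin 2) (ZMod (2 ^ (k + 1)))))) hg
  simpa [Sylow.coe_subgroup_smul, P', Q'] using this

end Sylow3

/-! ### The main argument -/

section Main

variable {R : Type*} [CommRing R]

/-- A subgroup `H ≅ A₄` of `GL₂(R)` through `cStd` lies in `stdSet`. -/
theorem subset_stdSet (h3 : ∀ x : R, 3 * x = 0 → x = 0) [Nontrivial R]
    (H : Subgroup (GL (Fin 2) R)) (e : ↥H ≃* ↥(alternatingGroup (Fin 4)))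
    (hc : cStd ∈ H) : (H : Set (GL (Fin 2) R)) ⊆ stdSet R := by
  set c' : ↥H := ⟨cStd, hc⟩ with hc'
  have hc3 : c' ^ 3 = 1 := by
    apply Subtype.ext
    simpa using cStd_pow_three (R := R)
  have hc1 : c' ≠ 1 := by
    intro h
    apply cStd_ne_one (R := R)
    exact congrArg Subtype.val h
  set γ := e c' with hγ
  have hγ3 : γ ^ 3 = 1 := by rw [hγ, ← map_pow, hc3, map_one]
  have hγ1 : γ ≠ 1 := by
    intro h
    apply hc1
    apply e.injective
    rw [map_one]; exact h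
  -- involutions of `H` lie in `wSet`
  have hinv : ∀ v : ↥H, v * v = 1 → (v : GL (Fin 2) R) ∈ wSet := by
    intro v hv
    have hev : e v * e v = 1 := by rw [← map_mul, hv, map_one]
    obtain ⟨r1, r2⟩ := a4_rel γ hγ3 hγ1 (e v) hev
    have r1' : v * (c' * v * c'⁻¹) = (c' * v * c'⁻¹) * v := by
      apply e.injective
      simp only [map_mul, map_inv]
      exact r1
    have r2' : v * (c' * v * c'⁻¹) * (c'⁻¹ * v * c') = 1 := by
      apply e.injective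
      simp only [map_mul, map_inv, map_one]
      exact r2
    apply mem_wSet_of_rel h3
    · exact congrArg Subtype.val hv
    · exact congrArg Subtype.val r1'
    · exact congrArg Subtype.val r2'
  intro h hh
  have hcinv : (cStd : GL (Fin 2) R)⁻¹ = cStd ^ 2 := by
    rw [inv_eq_iff_mul_eq_one, ← pow_succ']
    exact cStd_pow_three
  rcases a4_decomp γ hγ3 hγ1 (e ⟨h, hh⟩) with d | d | d
  · have hv : (⟨h, hh⟩ : ↥H) * ⟨h, hh⟩ = 1 := by
      apply e.injective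
      rw [map_mul, map_one]
      exact d
    refine ⟨(h, 0), ⟨hinv _ hv, Set.mem_univ _⟩, ?_⟩
    simp
  · have hv : ((⟨h, hh⟩ : ↥H) * c'⁻¹) * ((⟨h, hh⟩ : ↥H) * c'⁻¹) = 1 := by
      apply e.injective
      simp only [map_mul, map_inv, map_one]
      exact d
    refine ⟨(h * cStd⁻¹, 1), ⟨hinv _ hv, Set.mem_univ _⟩, ?_⟩
    simp
  · have hv : ((⟨h, hh⟩ : ↥H) * c') * ((⟨h, hh⟩ : ↥H) * c') = 1 := by
      apply e.injective
      simp only [map_mul, map_one]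
      exact d
    refine ⟨(h * cStd, 2), ⟨hinv _ hv, Set.mem_univ _⟩, ?_⟩
    show h * cStd * cStd ^ 2 = h
    rw [mul_assoc, ← pow_succ', cStd_pow_three, mul_one]

end Main

section Final

theorem exists_conj_eq_stdSet (k : ℕ) (H : Subgroup (GL (Fin 2) (ZMod (2 ^ (k + 1)))))
    (e : ↥H ≃* ↥(alternatingGroup (Fin 4))) :
    ∃ g : GL (Fin 2) (ZMod (2 ^ (k + 1))),
      ((MulAut.conj g • H : Subgroup (GL (Fin 2) (ZMod (2 ^ (k + 1))))) :
        Set (GL (Fin 2) (ZMod (2 ^ (k + 1))))) = stdSet (ZMod (2 ^ (k + 1))) := by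
  have : Fact (1 < 2 ^ (k + 1)) := ⟨Nat.one_lt_two_pow (Nat.succ_ne_zero k)⟩
  have : Fact (Nat.Prime 3) := ⟨by norm_num⟩
  obtain ⟨γ, hγ3, hγ1⟩ := a4_exists
  set c : ↥H := e.symm γ with hc
  have hc3 : c ^ 3 = 1 := by rw [hc, ← map_pow, hγ3, map_one]
  have hc1 : c ≠ 1 := by
    intro h
    apply hγ1
    have := congrArg e h
    simpa [hc] using this
  have hc3' : (c : GL (Fin 2) (ZMod (2 ^ (k + 1)))) ^ 3 = 1 := by
    have := congrArg Subtype.val hc3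
    simpa using this
  have hc1' : (c : GL (Fin 2) (ZMod (2 ^ (k + 1)))) ≠ 1 := by
    intro h
    apply hc1
    exact Subtype.ext h
  have ho : orderOf (c : GL (Fin 2) (ZMod (2 ^ (k + 1)))) = 3 := orderOf_eq_prime hc3' hc1'
  have ho' : orderOf (cStd : GL (Fin 2) (ZMod (2 ^ (k + 1)))) = 3 :=
    orderOf_eq_prime cStd_pow_three cStd_ne_one
  obtain ⟨g, hg⟩ := exists_conj_of_card_three k
    (Subgroup.zpowers (c : GL (Fin 2) (ZMod (2 ^ (k + 1)))))
    (Subgroup.zpowers (cStd : GL (Fin 2) (ZMod (2 ^ (k + 1)))))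
    (by rw [Nat.card_zpowers, ho]) (by rw [Nat.card_zpowers, ho'])
  refine ⟨g, ?_⟩
  have hle : Subgroup.zpowers (c : GL (Fin 2) (ZMod (2 ^ (k + 1)))) ≤ H := by
    rw [Subgroup.zpowers_le]; exact c.2
  have hmem : cStd ∈ (MulAut.conj g • H : Subgroup (GL (Fin 2) (ZMod (2 ^ (k + 1))))) := by
    have h1 : cStd ∈ MulAut.conj g • Subgroup.zpowers (c : GL (Fin 2) (ZMod (2 ^ (k + 1)))) := by
      rw [hg]; exact Subgroup.mem_zpowers _
    exact (Subgroup.pointwise_smul_le_pointwise_smul_iff.mpr hle) h1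
  let e' : ↥(MulAut.conj g • H : Subgroup (GL (Fin 2) (ZMod (2 ^ (k + 1))))) ≃*
      ↥(alternatingGroup (Fin 4)) :=
    (Subgroup.equivSMul (MulAut.conj g) H).symm.trans e
  have hsub := subset_stdSet (three_cancel (k + 1)) _ e' hmem
  have hcard : Nat.card ↥(MulAut.conj g • H : Subgroup (GL (Fin 2) (ZMod (2 ^ (k + 1))))) = 12 := by
    rw [Nat.card_congr e'.toEquiv, Nat.card_eq_fintype_card, a4_card]
  apply Set.eq_of_subset_of_ncard_le hsub _ (Set.toFinite _)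
  have h2 : ((MulAut.conj g • H : Subgroup (GL (Fin 2) (ZMod (2 ^ (k + 1))))) :
      Set (GL (Fin 2) (ZMod (2 ^ (k + 1))))).ncard = 12 := by
    rw [← hcard]
    exact (Nat.card_coe_set_eq _).symm
  rw [h2]
  exact ncard_stdSet_le k

theorem main_conj (k : ℕ) (H₁ H₂ : Subgroup (GL (Fin 2) (ZMod (2 ^ (k + 1)))))
    (e₁ : ↥H₁ ≃* ↥(alternatingGroup (Fin 4))) (e₂ : ↥H₂ ≃* ↥(alternatingGroup (Fin 4))) :
    ∃ g : GL (Fin 2) (ZMod (2 ^ (k + 1))), H₂ = H₁.map (MulAut.conj g).toMonoidHom := by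
  obtain ⟨g₁, hg₁⟩ := exists_conj_eq_stdSet k H₁ e₁
  obtain ⟨g₂, hg₂⟩ := exists_conj_eq_stdSet k H₂ e₂
  have h : MulAut.conj g₁ • H₁ = MulAut.conj g₂ • H₂ := by
    apply SetLike.coe_injective
    rw [hg₁, hg₂]
  refine ⟨g₂⁻¹ * g₁, ?_⟩
  have h2 : H₂ = (MulAut.conj g₂)⁻¹ • (MulAut.conj g₁ • H₁) := by
    rw [h, inv_smul_smul]
  rw [h2, smul_smul, ← map_inv, ← map_mul]
  rfl

end Final

end Cfsg.Agent.Helper49.A4GL
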