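import Cfsg.Agent.Helper17.SylowKit
import Cfsg.Agent.Helper17.LemmaR

/-!
Helper49: piece (N7d1) of helper74's S0984 farm (#9405): the structure of `N_G(P)`, `P` a Sylow
7-subgroup of a simple group of order 2520 with 36 Sylow 7-subgroups.
-/

set_option autoImplicit false

namespace Cfsg.Agent.Helper49.A7

open Subgroup

universe u

variable {G : Type u} [Group G]

/-- an element of order `7` normalizing a Sylow `7`-subgroup lies in it -/
theorem N7d1_mem_of_order_seven [Finite G] [Fact (Nat.Prime 7)] (c : G) (hc : orderOf c = 7)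
    (R : Sylow 7 G) (hR : c • R = R) : c ∈ (R : Subgroup G) := by
  have hZ : IsPGroup 7 (zpowers c) := by
    apply IsPGroup.of_card (n := 1)
    rw [Nat.card_zpowers, hc, pow_one]
  have h2 := hZ.inf_normalizer_sylow R
  have h1 : c ∈ zpowers c ⊓ (R : Subgroup G) := by
    rw [← h2]
    exact ⟨mem_zpowers c, Sylow.smul_eq_iff_mem_normalizer.mp hR⟩
  exact h1.2

/-- a Sylow subgroup of order `7` is generated by each of its elements of order `7` -/
theorem N7d1_eq_zpowers [Finite G] (c : G) (hc : orderOf c = 7) (R : Subgroup G)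
    (hR : Nat.card R = 7) (hcR : c ∈ R) : zpowers c = R := by
  apply Subgroup.eq_of_le_of_card_ge
  · rw [zpowers_le]; exact hcR
  · rw [Nat.card_zpowers, hc, hR]

/-- (N7d1) if `n_7 = 36` then `C = C_G(P)` has order 35, acts semiregularly on the Sylow
`7`-subgroups other than `P`, and there is an involution `t ∈ N_G(P)` commuting with no element of
order `7` of `C` -/
theorem sylow7_36_structure [Finite G] [IsSimpleGroup G] [Fact (Nat.Prime 7)]
    (hcard : Nat.card G = 2520) (h36 : Nat.card (Sylow 7 G) = 36) (P : Sylow 7 G) :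
    Nat.card (Subgroup.centralizer ((P : Subgroup G) : Set G)) = 35 ∧
    (∀ c ∈ Subgroup.centralizer ((P : Subgroup G) : Set G), c ≠ 1 → ∀ R : Sylow 7 G,
      c • R = R → R = P) ∧
    ∃ t : G, orderOf t = 2 ∧ t • P = P ∧
      (∀ c ∈ Subgroup.centralizer ((P : Subgroup G) : Set G),
        t * c * t⁻¹ ∈ Subgroup.centralizer ((P : Subgroup G) : Set G)) ∧
      ∀ c ∈ Subgroup.centralizer ((P : Subgroup G) : Set G), orderOf c = 7 → t * c ≠ c * t := by
  classical
  have : Fact (Nat.Prime 5) := ⟨by norm_num⟩
  have : Fact (Nat.Prime 2) := ⟨Nat.prime_two⟩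
  have hcardS : ∀ R : Sylow 7 G, Nat.card (R : Subgroup G) = 7 := by
    intro R
    have := Cfsg.Agent.Helper17.card_sylow_subgroup_of_card_eq (G := G) (p := 7) (k := 1) (m := 360)
      (by rw [hcard]; norm_num) (by norm_num) R
    rwa [pow_one] at this
  have hP7 := hcardS P
  have hN70 : Nat.card (normalizer ((P : Subgroup G) : Set G)) = 70 := by
    have h := Cfsg.Agent.Helper17.card_normalizer_mul_card_sylow P
    rw [h36, hcard] at h
    omega
  obtain ⟨he6, he70⟩ := Cfsg.Agent.Helper17.relIndex_dvd_of_card_sylow_prime P hP7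
  have hCe := Cfsg.Agent.Helper17.card_centralizer_mul_relIndex (P : Subgroup G)
  rw [hN70] at hCe he70
  have hne1 : (centralizer ((P : Subgroup G) : Set G)).relIndex (normalizer ((P : Subgroup G) : Set G)) ≠ 1 := by
    intro h1
    apply Cfsg.Agent.Helper17.not_normalizer_le_centralizer_of_simple P (by rw [hP7]; norm_num)
      (by rw [hP7, hcard]; norm_num)
    exact Subgroup.relIndex_eq_one.mp h1
  have hC35 : Nat.card (centralizer ((P : Subgroup G) : Set G)) = 35 := by
    generalize (centralizer ((P : Subgroup G) : Set G)).relIndex (normalizer ((P : Subgroup G) : Set G)) = e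
      at he6 he70 hCe hne1
    have h10 : e ∣ 10 := by
      have : 7 * e ∣ 7 * 10 := he70
      exact Nat.dvd_of_mul_dvd_mul_left (by norm_num) this
    have h2 : e ∣ 2 := by
      have := Nat.dvd_gcd he6 h10
      simpa using this
    have hle : e ≤ 2 := Nat.le_of_dvd (by norm_num) h2
    have hpos : 0 < e := Nat.pos_of_dvd_of_pos h2 (by norm_num)
    have he2 : e = 2 := by omega
    rw [he2] at hCe
    omega
  -- elements of order 7 of `C` lie in `P` and generate it
  have hCN : ∀ c ∈ centralizer ((P : Subgroup G) : Set G), c • P = P := by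
    intro c hc
    rw [Sylow.smul_eq_iff_mem_normalizer]
    exact Subgroup.centralizer_le_normalizer _ hc
  have hgen : ∀ c ∈ centralizer ((P : Subgroup G) : Set G), orderOf c = 7 → zpowers c = (P : Subgroup G) := by
    intro c hc h7
    exact N7d1_eq_zpowers c h7 _ hP7 (N7d1_mem_of_order_seven c h7 P (hCN c hc))
  refine ⟨hC35, ?_, ?_⟩
  · -- semiregularity
    intro c hc hc1 R hR
    have hdvd : orderOf c ∣ 35 := by
      rw [← hC35]; exact Subgroup.orderOf_dvd_natCard _ hc
    have hord1 : orderOf c ≠ 1 := fun h => hc1 (orderOf_eq_one_iff.mp h)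
    by_cases h5 : 5 ∣ orderOf c
    · have hne0 : orderOf c ≠ 0 := fun h => by rw [h] at hdvd; omega
      have ho5 : orderOf (c ^ (orderOf c / 5)) = 5 := orderOf_pow_orderOf_div hne0 h5
      have hmem : c ^ (orderOf c / 5) ∈ centralizer ((P : Subgroup G) : Set G) := Subgroup.pow_mem _ hc _
      have hfix : c ^ (orderOf c / 5) • R = R := Cfsg.Agent.Helper17.smul_pow_eq' c R hR _
      have hsing := Cfsg.Agent.Helper17.fixSyl_eq_singleton (p := 7) P (q := 5) (by norm_num)
        (by rw [h36]) _ hmem ho5
      have hRmem : R ∈ Cfsg.Agent.Helper17.fixSyl 7 (c ^ (orderOf c / 5)) :=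
        Cfsg.Agent.Helper17.mem_fixSyl.mpr hfix
      rw [hsing, Finset.mem_singleton] at hRmem
      exact hRmem
    · have ho7 : orderOf c = 7 := by
        have hle : orderOf c ≤ 35 := Nat.le_of_dvd (by norm_num) hdvd
        have hpos : 0 < orderOf c := Nat.pos_of_dvd_of_pos hdvd (by norm_num)
        generalize orderOf c = k at *
        interval_cases k <;> omega
      have h1 := hgen c hc ho7
      have h2 := N7d1_eq_zpowers c ho7 _ (hcardS R) (N7d1_mem_of_order_seven c ho7 R hR)
      exact Sylow.ext (h2.symm.trans h1)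
  · -- the involution
    have h2dvd : 2 ∣ Nat.card (normalizer ((P : Subgroup G) : Set G)) := by rw [hN70]; norm_num
    obtain ⟨t0, ht0⟩ := exists_prime_orderOf_dvd_card' (G := normalizer ((P : Subgroup G) : Set G)) 2 h2dvd
    have htN : (t0 : G) ∈ normalizer ((P : Subgroup G) : Set G) := t0.2
    have ht2 : orderOf (t0 : G) = 2 := by rw [Subgroup.orderOf_coe]; exact ht0
    refine ⟨(t0 : G), ht2, Sylow.smul_eq_iff_mem_normalizer.mpr htN, ?_, ?_⟩
    · intro c hc
      rw [Subgroup.mem_centralizer_iff]
      intro x hx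
      have hy : (t0 : G)⁻¹ * x * (t0 : G) ∈ (P : Subgroup G) :=
        (Subgroup.mem_normalizer_iff''.mp htN x).mp hx
      have hcy := (Subgroup.mem_centralizer_iff.mp hc) _ hy
      calc x * ((t0 : G) * c * (t0 : G)⁻¹)
          = (t0 : G) * (((t0 : G)⁻¹ * x * (t0 : G)) * c) * (t0 : G)⁻¹ := by group
        _ = (t0 : G) * (c * ((t0 : G)⁻¹ * x * (t0 : G))) * (t0 : G)⁻¹ := by rw [hcy]
        _ = (t0 : G) * c * (t0 : G)⁻¹ * x := by group
    · intro c hc h7 hcomm
      have hPz := hgen c hc h7
      have hct : Commute c (t0 : G) := hcomm.symm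
      have htC : (t0 : G) ∈ centralizer ((P : Subgroup G) : Set G) := by
        rw [Subgroup.mem_centralizer_iff]
        intro x hx
        have hx' : x ∈ zpowers c := by rw [hPz]; exact hx
        obtain ⟨k, rfl⟩ := Subgroup.mem_zpowers_iff.mp hx'
        exact (hct.zpow_left k).eq
      have hdvd : orderOf (t0 : G) ∣ 35 := by
        rw [← hC35]; exact Subgroup.orderOf_dvd_natCard _ htC
      rw [ht2] at hdvd
      omega

end Cfsg.Agent.Helper49.A7
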