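import Cfsg.Agent.Helper17.FixCount

/-!
Helper49: piece (N7d2) of helper74's S0984 farm (#9405): the parity argument as a statement on
permutation groups.
-/

set_option autoImplicit false

namespace Cfsg.Agent.Helper49.A7

universe u

variable {G : Type u} [Group G]

/-- (N7d2) a simple group acting on 36 points cannot contain a subgroup `C` of order 35 fixing a
point `P` and semiregular on the other points, normalized by an involution `t` fixing `P` and
commuting with no element of order 7 of `C` -/
theorem parity_kill [Finite G] [IsSimpleGroup G] (hG2 : 2 < Nat.card G) {Ω : Type*} [Fintype Ω]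
    [DecidableEq Ω] [MulAction G Ω] (hΩ : Fintype.card Ω = 36) (P : Ω) (C : Subgroup G)
    (hC : Nat.card C = 35) (hCP : ∀ c ∈ C, c • P = P)
    (hsemi : ∀ c ∈ C, c ≠ 1 → ∀ R : Ω, c • R = R → R = P) (t : G) (ht : orderOf t = 2)
    (htP : t • P = P) (htC : ∀ c ∈ C, t * c * t⁻¹ ∈ C)
    (h7 : ∀ c ∈ C, orderOf c = 7 → t * c ≠ c * t) : False := by
  classical
  haveI : Fact (Nat.Prime 7) := ⟨by norm_num⟩
  have ht2 : t ^ 2 = 1 := by rw [← ht]; exact pow_orderOf_eq_one t
  obtain ⟨m, hm⟩ := Cfsg.Agent.Helper17.card_fixed_add_four_mul hG2 (Ω := Ω) t ht2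
  set F : Finset Ω := Finset.univ.filter (fun x : Ω => t • x = x) with hF
  have hmemF : ∀ x : Ω, x ∈ F ↔ t • x = x := by
    intro x; rw [hF, Finset.mem_filter]; simp
  have hPF : P ∈ F := (hmemF P).mpr htP
  -- a second fixed point
  have hFpos : 0 < F.card := Finset.card_pos.mpr ⟨P, hPF⟩
  have hF1 : 1 < F.card := by omega
  obtain ⟨R1, hR1F, hR1P⟩ := Finset.exists_mem_ne hF1 P
  have htR1 : t • R1 = R1 := (hmemF R1).mp hR1F
  -- the orbit map on `C` is injective
  have hinj : ∀ c ∈ C, ∀ c' ∈ C, c • R1 = c' • R1 → c = c' := by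
    intro c hc c' hc' h
    have h1 : (c'⁻¹ * c) • R1 = R1 := by rw [mul_smul, h, inv_smul_smul]
    by_contra hne
    have hne' : c'⁻¹ * c ≠ 1 := by
      intro h0
      rw [inv_mul_eq_one] at h0
      exact hne h0.symm
    exact hR1P (hsemi _ (C.mul_mem (C.inv_mem hc') hc) hne' R1 h1)
  have hneP : ∀ c ∈ C, c • R1 ≠ P := by
    intro c hc h
    apply hR1P
    have h2 : c⁻¹ • (c • R1) = c⁻¹ • P := by rw [h]
    rw [inv_smul_smul, hCP _ (C.inv_mem hc)] at h2
    exact h2
  -- ... and onto the complement of `P`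
  haveI : Fintype C := Fintype.ofFinite C
  have hCcard : Fintype.card C = 35 := by rw [← Nat.card_eq_fintype_card, hC]
  have himg : (Finset.univ : Finset C).image (fun c : C => (c : G) • R1) = Finset.univ.erase P := by
    apply Finset.eq_of_subset_of_card_le
    · intro x hx
      obtain ⟨c, -, rfl⟩ := Finset.mem_image.mp hx
      exact Finset.mem_erase.mpr ⟨hneP c c.2, Finset.mem_univ _⟩
    · rw [Finset.card_image_of_injective _ (fun c c' h => Subtype.ext (hinj c c.2 c' c'.2 h)),
        Finset.card_univ, hCcard, Finset.card_erase_of_mem (Finset.mem_univ P), Finset.card_univ, hΩ]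
  have hsurj : ∀ x : Ω, x ≠ P → ∃ c ∈ C, x = c • R1 := by
    intro x hx
    have : x ∈ (Finset.univ : Finset C).image (fun c : C => (c : G) • R1) := by
      rw [himg]; exact Finset.mem_erase.mpr ⟨hx, Finset.mem_univ _⟩
    obtain ⟨c, -, rfl⟩ := Finset.mem_image.mp this
    exact ⟨c, c.2, rfl⟩
  -- the centralizer of `t` in `C`
  set D : Subgroup G := C ⊓ Subgroup.centralizer {t} with hD
  have hDcomm : ∀ d ∈ D, t * d = d * t := by
    intro d hd
    exact (Subgroup.mem_centralizer_iff.mp hd.2) t (Set.mem_singleton t)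
  have hD35 : Nat.card D ∣ 35 := by
    rw [← hC]; exact Subgroup.card_dvd_of_le inf_le_left
  have hD7 : ¬ 7 ∣ Nat.card D := by
    intro h
    obtain ⟨d, hd⟩ := exists_prime_orderOf_dvd_card' (G := D) 7 h
    have hd' : orderOf (d : G) = 7 := by rw [Subgroup.orderOf_coe]; exact hd
    exact h7 d d.2.1 hd' (hDcomm d d.2)
  have hDval : Nat.card D = 1 ∨ Nat.card D = 5 := by
    have hle : Nat.card D ≤ 35 := Nat.le_of_dvd (by norm_num) hD35
    have hpos : 0 < Nat.card D := Nat.card_pos
    generalize Nat.card D = k at *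
    interval_cases k <;> omega
  -- the fixed points of `t` other than `P` correspond to `D`
  have hbij : Function.Bijective (fun d : D =>
      (⟨(d : G) • R1, Finset.mem_erase.mpr ⟨hneP d d.2.1, (hmemF _).mpr (by
        rw [← mul_smul, hDcomm d d.2, mul_smul, htR1])⟩⟩ : {x // x ∈ F.erase P})) := by
    constructor
    · intro d d' h
      have h' : (d : G) • R1 = (d' : G) • R1 := congrArg Subtype.val h
      exact Subtype.ext (hinj d d.2.1 d' d'.2.1 h')
    · rintro ⟨x, hx⟩
      obtain ⟨hxP, hxF⟩ := Finset.mem_erase.mp hx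
      obtain ⟨c, hc, rfl⟩ := hsurj x hxP
      have hfix : t • (c • R1) = c • R1 := (hmemF _).mp hxF
      have h1 : (t * c * t⁻¹) • R1 = c • R1 := by
        have : (t * c * t⁻¹) • R1 = (t * c * t⁻¹) • (t • R1) := by rw [htR1]
        rw [this, ← mul_smul, inv_mul_cancel_right, mul_smul, hfix]
      have h2 : t * c * t⁻¹ = c := hinj _ (htC c hc) c hc h1
      have hcD : c ∈ D := by
        refine ⟨hc, Subgroup.mem_centralizer_iff.mpr ?_⟩
        intro h hh
        rw [Set.mem_singleton_iff] at hh
        subst hh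
        calc h * c = h * c * h⁻¹ * h := by group
          _ = c * h := by rw [h2]
      exact ⟨⟨c, hcD⟩, rfl⟩
  have hcardD : Nat.card D = (F.erase P).card := by
    rw [Nat.card_congr (Equiv.ofBijective _ hbij), Nat.card_eq_fintype_card, Fintype.card_coe]
  rw [Finset.card_erase_of_mem hPF] at hcardD
  rcases hDval with h | h <;> omega

end Cfsg.Agent.Helper49.A7
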