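import Mathlib
import Cfsg.Agent.Helper70.BG14N2
import Cfsg.Agent.S1408
import Cfsg.Agent.S1423
import Cfsg.Agent.S1428
import Cfsg.Agent.Helper60.BG14J
import Cfsg.Agent.Helper68.BG12A
import Cfsg.Agent.Helper31.BGTrans
import Cfsg.Agent.Helper22.Sup

/-!
# B-G §14, THEOREM N3: the final contradiction in case (α) (helper49, board #3892 chunk [FC])

`final_contra` has exactly the signature of the skeleton `Helper70/BG14Skel.lean`. It is
self-contained: the two skeleton lemmas it needs ((PU5) `isComplIn_centralizer` and (GB4)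
`isCyclic_of_ideal_of_not_conj`) are proved here under the names `isComplIn_centralizer_fc`
and `isCyclic_of_beta_of_not_conj_fc`.
-/

set_option autoImplicit false
set_option linter.unusedVariables false
set_option linter.unusedSectionVars false
set_option linter.style.haveILetI false

namespace Cfsg.Agent.Helper49.BG14

open Cfsg Cfsg.Agent.Helper29 Cfsg.Agent.Helper29.BG10 Cfsg.Agent.Helper29.BG11
open Cfsg.Agent.Helper70.BG14
open scoped commutatorElement

variable {G : Type*} [Group G] [Finite G]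

/-- Cauchy inside a subgroup, giving a subgroup of prime order -/
theorem exists_le_card_eq_prime_fc {H : Subgroup G} {t : ℕ} (ht : t.Prime)
    (hd : t ∣ Nat.card ↥H) : ∃ Z : Subgroup G, Z ≤ H ∧ Nat.card ↥Z = t := by
  haveI : Fact t.Prime := ⟨ht⟩
  obtain ⟨x, hx⟩ := exists_prime_orderOf_dvd_card' t hd
  refine ⟨Subgroup.zpowers (x : G), ?_, ?_⟩
  · rw [Subgroup.zpowers_le]; exact x.2
  · rw [Nat.card_zpowers, Subgroup.orderOf_coe, hx]

/-- (PU5) the centralizer of `P ≤ E` in `M = E K` splits along the complement -/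
theorem isComplIn_centralizer_fc {M E K P : Subgroup G} (hE : Cfsg.IsComplIn E K M)
    (hK : M ≤ Subgroup.normalizer (K : Set G)) (hPE : P ≤ E) :
    Cfsg.IsComplIn (E ⊓ Subgroup.centralizer (P : Set G)) (K ⊓ Subgroup.centralizer (P : Set G))
      (M ⊓ Subgroup.centralizer (P : Set G)) := by
  obtain ⟨hEM, hKM, hEK, hprod⟩ := hE
  refine ⟨inf_le_inf_right _ hEM, inf_le_inf_right _ hKM, ?_, ?_⟩
  · rw [eq_bot_iff, ← hEK]
    exact inf_le_inf inf_le_left inf_le_left
  · intro m hm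
    obtain ⟨hmM, hmC⟩ := Subgroup.mem_inf.1 hm
    obtain ⟨a, ha, b, hb, hab⟩ := hprod m hmM
    have key : ∀ x ∈ P, x * a * x⁻¹ = a ∧ x * b * x⁻¹ = b := by
      intro x hx
      have hxE : x ∈ E := hPE hx
      have hxa : x * a * x⁻¹ ∈ E := E.mul_mem (E.mul_mem hxE ha) (E.inv_mem hxE)
      have hxb : x * b * x⁻¹ ∈ K :=
        (Subgroup.mem_normalizer_iff.1 (hK (hEM hxE)) b).1 hb
      have hm : x * m * x⁻¹ = m := by
        have := Subgroup.mem_centralizer_iff.1 hmC x hx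
        rw [this, mul_inv_cancel_right]
      have h1 : (x * a * x⁻¹) * (x * b * x⁻¹) = a * b := by
        rw [← hab, ← hm, hab]; group
      have h2 : a⁻¹ * (x * a * x⁻¹) = b * (x * b * x⁻¹)⁻¹ := by
        rw [eq_mul_inv_iff_mul_eq, mul_assoc, h1, inv_mul_cancel_left]
      have h3 : a⁻¹ * (x * a * x⁻¹) ∈ E ⊓ K :=
        ⟨E.mul_mem (E.inv_mem ha) hxa, by rw [h2]; exact K.mul_mem hb (K.inv_mem hxb)⟩
      rw [hEK, Subgroup.mem_bot] at h3
      have h4 : x * a * x⁻¹ = a := by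
        have := congrArg (fun y => a * y) h3
        simpa using this
      refine ⟨h4, ?_⟩
      rw [h4] at h1
      exact mul_left_cancel h1
    refine ⟨a, Subgroup.mem_inf.2 ⟨ha, ?_⟩, b, Subgroup.mem_inf.2 ⟨hb, ?_⟩, hab⟩
    · rw [Subgroup.mem_centralizer_iff]
      intro x hx
      have := (key x hx).1
      rw [mul_inv_eq_iff_eq_mul] at this
      exact this
    · rw [Subgroup.mem_centralizer_iff]
      intro x hx
      have := (key x hx).2
      rw [mul_inv_eq_iff_eq_mul] at this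
      exact this

/-- (GB4) for `t ∈ β(M)` and `H` maximal, not conjugate to `M`, the `t`-subgroups of `H` are
cyclic -/
theorem isCyclic_of_beta_of_not_conj_fc (hG : Cfsg.IsMinSimpleOddOrder G) (hSP : SP G)
    {M H : Subgroup G} (hM : IsCoatom M) (hH : IsCoatom H) (hnc : ∀ g : G, cj g M ≠ H)
    {t : ℕ} (ht : t ∈ Cfsg.beta M) {S : Subgroup G} (hSH : S ≤ H) (hS : IsPGroup t ↥S) :
    IsCyclic ↥S := by
  have hU := bbU hG
  haveI : Fact t.Prime := ⟨ht.1.1⟩
  have htM : t ∈ Cfsg.sigma M := alpha_subset_sigma hG hU hM ht.1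
  have htH : t ∉ Cfsg.sigma H := hSP M H hM hH hnc t htM
  have h2 : Cfsg.PRankLE t 2 ↥H := by
    by_contra h
    exact htH (alpha_subset_sigma hG hU hH ⟨ht.1.1, h⟩)
  have h1 : Cfsg.PRankLE t 1 ↥H := by
    by_contra h
    exact (Cfsg.Agent.S1408.result hG H hH t htH h2 h).1 ht.2
  exact Cfsg.Agent.Helper23.BG13.isCyclic_of_isPGroup_of_pRankLE_one hG.1 hS
    (Cfsg.Agent.Helper23.BG13.pRankLE_mono hSH h1)

/-- for `t ∈ β(M)` and `X ≤ M` of order `t`: `N_G(X) ≤ M` (S1423) -/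
theorem normalizer_le_of_beta_fc (hG : Cfsg.IsMinSimpleOddOrder G) {M : Subgroup G}
    (hM : IsCoatom M) {t : ℕ} (ht : t ∈ Cfsg.beta M) {X : Subgroup G} (hXM : X ≤ M)
    (hX : Nat.card ↥X = t) : Subgroup.normalizer (X : Set G) ≤ M := by
  have hU := bbU hG
  haveI : IsSimpleGroup G := hG.2.1
  haveI : Fact t.Prime := ⟨ht.1.1⟩
  have htM : t ∈ Cfsg.sigma M := alpha_subset_sigma hG hU hM ht.1
  obtain ⟨Q⟩ : Nonempty (Sylow t ↥(Cfsg.sigmaCore M)) := inferInstance
  have h := (Cfsg.Agent.S1423.result hG M hM t htM X hXM hX Q (Or.inl ht)).1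
  have hXp : IsPGroup t ↥X := isPGroup_of_card_eq hX
  have hX1 : X ≠ ⊥ := ne_bot_of_card_eq ht.1.1 hX
  have hNtop : Subgroup.normalizer (X : Set G) ≠ ⊤ :=
    Cfsg.Agent.Helper31.bgt_normalizer_ne_top_of_simple hX1 (isPGroup_ne_top hG hXp)
  obtain ⟨L, hL, hNL⟩ := (eq_top_or_exists_le_coatom _).resolve_left hNtop
  have hLM : L = M := h.2 L hL ((Subgroup.centralizer_le_normalizer _).trans hNL)
  rw [← hLM]; exact hNL

/-- **the final contradiction in case (α)** of THEOREM N3 -/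
theorem final_contra (hG : Cfsg.IsMinSimpleOddOrder G) (hSP : SP G)
    {M E Y P L E' X : Subgroup G} {s p q : ℕ} (h0 : Step0 M E Y s L)
    (h31 : Alpha31 M E Y s P p)
    (hL1 : ∀ R : Subgroup G, R ≤ E → R ≤ Subgroup.centralizer (P : Set G) →
      (Nat.card R).Prime → Nat.card R ∈ Cfsg.tau1 L)
    (h31L : Alpha31 L E' X q P p) : False := by
  classical
  have hU := bbU hG
  have hM : IsCoatom M := h0.hyp.coatom
  have hL : IsCoatom L := h0.coatomL
  haveI : IsSimpleGroup G := hG.2.1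
  have hpM : p ∈ Cfsg.tau1 M := h31.alpha.mem_tau1
  have hpL : p ∈ Cfsg.tau1 L := h31L.alpha.mem_tau1
  have hpp : p.Prime := hpM.1
  have hPcard : Nat.card ↥P = p := h31.alpha.card
  have hPE : P ≤ E := h31.alpha.le
  have hPE' : P ≤ E' := h31L.alpha.le
  have hEcompl : Cfsg.IsComplIn E (Cfsg.sigmaCore M) M := h0.hyp.compl
  have hE'compl : Cfsg.IsComplIn E' (Cfsg.sigmaCore L) L := h31L.alpha.hyp.compl
  have hPM : P ≤ M := hPE.trans hEcompl.1
  have hPL : P ≤ L := hPE'.trans hE'compl.1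
  -- the two primes
  have hD1 : Nat.card ↥(Cfsg.sigmaCore M ⊓ Subgroup.centralizer (P : Set G)) ≠ 1 := by
    intro h; exact h31.D_ne_bot (Subgroup.card_eq_one.1 h)
  have hD'1 : Nat.card ↥(Cfsg.sigmaCore L ⊓ Subgroup.centralizer (P : Set G)) ≠ 1 := by
    intro h; exact h31L.D_ne_bot (Subgroup.card_eq_one.1 h)
  obtain ⟨t, ht, htD⟩ := Nat.exists_prime_and_dvd hD1
  obtain ⟨t', ht', ht'D⟩ := Nat.exists_prime_and_dvd hD'1
  have htβ : t ∈ Cfsg.beta M := h31.primes_beta t ht htD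
  have ht'β : t' ∈ Cfsg.beta L := h31L.primes_beta t' ht' ht'D
  have htσ : t ∈ Cfsg.sigma M := alpha_subset_sigma hG hU hM htβ.1
  have ht'σ : t' ∈ Cfsg.sigma L := alpha_subset_sigma hG hU hL ht'β.1
  have htL : t ∉ Cfsg.sigma L := hSP M L hM hL h0.not_conj t htσ
  have ht'M : t' ∉ Cfsg.sigma M := fun h => hSP M L hM hL h0.not_conj t' h ht'σ
  have hne : t ≠ t' := fun e => htL (e ▸ ht'σ)
  obtain ⟨Xt, hXtD, hXt⟩ := exists_le_card_eq_prime_fc ht htD
  obtain ⟨X', hX'D, hX'⟩ := exists_le_card_eq_prime_fc ht' ht'D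
  -- `K = C_G(P)` lies in a maximal subgroup `H ⊇ N_G(P)`
  haveI : Fact p.Prime := ⟨hpp⟩
  have hPp : IsPGroup p ↥P := isPGroup_of_card_eq hPcard
  have hP1 : P ≠ ⊥ := ne_bot_of_card_eq hpp hPcard
  have hNtop : Subgroup.normalizer (P : Set G) ≠ ⊤ :=
    Cfsg.Agent.Helper31.bgt_normalizer_ne_top_of_simple hP1 (isPGroup_ne_top hG hPp)
  obtain ⟨H, hH, hNH⟩ := (eq_top_or_exists_le_coatom _).resolve_left hNtop
  have hKH : Subgroup.centralizer (P : Set G) ≤ H :=
    (Subgroup.centralizer_le_normalizer _).trans hNH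
  haveI hHsolv : Group.IsSolvable ↥H := hG.2.2.2 H hH.1
  haveI hKsolv : Group.IsSolvable ↥(Subgroup.centralizer (P : Set G)) :=
    Group.isSolvable_of_isSolvable_injective (Subgroup.inclusion_injective hKH)
  have hncM : ∀ g : G, cj g M ≠ H := not_conj_of_mem_tau1 hG hM hpM hPcard hNH
  have hncL : ∀ g : G, cj g L ≠ H := not_conj_of_mem_tau1 hG hL hpL hPcard hNH
  have hcyc : ∀ S : Subgroup G, S ≤ Subgroup.centralizer (P : Set G) → IsPGroup t ↥S →
      IsCyclic ↥S := fun S hS hSp =>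
    isCyclic_of_beta_of_not_conj_fc hG hSP hM hH hncM htβ (hS.trans hKH) hSp
  have hcyc' : ∀ S : Subgroup G, S ≤ Subgroup.centralizer (P : Set G) → IsPGroup t' ↥S →
      IsCyclic ↥S := fun S hS hSp =>
    isCyclic_of_beta_of_not_conj_fc hG hSP hL hH hncL ht'β (hS.trans hKH) hSp
  -- normalizers
  have hXtM : Xt ≤ M := hXtD.trans (inf_le_left.trans (sigmaCore_le M))
  have hX'L : X' ≤ L := hX'D.trans (inf_le_left.trans (sigmaCore_le L))
  have hNXt : Subgroup.normalizer (Xt : Set G) ≤ M := normalizer_le_of_beta_fc hG hM htβ hXtM hXt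
  have hNX' : Subgroup.normalizer (X' : Set G) ≤ L :=
    normalizer_le_of_beta_fc hG hL ht'β hX'L hX'
  have hN : Subgroup.centralizer (P : Set G) ⊓ Subgroup.normalizer (Xt : Set G) ≤
      M ⊓ Subgroup.centralizer (P : Set G) := le_inf (inf_le_right.trans hNXt) inf_le_left
  have hN' : Subgroup.centralizer (P : Set G) ⊓ Subgroup.normalizer (X' : Set G) ≤
      L ⊓ Subgroup.centralizer (P : Set G) := le_inf (inf_le_right.trans hNX') inf_le_left
  -- elements of order `t` of `C_L(P)` centralize `D'`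
  have hcent : ∀ g ∈ L ⊓ Subgroup.centralizer (P : Set G), orderOf g = t →
      g ∈ Subgroup.centralizer
        ((Cfsg.sigmaCore L ⊓ Subgroup.centralizer (P : Set G) : Subgroup G) : Set G) := by
    rintro g ⟨hgL, hgC⟩ hgo
    have hZcard : Nat.card ↥(Subgroup.zpowers g) = t := by rw [Nat.card_zpowers, hgo]
    have hZL : Subgroup.zpowers g ≤ L := by rw [Subgroup.zpowers_le]; exact hgL
    have hZC : Subgroup.zpowers g ≤ Subgroup.centralizer (P : Set G) := by
      rw [Subgroup.zpowers_le]; exact hgC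
    have hZN : Subgroup.zpowers g ≤ Subgroup.normalizer (P : Set G) :=
      hZC.trans (Subgroup.centralizer_le_normalizer _)
    have hsupL : Subgroup.zpowers g ⊔ P ≤ L := sup_le hZL hPL
    have hsupσ : ∀ r : ℕ, r.Prime → r ∣ Nat.card ↥(Subgroup.zpowers g ⊔ P) →
        r ∉ Cfsg.sigma L := by
      intro r hr hrd
      have h1 := hrd.trans (Cfsg.Agent.Helper22.card_sup_dvd_of_le_normalizer _ _ hZN)
      rw [hZcard, hPcard] at h1
      rcases (Nat.Prime.dvd_mul hr).1 h1 with h | h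
      · rw [(Nat.prime_dvd_prime_iff_eq hr ht).1 h]; exact htL
      · rw [(Nat.prime_dvd_prime_iff_eq hr hpp).1 h]; exact hpL.2.1
    obtain ⟨E'', hE'', hsupE⟩ :=
      Cfsg.Agent.Helper71.BGHall.exists_isComplIn_sigmaCore_ge hG hU hL hsupL hsupσ
    have h28 := Cfsg.Agent.S1428.result hG L hL E'' hE'' p hpL P (le_sup_right.trans hsupE)
      hPcard (Subgroup.zpowers g) (le_inf (le_sup_left.trans hsupE) hZC)
      (by rw [hZcard]; exact ht)
    rw [Subgroup.mem_centralizer_iff]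
    intro d hd
    have hdC : d ∈ Subgroup.centralizer ((Subgroup.zpowers g : Subgroup G) : Set G) :=
      (h28 hd).2
    exact (Subgroup.mem_centralizer_iff.1 hdC g (Subgroup.mem_zpowers g)).symm
  -- Lemma J
  obtain ⟨X'', hX''N, hX''⟩ := Cfsg.Agent.Helper60.BG14J.lemma_J
    (Subgroup.centralizer (P : Set G)) ht ht' hne hcyc hcyc' Xt X'
    (Cfsg.sigmaCore L ⊓ Subgroup.centralizer (P : Set G))
    (M ⊓ Subgroup.centralizer (P : Set G)) (L ⊓ Subgroup.centralizer (P : Set G))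
    (hXtD.trans inf_le_right) hXt hX'D inf_le_right hX' hN hN' hcent
  -- `t'` divides `|C_E(P)|`
  have hcompl := isComplIn_centralizer_fc hEcompl (le_normalizer_sigmaCore M) hPE
  have hcardmul := Cfsg.Agent.Helper68.BG12.card_mul_card_of_isComplIn hcompl
  have ht'MC : t' ∣ Nat.card ↥(M ⊓ Subgroup.centralizer (P : Set G)) := by
    rw [← hX'']; exact Subgroup.card_dvd_of_le hX''N
  have ht'nD : ¬ t' ∣ Nat.card ↥(Cfsg.sigmaCore M ⊓ Subgroup.centralizer (P : Set G)) := by
    intro h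
    exact ht'M (primes_sigmaCore M t' ht' (h.trans (Subgroup.card_dvd_of_le inf_le_left)))
  have ht'E : t' ∣ Nat.card ↥(E ⊓ Subgroup.centralizer (P : Set G)) := by
    rw [← hcardmul] at ht'MC
    exact ((Nat.Prime.dvd_mul ht').1 ht'MC).resolve_right ht'nD
  obtain ⟨R, hRE, hR⟩ := exists_le_card_eq_prime_fc ht' ht'E
  have hτ := hL1 R (hRE.trans inf_le_left) (hRE.trans inf_le_right) (by rw [hR]; exact ht')
  rw [hR] at hτ
  exact hτ.2.1 ht'σ

end Cfsg.Agent.Helper49.BG14
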