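import Mathlib

/-!
# Helper49: piece (KD) `sup_parts` of WANTED #11739 for helper58 / S0508 (Brauer–Suzuki–Wall, dihedral form)

`K = O ⊔ C`, `O` of odd order, `C` a cyclic 2-group through the involution `t`, `O` and `C` commuting elementwise.
-/

set_option autoImplicit false
set_option linter.unusedSectionVars false

namespace Cfsg.Agent.Helper49.BSWD

open Subgroup

section K

variable {G : Type*} [Group G] [Finite G] (O C : Subgroup G) (t s : G)

/-- elements of `O ⊔ C` are products -/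
theorem kd_mem_sup (hcomm : ∀ o ∈ O, ∀ c ∈ C, o * c = c * o) (x : G) (hx : x ∈ O ⊔ C) :
    ∃ o ∈ O, ∃ c ∈ C, x = o * c := by
  let H : Subgroup G :=
    { carrier := {x | ∃ o ∈ O, ∃ c ∈ C, x = o * c}
      one_mem' := ⟨1, one_mem O, 1, one_mem C, by rw [mul_one]⟩
      mul_mem' := by
        rintro a b ⟨o, ho, c, hc, rfl⟩ ⟨o', ho', c', hc', rfl⟩
        refine ⟨o * o', mul_mem ho ho', c * c', mul_mem hc hc', ?_⟩
        have h1 := hcomm o' ho' c hc
        calc o * c * (o' * c') = o * (c * o') * c' := by group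
          _ = o * (o' * c) * c' := by rw [h1]
          _ = o * o' * (c * c') := by group
      inv_mem' := by
        rintro a ⟨o, ho, c, hc, rfl⟩
        refine ⟨o⁻¹, inv_mem ho, c⁻¹, inv_mem hc, ?_⟩
        have h1 := hcomm o ho c hc
        rw [mul_inv_rev]
        have h2 : c⁻¹ * o⁻¹ = (o * c)⁻¹ := by group
        have h3 : o⁻¹ * c⁻¹ = (c * o)⁻¹ := by group
        rw [h2, h3, h1] }
  have hO : O ≤ H := fun o ho => ⟨o, ho, 1, one_mem C, by rw [mul_one]⟩
  have hC : C ≤ H := fun c hc => ⟨1, one_mem O, c, hc, by rw [one_mul]⟩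
  exact (sup_le hO hC) hx

/-- an element of `O` that lies in `C` is trivial -/
theorem kd_eq_one_of_mem (hO : Odd (Nat.card ↥O)) (hC2 : IsPGroup 2 ↥C) (y : G) (hyO : y ∈ O) (hyC : y ∈ C) :
    y = 1 := by
  have h1 : y ^ Nat.card ↥O = 1 := by
    have := pow_card_eq_one' (G := ↥O) (x := ⟨y, hyO⟩)
    exact congrArg Subtype.val this
  obtain ⟨k, hk⟩ := hC2 ⟨y, hyC⟩
  have h2 : y ^ 2 ^ k = 1 := congrArg Subtype.val hk
  have hcop : Nat.Coprime (Nat.card ↥O) (2 ^ k) :=
    Nat.Coprime.pow_right k (Nat.coprime_two_right.mpr hO)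
  have h3 : orderOf y ∣ Nat.gcd (Nat.card ↥O) (2 ^ k) :=
    Nat.dvd_gcd (orderOf_dvd_of_pow_eq_one h1) (orderOf_dvd_of_pow_eq_one h2)
  rw [hcop.gcd_eq_one, Nat.dvd_one] at h3
  exact orderOf_eq_one_iff.mp h3

/-- the elements of `C` with trivial square are `1` and `t` -/
theorem kd_sq_eq_one_C (hC : IsCyclic ↥C) (ht : orderOf t = 2) (htC : t ∈ C) (c : G) (hc : c ∈ C)
    (hcc : c * c = 1) : c = 1 ∨ c = t := by
  classical
  have : Fintype ↥C := Fintype.ofFinite _
  by_contra hne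
  push Not at hne
  have ht1 : t ≠ 1 := by
    intro h
    rw [h, orderOf_one] at ht
    norm_num at ht
  have htt : t * t = 1 := by
    have := pow_orderOf_eq_one t
    rwa [ht, pow_two] at this
  have hle := IsCyclic.card_pow_eq_one_le (α := ↥C) (n := 2) (by norm_num)
  have hsub : ({(1 : ↥C), ⟨t, htC⟩, ⟨c, hc⟩} : Finset ↥C) ⊆
      Finset.univ.filter (fun a : ↥C => a ^ 2 = 1) := by
    intro a ha
    simp only [Finset.mem_insert, Finset.mem_singleton] at ha
    simp only [Finset.mem_filter, Finset.mem_univ, true_and]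
    rcases ha with rfl | rfl | rfl
    · exact one_pow 2
    · exact Subtype.ext (by rw [Subgroup.coe_pow, pow_two]; exact htt)
    · exact Subtype.ext (by rw [Subgroup.coe_pow, pow_two]; exact hcc)
  have hcard : ({(1 : ↥C), ⟨t, htC⟩, ⟨c, hc⟩} : Finset ↥C).card = 3 := by
    rw [Finset.card_insert_of_notMem, Finset.card_insert_of_notMem, Finset.card_singleton]
    · simp only [Finset.mem_singleton]
      intro h
      exact hne.2 (congrArg Subtype.val h).symm
    · simp only [Finset.mem_insert, Finset.mem_singleton]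
      rintro (h | h)
      · exact ht1 (congrArg Subtype.val h).symm
      · exact hne.1 (congrArg Subtype.val h).symm
  have := Finset.card_le_card hsub
  omega

/-- (KD) -/
theorem sup_parts (hcomm : ∀ o ∈ O, ∀ c ∈ C, o * c = c * o) (hO : Odd (Nat.card ↥O))
    (hC2 : IsPGroup 2 ↥C) (hC : IsCyclic ↥C) (ht : orderOf t = 2) (htC : t ∈ C) :
    (∀ x ∈ O ⊔ C, orderOf x = 2 → x = t) ∧ (∀ x ∈ O ⊔ C, Odd (orderOf x) → x ∈ O) ∧
      (∀ x ∈ O ⊔ C, x * x = 1 → x = 1 ∨ x = t) := by
  have h3 : ∀ x ∈ O ⊔ C, x * x = 1 → x = 1 ∨ x = t := by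
    intro x hx hxx
    obtain ⟨o, ho, c, hc, rfl⟩ := kd_mem_sup O C hcomm x hx
    have h1 := hcomm o ho c hc
    have h2 : (o * o) * (c * c) = 1 := by
      calc (o * o) * (c * c) = o * (o * c) * c := by group
        _ = o * (c * o) * c := by rw [h1]
        _ = (o * c) * (o * c) := by group
        _ = 1 := hxx
    have h4 : o * o = (c * c)⁻¹ := eq_inv_of_mul_eq_one_left h2
    have h5 : o * o = 1 :=
      kd_eq_one_of_mem O C hO hC2 (o * o) (mul_mem ho ho) (by rw [h4]; exact inv_mem (mul_mem hc hc))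
    have h6 : o = 1 := by
      have hn : o ^ Nat.card ↥O = 1 := by
        have := pow_card_eq_one' (G := ↥O) (x := ⟨o, ho⟩)
        exact congrArg Subtype.val this
      have h7 : orderOf o ∣ 2 := orderOf_dvd_of_pow_eq_one (by rw [pow_two]; exact h5)
      have h8 : orderOf o ∣ Nat.card ↥O := orderOf_dvd_of_pow_eq_one hn
      have h9 : orderOf o ∣ Nat.gcd 2 (Nat.card ↥O) := Nat.dvd_gcd h7 h8
      have hcop : Nat.Coprime 2 (Nat.card ↥O) := (Nat.coprime_two_left).mpr hO
      rw [hcop.gcd_eq_one, Nat.dvd_one] at h9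
      exact orderOf_eq_one_iff.mp h9
    subst h6
    rw [one_mul] at hxx ⊢
    exact kd_sq_eq_one_C C t hC ht htC c hc hxx
  refine ⟨?_, ?_, h3⟩
  · intro x hx hx2
    have hxx : x * x = 1 := by
      have := pow_orderOf_eq_one x
      rwa [hx2, pow_two] at this
    rcases h3 x hx hxx with h | h
    · rw [h, orderOf_one] at hx2
      norm_num at hx2
    · exact h
  · intro x hx hodd
    obtain ⟨o, ho, c, hc, rfl⟩ := kd_mem_sup O C hcomm x hx
    have hcm : Commute o c := hcomm o ho c hc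
    set d := orderOf (o * c) with hd
    have h1 : o ^ d * c ^ d = 1 := by
      rw [← hcm.mul_pow, hd, pow_orderOf_eq_one]
    have h2 : c ^ d = (o ^ d)⁻¹ := eq_inv_of_mul_eq_one_right h1
    have h4 : c ^ d = 1 :=
      kd_eq_one_of_mem O C hO hC2 (c ^ d) (by rw [h2]; exact inv_mem (pow_mem ho d)) (pow_mem hc d)
    obtain ⟨k, hk⟩ := hC2 ⟨c, hc⟩
    have h5 : c ^ 2 ^ k = 1 := congrArg Subtype.val hk
    have h6 : orderOf c ∣ Nat.gcd d (2 ^ k) :=
      Nat.dvd_gcd (orderOf_dvd_of_pow_eq_one h4) (orderOf_dvd_of_pow_eq_one h5)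
    have hcop : Nat.Coprime d (2 ^ k) := Nat.Coprime.pow_right k (Nat.coprime_two_right.mpr hodd)
    rw [hcop.gcd_eq_one, Nat.dvd_one] at h6
    have h7 : c = 1 := orderOf_eq_one_iff.mp h6
    rw [h7, mul_one]
    exact ho

end K

end Cfsg.Agent.Helper49.BSWD
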