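import Mathlib
import Cfsg.Agent.Helper49.BSWDKD

/-!
# Helper49: piece (KE) `sup_inf_centralizer` of WANTED #11739 for helper58 / S0508
-/

set_option autoImplicit false
set_option linter.unusedSectionVars false

namespace Cfsg.Agent.Helper49.BSWD

open Subgroup

section K

variable {G : Type*} [Group G] [Finite G] (O C : Subgroup G) (t s : G)

/-- `s` inverts `O ⊔ C` -/
theorem ke_sup_inverted (hcomm : ∀ o ∈ O, ∀ c ∈ C, o * c = c * o)
    (hsO : ∀ o ∈ O, s * o * s⁻¹ = o⁻¹) (hsC : ∀ c ∈ C, s * c * s⁻¹ = c⁻¹) :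
    ∀ x ∈ O ⊔ C, s * x * s⁻¹ = x⁻¹ := by
  intro x hx
  obtain ⟨o, ho, c, hc, rfl⟩ := kd_mem_sup O C hcomm x hx
  have h1 := hcomm o ho c hc
  calc s * (o * c) * s⁻¹ = (s * o * s⁻¹) * (s * c * s⁻¹) := by group
    _ = o⁻¹ * c⁻¹ := by rw [hsO o ho, hsC c hc]
    _ = (c * o)⁻¹ := by group
    _ = (o * c)⁻¹ := by rw [h1]

/-- (KE) -/
theorem sup_inf_centralizer (hcomm : ∀ o ∈ O, ∀ c ∈ C, o * c = c * o) (hO : Odd (Nat.card ↥O))
    (hC2 : IsPGroup 2 ↥C) (hC : IsCyclic ↥C) (ht : orderOf t = 2) (htC : t ∈ C)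
    (hst : s * t = t * s) (hs : orderOf s = 2) (hsnC : s ∉ C)
    (hsO : ∀ o ∈ O, s * o * s⁻¹ = o⁻¹) (hsC : ∀ c ∈ C, s * c * s⁻¹ = c⁻¹) :
    (O ⊔ C) ⊓ centralizer ({s} : Set G) = zpowers t ∧ s ∉ O ⊔ C := by
  obtain ⟨-, -, h3⟩ := sup_parts O C t hcomm hO hC2 hC ht htC
  have hinv := ke_sup_inverted O C s hcomm hsO hsC
  have htK : t ∈ O ⊔ C := (le_sup_right : C ≤ O ⊔ C) htC
  constructor
  · apply le_antisymm
    · intro x hx
      obtain ⟨hxK, hxs⟩ := Subgroup.mem_inf.mp hx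
      rw [Subgroup.mem_centralizer_singleton_iff] at hxs
      have h1 : s * x * s⁻¹ = x := by rw [← hxs]; group
      have h2 : x = x⁻¹ := by rw [← hinv x hxK]; exact h1.symm
      have h4 : x * x = 1 := by
        calc x * x = x⁻¹ * x := by rw [← h2]
          _ = 1 := inv_mul_cancel x
      rcases h3 x hxK h4 with h | h
      · rw [h]; exact one_mem _
      · rw [h]; exact Subgroup.mem_zpowers t
    · rw [Subgroup.zpowers_le]
      refine Subgroup.mem_inf.mpr ⟨htK, ?_⟩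
      rw [Subgroup.mem_centralizer_singleton_iff]
      exact hst.symm
  · intro hsK
    have hss : s * s = 1 := by
      have := pow_orderOf_eq_one s
      rwa [hs, pow_two] at this
    rcases h3 s hsK hss with h | h
    · rw [h, orderOf_one] at hs
      norm_num at hs
    · exact hsnC (by rw [h]; exact htC)

end K

end Cfsg.Agent.Helper49.BSWD
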