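/-
helper49: piece (BI2) `beta_caseI_concl` of helper77's farm for S3888 (#13307).
Case I, conclusion: the chain data force `p = 3` and `C_C(x) ≤ E`.
-/
import Mathlib
import Cfsg.Agent.Helper77.Blk.Defs

set_option autoImplicit false
set_option linter.unusedSectionVars false
set_option linter.unusedVariables false

universe u

namespace Cfsg.Agent.Helper49.Blk

open Subgroup Cfsg.Agent.Helper77.Blk

/-- conjugation by `x` commutes with natural powers -/
theorem bi2_conj_pow {G : Type u} [Group G] (x t : G) (k : ℕ) :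
    x⁻¹ * t ^ k * x = (x⁻¹ * t * x) ^ k := by
  have h := conj_pow (a := x⁻¹) (b := t) (i := k)
  rw [inv_inv] at h
  exact h.symm

/-- conjugation by `x` commutes with integer powers -/
theorem bi2_conj_zpow {G : Type u} [Group G] (x t : G) (k : ℤ) :
    x⁻¹ * t ^ k * x = (x⁻¹ * t * x) ^ k := by
  have h := conj_zpow (a := x⁻¹) (b := t) (i := k)
  rw [inv_inv] at h
  exact h.symm

section beta
variable {G : Type u} [Group G] [Finite G] {p : ℕ} [hp : Fact p.Prime]

/-- (BI2) Case I, conclusion: the chain data force `p = 3` and `C_C(x) ≤ E`. -/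
theorem beta_caseI_concl (hp2 : p ≠ 2) (hG : IsPGroup p G) (E : Subgroup G) [E.Normal]
    (hEcard : Nat.card E = p ^ 2) (hEexp : ∀ e ∈ E, e ^ p = 1)
    (hCE : ∀ c ∈ centralizer (E : Set G), c ^ p = 1 → c ∈ E)
    (hK2 : PropK2.{u} p)
    (x : G) (hxC : x ∉ centralizer (E : Set G))
    (e1 u1 f g : G) (he1 : e1 ∈ E) (he1n : e1 ≠ 1) (he1x : x⁻¹ * e1 * x = e1)
    (hfix : ∀ e ∈ E, x⁻¹ * e * x = e → e ∈ zpowers e1)
    (hcomm : ∀ e ∈ E, e⁻¹ * (x⁻¹ * e * x) ∈ zpowers e1)
    (hu1 : u1 ∈ centralizer (E : Set G)) (hu1p : u1 ^ p = e1) (hf : f ∈ E)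
    (hu1x : x⁻¹ * u1 * x = u1 * f) (hg : g ∈ zpowers e1) (hfx : x⁻¹ * f * x = f * g)
    (hrel : e1 * g ^ (p.choose 3) = 1) :
    p = 3 ∧ ∀ w ∈ centralizer (E : Set G), x⁻¹ * w * x = w → w ∈ E := by
  have hpp : p.Prime := hp.out
  have hgE : g ∈ E := (zpowers_le.mpr he1) hg
  have hp3 : p = 3 := by
    by_contra h3
    have h5 : 3 < p := by
      have := hpp.two_le
      omega
    obtain ⟨c, hc⟩ := hpp.dvd_choose_self (by norm_num : (3 : ℕ) ≠ 0) h5
    rw [hc, pow_mul, hEexp g hgE, one_pow, mul_one] at hrel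
    exact he1n hrel
  subst hp3
  refine ⟨rfl, ?_⟩
  rw [Nat.choose_self, pow_one] at hrel
  -- elements of `⟨e1⟩` are fixed by `x`
  have hzfix : ∀ t ∈ zpowers e1, x⁻¹ * t * x = t := by
    rintro t ⟨i, rfl⟩
    change x⁻¹ * e1 ^ i * x = e1 ^ i
    rw [bi2_conj_zpow, he1x]
  -- `E` commutes with `C`
  have hEC : ∀ e ∈ E, ∀ c ∈ centralizer (E : Set G), e * c = c * e :=
    fun e he c hc => (mem_centralizer_iff.mp hc) e he
  have hord : orderOf e1 = 3 := orderOf_eq_prime (hEexp e1 he1) he1n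
  -- `C` is `3`-central
  have hPC : PCentral 3 ↥(centralizer (E : Set G)) := by
    intro c hc
    rw [Subgroup.mem_center_iff]
    intro d
    have hc' : (c : G) ^ 3 = 1 := by
      have := congrArg Subtype.val hc
      simpa using this
    have hcE : (c : G) ∈ E := hCE c c.2 hc'
    apply Subtype.ext
    exact (hEC (c : G) hcE (d : G) d.2).symm
  -- the core: a fixed element of `C` of order dividing `9` has order dividing `3`
  have core : ∀ w ∈ centralizer (E : Set G), x⁻¹ * w * x = w → w ^ 9 = 1 → w ^ 3 = 1 := by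
    intro w hw hwx hw9
    by_contra hw3
    have htC : w ^ 3 ∈ centralizer (E : Set G) := pow_mem hw 3
    have ht3 : (w ^ 3) ^ 3 = 1 := by rw [← pow_mul]; exact hw9
    have htE : w ^ 3 ∈ E := hCE _ htC ht3
    have htx : x⁻¹ * w ^ 3 * x = w ^ 3 := by rw [bi2_conj_pow, hwx]
    obtain ⟨i, hi⟩ := hfix _ htE htx
    have hi' : e1 ^ i = w ^ 3 := hi
    obtain ⟨v, hvC, hvx, hv3⟩ : ∃ v ∈ centralizer (E : Set G), x⁻¹ * v * x = v ∧ v ^ 3 = e1 := by
      have hmod : e1 ^ (i % 3) = w ^ 3 := by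
        rw [← hi']
        have := zpow_mod_orderOf e1 i
        rw [hord] at this
        exact_mod_cast this
      have h012 : i % 3 = 0 ∨ i % 3 = 1 ∨ i % 3 = 2 := by omega
      rcases h012 with h | h | h
      · rw [h, zpow_zero] at hmod
        exact absurd hmod.symm hw3
      · rw [h, zpow_one] at hmod
        exact ⟨w, hw, hwx, hmod.symm⟩
      · refine ⟨w⁻¹, inv_mem hw, ?_, ?_⟩
        · have : x⁻¹ * w⁻¹ * x = (x⁻¹ * w * x)⁻¹ := by group
          rw [this, hwx]
        · rw [inv_pow, ← hmod, h]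
          have h3 : e1 ^ 3 = 1 := hEexp e1 he1
          have h2 : e1 ^ (2 : ℤ) * e1 = 1 := by
            have : e1 ^ (2 : ℤ) * e1 = e1 ^ 3 := by
              rw [zpow_ofNat, ← pow_succ]
            rw [this, h3]
          exact inv_eq_of_mul_eq_one_right h2
    -- (K2) in `C`
    have hk := hK2 ↥(centralizer (E : Set G)) (hG.to_subgroup _) hPC ⟨u1, hu1⟩ ⟨v⁻¹, inv_mem hvC⟩
      (by
        apply Subtype.ext
        change (u1 ^ 3) ^ 3 = 1
        rw [hu1p]
        exact hEexp e1 he1)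
      (by
        apply Subtype.ext
        change ((v⁻¹) ^ 3) ^ 3 = 1
        rw [inv_pow, hv3, inv_pow, hEexp e1 he1, inv_one])
    have hk' : (u1 * v⁻¹) ^ 3 = u1 ^ 3 * (v⁻¹) ^ 3 := congrArg Subtype.val hk
    have he3 : (u1 * v⁻¹) ^ 3 = 1 := by
      rw [hk', hu1p, inv_pow, hv3, mul_inv_cancel]
    have heC : u1 * v⁻¹ ∈ centralizer (E : Set G) := mul_mem hu1 (inv_mem hvC)
    have heE : u1 * v⁻¹ ∈ E := hCE _ heC he3
    have hconj : x⁻¹ * (u1 * v⁻¹) * x = u1 * v⁻¹ * f := by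
      have h1 : x⁻¹ * (u1 * v⁻¹) * x = (x⁻¹ * u1 * x) * (x⁻¹ * v * x)⁻¹ := by group
      rw [h1, hu1x, hvx, mul_assoc, mul_assoc, hEC f hf v⁻¹ (inv_mem hvC)]
    have hfz : f ∈ zpowers e1 := by
      have := hcomm _ heE
      rw [hconj, ← mul_assoc, inv_mul_cancel, one_mul] at this
      exact this
    have hffix := hzfix f hfz
    rw [hfx] at hffix
    have hg1 : g = 1 := by
      have : f * g = f * 1 := by rw [hffix, mul_one]
      exact mul_left_cancel this
    rw [hg1, mul_one] at hrel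
    exact he1n hrel
  -- all exponents
  have key : ∀ k : ℕ, ∀ w ∈ centralizer (E : Set G), x⁻¹ * w * x = w → w ^ 3 ^ (k + 1) = 1 →
      w ^ 3 = 1 := by
    intro k
    induction k with
    | zero =>
      intro w _ _ h
      simpa using h
    | succ k ih =>
      intro w hw hwx h
      have h3 : (w ^ 3) ^ 3 ^ (k + 1) = 1 := by
        rw [← pow_mul, ← pow_succ']
        exact h
      have h9 := ih (w ^ 3) (pow_mem hw 3) (by rw [bi2_conj_pow, hwx]) h3
      apply core w hw hwx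
      rw [← h9, ← pow_mul]
  intro w hw hwx
  obtain ⟨k, hk⟩ := hG w
  apply hCE w hw
  apply key k w hw hwx
  rw [pow_succ, pow_mul, hk, one_pow]

end beta

end Cfsg.Agent.Helper49.Blk
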