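import Cfsg.Agent.Helper39.C320.Defs

/-!
# (A13) of #10066 for helper39 (S1903): generation of the group of order 320 by `x` and any
`a ∈ P \ Z`.
-/

set_option autoImplicit false

namespace Cfsg.Agent.Helper49.C320

open Cfsg.Agent.Helper39.C320
open scoped commutatorElement

/-- commutators are unchanged by central factors -/
theorem c320A13_commutator_central {G₀ : Type*} [Group G₀] (g k z w : G₀)
    (hz : ∀ t : G₀, t * z = z * t) (hw : ∀ t : G₀, t * w = w * t) :
    ⁅g * z, k * w⁆ = ⁅g, k⁆ := by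
  rw [commutatorElement_def, commutatorElement_def, mul_inv_rev, mul_inv_rev]
  have h1 : g * z * (k * w) * (z⁻¹ * g⁻¹) * (w⁻¹ * k⁻¹)
      = g * (z * (k * w)) * z⁻¹ * g⁻¹ * w⁻¹ * k⁻¹ := by group
  rw [h1, ← hz (k * w)]
  have h2 : g * (k * w * z) * z⁻¹ * g⁻¹ * w⁻¹ * k⁻¹ = g * k * (w * g⁻¹) * w⁻¹ * k⁻¹ := by group
  rw [h2, ← hw g⁻¹]
  group

variable {G : Type*} [Group G] [Finite G]
variable {P Z : Subgroup G} {x : G}

/-- (A13) generation -/
theorem Setup.closure_eq_top (h : Setup P Z x)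
    (hcen : ∀ z ∈ Z, ∀ g : G, g * z = z * g)
    (htop : ∀ K : Subgroup G, P ≤ K → x ∈ K → K = ⊤)
    (hinv : ∀ K : Subgroup G, Z ≤ K → K ≤ P → (∀ k ∈ K, x * k * x⁻¹ ∈ K) → K = Z ∨ K = P)
    (a : G) (haP : a ∈ P) (haZ : a ∉ Z) : Subgroup.closure {x, a} = ⊤ := by
  set H := Subgroup.closure ({x, a} : Set G) with hH
  have hxH : x ∈ H := Subgroup.subset_closure (by simp)
  have haH : a ∈ H := Subgroup.subset_closure (by simp)
  have hnP := h.normP
  have hZn : Z.Normal :=
    ⟨fun z hz g => by rw [hcen z hz g, mul_inv_cancel_right]; exact hz⟩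
  have hK : (H ⊓ P) ⊔ Z = Z ∨ (H ⊓ P) ⊔ Z = P := by
    apply hinv
    · exact le_sup_right
    · exact sup_le inf_le_right h.Z_le
    · have hle : (H ⊓ P) ⊔ Z ≤ ((H ⊓ P) ⊔ Z).comap (MulAut.conj x).toMonoidHom := by
        apply sup_le
        · intro k hk
          rw [Subgroup.mem_comap]
          apply Subgroup.mem_sup_left
          show x * k * x⁻¹ ∈ H ⊓ P
          exact ⟨H.mul_mem (H.mul_mem hxH hk.1) (H.inv_mem hxH), hnP.conj_mem k hk.2 x⟩
        · intro z hz
          rw [Subgroup.mem_comap]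
          apply Subgroup.mem_sup_right
          show x * z * x⁻¹ ∈ Z
          exact hZn.conj_mem z hz x
      intro k hk
      exact hle hk
  have hKP : (H ⊓ P) ⊔ Z = P := by
    rcases hK with hK | hK
    · exfalso
      apply haZ
      rw [← hK]
      exact Subgroup.mem_sup_left ⟨haH, haP⟩
    · exact hK
  have hHZ : H ⊔ Z = ⊤ := by
    apply htop
    · rw [← hKP]
      exact sup_le_sup_right inf_le_left Z
    · exact Subgroup.mem_sup_left hxH
  have hcomm : commutator G ≤ H := by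
    rw [commutator_def, Subgroup.commutator_le]
    intro g1 _ g2 _
    have h1 : g1 ∈ H ⊔ Z := by rw [hHZ]; exact Subgroup.mem_top _
    have h2 : g2 ∈ H ⊔ Z := by rw [hHZ]; exact Subgroup.mem_top _
    obtain ⟨h1', hh1, z1, hz1, rfl⟩ := Subgroup.mem_sup_of_normal_right.mp h1
    obtain ⟨h2', hh2, z2, hz2, rfl⟩ := Subgroup.mem_sup_of_normal_right.mp h2
    rw [c320A13_commutator_central h1' h2' z1 z2 (hcen z1 hz1) (hcen z2 hz2),
      commutatorElement_def]
    exact H.mul_mem (H.mul_mem (H.mul_mem hh1 hh2) (H.inv_mem hh1)) (H.inv_mem hh2)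
  have hPH : P ≤ H := by
    rw [← h.comm]
    exact hcomm
  exact htop H hPH hxH

end Cfsg.Agent.Helper49.C320
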