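import Cfsg.Agent.Helper77.ConvPow

/-!
# Convolution powers of an indicator function count tuples (helper49, for helper16's S0940,
WANTED #3535 KUL-B1)
-/

set_option autoImplicit false

namespace Cfsg.Agent.Helper49.ConvPowCount

open Cfsg Cfsg.Agent.Helper16

variable {G : Type*} [Group G] [Fintype G] [DecidableEq G]

/-- the number of `n`-tuples in `S` with product `g` -/
def cnt (S : Finset G) (n : ℕ) (g : G) : ℕ :=
  Fintype.card {v : Fin n → G // (∀ i, v i ∈ S) ∧ (List.ofFn v).prod = g}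

theorem cnt_eq (S : Finset G) (n : ℕ) (g : G) :
    cnt S n g = ∑ v : Fin n → G, if ((∀ i, v i ∈ S) ∧ (List.ofFn v).prod = g) then 1 else 0 := by
  unfold cnt
  rw [Fintype.card_subtype, Finset.card_filter]

theorem prod_snoc {n : ℕ} (w : Fin n → G) (y : G) :
    (List.ofFn (Fin.snoc w y : Fin (n + 1) → G)).prod = (List.ofFn w).prod * y := by
  rw [List.ofFn_succ', List.concat_eq_append, List.prod_append]
  simp

theorem forall_snoc (S : Finset G) {n : ℕ} (w : Fin n → G) (y : G) :
    (∀ i : Fin (n + 1), (Fin.snoc w y : Fin (n + 1) → G) i ∈ S) ↔ (∀ i, w i ∈ S) ∧ y ∈ S := by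
  rw [Fin.forall_fin_succ']
  simp

theorem cnt_zero (S : Finset G) (g : G) : cnt S 0 g = if g = 1 then 1 else 0 := by
  rw [cnt_eq]
  rw [Fintype.sum_eq_single (fun i : Fin 0 => i.elim0)]
  · simp [eq_comm]
  · intro v hv
    exact absurd (Subsingleton.elim _ _) hv

theorem cnt_succ (S : Finset G) (n : ℕ) (g : G) :
    cnt S (n + 1) g = ∑ x : G, if x⁻¹ * g ∈ S then cnt S n x else 0 := by
  rw [cnt_eq, ← (Fin.snocEquiv (fun _ : Fin (n + 1) => G)).sum_comp, Fintype.sum_prod_type,
    Finset.sum_comm]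
  have hR : ∑ x : G, (if x⁻¹ * g ∈ S then cnt S n x else 0) =
      ∑ w : Fin n → G, ∑ x : G,
        if x⁻¹ * g ∈ S then (if ((∀ i, w i ∈ S) ∧ (List.ofFn w).prod = x) then 1 else 0) else 0 := by
    rw [Finset.sum_comm]
    apply Finset.sum_congr rfl
    intro x _
    split_ifs with hx
    · rw [cnt_eq]
    · simp
  rw [hR]
  apply Finset.sum_congr rfl
  intro w _
  have hL : ∀ y : G, (if ((∀ i : Fin (n + 1),
        ((Fin.snocEquiv (fun _ : Fin (n + 1) => G)) (y, w)) i ∈ S) ∧
        (List.ofFn ((Fin.snocEquiv (fun _ : Fin (n + 1) => G)) (y, w))).prod = g) then 1 else 0) =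
      if (((∀ i, w i ∈ S) ∧ y ∈ S) ∧ (List.ofFn w).prod * y = g) then 1 else 0 := by
    intro y
    have e : (Fin.snocEquiv (fun _ : Fin (n + 1) => G)) (y, w) = (Fin.snoc w y : Fin (n + 1) → G) :=
      rfl
    rw [e]
    exact if_congr (by rw [forall_snoc, prod_snoc]) rfl rfl
  simp_rw [hL]
  rw [Finset.sum_eq_single ((List.ofFn w).prod⁻¹ * g), Finset.sum_eq_single ((List.ofFn w).prod)]
  · by_cases h1 : (List.ofFn w).prod⁻¹ * g ∈ S <;> by_cases h2 : ∀ i, w i ∈ S <;> simp [h1, h2]
  · intro x _ hx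
    have : ¬ ((∀ i, w i ∈ S) ∧ (List.ofFn w).prod = x) := fun h => hx h.2.symm
    simp [this]
  · intro h; exact absurd (Finset.mem_univ _) h
  · intro y _ hy
    have : ¬ (((∀ i, w i ∈ S) ∧ y ∈ S) ∧ (List.ofFn w).prod * y = g) := by
      intro h
      apply hy
      rw [← h.2]; group
    simp [this]
  · intro h; exact absurd (Finset.mem_univ _) h

/-- **(KUL-B1)** -/
theorem convPow_indicator_apply {G : Type*} [Group G] [Fintype G] [DecidableEq G] (S : Finset G)
    (n : ℕ) (g : G) :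
    Helper77.convPow (fun x : G => if x ∈ S then (1 : ℂ) else 0) n g =
      (Fintype.card {v : Fin n → G // (∀ i, v i ∈ S) ∧ (List.ofFn v).prod = g} : ℂ) := by
  change _ = ((cnt S n g : ℕ) : ℂ)
  induction n generalizing g with
  | zero =>
    rw [Helper77.convPow_zero, cnt_zero]
    unfold deltaOne
    by_cases hg : g = 1
    · simp [hg]
    · simp [hg]
  | succ n ih =>
    rw [Helper77.convPow_succ, conv_apply, cnt_succ, Nat.cast_sum]
    apply Finset.sum_congr rfl
    intro x _
    rw [ih x]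
    split_ifs with hx
    · rw [mul_one]
    · rw [mul_zero, Nat.cast_zero]

end Cfsg.Agent.Helper49.ConvPowCount
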