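import Mathlib
import Cfsg.Agent.Helper62.D8.Defs

/-!
Helper49: piece (G1a) of helper62's S3716 farm (#9665/#9843): `N_G(M) = M ⋊ S₀` with `S₀ ≅ D₈`
acting faithfully.
-/

set_option autoImplicit false

namespace Cfsg.Agent.Helper49.D8

open Cfsg Cfsg.Agent.Helper62.D8

universe u

section grp

variable {G : Type u} [Group G] [Finite G]

/-- an element of prime order `p ≥ 5` cannot normalize a self-centralizing group of order nine -/
theorem G1a_no_big_prime (M : Subgroup G) (hM9 : Nat.card ↥M = 9)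
    (hCM : Subgroup.centralizer (M : Set G) = M) (g : G)
    (hg : g ∈ Subgroup.normalizer (M : Set G)) (p : ℕ) (hp : p.Prime) (hp5 : 5 ≤ p)
    (hgp : orderOf g = p) : False := by
  have : Fact p.Prime := ⟨hp⟩
  obtain ⟨g', hg'⟩ : ∃ g' : ↥(Subgroup.normalizer (M : Set G)), (g' : G) = g := ⟨⟨g, hg⟩, rfl⟩
  have hZ : IsPGroup p (Subgroup.zpowers g') := by
    apply IsPGroup.of_card (n := 1)
    rw [Nat.card_zpowers, pow_one, ← hgp, ← hg', Subgroup.orderOf_coe]
  have hmod := hZ.card_modEq_card_fixedPoints ↥M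
  -- the fixed points form a subgroup
  let F : Subgroup ↥M :=
    { carrier := {m | g * (m : G) * g⁻¹ = m}
      one_mem' := by simp
      mul_mem' := by
        intro a b ha hb
        change g * (a : G) * g⁻¹ = a at ha; change g * (b : G) * g⁻¹ = b at hb; change g * ((a * b : ↥M) : G) * g⁻¹ = (a * b : ↥M)
        rw [Subgroup.coe_mul]
        calc g * ((a : G) * (b : G)) * g⁻¹ = (g * (a : G) * g⁻¹) * (g * (b : G) * g⁻¹) := by group
          _ = (a : G) * (b : G) := by rw [ha, hb]
      inv_mem' := by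
        intro a ha
        change g * (a : G) * g⁻¹ = a at ha; change g * ((a⁻¹ : ↥M) : G) * g⁻¹ = (a⁻¹ : ↥M)
        rw [Subgroup.coe_inv]
        calc g * (a : G)⁻¹ * g⁻¹ = (g * (a : G) * g⁻¹)⁻¹ := by group
          _ = (a : G)⁻¹ := by rw [ha] }
  have hFmem : ∀ m : ↥M, m ∈ F ↔ g * (m : G) * g⁻¹ = m := fun m => Iff.rfl
  have hfix : MulAction.fixedPoints ↥(Subgroup.zpowers g') ↥M = (F : Set ↥M) := by
    ext m
    rw [MulAction.mem_fixedPoints, SetLike.mem_coe, hFmem]
    constructor
    · intro h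
      have h1 := h ⟨g', Subgroup.mem_zpowers g'⟩
      have h2 : g' • m = m := h1
      have h3 := congrArg Subtype.val h2
      rw [← hg']
      exact h3
    · intro h z
      have hstab : g' ∈ MulAction.stabilizer ↥(Subgroup.normalizer (M : Set G)) m := by
        rw [MulAction.mem_stabilizer_iff]
        apply Subtype.ext
        show (g' : G) * (m : G) * (g' : G)⁻¹ = m
        rw [hg']; exact h
      have hle := Subgroup.zpowers_le.mpr hstab
      have := hle z.2
      rw [MulAction.mem_stabilizer_iff] at this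
      exact this
  have hcardF : Nat.card ↥(MulAction.fixedPoints ↥(Subgroup.zpowers g') ↥M) = Nat.card ↥F := by
    rw [hfix]; rfl
  rw [hcardF, hM9] at hmod
  have hFdvd : Nat.card ↥F ∣ 9 := by
    rw [← hM9]; exact Subgroup.card_subgroup_dvd_card F
  have hFle : Nat.card ↥F ≤ 9 := Nat.le_of_dvd (by norm_num) hFdvd
  have hFpos : 0 < Nat.card ↥F := Nat.card_pos
  have hcases : Nat.card ↥F = 1 ∨ Nat.card ↥F = 3 ∨ Nat.card ↥F = 9 := by
    generalize Nat.card ↥F = c at hFdvd hFle hFpos
    interval_cases c <;> omega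
  rcases hcases with h | h | h
  · rw [h] at hmod
    have hd : p ∣ 9 - 1 := (Nat.modEq_iff_dvd' (by norm_num)).mp hmod.symm
    have hle : p ≤ 8 := Nat.le_of_dvd (by norm_num) hd
    interval_cases p <;> first | omega | exact absurd hp (by norm_num)
  · rw [h] at hmod
    have hd : p ∣ 9 - 3 := (Nat.modEq_iff_dvd' (by norm_num)).mp hmod.symm
    have hle : p ≤ 6 := Nat.le_of_dvd (by norm_num) hd
    interval_cases p
    · omega
    · exact absurd hp (by norm_num)
  · have hFtop : F = ⊤ := Subgroup.eq_top_of_card_eq F (by rw [h, hM9])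
    have hgC : g ∈ Subgroup.centralizer (M : Set G) := by
      rw [Subgroup.mem_centralizer_iff]
      intro m hm
      have hmF : (⟨m, hm⟩ : ↥M) ∈ F := by rw [hFtop]; exact Subgroup.mem_top _
      have h1 : g * m * g⁻¹ = m := (hFmem ⟨m, hm⟩).mp hmF
      calc m * g = (g * m * g⁻¹) * g := by rw [h1]
        _ = g * m := by group
    rw [hCM] at hgC
    have hd : orderOf g ∣ 9 := by
      rw [← hM9]; exact Subgroup.orderOf_dvd_natCard _ hgC
    rw [hgp] at hd
    have hle : p ≤ 9 := Nat.le_of_dvd (by norm_num) hd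
    interval_cases p
    · omega
    · omega
    · omega
    · omega
    · exact absurd hp (by norm_num)

/-- `|N_G(M)| = 72` -/
theorem G1a_card_normalizer (M : Sylow 3 G) (hM9 : Nat.card ↥(M : Subgroup G) = 9)
    (hCM : Subgroup.centralizer ((M : Subgroup G) : Set G) = (M : Subgroup G))
    (S : Sylow 2 ↥(Subgroup.normalizer ((M : Subgroup G) : Set G)))
    (hS8 : Nat.card ↥(S : Subgroup ↥(Subgroup.normalizer ((M : Subgroup G) : Set G))) = 8) :
    Nat.card ↥(Subgroup.normalizer ((M : Subgroup G) : Set G)) = 72 := by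
  have h9 : 9 ∣ Nat.card ↥(Subgroup.normalizer ((M : Subgroup G) : Set G)) := by
    rw [← hM9]; exact Subgroup.card_dvd_of_le Subgroup.le_normalizer
  have h8 : 8 ∣ Nat.card ↥(Subgroup.normalizer ((M : Subgroup G) : Set G)) := by
    rw [← hS8]; exact Subgroup.card_subgroup_dvd_card _
  have h27 : ¬ 27 ∣ Nat.card ↥(Subgroup.normalizer ((M : Subgroup G) : Set G)) := by
    intro h
    have h1 : 27 ∣ Nat.card G := h.trans (Subgroup.card_subgroup_dvd_card _)
    have h2 := (M : Subgroup G).card_mul_index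
    rw [hM9] at h2
    have h3 : ¬ 3 ∣ (M : Subgroup G).index := M.not_dvd_index
    rw [← h2] at h1
    have h4 : 9 * 3 ∣ 9 * (M : Subgroup G).index := h1
    exact h3 (Nat.dvd_of_mul_dvd_mul_left (by norm_num) h4)
  have h16 : ¬ 16 ∣ Nat.card ↥(Subgroup.normalizer ((M : Subgroup G) : Set G)) := by
    intro h1
    have h2 := (S : Subgroup ↥(Subgroup.normalizer ((M : Subgroup G) : Set G))).card_mul_index
    rw [hS8] at h2
    have h3 : ¬ 2 ∣ (S : Subgroup ↥(Subgroup.normalizer ((M : Subgroup G) : Set G))).index :=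
      S.not_dvd_index
    rw [← h2] at h1
    have h4 : 8 * 2 ∣ 8 * (S : Subgroup ↥(Subgroup.normalizer ((M : Subgroup G) : Set G))).index := h1
    exact h3 (Nat.dvd_of_mul_dvd_mul_left (by norm_num) h4)
  have hbig : ∀ p : ℕ, p.Prime → 5 ≤ p →
      ¬ p ∣ Nat.card ↥(Subgroup.normalizer ((M : Subgroup G) : Set G)) := by
    intro p hp hp5 hd
    have : Fact p.Prime := ⟨hp⟩
    obtain ⟨g, hg⟩ := exists_prime_orderOf_dvd_card'
      (G := ↥(Subgroup.normalizer ((M : Subgroup G) : Set G))) p hd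
    exact G1a_no_big_prime (M : Subgroup G) hM9 hCM (g : G) g.2 p hp hp5
      (by rw [Subgroup.orderOf_coe]; exact hg)
  have h72 : 8 * 9 ∣ Nat.card ↥(Subgroup.normalizer ((M : Subgroup G) : Set G)) :=
    Nat.Coprime.mul_dvd_of_dvd_of_dvd (by norm_num) h8 h9
  obtain ⟨c, hc⟩ := h72
  have hpos : 0 < Nat.card ↥(Subgroup.normalizer ((M : Subgroup G) : Set G)) := Nat.card_pos
  by_contra hne
  have hc1 : c ≠ 1 := by
    intro h
    apply hne
    rw [hc, h]
  obtain ⟨p, hp, hpc⟩ := Nat.exists_prime_and_dvd hc1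
  have hpN : p ∣ Nat.card ↥(Subgroup.normalizer ((M : Subgroup G) : Set G)) := by
    rw [hc]; exact Dvd.dvd.mul_left hpc _
  rcases lt_or_ge p 5 with h | h
  · have h23 : p = 2 ∨ p = 3 := by
      have h2 := hp.two_le
      interval_cases p
      · left; rfl
      · right; rfl
      · exact absurd hp (by norm_num)
    obtain ⟨d, rfl⟩ := hpc
    rcases h23 with rfl | rfl
    · apply h16
      rw [hc]
      exact ⟨9 * d, by ring⟩
    · apply h27
      rw [hc]
      exact ⟨8 * d, by ring⟩
  · exact hbig p hp h hpN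

/-- (G1a) `N_G(M) = M ⋊ S₀` with `S₀ ≅ D₈` acting faithfully. -/
theorem exists_complement8 (M : Sylow 3 G) (hM9 : Nat.card ↥(M : Subgroup G) = 9)
    (hCM : Subgroup.centralizer ((M : Subgroup G) : Set G) = (M : Subgroup G))
    (N : Subgroup G) (hN : N = Subgroup.normalizer ((M : Subgroup G) : Set G))
    (hS : ∀ S : Sylow 2 ↥N, Nonempty (↥(S : Subgroup ↥N) ≃* DihedralGroup 4)) :
    ∃ S₀ : Subgroup G, S₀ ≤ Subgroup.normalizer ((M : Subgroup G) : Set G) ∧
      Nonempty (↥S₀ ≃* DihedralGroup 4) ∧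
      (∀ n ∈ Subgroup.normalizer ((M : Subgroup G) : Set G),
        ∃ m ∈ (M : Subgroup G), ∃ s ∈ S₀, n = m * s) ∧
      (∀ s ∈ S₀, (∀ m ∈ (M : Subgroup G), s * m * s⁻¹ = m) → s = 1) := by
  subst hN
  obtain ⟨S⟩ : Nonempty (Sylow 2 ↥(Subgroup.normalizer ((M : Subgroup G) : Set G))) := inferInstance
  obtain ⟨eS⟩ := hS S
  have hS8 : Nat.card ↥(S : Subgroup ↥(Subgroup.normalizer ((M : Subgroup G) : Set G))) = 8 := by
    rw [Nat.card_congr eS.toEquiv, DihedralGroup.nat_card]
  have hN72 := G1a_card_normalizer M hM9 hCM S hS8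
  have hinj : Function.Injective (Subgroup.normalizer ((M : Subgroup G) : Set G)).subtype :=
    Subgroup.subtype_injective _
  have hS₀card : Nat.card ↥((S : Subgroup ↥(Subgroup.normalizer ((M : Subgroup G) : Set G))).map
      (Subgroup.normalizer ((M : Subgroup G) : Set G)).subtype) = 8 := by
    rw [Subgroup.card_map_of_injective hinj, hS8]
  refine ⟨(S : Subgroup ↥(Subgroup.normalizer ((M : Subgroup G) : Set G))).map
    (Subgroup.normalizer ((M : Subgroup G) : Set G)).subtype, ?_, ?_, ?_, ?_⟩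
  · exact Subgroup.map_subtype_le _
  · exact ⟨((S : Subgroup ↥(Subgroup.normalizer ((M : Subgroup G) : Set G))).equivMapOfInjective
      _ hinj).symm.trans eS⟩
  · intro n hn
    have hM' : Nat.card ↥((M : Subgroup G).subgroupOf
        (Subgroup.normalizer ((M : Subgroup G) : Set G))) = 9 := by
      rw [Nat.card_congr (Subgroup.subgroupOfEquivOfLe Subgroup.le_normalizer).toEquiv, hM9]
    have hcompl : Subgroup.IsComplement'
        ((M : Subgroup G).subgroupOf (Subgroup.normalizer ((M : Subgroup G) : Set G)))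
        (S : Subgroup ↥(Subgroup.normalizer ((M : Subgroup G) : Set G))) :=
      Subgroup.isComplement'_of_coprime (by rw [hM', hS8, hN72]) (by rw [hM', hS8]; norm_num)
    obtain ⟨⟨a, b⟩, hab, -⟩ := hcompl.existsUnique
      (⟨n, hn⟩ : ↥(Subgroup.normalizer ((M : Subgroup G) : Set G)))
    refine ⟨((a : ↥(Subgroup.normalizer ((M : Subgroup G) : Set G))) : G), ?_,
      ((b : ↥(Subgroup.normalizer ((M : Subgroup G) : Set G))) : G), ?_, ?_⟩
    · exact Subgroup.mem_subgroupOf.mp a.2
    · exact Subgroup.mem_map.mpr ⟨_, b.2, rfl⟩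
    · have h1 := congrArg Subtype.val hab
      exact h1.symm
  · intro s hs hcent
    have hsC : s ∈ Subgroup.centralizer ((M : Subgroup G) : Set G) := by
      rw [Subgroup.mem_centralizer_iff]
      intro m hm
      have h1 := hcent m hm
      calc m * s = (s * m * s⁻¹) * s := by rw [h1]
        _ = s * m := by group
    rw [hCM] at hsC
    have d9 : orderOf s ∣ 9 := by
      rw [← hM9]; exact Subgroup.orderOf_dvd_natCard _ hsC
    have d8 : orderOf s ∣ 8 := by
      rw [← hS₀card]; exact Subgroup.orderOf_dvd_natCard _ hs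
    have d1 : orderOf s ∣ Nat.gcd 9 8 := Nat.dvd_gcd d9 d8
    have h1 : orderOf s = 1 := by
      have : Nat.gcd 9 8 = 1 := by norm_num
      rw [this] at d1
      exact Nat.dvd_one.mp d1
    exact orderOf_eq_one_iff.mp h1

end grp

end Cfsg.Agent.Helper49.D8
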