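import Mathlib
import Cfsg.Agent.Helper62.D8.Defs

/-!
Helper49: piece (G1b) of helper62's S3716 farm (#9665): coordinates on `N_G(M) = M ⋊ D₈`.
-/

set_option autoImplicit false

namespace Cfsg.Agent.Helper49.D8

open Cfsg Cfsg.Agent.Helper62.D8

universe u

section aux

variable {G : Type u} [Group G]

/-- powers of an element of order dividing three -/
theorem G1b_pow_cases (g : G) (h3 : g ^ 3 = 1) (n : ℕ) : g ^ n = 1 ∨ g ^ n = g ∨ g ^ n = g⁻¹ := by
  rw [pow_eq_pow_mod n h3]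
  have h : n % 3 < 3 := Nat.mod_lt _ (by norm_num)
  have hinv : g ^ 2 = g⁻¹ := by
    rw [eq_inv_iff_mul_eq_one, ← pow_succ, h3]
  interval_cases n % 3
  · left; exact pow_zero g
  · right; left; exact pow_one g
  · right; right; exact hinv

/-- an element of order dividing three which equals its inverse is trivial -/
theorem G1b_eq_one_of_eq_inv (g : G) (h3 : g ^ 3 = 1) (h : g = g⁻¹) : g = 1 := by
  have h2 : g * g = 1 := by
    nth_rewrite 2 [h]
    exact mul_inv_cancel g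
  calc g = g ^ 3 * (g * g)⁻¹ := by rw [pow_succ, pow_two]; group
    _ = 1 := by rw [h3, h2]; group

/-- products of powers of two commuting elements -/
theorem G1b_mul_pow_pow (a b : G) (hab : a * b = b * a) (i k j l : ℕ) :
    a ^ i * b ^ k * (a ^ j * b ^ l) = a ^ (i + j) * b ^ (k + l) := by
  have hc : Commute a b := hab
  have e := (hc.pow_pow j k).eq
  calc a ^ i * b ^ k * (a ^ j * b ^ l) = a ^ i * (b ^ k * a ^ j) * b ^ l := by group
    _ = a ^ i * (a ^ j * b ^ k) * b ^ l := by rw [e]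
    _ = a ^ (i + j) * b ^ (k + l) := by rw [pow_add, pow_add]; group

variable [Finite G]

/-- two independent elements of an elementary abelian group of order nine form a basis -/
theorem G1b_basis (M : Subgroup G) (hM9 : Nat.card ↥M = 9) (hMel : ∀ m ∈ M, m ^ 3 = 1)
    (hcomm : ∀ s ∈ M, ∀ u ∈ M, s * u = u * s) (a b : G) (ha : a ∈ M) (hb : b ∈ M)
    (ha1 : a ≠ 1) (hb1 : b ≠ 1) (hind : ∀ i k : ℕ, a ^ i = b ^ k → a ^ i = 1) :
    ∀ s ∈ M, ∃ i k : ℕ, s = a ^ i * b ^ k := by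
  have hab : a * b = b * a := hcomm a ha b hb
  have ha3 := hMel a ha
  have hb3 := hMel b hb
  have hoa : orderOf a = 3 := orderOf_eq_prime ha3 ha1
  have hob : orderOf b = 3 := orderOf_eq_prime hb3 hb1
  have hinj : Function.Injective (fun p : Fin 3 × Fin 3 =>
      (⟨a ^ p.1.val * b ^ p.2.val, M.mul_mem (M.pow_mem ha _) (M.pow_mem hb _)⟩ : ↥M)) := by
    rintro ⟨i, k⟩ ⟨i', k'⟩ h
    have h0 : a ^ i.val * b ^ k.val = a ^ i'.val * b ^ k'.val := congrArg Subtype.val h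
    have h1 : a ^ (i.val + 2 * i'.val) * b ^ (k.val + 2 * k.val) =
        a ^ (i'.val + 2 * i'.val) * b ^ (k'.val + 2 * k.val) := by
      rw [← G1b_mul_pow_pow a b hab, ← G1b_mul_pow_pow a b hab, h0]
    have e1 : b ^ (k.val + 2 * k.val) = 1 := by
      have : k.val + 2 * k.val = 3 * k.val := by ring
      rw [this, pow_mul, hb3, one_pow]
    have e2 : a ^ (i'.val + 2 * i'.val) = 1 := by
      have : i'.val + 2 * i'.val = 3 * i'.val := by ring
      rw [this, pow_mul, ha3, one_pow]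
    rw [e1, e2, mul_one, one_mul] at h1
    have h2 := hind _ _ h1
    have h3 : b ^ (k'.val + 2 * k.val) = 1 := by rw [← h1, h2]
    have d1 : 3 ∣ i.val + 2 * i'.val := by
      have := orderOf_dvd_of_pow_eq_one h2
      rwa [hoa] at this
    have d2 : 3 ∣ k'.val + 2 * k.val := by
      have := orderOf_dvd_of_pow_eq_one h3
      rwa [hob] at this
    have hi := i.isLt
    have hi' := i'.isLt
    have hk := k.isLt
    have hk' := k'.isLt
    have ei : i = i' := Fin.ext (by omega)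
    have ek : k = k' := Fin.ext (by omega)
    rw [ei, ek]
  have hbij := hinj.bijective_of_nat_card_le (by
    rw [hM9, Nat.card_prod, Nat.card_eq_fintype_card, Fintype.card_fin])
  intro s hs
  obtain ⟨⟨i, k⟩, hik⟩ := hbij.2 ⟨s, hs⟩
  exact ⟨i.val, k.val, (congrArg Subtype.val hik).symm⟩

omit [Finite G] in
/-- an involution normalizing an abelian group: `m * m^g` is fixed, `m * (m^g)⁻¹` is inverted -/
theorem G1b_invol (M : Subgroup G) (hcomm : ∀ s ∈ M, ∀ u ∈ M, s * u = u * s) (g : G)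
    (hg : g ∈ Subgroup.normalizer (M : Set G)) (hg2 : g * g = 1) (m : G) (hm : m ∈ M) :
    g * (m * (g * m * g⁻¹)) * g⁻¹ = m * (g * m * g⁻¹) ∧
      g * (m * (g * m * g⁻¹)⁻¹) * g⁻¹ = (m * (g * m * g⁻¹)⁻¹)⁻¹ := by
  have hm' : g * m * g⁻¹ ∈ M := (Subgroup.mem_normalizer_iff.mp hg m).mp hm
  have hginv : g⁻¹ = g := by
    rw [inv_eq_iff_mul_eq_one]; exact hg2
  have e1 : g * (g * m * g⁻¹) * g⁻¹ = m := by
    calc g * (g * m * g⁻¹) * g⁻¹ = (g * g) * m * (g * g)⁻¹ := by group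
      _ = m := by rw [hg2]; group
  have hc := hcomm m hm _ hm'
  constructor
  · calc g * (m * (g * m * g⁻¹)) * g⁻¹ = (g * m * g⁻¹) * (g * (g * m * g⁻¹) * g⁻¹) := by group
      _ = (g * m * g⁻¹) * m := by rw [e1]
      _ = m * (g * m * g⁻¹) := hc.symm
  · calc g * (m * (g * m * g⁻¹)⁻¹) * g⁻¹ = (g * m * g⁻¹) * (g * (g * m * g⁻¹) * g⁻¹)⁻¹ := by group
      _ = (g * m * g⁻¹) * m⁻¹ := by rw [e1]
      _ = (m * (g * m * g⁻¹)⁻¹)⁻¹ := by group

omit [Finite G] in
/-- conjugation of a product of powers -/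
theorem G1b_conj_mul_pow (g a b : G) (i k : ℕ) :
    g * (a ^ i * b ^ k) * g⁻¹ = (g * a * g⁻¹) ^ i * (g * b * g⁻¹) ^ k := by
  rw [conj_pow, conj_pow]; group

/-- an element of order four of `N_G(M)` whose square acts non-trivially on the elementary abelian
group `M` of order nine: the square inverts `M` -/
theorem G1b_square_inverts (M : Subgroup G) (hM9 : Nat.card ↥M = 9) (hMel : ∀ m ∈ M, m ^ 3 = 1)
    (hcomm : ∀ s ∈ M, ∀ u ∈ M, s * u = u * s) (f : G)
    (hf : f ∈ Subgroup.normalizer (M : Set G)) (hf4 : (f * f) * (f * f) = 1)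
    (hz1 : ∃ m ∈ M, (f * f) * m * (f * f)⁻¹ ≠ m) :
    ∀ m ∈ M, (f * f) * m * (f * f)⁻¹ = m⁻¹ := by
  have hzN : f * f ∈ Subgroup.normalizer (M : Set G) := Subgroup.mul_mem _ hf hf
  have hconj : ∀ g ∈ Subgroup.normalizer (M : Set G), ∀ m ∈ M, g * m * g⁻¹ ∈ M :=
    fun g hg m hm => (Subgroup.mem_normalizer_iff.mp hg m).mp hm
  obtain ⟨m1, hm1, hne⟩ := hz1
  have hm1' := hconj _ hzN m1 hm1
  set u := m1 * ((f * f) * m1 * (f * f)⁻¹)⁻¹ with hu
  have huM : u ∈ M := M.mul_mem hm1 (M.inv_mem hm1')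
  have hu1 : u ≠ 1 := by
    intro h
    apply hne
    rw [hu, mul_inv_eq_one] at h
    exact h.symm
  have hzu : (f * f) * u * (f * f)⁻¹ = u⁻¹ := (G1b_invol M hcomm _ hzN hf4 m1 hm1).2
  have hu3 := hMel u huM
  set u' := f * u * f⁻¹ with hu'
  have hu'M : u' ∈ M := hconj f hf u huM
  have hu'3 := hMel u' hu'M
  have hzu' : (f * f) * u' * (f * f)⁻¹ = u'⁻¹ := by
    calc (f * f) * u' * (f * f)⁻¹ = f * ((f * f) * u * (f * f)⁻¹) * f⁻¹ := by rw [hu']; group
      _ = u'⁻¹ := by rw [hzu, hu']; group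
  have hu'1 : u' ≠ 1 := by
    intro h
    apply hu1
    rw [hu'] at h
    calc u = f⁻¹ * (f * u * f⁻¹) * f := by group
      _ = 1 := by rw [h]; group
  by_cases hind : ∀ i k : ℕ, u ^ i = u' ^ k → u ^ i = 1
  · intro m hm
    obtain ⟨i, k, rfl⟩ := G1b_basis M hM9 hMel hcomm u u' huM hu'M hu1 hu'1 hind m hm
    rw [G1b_conj_mul_pow, hzu, hzu', inv_pow, inv_pow, mul_inv_rev]
    have hc : Commute u u' := hcomm u huM u' hu'M
    exact ((hc.pow_pow i k).inv_inv).eq
  · exfalso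
    push Not at hind
    obtain ⟨i, k, hik, hi1⟩ := hind
    -- `u' = u` or `u' = u⁻¹`
    have hcase : u' = u ∨ u' = u⁻¹ := by
      rcases G1b_pow_cases u hu3 i with h | h | h
      · exact absurd h hi1
      · rcases G1b_pow_cases u' hu'3 k with h' | h' | h'
        · rw [h'] at hik; exact absurd hik hi1
        · left; rw [← h', ← hik, h]
        · right; rw [← inv_inv u', ← h', ← hik, h]
      · rcases G1b_pow_cases u' hu'3 k with h' | h' | h'
        · rw [h'] at hik; exact absurd hik hi1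
        · right; rw [← h', ← hik, h]
        · left; rw [← inv_inv u', ← h', ← hik, h, inv_inv]
    have hfix : (f * f) * u * (f * f)⁻¹ = u := by
      rcases hcase with h | h
      · have hfu : f * u * f⁻¹ = u := hu'.symm.trans h
        calc (f * f) * u * (f * f)⁻¹ = f * (f * u * f⁻¹) * f⁻¹ := by group
          _ = u := by rw [hfu, hfu]
      · have hfu : f * u * f⁻¹ = u⁻¹ := hu'.symm.trans h
        have h2 : f * u⁻¹ * f⁻¹ = u := by
          calc f * u⁻¹ * f⁻¹ = (f * u * f⁻¹)⁻¹ := by group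
            _ = u := by rw [hfu, inv_inv]
        calc (f * f) * u * (f * f)⁻¹ = f * (f * u * f⁻¹) * f⁻¹ := by group
          _ = u := by rw [hfu, h2]
    rw [hzu] at hfix
    exact hu1 (G1b_eq_one_of_eq_inv u hu3 hfix.symm)

end aux

section grp

variable {G : Type u} [Group G] [Finite G]

/-- every element of `D₈` is `r^i * s^j` -/
theorem G1b_d8_form : ∀ d : DihedralGroup 4, ∃ i : Fin 4, ∃ j : Fin 2,
    d = (DihedralGroup.r 1) ^ i.val * (DihedralGroup.sr 0) ^ j.val := by decide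

/-- (G1b) coordinates. -/
theorem ndata8_of_complement (M : Subgroup G) (hM9 : Nat.card ↥M = 9)
    (hMel : ∀ m ∈ M, m ^ 3 = 1)
    (hcomm : ∀ s ∈ M, ∀ u ∈ M, s * u = u * s)
    (S₀ : Subgroup G) (hS₀ : S₀ ≤ Subgroup.normalizer (M : Set G))
    (hiso : Nonempty (↥S₀ ≃* DihedralGroup 4))
    (hprod : ∀ n ∈ Subgroup.normalizer (M : Set G), ∃ m ∈ M, ∃ s ∈ S₀, n = m * s)
    (hfaith : ∀ s ∈ S₀, (∀ m ∈ M, s * m * s⁻¹ = m) → s = 1) :
    ∃ x y t f : G, NData8 M x y t f := by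
  obtain ⟨e⟩ := hiso
  obtain ⟨f0, hf0⟩ : ∃ f0 : ↥S₀, f0 = e.symm (DihedralGroup.r 1) := ⟨_, rfl⟩
  obtain ⟨t0, ht0⟩ : ∃ t0 : ↥S₀, t0 = e.symm (DihedralGroup.sr 0) := ⟨_, rfl⟩
  -- the relations, in `S₀`
  have R1 : t0 * t0 = 1 := by
    rw [ht0, ← map_mul]
    have : (DihedralGroup.sr 0 * DihedralGroup.sr 0 : DihedralGroup 4) = 1 := by decide
    rw [this, map_one]
  have R2 : (f0 * f0) * (f0 * f0) = 1 := by
    rw [hf0, ← map_mul, ← map_mul]
    have : ((DihedralGroup.r 1 * DihedralGroup.r 1) * (DihedralGroup.r 1 * DihedralGroup.r 1) :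
        DihedralGroup 4) = 1 := by decide
    rw [this, map_one]
  have R3 : t0 * f0 * t0⁻¹ = f0⁻¹ := by
    rw [hf0, ht0, ← map_inv, ← map_mul, ← map_mul, ← map_inv]
    have : (DihedralGroup.sr 0 * DihedralGroup.r 1 * (DihedralGroup.sr 0)⁻¹ : DihedralGroup 4) =
        (DihedralGroup.r 1)⁻¹ := by decide
    rw [this]
  have R4 : f0 * f0 ≠ 1 := by
    intro h
    rw [hf0, ← map_mul] at h
    have h' := e.symm.injective (h.trans (map_one e.symm).symm)
    revert h'
    decide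
  have R5 : t0 * (f0 * f0) ≠ 1 := by
    intro h
    rw [hf0, ht0, ← map_mul, ← map_mul] at h
    have h' := e.symm.injective (h.trans (map_one e.symm).symm)
    revert h'
    decide
  -- in `G`
  have htN : (t0 : G) ∈ Subgroup.normalizer (M : Set G) := hS₀ t0.2
  have hfN : (f0 : G) ∈ Subgroup.normalizer (M : Set G) := hS₀ f0.2
  have hconj : ∀ g ∈ Subgroup.normalizer (M : Set G), ∀ m ∈ M, g * m * g⁻¹ ∈ M :=
    fun g hg m hm => (Subgroup.mem_normalizer_iff.mp hg m).mp hm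
  have T1 : (t0 : G) * (t0 : G) = 1 := by
    have := congrArg Subtype.val R1
    simpa using this
  have T2 : ((f0 : G) * (f0 : G)) * ((f0 : G) * (f0 : G)) = 1 := by
    have := congrArg Subtype.val R2
    simpa using this
  have T3 : (t0 : G) * (f0 : G) * (t0 : G)⁻¹ = (f0 : G)⁻¹ := by
    have := congrArg Subtype.val R3
    simpa using this
  -- `f²` inverts `M`
  have hz1 : ∃ m ∈ M, ((f0 : G) * (f0 : G)) * m * ((f0 : G) * (f0 : G))⁻¹ ≠ m := by
    by_contra h
    push Not at h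
    have h1 := hfaith ((f0 : G) * (f0 : G)) (S₀.mul_mem f0.2 f0.2) h
    apply R4
    apply Subtype.ext
    simpa using h1
  have F2 := G1b_square_inverts M hM9 hMel hcomm (f0 : G) hfN T2 hz1
  -- a fixed point of `t`
  have hx : ∃ m ∈ M, (t0 : G) * m * (t0 : G)⁻¹ ≠ m⁻¹ := by
    by_contra h
    push Not at h
    have h1 := hfaith ((t0 : G) * ((f0 : G) * (f0 : G))) (S₀.mul_mem t0.2 (S₀.mul_mem f0.2 f0.2)) (by
      intro m hm
      have e1 := F2 m hm
      have e2 := h m⁻¹ (M.inv_mem hm)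
      calc (t0 : G) * ((f0 : G) * (f0 : G)) * m * ((t0 : G) * ((f0 : G) * (f0 : G)))⁻¹
          = (t0 : G) * (((f0 : G) * (f0 : G)) * m * ((f0 : G) * (f0 : G))⁻¹) * (t0 : G)⁻¹ := by group
        _ = m := by rw [e1, e2, inv_inv])
    apply R5
    apply Subtype.ext
    simpa using h1
  obtain ⟨m0, hm0, hne0⟩ := hx
  obtain ⟨x, hxdef⟩ : ∃ x : G, x = m0 * ((t0 : G) * m0 * (t0 : G)⁻¹) := ⟨_, rfl⟩
  have hxM : x ∈ M := by rw [hxdef]; exact M.mul_mem hm0 (hconj _ htN m0 hm0)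
  have htx : (t0 : G) * x * (t0 : G)⁻¹ = x := by
    rw [hxdef]; exact (G1b_invol M hcomm _ htN T1 m0 hm0).1
  have hx1 : x ≠ 1 := by
    intro h
    apply hne0
    rw [hxdef] at h
    exact eq_inv_of_mul_eq_one_right h
  obtain ⟨y, hydef⟩ : ∃ y : G, y = (f0 : G) * x * (f0 : G)⁻¹ := ⟨_, rfl⟩
  have hyM : y ∈ M := by rw [hydef]; exact hconj _ hfN x hxM
  have hy1 : y ≠ 1 := by
    intro h
    apply hx1
    rw [hydef] at h
    calc x = (f0 : G)⁻¹ * ((f0 : G) * x * (f0 : G)⁻¹) * (f0 : G) := by group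
      _ = 1 := by rw [h]; group
  have hfy : (f0 : G) * y * (f0 : G)⁻¹ = x⁻¹ := by
    rw [hydef, ← F2 x hxM]; group
  have hty : (t0 : G) * y * (t0 : G)⁻¹ = y⁻¹ := by
    have hz : ((f0 : G) * (f0 : G)) * x⁻¹ * ((f0 : G) * (f0 : G))⁻¹ = x := by
      have := F2 x⁻¹ (M.inv_mem hxM)
      rwa [inv_inv] at this
    calc (t0 : G) * y * (t0 : G)⁻¹
        = ((t0 : G) * (f0 : G) * (t0 : G)⁻¹) * ((t0 : G) * x * (t0 : G)⁻¹) *
          ((t0 : G) * (f0 : G) * (t0 : G)⁻¹)⁻¹ := by rw [hydef]; group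
      _ = (f0 : G)⁻¹ * x * (f0 : G) := by rw [T3, htx, inv_inv]
      _ = (f0 : G)⁻¹ * (((f0 : G) * (f0 : G)) * x⁻¹ * ((f0 : G) * (f0 : G))⁻¹) * (f0 : G) := by rw [hz]
      _ = y⁻¹ := by rw [hydef]; group
  have hx3 := hMel x hxM
  have hy3 := hMel y hyM
  have hind : ∀ i k : ℕ, x ^ i = y ^ k → x ^ i = 1 := by
    intro i k h
    have h1 : (t0 : G) * x ^ i * (t0 : G)⁻¹ = x ^ i := by rw [← conj_pow, htx]
    have h2 : (t0 : G) * x ^ i * (t0 : G)⁻¹ = (x ^ i)⁻¹ := by
      rw [h, ← conj_pow, hty, inv_pow]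
    have h3 : (x ^ i) ^ 3 = 1 := hMel _ (M.pow_mem hxM i)
    exact G1b_eq_one_of_eq_inv _ h3 (h1.symm.trans h2)
  refine ⟨x, y, (t0 : G), (f0 : G), ?_⟩
  exact
    { x3 := hx3
      y3 := hy3
      x1 := hx1
      y1 := hy1
      comm := hcomm x hxM y hyM
      commT := hcomm
      xT := hxM
      yT := hyM
      indep := hind
      memT := G1b_basis M hM9 hMel hcomm x y hxM hyM hx1 hy1 hind
      tN := htN
      fN := hfN
      t2 := by rw [pow_two]; exact T1
      f4 := by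
        calc (f0 : G) ^ 4 = ((f0 : G) * (f0 : G)) * ((f0 : G) * (f0 : G)) := by
              rw [show (4 : ℕ) = 2 + 2 from rfl, pow_add, pow_two]
          _ = 1 := T2
      tf := T3
      tx := htx
      ty := hty
      fx := hydef.symm
      fy := hfy
      memN := by
        intro n hn
        obtain ⟨m, hm, s, hs, rfl⟩ := hprod n hn
        obtain ⟨i, j, hij⟩ := G1b_d8_form (e ⟨s, hs⟩)
        have h1 : (⟨s, hs⟩ : ↥S₀) = f0 ^ i.val * t0 ^ j.val := by
          apply e.injective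
          rw [hij, map_mul, map_pow, map_pow, hf0, ht0, e.apply_symm_apply, e.apply_symm_apply]
        have h2 : s = (f0 : G) ^ i.val * (t0 : G) ^ j.val := by
          have := congrArg Subtype.val h1
          simpa using this
        exact ⟨m, hm, i.val, j.val, i.isLt, j.isLt, by rw [h2]⟩ }

end grp

end Cfsg.Agent.Helper49.D8
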