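import Mathlib

/-!
Groups `G` with a normal `2`-subgroup `Q`, `G/Q` dihedral of order `2n` (`n` an odd prime) and
`C_Q(R) = 1` for a Sylow `n`-subgroup `R` (helper49, for S2873).
-/

set_option autoImplicit false

namespace Cfsg.Agent.Helper49.DihQuot

open DihedralGroup

section Dih

variable {n : ℕ} [hnp : Fact n.Prime]

theorem two_ne_zero_zmod (hn : n ≠ 2) : (2 : ZMod n) ≠ 0 := by
  intro h
  have h' : ((2 : ℕ) : ZMod n) = 0 := by exact_mod_cast h
  rw [ZMod.natCast_eq_zero_iff] at h'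
  have h1 := Nat.le_of_dvd (by norm_num) h'
  have h2 := hnp.out.two_le
  omega

theorem eq_sr_of_sq (hn : n ≠ 2) (d : DihedralGroup n) (h : d * d = 1) (h1 : d ≠ 1) :
    ∃ i, d = sr i := by
  cases d with
  | r i =>
    exfalso; apply h1
    rw [r_mul_r, one_def] at h
    have hi : i + i = 0 := by injection h
    have h2 : (2 : ZMod n) * i = 0 := by rw [two_mul]; exact hi
    rcases mul_eq_zero.mp h2 with h3 | h3
    · exact absurd h3 (two_ne_zero_zmod hn)
    · rw [h3, r_zero]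
  | sr i => exact ⟨i, rfl⟩

theorem eq_r_of_pow (hn : n ≠ 2) (d : DihedralGroup n) (h : d ^ n = 1) : ∃ j, d = r j := by
  cases d with
  | r j => exact ⟨j, rfl⟩
  | sr i =>
    exfalso
    have h1 : orderOf (sr i : DihedralGroup n) ∣ n := orderOf_dvd_of_pow_eq_one h
    rw [orderOf_sr] at h1
    exact hn ((Nat.prime_dvd_prime_iff_eq Nat.prime_two hnp.out).mp h1).symm

theorem exists_conj_sr (hn : n ≠ 2) (i j : ZMod n) :
    ∃ d : DihedralGroup n, d * sr i * d⁻¹ = sr j := by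
  refine ⟨r ((i - j) * (2 : ZMod n)⁻¹), ?_⟩
  rw [r_mul_sr, inv_r, sr_mul_r]
  congr 1
  have h2 := two_ne_zero_zmod hn
  field_simp
  ring

theorem sr_conj_r (i j : ZMod n) : sr i * r j * (sr i)⁻¹ = r (-j) := by
  rw [sr_mul_r, inv_sr, sr_mul_sr]
  congr 1
  ring

end Dih

section Grp

variable {G : Type*} [Group G] [Finite G] {n : ℕ} [hnp : Fact n.Prime]

/-- The standing hypotheses. -/
structure Hyp (n : ℕ) [Fact n.Prime] (Q : Subgroup G) (π : G →* DihedralGroup n)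
    (R : Sylow n G) : Prop where
  hn : n ≠ 2
  normal : Q.Normal
  two : IsPGroup 2 Q
  surj : Function.Surjective π
  ker : π.ker = Q
  cent : Q ⊓ Subgroup.centralizer ((R : Subgroup G) : Set G) = ⊥

variable {Q : Subgroup G} {π : G →* DihedralGroup n} {R : Sylow n G}

omit [Finite G] in
theorem Hyp.mem_Q_iff (h : Hyp n Q π R) {g : G} : g ∈ Q ↔ π g = 1 := by
  rw [← h.ker, MonoidHom.mem_ker]

theorem Hyp.card_R (h : Hyp n Q π R) : Nat.card (R : Subgroup G) = n := by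
  have hn := h.hn
  haveI := h.normal
  obtain ⟨m, hm⟩ := (IsPGroup.iff_card).mp h.two
  have h1 := Subgroup.card_eq_card_quotient_mul_card_subgroup Q
  have h2 : Nat.card (G ⧸ Q) = 2 * n := by
    have e : G ⧸ π.ker ≃* DihedralGroup n := QuotientGroup.quotientKerEquivOfSurjective π h.surj
    have e' : G ⧸ Q ≃* G ⧸ π.ker := QuotientGroup.quotientMulEquivOfEq h.ker.symm
    rw [Nat.card_congr (e'.trans e).toEquiv, DihedralGroup.nat_card]
  rw [h2, hm] at h1
  have h3 := R.card_eq_multiplicity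
  rw [h3, h1]
  have hp := hnp.out
  have hfac : (2 * n * 2 ^ m).factorization n = 1 := by
    have e : 2 * n * 2 ^ m = 2 ^ (m + 1) * n := by ring
    rw [e, Nat.factorization_mul (by positivity) hp.ne_zero]
    simp only [Finsupp.coe_add, Pi.add_apply]
    rw [Nat.Prime.factorization_self hp, Nat.factorization_pow]
    simp only [Finsupp.coe_smul, Pi.smul_apply, smul_eq_mul]
    have : (Nat.factorization 2) n = 0 := by
      rw [Nat.Prime.factorization Nat.prime_two]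
      simp [Ne.symm hn]
    rw [this]
    omega
  rw [hfac, pow_one]

theorem Hyp.R_inf_Q (h : Hyp n Q π R) : (R : Subgroup G) ⊓ Q = ⊥ := by
  obtain ⟨m, hm⟩ := (IsPGroup.iff_card).mp h.two
  rw [← disjoint_iff]
  apply Subgroup.disjoint_of_coprime_natCard
  rw [h.card_R, hm]
  apply Nat.Coprime.pow_right
  rw [Nat.coprime_primes hnp.out Nat.prime_two]
  exact h.hn

/-- `N_G(R) ∩ Q = 1`. -/
theorem Hyp.normalizer_inf_Q (h : Hyp n Q π R) :
    Subgroup.normalizer ((R : Subgroup G) : Set G) ⊓ Q = ⊥ := by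
  haveI := h.normal
  rw [eq_bot_iff]
  rintro g ⟨hgN, hgQ⟩
  rw [Subgroup.mem_bot]
  have hcen : g ∈ Q ⊓ Subgroup.centralizer ((R : Subgroup G) : Set G) := by
    refine Subgroup.mem_inf.mpr ⟨hgQ, ?_⟩
    rw [Subgroup.mem_centralizer_iff]
    intro x hx
    have h1 : g * x * g⁻¹ ∈ (R : Subgroup G) := (Subgroup.mem_normalizer_iff.mp hgN x).mp hx
    have h2 : g * x * g⁻¹ * x⁻¹ ∈ (R : Subgroup G) :=
      Subgroup.mul_mem _ h1 (Subgroup.inv_mem _ hx)
    have h3 : g * x * g⁻¹ * x⁻¹ ∈ Q := by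
      have : x * g⁻¹ * x⁻¹ ∈ Q := h.normal.conj_mem _ (Subgroup.inv_mem _ hgQ) x
      have := Subgroup.mul_mem _ hgQ this
      convert this using 1
      group
    have h4 : g * x * g⁻¹ * x⁻¹ ∈ (R : Subgroup G) ⊓ Q := Subgroup.mem_inf.mpr ⟨h2, h3⟩
    rw [h.R_inf_Q, Subgroup.mem_bot] at h4
    calc x * g = (g * x * g⁻¹ * x⁻¹)⁻¹ * (g * x) := by group
      _ = g * x := by rw [h4]; group
  rw [h.cent, Subgroup.mem_bot] at hcen
  exact hcen

/-- `π` is injective on `N_G(R)`. -/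
theorem Hyp.eq_of_map_eq (h : Hyp n Q π R) {a b : G}
    (ha : a ∈ Subgroup.normalizer ((R : Subgroup G) : Set G))
    (hb : b ∈ Subgroup.normalizer ((R : Subgroup G) : Set G)) (hab : π a = π b) : a = b := by
  have h1 : a * b⁻¹ ∈ Subgroup.normalizer ((R : Subgroup G) : Set G) ⊓ Q := by
    refine Subgroup.mem_inf.mpr ⟨Subgroup.mul_mem _ ha (Subgroup.inv_mem _ hb), ?_⟩
    rw [h.mem_Q_iff, map_mul, map_inv, hab, mul_inv_cancel]
  rw [h.normalizer_inf_Q, Subgroup.mem_bot] at h1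
  exact mul_inv_eq_one.mp h1

/-- `π` maps `N_G(R)` onto the dihedral group (Frattini argument). -/
theorem Hyp.map_normalizer (h : Hyp n Q π R) :
    (Subgroup.normalizer ((R : Subgroup G) : Set G)).map π = ⊤ := by
  have hinj : Function.Injective (π.comp (R : Subgroup G).subtype) := by
    intro x y hxy
    have h1 : (x : G) * (y : G)⁻¹ ∈ (R : Subgroup G) ⊓ Q := by
      refine Subgroup.mem_inf.mpr ⟨Subgroup.mul_mem _ x.2 (Subgroup.inv_mem _ y.2), ?_⟩
      rw [h.mem_Q_iff, map_mul, map_inv]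
      have : π x = π y := hxy
      rw [this, mul_inv_cancel]
    rw [h.R_inf_Q, Subgroup.mem_bot] at h1
    exact Subtype.ext (mul_inv_eq_one.mp h1)
  set C : Subgroup (DihedralGroup n) := (R : Subgroup G).map π with hC
  have hCcard : Nat.card C = n := by
    have : C = (π.comp (R : Subgroup G).subtype).range := by
      rw [hC, MonoidHom.range_comp, Subgroup.range_subtype]
    have e := Nat.card_congr (MonoidHom.ofInjective hinj).toEquiv
    rw [this, ← e]
    exact h.card_R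
  have hCidx : C.index = 2 := by
    have h1 := C.card_mul_index
    rw [hCcard, DihedralGroup.nat_card] at h1
    have hpos : 0 < n := hnp.out.pos
    nlinarith
  haveI : C.Normal := Subgroup.normal_of_index_eq_two hCidx
  haveI : (C.comap π).Normal := Subgroup.Normal.comap inferInstance π
  have hRK : (R : Subgroup G) ≤ C.comap π := Subgroup.le_comap_map π _
  have hF := Sylow.normalizer_sup_eq_top' R hRK
  have hF' := congrArg (Subgroup.map π) hF
  rw [Subgroup.map_sup, Subgroup.map_comap_eq_self_of_surjective h.surj,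
    Subgroup.map_top_of_surjective π h.surj] at hF'
  have hle : C ≤ (Subgroup.normalizer ((R : Subgroup G) : Set G)).map π :=
    Subgroup.map_mono Subgroup.le_normalizer
  have hF'' : (Subgroup.normalizer ((R : Subgroup G) : Set G)).map π ⊔ C = ⊤ := hF'
  rwa [sup_eq_left.mpr hle] at hF''

/-- `N_G(R) ≃* D_n`. -/
noncomputable def Hyp.normalizerEquiv (h : Hyp n Q π R) :
    ↥(Subgroup.normalizer ((R : Subgroup G) : Set G)) ≃* DihedralGroup n :=
  MulEquiv.ofBijective (π.comp (Subgroup.normalizer ((R : Subgroup G) : Set G)).subtype)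
    ⟨fun x y hxy => Subtype.ext (h.eq_of_map_eq x.2 y.2 hxy), fun d => by
      have : d ∈ (Subgroup.normalizer ((R : Subgroup G) : Set G)).map π := by
        rw [h.map_normalizer]; trivial
      obtain ⟨g, hg, rfl⟩ := this
      exact ⟨⟨g, hg⟩, rfl⟩⟩

/-- The data used in the involution analysis: `a` an involution of `N_G(R)`, `x` a generator of
`R`, `s = x a x⁻¹`, `z = a s`. -/
structure InvData (Q : Subgroup G) (π : G →* DihedralGroup n) (R : Sylow n G) (a x : G) : Prop where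
  hyp : Hyp n Q π R
  haN : a ∈ Subgroup.normalizer ((R : Subgroup G) : Set G)
  ha2 : a * a = 1
  ha1 : a ≠ 1
  hxR : x ∈ (R : Subgroup G)
  hx1 : x ≠ 1

variable {a x : G}

omit [Finite G] in
theorem InvData.inv_a (d : InvData Q π R a x) : a⁻¹ = a := inv_eq_of_mul_eq_one_left d.ha2

theorem InvData.a_not_mem (d : InvData Q π R a x) : a ∉ Q := by
  intro haQ
  have : a ∈ Subgroup.normalizer ((R : Subgroup G) : Set G) ⊓ Q := Subgroup.mem_inf.mpr ⟨d.haN, haQ⟩
  rw [d.hyp.normalizer_inf_Q, Subgroup.mem_bot] at this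
  exact d.ha1 this

theorem InvData.map_a (d : InvData Q π R a x) : ∃ i, π a = sr i := by
  apply eq_sr_of_sq d.hyp.hn
  · rw [← map_mul, d.ha2, map_one]
  · intro h
    exact d.a_not_mem (d.hyp.mem_Q_iff.mpr h)

theorem InvData.inverts (d : InvData Q π R a x) {y : G} (hy : y ∈ (R : Subgroup G)) :
    a * y * a⁻¹ = y⁻¹ := by
  obtain ⟨i, hi⟩ := d.map_a
  have hyn : y ^ n = 1 := by
    have h1 : (⟨y, hy⟩ : ↥(R : Subgroup G)) ^ Nat.card (R : Subgroup G) = 1 := pow_card_eq_one'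
    rw [d.hyp.card_R] at h1
    exact congrArg Subtype.val h1
  obtain ⟨j, hj⟩ := eq_r_of_pow d.hyp.hn (π y) (by rw [← map_pow, hyn, map_one])
  have h1 : a * y * a⁻¹ ∈ (R : Subgroup G) := (Subgroup.mem_normalizer_iff.mp d.haN y).mp hy
  apply d.hyp.eq_of_map_eq (Subgroup.le_normalizer h1)
    (Subgroup.le_normalizer (Subgroup.inv_mem _ hy))
  rw [map_mul, map_mul, map_inv, map_inv, hi, hj, sr_conj_r, inv_r]

theorem InvData.x_pow (d : InvData Q π R a x) : x ^ n = 1 := by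
  have h1 : (⟨x, d.hxR⟩ : ↥(R : Subgroup G)) ^ Nat.card (R : Subgroup G) = 1 := pow_card_eq_one'
  rw [d.hyp.card_R] at h1
  exact congrArg Subtype.val h1

/-- `z = a s = x⁻¹ x⁻¹`. -/
theorem InvData.z_eq (d : InvData Q π R a x) : a * (x * a * x⁻¹) = x⁻¹ * x⁻¹ := by
  have h := d.inverts d.hxR
  rw [d.inv_a] at h
  calc a * (x * a * x⁻¹) = (a * x * a) * x⁻¹ := by group
    _ = x⁻¹ * x⁻¹ := by rw [h]

theorem InvData.z_mem (d : InvData Q π R a x) : a * (x * a * x⁻¹) ∈ (R : Subgroup G) := by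
  rw [d.z_eq]
  exact Subgroup.mul_mem _ (Subgroup.inv_mem _ d.hxR) (Subgroup.inv_mem _ d.hxR)

theorem InvData.z_ne_one (d : InvData Q π R a x) : a * (x * a * x⁻¹) ≠ 1 := by
  rw [d.z_eq]
  intro h
  apply d.hx1
  have h2 : x ^ 2 = 1 := by
    have : (x⁻¹ * x⁻¹)⁻¹ = 1 := by rw [h, inv_one]
    rw [pow_two]
    simpa using this
  have ho2 : orderOf x ∣ 2 := orderOf_dvd_of_pow_eq_one h2
  have hon : orderOf x ∣ n := orderOf_dvd_of_pow_eq_one d.x_pow
  have hcop : Nat.Coprime 2 n := by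
    rw [Nat.coprime_primes Nat.prime_two hnp.out]
    exact Ne.symm d.hyp.hn
  have : orderOf x ∣ 1 := by
    have := Nat.dvd_gcd ho2 hon
    rwa [hcop] at this
  exact orderOf_eq_one_iff.mp (Nat.dvd_one.mp this)

/-- every element of `R` is a power of `z`. -/
theorem InvData.exists_zpow (d : InvData Q π R a x) {y : G} (hy : y ∈ (R : Subgroup G)) :
    ∃ k : ℤ, (a * (x * a * x⁻¹)) ^ k = y := by
  have htop := zpowers_eq_top_of_prime_card (G := ↥(R : Subgroup G)) d.hyp.card_R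
    (g := ⟨a * (x * a * x⁻¹), d.z_mem⟩) (by
      intro h
      exact d.z_ne_one (congrArg Subtype.val h))
  have : (⟨y, hy⟩ : ↥(R : Subgroup G)) ∈ Subgroup.zpowers
      (⟨a * (x * a * x⁻¹), d.z_mem⟩ : ↥(R : Subgroup G)) := by
    rw [htop]; trivial
  obtain ⟨k, hk⟩ := Subgroup.mem_zpowers_iff.mp this
  refine ⟨k, ?_⟩
  have := congrArg Subtype.val hk
  simpa using this

/-- `C_Q(z) = 1`. -/
theorem InvData.eq_one_of_commute (d : InvData Q π R a x) {q : G} (hq : q ∈ Q)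
    (hc : q * (a * (x * a * x⁻¹)) = (a * (x * a * x⁻¹)) * q) : q = 1 := by
  have hmem : q ∈ Q ⊓ Subgroup.centralizer ((R : Subgroup G) : Set G) := by
    refine Subgroup.mem_inf.mpr ⟨hq, ?_⟩
    rw [Subgroup.mem_centralizer_iff]
    intro y hy
    obtain ⟨k, rfl⟩ := d.exists_zpow hy
    have : Commute q (a * (x * a * x⁻¹)) := hc
    exact ((this.zpow_right k).eq).symm
  rw [d.hyp.cent, Subgroup.mem_bot] at hmem
  exact hmem

/-- conjugation by `Q` is transitive on the coset `zQ`. -/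
theorem InvData.exists_conj_z (d : InvData Q π R a x) {y : G}
    (hy : y * (a * (x * a * x⁻¹))⁻¹ ∈ Q) : ∃ q ∈ Q, q * (a * (x * a * x⁻¹)) * q⁻¹ = y := by
  haveI := d.hyp.normal
  set z := a * (x * a * x⁻¹) with hz
  let φ : ↥Q → ↥Q := fun q => ⟨(q : G) * z * (q : G)⁻¹ * z⁻¹, by
    have h1 : z * (q : G)⁻¹ * z⁻¹ ∈ Q := d.hyp.normal.conj_mem _ (Subgroup.inv_mem _ q.2) z
    have := Subgroup.mul_mem _ q.2 h1
    convert this using 1
    group⟩
  have hinj : Function.Injective φ := by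
    intro q q' hqq
    have h1 : (q : G) * z * (q : G)⁻¹ * z⁻¹ = (q' : G) * z * (q' : G)⁻¹ * z⁻¹ :=
      congrArg Subtype.val hqq
    have h2 : (q : G) * z * (q : G)⁻¹ = (q' : G) * z * (q' : G)⁻¹ := mul_right_cancel h1
    have h3 : ((q' : G)⁻¹ * (q : G)) * z = z * ((q' : G)⁻¹ * (q : G)) := by
      calc ((q' : G)⁻¹ * (q : G)) * z = (q' : G)⁻¹ * ((q : G) * z * (q : G)⁻¹) * (q : G) := by group
        _ = (q' : G)⁻¹ * ((q' : G) * z * (q' : G)⁻¹) * (q : G) := by rw [h2]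
        _ = z * ((q' : G)⁻¹ * (q : G)) := by group
    have h4 := d.eq_one_of_commute (Subgroup.mul_mem _ (Subgroup.inv_mem _ q'.2) q.2) h3
    apply Subtype.ext
    exact (inv_mul_eq_one.mp h4).symm
  have hsurj : Function.Surjective φ := Finite.injective_iff_surjective.mp hinj
  obtain ⟨q, hq⟩ := hsurj ⟨y * z⁻¹, hy⟩
  refine ⟨q, q.2, ?_⟩
  have h1 : (q : G) * z * (q : G)⁻¹ * z⁻¹ = y * z⁻¹ := congrArg Subtype.val hq
  exact mul_right_cancel h1

/-- Main lemma: an involution `t` in the coset `aQ` is `Q`-conjugate to `a`. -/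
theorem InvData.exists_conj_a (d : InvData Q π R a x) {t : G} (ht2 : t * t = 1)
    (hta : π t = π a) :
    ∃ q ∈ Q, q * (a * (x * a * x⁻¹)) * q⁻¹ = t * (x * a * x⁻¹) ∧ t = q * a * q⁻¹ := by
  set s := x * a * x⁻¹ with hs
  set z := a * s with hz
  have hs2 : s * s = 1 := by
    rw [hs]
    calc x * a * x⁻¹ * (x * a * x⁻¹) = x * (a * a) * x⁻¹ := by group
      _ = 1 := by rw [d.ha2]; group
  have hsinv : s⁻¹ = s := inv_eq_of_mul_eq_one_left hs2
  have htinv : t⁻¹ = t := inv_eq_of_mul_eq_one_left ht2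
  have hyQ : t * s * z⁻¹ ∈ Q := by
    rw [d.hyp.mem_Q_iff, hz]
    simp only [map_mul, map_inv, mul_inv_rev]
    rw [hta]
    group
  obtain ⟨q, hq, hqz⟩ := d.exists_conj_z hyQ
  refine ⟨q, hq, hqz, ?_⟩
  -- `t' = q⁻¹ t q` inverts `z`
  have hinvy : t * (t * s) * t⁻¹ = (t * s)⁻¹ := by
    rw [mul_inv_rev, hsinv, htinv]
    calc t * (t * s) * t = (t * t) * s * t := by group
      _ = s * t := by rw [ht2, one_mul]
  have hzq : q⁻¹ * (t * s) * q = z := by
    rw [← hqz, hz, hs]; group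
  have ht'z : (q⁻¹ * t * q) * z * (q⁻¹ * t * q)⁻¹ = z⁻¹ := by
    calc (q⁻¹ * t * q) * z * (q⁻¹ * t * q)⁻¹
        = q⁻¹ * (t * (q * z * q⁻¹) * t⁻¹) * q := by group
      _ = q⁻¹ * (t * (t * s) * t⁻¹) * q := by rw [hqz]
      _ = q⁻¹ * (t * s)⁻¹ * q := by rw [hinvy]
      _ = (q⁻¹ * (t * s) * q)⁻¹ := by group
      _ = z⁻¹ := by rw [hzq]
  have ht'inv : (q⁻¹ * t * q)⁻¹ = q⁻¹ * t * q := by
    calc (q⁻¹ * t * q)⁻¹ = q⁻¹ * t⁻¹ * q := by group
      _ = q⁻¹ * t * q := by rw [htinv]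
  have ht'N : q⁻¹ * t * q ∈ Subgroup.normalizer ((R : Subgroup G) : Set G) := by
    have hmaps : ∀ y ∈ (R : Subgroup G), (q⁻¹ * t * q) * y * (q⁻¹ * t * q)⁻¹ ∈ (R : Subgroup G) := by
      intro y hy
      obtain ⟨k, rfl⟩ := d.exists_zpow hy
      have : (q⁻¹ * t * q) * z ^ k * (q⁻¹ * t * q)⁻¹ = (z⁻¹) ^ k := by
        rw [← ht'z, conj_zpow]
      rw [this]
      exact Subgroup.zpow_mem _ (Subgroup.inv_mem _ d.z_mem) k
    rw [Subgroup.mem_normalizer_iff]
    intro y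
    refine ⟨hmaps y, fun hy => ?_⟩
    have := hmaps _ hy
    rw [ht'inv] at this
    have e : q⁻¹ * t * q * (q⁻¹ * t * q * y * (q⁻¹ * t * q)) * (q⁻¹ * t * q) = y := by
      have h1 : (q⁻¹ * t * q) * (q⁻¹ * t * q) = 1 := by
        calc (q⁻¹ * t * q) * (q⁻¹ * t * q) = q⁻¹ * (t * t) * q := by group
          _ = 1 := by rw [ht2]; group
      calc q⁻¹ * t * q * (q⁻¹ * t * q * y * (q⁻¹ * t * q)) * (q⁻¹ * t * q)
          = ((q⁻¹ * t * q) * (q⁻¹ * t * q)) * y * ((q⁻¹ * t * q) * (q⁻¹ * t * q)) := by group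
        _ = y := by rw [h1]; group
    rwa [e] at this
  have hπ : π (q⁻¹ * t * q) = π a := by
    have hq1 : π q = 1 := d.hyp.mem_Q_iff.mp hq
    simp only [map_mul, map_inv, hq1, hta]
    group
  have := d.hyp.eq_of_map_eq ht'N d.haN hπ
  rw [← this]
  group

/-- every involution outside `Q` is conjugate to `a`. -/
theorem InvData.exists_conj_of_invol (d : InvData Q π R a x) {b : G} (hb2 : b * b = 1)
    (hbQ : b ∉ Q) : ∃ g : G, g * a * g⁻¹ = b := by
  obtain ⟨i, hi⟩ := d.map_a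
  obtain ⟨j, hj⟩ := eq_sr_of_sq d.hyp.hn (π b) (by rw [← map_mul, hb2, map_one])
    (fun h => hbQ (d.hyp.mem_Q_iff.mpr h))
  obtain ⟨e, he⟩ := exists_conj_sr d.hyp.hn i j
  obtain ⟨g₀, rfl⟩ := d.hyp.surj e
  have ht2 : (g₀⁻¹ * b * g₀) * (g₀⁻¹ * b * g₀) = 1 := by
    calc (g₀⁻¹ * b * g₀) * (g₀⁻¹ * b * g₀) = g₀⁻¹ * (b * b) * g₀ := by group
      _ = 1 := by rw [hb2]; group
  have hta : π (g₀⁻¹ * b * g₀) = π a := by
    simp only [map_mul, map_inv]
    rw [hj, hi, ← he]; group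
  obtain ⟨q, -, -, htq⟩ := d.exists_conj_a ht2 hta
  refine ⟨g₀ * q, ?_⟩
  calc g₀ * q * a * (g₀ * q)⁻¹ = g₀ * (q * a * q⁻¹) * g₀⁻¹ := by group
    _ = g₀ * (g₀⁻¹ * b * g₀) * g₀⁻¹ := by rw [← htq]
    _ = b := by group

/-- `|C_Q(a)|² = |Q|`. -/
theorem InvData.card_sq (d : InvData Q π R a x) :
    Nat.card ↥(Q ⊓ Subgroup.centralizer ({a} : Set G)) ^ 2 = Nat.card ↥Q := by
  set s := x * a * x⁻¹ with hs
  set A := Q ⊓ Subgroup.centralizer ({a} : Set G) with hA
  have hmemA : ∀ g : G, g ∈ A ↔ g ∈ Q ∧ g * a = a * g := fun g => by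
    rw [hA, Subgroup.mem_inf, Subgroup.mem_centralizer_singleton_iff]
  -- conjugates by `x` of elements of `A` commute with `s`
  have hconjQ : ∀ u ∈ Q, x * u * x⁻¹ ∈ Q := fun u hu => d.hyp.normal.conj_mem u hu x
  have hconjQ' : ∀ u ∈ Q, x⁻¹ * u * x ∈ Q := fun u hu => by
    have := d.hyp.normal.conj_mem u hu x⁻¹
    simpa using this
  have hcs : ∀ α ∈ A, (x * α * x⁻¹) * s = s * (x * α * x⁻¹) := by
    intro α hα
    have h1 := ((hmemA α).mp hα).2
    rw [hs]
    calc (x * α * x⁻¹) * (x * a * x⁻¹) = x * (α * a) * x⁻¹ := by group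
      _ = x * (a * α) * x⁻¹ := by rw [h1]
      _ = (x * a * x⁻¹) * (x * α * x⁻¹) := by group
  let f : ↥A × ↥A → ↥Q := fun p =>
    ⟨(x * (p.1 : G) * x⁻¹) * (p.2 : G),
      Subgroup.mul_mem _ (hconjQ _ ((hmemA _).mp p.1.2).1) ((hmemA _).mp p.2.2).1⟩
  have hinj : Function.Injective f := by
    rintro ⟨α, β⟩ ⟨α', β'⟩ hff
    have h0 : (x * (α : G) * x⁻¹) * (β : G) = (x * (α' : G) * x⁻¹) * (β' : G) :=
      congrArg Subtype.val hff
    -- w = (xα'x⁻¹)⁻¹ (xαx⁻¹) = β' β⁻¹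
    set w : G := (x * (α' : G) * x⁻¹)⁻¹ * (x * (α : G) * x⁻¹) with hw
    have hw2 : w = (β' : G) * (β : G)⁻¹ := by
      rw [hw]
      calc (x * (α' : G) * x⁻¹)⁻¹ * (x * (α : G) * x⁻¹)
          = (x * (α' : G) * x⁻¹)⁻¹ * ((x * (α : G) * x⁻¹) * (β : G)) * (β : G)⁻¹ := by group
        _ = (x * (α' : G) * x⁻¹)⁻¹ * ((x * (α' : G) * x⁻¹) * (β' : G)) * (β : G)⁻¹ := by rw [h0]
        _ = (β' : G) * (β : G)⁻¹ := by group
    have hwQ : w ∈ Q := by
      rw [hw2]
      exact Subgroup.mul_mem _ ((hmemA _).mp β'.2).1 (Subgroup.inv_mem _ ((hmemA _).mp β.2).1)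
    have hwa : w * a = a * w := by
      have hm : (β' : G) * (β : G)⁻¹ ∈ A := Subgroup.mul_mem _ β'.2 (Subgroup.inv_mem _ β.2)
      rw [hw2]
      exact ((hmemA _).mp hm).2
    have hws : w * s = s * w := by
      have hm : (α' : G)⁻¹ * (α : G) ∈ A := Subgroup.mul_mem _ (Subgroup.inv_mem _ α'.2) α.2
      have := hcs _ hm
      have e : w = x * ((α' : G)⁻¹ * (α : G)) * x⁻¹ := by rw [hw]; group
      rw [e]; exact this
    have hwz : w * (a * (x * a * x⁻¹)) = (a * (x * a * x⁻¹)) * w := by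
      calc w * (a * s) = (w * a) * s := by group
        _ = (a * w) * s := by rw [hwa]
        _ = a * (w * s) := by group
        _ = a * (s * w) := by rw [hws]
        _ = (a * s) * w := by group
    have hw1 : w = 1 := d.eq_one_of_commute hwQ hwz
    have e1 : (α : G) = (α' : G) := by
      have : (x * (α' : G) * x⁻¹)⁻¹ * (x * (α : G) * x⁻¹) = 1 := by rw [← hw]; exact hw1
      have h2 : x * (α : G) * x⁻¹ = x * (α' : G) * x⁻¹ := (inv_mul_eq_one.mp this).symm
      have h3 : x * (α : G) = x * (α' : G) := mul_right_cancel h2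
      exact mul_left_cancel h3
    have e2 : (β : G) = (β' : G) := by
      have : (β' : G) * (β : G)⁻¹ = 1 := by rw [← hw2]; exact hw1
      exact (mul_inv_eq_one.mp this).symm
    exact Prod.ext (Subtype.ext e1) (Subtype.ext e2)
  have hsurj : Function.Surjective f := by
    rintro ⟨u, hu⟩
    have ht2 : (u * a * u⁻¹) * (u * a * u⁻¹) = 1 := by
      calc (u * a * u⁻¹) * (u * a * u⁻¹) = u * (a * a) * u⁻¹ := by group
        _ = 1 := by rw [d.ha2]; group
    have hta : π (u * a * u⁻¹) = π a := by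
      have hu1 : π u = 1 := d.hyp.mem_Q_iff.mp hu
      simp only [map_mul, map_inv, hu1]
      group
    obtain ⟨q, hq, hqz, htq⟩ := d.exists_conj_a ht2 hta
    -- `q` commutes with `s`
    have hqs : q * s = s * q := by
      have h1 : q * (a * s) * q⁻¹ = (q * a * q⁻¹) * s := by
        rw [hqz, htq]
      have h2 : (q * a * q⁻¹) * (q * s * q⁻¹) = (q * a * q⁻¹) * s := by
        rw [← h1]; group
      have h3 : q * s * q⁻¹ = s := mul_left_cancel h2
      calc q * s = (q * s * q⁻¹) * q := by group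
        _ = s * q := by rw [h3]
    -- `q⁻¹ u` commutes with `a`
    have hqa : (q⁻¹ * u) * a = a * (q⁻¹ * u) := by
      calc (q⁻¹ * u) * a = q⁻¹ * (u * a * u⁻¹) * u := by group
        _ = q⁻¹ * (q * a * q⁻¹) * u := by rw [htq]
        _ = a * (q⁻¹ * u) := by group
    have hα : x⁻¹ * q * x ∈ A := by
      rw [hmemA]
      refine ⟨hconjQ' q hq, ?_⟩
      have h1 : x⁻¹ * s * x = a := by rw [hs]; group
      calc (x⁻¹ * q * x) * a = (x⁻¹ * q * x) * (x⁻¹ * s * x) := by rw [h1]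
        _ = x⁻¹ * (q * s) * x := by group
        _ = x⁻¹ * (s * q) * x := by rw [hqs]
        _ = (x⁻¹ * s * x) * (x⁻¹ * q * x) := by group
        _ = a * (x⁻¹ * q * x) := by rw [h1]
    have hβ : q⁻¹ * u ∈ A := by
      rw [hmemA]
      exact ⟨Subgroup.mul_mem _ (Subgroup.inv_mem _ hq) hu, hqa⟩
    refine ⟨(⟨x⁻¹ * q * x, hα⟩, ⟨q⁻¹ * u, hβ⟩), ?_⟩
    apply Subtype.ext
    show (x * (x⁻¹ * q * x) * x⁻¹) * (q⁻¹ * u) = u
    group
  have hcard := Nat.card_congr (Equiv.ofBijective f ⟨hinj, hsurj⟩)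
  rw [Nat.card_prod] at hcard
  rw [pow_two, hcard]

end Grp

end Cfsg.Agent.Helper49.DihQuot
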