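import Mathlib

/-!
Helper49: piece (ARITH6) of helper40's E6TOR farm (#14814, S2373): arithmetic of
`N = Φ₁₂(q) Φ₃(q) = (q⁴ - q² + 1)(q² + q + 1)`.
-/

set_option autoImplicit false

namespace Cfsg.Agent.Helper49.E6Tor

theorem ARITH6_mod2 : ∀ x : ZMod 2, x ^ 6 + x ^ 5 - x ^ 3 + x + 1 ≠ 0 := by decide

theorem ARITH6_mod9 : ∀ x : ZMod 9, x ^ 6 + x ^ 5 - x ^ 3 + x + 1 ≠ 0 := by decide

theorem ARITH6_cast (q : ℕ) (hq : 2 ≤ q) :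
    (((q ^ 4 - q ^ 2 + 1) * (q ^ 2 + q + 1) : ℕ) : ℤ) =
      (q : ℤ) ^ 6 + (q : ℤ) ^ 5 - (q : ℤ) ^ 3 + (q : ℤ) + 1 := by
  have h24 : q ^ 2 ≤ q ^ 4 := Nat.pow_le_pow_right (by omega) (by norm_num)
  rw [Nat.cast_mul, Nat.cast_add, Nat.cast_sub h24]
  push_cast
  ring

theorem ARITH6_not_dvd (q : ℕ) (hq : 2 ≤ q) (n : ℕ)
    (hn : ∀ x : ZMod n, x ^ 6 + x ^ 5 - x ^ 3 + x + 1 ≠ 0) :
    ¬ n ∣ (q ^ 4 - q ^ 2 + 1) * (q ^ 2 + q + 1) := by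
  intro h
  have h1 := (ZMod.natCast_eq_zero_iff _ n).mpr h
  have h2 : ((((q ^ 4 - q ^ 2 + 1) * (q ^ 2 + q + 1) : ℕ) : ℤ) : ZMod n) = 0 := by
    rw [Int.cast_natCast]; exact h1
  rw [ARITH6_cast q hq] at h2
  push_cast at h2
  exact hn _ h2

/-- (ARITH6) arithmetic of `N = Φ₁₂(q) Φ₃(q)` -/
theorem arith6 (q : ℕ) (hq : 2 ≤ q) :
    ((q ^ 4 - q ^ 2 + 1) * (q ^ 2 + q + 1) : ℕ) = q ^ 6 + q ^ 5 - q ^ 3 + q + 1 ∧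
    (q ^ 4 - q ^ 2 + 1) * (q ^ 2 + q + 1) ∣ q ^ 12 - 1 ∧
    ¬ 2 ∣ (q ^ 4 - q ^ 2 + 1) * (q ^ 2 + q + 1) ∧ ¬ 9 ∣ (q ^ 4 - q ^ 2 + 1) * (q ^ 2 + q + 1) ∧
    Nat.gcd 3 (q - 1) ∣ (q ^ 4 - q ^ 2 + 1) * (q ^ 2 + q + 1) := by
  have h24 : q ^ 2 ≤ q ^ 4 := Nat.pow_le_pow_right (by omega) (by norm_num)
  have h36 : q ^ 3 ≤ q ^ 6 + q ^ 5 :=
    le_trans (Nat.pow_le_pow_right (by omega) (by norm_num)) (Nat.le_add_right _ _)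
  have h1q : 1 ≤ q := by omega
  have h1q4 : 1 ≤ q ^ 4 := Nat.one_le_pow _ _ (by omega)
  have h1q12 : 1 ≤ q ^ 12 := Nat.one_le_pow _ _ (by omega)
  have hqq2 : q ≤ q ^ 2 := by nlinarith
  refine ⟨?_, ?_, ARITH6_not_dvd q hq 2 ARITH6_mod2, ARITH6_not_dvd q hq 9 ARITH6_mod9, ?_⟩
  · have : (((q ^ 4 - q ^ 2 + 1) * (q ^ 2 + q + 1) : ℕ) : ℤ) =
        ((q ^ 6 + q ^ 5 - q ^ 3 + q + 1 : ℕ) : ℤ) := by
      rw [ARITH6_cast q hq, Nat.cast_add, Nat.cast_add, Nat.cast_sub h36]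
      push_cast
      ring
    exact_mod_cast this
  · refine ⟨(q ^ 4 - 1) * (q ^ 2 - q + 1), ?_⟩
    have : ((q ^ 12 - 1 : ℕ) : ℤ) =
        (((q ^ 4 - q ^ 2 + 1) * (q ^ 2 + q + 1) * ((q ^ 4 - 1) * (q ^ 2 - q + 1)) : ℕ) : ℤ) := by
      rw [Nat.cast_mul, ARITH6_cast q hq, Nat.cast_sub h1q12, Nat.cast_mul, Nat.cast_sub h1q4,
        Nat.cast_add, Nat.cast_sub hqq2]
      push_cast
      ring
    exact_mod_cast this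
  · have hg : Nat.gcd 3 (q - 1) ∣ 3 := Nat.gcd_dvd_left _ _
    rcases (Nat.dvd_prime Nat.prime_three).mp hg with h | h
    · rw [h]; exact one_dvd _
    · have h3 : 3 ∣ q - 1 := by
        have := Nat.gcd_dvd_right 3 (q - 1)
        rwa [h] at this
      obtain ⟨k, hk⟩ := h3
      have hqk : q = 3 * k + 1 := by omega
      rw [h]
      apply dvd_mul_of_dvd_right
      refine ⟨3 * k ^ 2 + 3 * k + 1, ?_⟩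
      rw [hqk]; ring

end Cfsg.Agent.Helper49.E6Tor
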