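import Cfsg.Agent.Helper40.E6Tor.Defs2

/-!
Helper49: piece (E6UF) of helper40's E6TOR farm (#14814, S2373): descent of the isometry condition
of the cubic form along a field extension.
-/

set_option autoImplicit false
set_option linter.unusedSectionVars false

namespace Cfsg.Agent.Helper49.E6Tor

open Cfsg Cfsg.Lie Cfsg.Agent.Helper80.Tor Cfsg.Agent.Helper83.E6C

theorem E6UF_Tl_map {ι : Type*} {F K : Type*} [CommRing F] [CommRing K] (f : F →+* K)
    (M : List (ι × ι × ι × ℤ)) (v : ι → F) : f (Tl M v) = Tl M (fun a => f (v a)) := by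
  induction M with
  | nil => simp [Tl]
  | cons m M ih =>
    simp only [Tl, List.map_cons, List.sum_cons] at ih ⊢
    rw [map_add, ih]
    simp only [map_mul, map_intCast]

section SC

variable {F : Type*} {K : Type*} [Field F] [Fintype F] [Field K] [Fintype K] [Algebra F K]

/-- (E6UF) descent of the isometry condition -/
theorem mem_E6univ_of_iotaGL (g₀ : GL I27 F) (h : iotaGL I27 F K g₀ ∈ E6univ K) : g₀ ∈ E6univ F := by
  rw [mem_E6univ_iff] at h ⊢
  intro v
  apply (algebraMap F K).injective
  rw [E6UF_Tl_map, E6UF_Tl_map]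
  have h1 := h (fun a => algebraMap F K (v a))
  rw [← h1]
  congr 1
  funext a
  have h2 := RingHom.map_mulVec (algebraMap F K) (g₀ : Matrix I27 I27 F) v a
  rw [h2]
  rfl

end SC

end Cfsg.Agent.Helper49.E6Tor
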