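import Cfsg.Agent.Helper59.TorD_FIXF

/-!
Helper49: piece (FIXGL) of helper40's E6TOR farm (#14814, S2373): a matrix fixed by the entrywise
Frobenius has its entries in `F`.
-/

set_option autoImplicit false

namespace Cfsg.Agent.Helper49.E6Tor

open Cfsg.Agent.Helper80.Tor

section SC

variable {F : Type*} {K : Type*} [Field F] [Fintype F] [Field K] [Fintype K] [Algebra F K]

/-- (FIXGL) a matrix fixed by the Frobenius has its entries in `F` -/
theorem exists_iotaGL_of_fixed {n : Type*} [Fintype n] [DecidableEq n] (g : GL n K)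
    (hfix : sigmaGL n F K g = g) : ∃ g₀ : GL n F, iotaGL n F K g₀ = g := by
  have hent : ∀ i j, frobK F K ((g : Matrix n n K) i j) = (g : Matrix n n K) i j := by
    intro i j
    have := congrArg (fun h : GL n K => (h : Matrix n n K) i j) hfix
    simpa [sigmaGL] using this
  choose a ha using fun i j =>
    (Cfsg.Agent.Helper59.TorD.frobK_fix (F := F) ((g : Matrix n n K) i j)).mp (hent i j)
  have hA : (Matrix.of a : Matrix n n F).map (algebraMap F K) = (g : Matrix n n K) := by
    ext i j
    simp [ha]
  have hdet : (Matrix.of a : Matrix n n F).det ≠ 0 := by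
    intro h0
    have h1 : (g : Matrix n n K).det = 0 := by
      rw [← hA, ← RingHom.mapMatrix_apply, ← RingHom.map_det, h0, map_zero]
    have h2 := (Matrix.isUnits_det_units g).ne_zero
    exact h2 h1
  refine ⟨Matrix.GeneralLinearGroup.mkOfDetNeZero (Matrix.of a) hdet, ?_⟩
  apply Units.ext
  rw [← hA]
  rfl

end SC

end Cfsg.Agent.Helper49.E6Tor
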