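import Cfsg.Agent.Helper40.E6Tor.Defs2
import Cfsg.Agent.Helper49.E6Tor_FIXGL
import Cfsg.Agent.Helper49.E6Tor_E6UF

/-!
Helper49: piece (DESC27) of helper40's E6TOR farm (#14814, S2373): descent in the `27`-dimensional
model for `q ≥ 3`.  Self-contained: the two small ingredients (WORD27) and (IOTA27) are reproved
locally as `DESC27_exists_word27`, `DESC27_iotaGL_word27`.
-/

set_option autoImplicit false
set_option linter.unusedSectionVars false

namespace Cfsg.Agent.Helper49.E6Tor

open Cfsg Cfsg.Lie Cfsg.Agent.Helper80.Tor Cfsg.Agent.Helper83.E6C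

/-- local version of (WORD27) -/
theorem DESC27_exists_word27 {L : Type*} [Field L] (g : GL I27 L) (hg : g ∈ G0 L) :
    ∃ w : List (ℕ × L), word27 L w = g := by
  unfold G0 at hg
  induction hg using Subgroup.closure_induction with
  | mem x hx =>
    obtain ⟨r, t, rfl⟩ := hx
    exact ⟨[(r, t)], by simp [word27]⟩
  | one => exact ⟨[], by simp [word27]⟩
  | mul x y _ _ ihx ihy =>
    obtain ⟨w1, rfl⟩ := ihx
    obtain ⟨w2, rfl⟩ := ihy
    exact ⟨w1 ++ w2, by simp [word27]⟩
  | inv x _ ih =>
    obtain ⟨w, rfl⟩ := ih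
    refine ⟨(w.map fun p => (p.1, -p.2)).reverse, ?_⟩
    unfold word27
    rw [List.prod_inv_reverse, List.map_reverse, List.map_map, List.map_map]
    congr 2
    apply List.map_congr_left
    intro p _
    simp only [Function.comp_apply]
    rw [x27GL_inv]

section SC

variable {F : Type*} {K : Type*} [Field F] [Fintype F] [Field K] [Fintype K] [Algebra F K]

theorem DESC27_iotaGL_x27GL (r : ℕ) (t : F) :
    iotaGL I27 F K (x27GL F r t) = x27GL K r (algebraMap F K t) := by
  apply Units.ext
  show (x27 F r t).map (algebraMap F K) = x27 K r (algebraMap F K t)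
  ext a b
  simp only [x27, xr, Matrix.map_apply, Matrix.add_apply, Matrix.smul_apply, Emat_apply,
    smul_eq_mul, map_add, map_mul, map_intCast, Matrix.one_apply]
  split_ifs <;> simp

/-- local version of (IOTA27) -/
theorem DESC27_iotaGL_word27 (w : List (ℕ × F)) :
    iotaGL I27 F K (word27 F w) = word27 K (w.map fun p => (p.1, algebraMap F K p.2)) := by
  unfold word27
  rw [map_list_prod, List.map_map, List.map_map]
  congr 1
  apply List.map_congr_left
  intro p _
  exact DESC27_iotaGL_x27GL p.1 p.2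

/-- (DESC27) descent in the `27`-dimensional model, `q ≥ 3` (`E6univ_eq_G0`) -/
theorem desc27 (hq3 : 3 ≤ Fintype.card F) (g : GL I27 K) (hg : g ∈ G0 K) (hfix : sigmaGL I27 F K g = g) :
    ∃ wF : List (ℕ × F), g = word27 K (wF.map fun p => (p.1, algebraMap F K p.2)) := by
  obtain ⟨g₀, hg₀⟩ := exists_iotaGL_of_fixed (F := F) g hfix
  have h1 : iotaGL I27 F K g₀ ∈ E6univ K := by
    rw [hg₀]; exact G0_le K hg
  have h2 : g₀ ∈ E6univ F := mem_E6univ_of_iotaGL g₀ h1
  rw [E6univ_eq_G0 (exists_ne_zero_one hq3)] at h2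
  obtain ⟨wF, hwF⟩ := DESC27_exists_word27 g₀ h2
  refine ⟨wF, ?_⟩
  rw [← DESC27_iotaGL_word27, hwF, hg₀]

end SC

end Cfsg.Agent.Helper49.E6Tor
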