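import Mathlib

/-!
Helper49: piece (KEX12) of helper40's E6TOR farm (#14814, S2373): an extension of degree `12` of a
finite field, in `Type` (copy of `Cfsg.Agent.Helper48.G2Tor.exists_cubic_ext` with `12`).
-/

set_option autoImplicit false

namespace Cfsg.Agent.Helper49.E6Tor

/-- (KEX12) the extension of degree `12` -/
theorem exists_ext12 (F : Type*) [Field F] [Fintype F] :
    ∃ (K : Type) (_ : Field K) (_ : Fintype K) (_ : Algebra F K), Fintype.card K = Fintype.card F ^ 12 := by
  obtain ⟨p, hp⟩ := CharP.exists F
  have hpp : p.Prime := CharP.char_is_prime F p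
  have : Fact p.Prime := ⟨hpp⟩
  refine ⟨FiniteField.Extension F p 12, inferInstance, Fintype.ofFinite _, inferInstance, ?_⟩
  rw [Fintype.card_eq_nat_card, Fintype.card_eq_nat_card, FiniteField.natCard_extension]

end Cfsg.Agent.Helper49.E6Tor
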