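import Mathlib

/-!
Helper49: piece (NT12) of helper40's E6TOR farm (#14814, S2373): a prime divisor `r` of
`Φ₁₂(q) = q⁴ - q² + 1`; `q` has order `12` mod `r`, so `r ≡ 1 (12)`, `r ≥ 13`.
-/

set_option autoImplicit false

namespace Cfsg.Agent.Helper49.E6Tor

theorem NT12_mod2 : ∀ x : ZMod 2, x ^ 4 - x ^ 2 + 1 ≠ 0 := by decide

theorem NT12_mod3 : ∀ x : ZMod 3, x ^ 4 - x ^ 2 + 1 ≠ 0 := by decide

/-- (NT12) a prime divisor `r` of `Φ₁₂(q)`: `q` has order `12` mod `r`, so `r ≡ 1 (12)` -/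
theorem exists_prime_E6 (q : ℕ) (hq : 2 ≤ q) :
    ∃ r : ℕ, r.Prime ∧ r ∣ q ^ 4 - q ^ 2 + 1 ∧ 13 ≤ r ∧ orderOf (q : ZMod r) = 12 := by
  have h24 : q ^ 2 ≤ q ^ 4 := Nat.pow_le_pow_right (by omega) (by norm_num)
  have hN1 : q ^ 4 - q ^ 2 + 1 ≠ 1 := by
    have : q ^ 2 < q ^ 4 := Nat.pow_lt_pow_right (by omega) (by norm_num)
    omega
  obtain ⟨r, hr, hrN⟩ := Nat.exists_prime_and_dvd hN1
  have : Fact r.Prime := ⟨hr⟩
  have hx : ((q : ZMod r)) ^ 4 - (q : ZMod r) ^ 2 + 1 = 0 := by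
    have := (ZMod.natCast_eq_zero_iff (q ^ 4 - q ^ 2 + 1) r).mpr hrN
    rw [Nat.cast_add, Nat.cast_sub h24] at this
    simpa using this
  have hr2 : r ≠ 2 := by
    rintro rfl
    exact NT12_mod2 _ hx
  have hr3 : r ≠ 3 := by
    rintro rfl
    exact NT12_mod3 _ hx
  set x : ZMod r := (q : ZMod r) with hxdef
  have hx6 : x ^ 6 = -1 := by
    have : x ^ 6 + 1 = (x ^ 2 + 1) * (x ^ 4 - x ^ 2 + 1) := by ring
    rw [hx, mul_zero] at this
    exact eq_neg_of_add_eq_zero_left this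
  have hx12 : x ^ 12 = 1 := by
    have : x ^ 12 = (x ^ 6) ^ 2 := by ring
    rw [this, hx6]; norm_num
  have hx0 : x ≠ 0 := by
    intro h0
    rw [h0] at hx12
    norm_num at hx12
  have hord : orderOf x = 12 := by
    apply orderOf_eq_of_pow_and_pow_div_prime (by norm_num) hx12
    intro p hp hp12
    have hp' : p = 2 ∨ p = 3 := by
      have h12 : (12 : ℕ) = 2 ^ 2 * 3 := by norm_num
      rw [h12] at hp12
      rcases (Nat.Prime.dvd_mul hp).mp hp12 with h | h
      · left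
        exact (Nat.prime_dvd_prime_iff_eq hp Nat.prime_two).mp (hp.dvd_of_dvd_pow h)
      · right
        exact (Nat.prime_dvd_prime_iff_eq hp Nat.prime_three).mp h
    rcases hp' with rfl | rfl
    · -- x ^ 6 ≠ 1
      norm_num
      intro h1
      rw [hx6] at h1
      have h20 : ((2 : ℕ) : ZMod r) = 0 := by
        have : (1 : ZMod r) + 1 = 0 := by
          nth_rewrite 1 [← h1]; ring
        push_cast
        rw [← this]; ring
      have := (ZMod.natCast_eq_zero_iff 2 r).mp h20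
      exact hr2 ((Nat.prime_dvd_prime_iff_eq hr Nat.prime_two).mp this)
    · -- x ^ 4 ≠ 1
      norm_num
      intro h1
      rw [h1] at hx
      have hx2 : x ^ 2 = 2 := by
        have : (1 : ZMod r) - x ^ 2 + 1 = 2 - x ^ 2 := by ring
        rw [this] at hx
        exact (sub_eq_zero.mp hx).symm
      have h30 : ((3 : ℕ) : ZMod r) = 0 := by
        have h4 : x ^ 4 = (x ^ 2) ^ 2 := by ring
        rw [h4, hx2] at h1
        push_cast
        have : (3 : ZMod r) = 2 ^ 2 - 1 := by ring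
        rw [this, h1, sub_self]
      have := (ZMod.natCast_eq_zero_iff 3 r).mp h30
      exact hr3 ((Nat.prime_dvd_prime_iff_eq hr Nat.prime_three).mp this)
  refine ⟨r, hr, hrN, ?_, hord⟩
  have hdvd : 12 ∣ r - 1 := by
    rw [← hord]
    exact orderOf_dvd_of_pow_eq_one (ZMod.pow_card_sub_one_eq_one hx0)
  obtain ⟨k, hk⟩ := hdvd
  have hr2' := hr.two_le
  rcases Nat.eq_zero_or_pos k with rfl | hkpos
  · omega
  · omega

end Cfsg.Agent.Helper49.E6Tor
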