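import Cfsg.Agent.Helper69.TorVAL

/-!
Helper49: piece (ORDE6) of helper40's E6TOR farm (#14814, S2373): the `r`-parts of the orders of
`E₆(q)` and `E₆(q¹²)` for a prime `r ≥ 13` dividing `Φ₁₂(q)`.
-/

set_option autoImplicit false

namespace Cfsg.Agent.Helper49.E6Tor

theorem ORDE6_fmul {a b : ℕ} (ha : a ≠ 0) (hb : b ≠ 0) (r : ℕ) :
    (a * b).factorization r = a.factorization r + b.factorization r := by
  rw [Nat.factorization_mul ha hb]; rfl

/-- `Φ₁₂(q)` divides `q¹² - 1` -/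
theorem ORDE6_dvd (q : ℕ) (hq : 2 ≤ q) : q ^ 4 - q ^ 2 + 1 ∣ q ^ 12 - 1 := by
  have h24 : q ^ 2 ≤ q ^ 4 := Nat.pow_le_pow_right (by omega) (by norm_num)
  have h1q6 : 1 ≤ q ^ 6 := Nat.one_le_pow _ _ (by omega)
  have h1q12 : 1 ≤ q ^ 12 := Nat.one_le_pow _ _ (by omega)
  refine ⟨(q ^ 2 + 1) * (q ^ 6 - 1), ?_⟩
  have : ((q ^ 12 - 1 : ℕ) : ℤ) =
      (((q ^ 4 - q ^ 2 + 1) * ((q ^ 2 + 1) * (q ^ 6 - 1)) : ℕ) : ℤ) := by
    rw [Nat.cast_sub h1q12, Nat.cast_mul, Nat.cast_add, Nat.cast_sub h24, Nat.cast_mul,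
      Nat.cast_sub h1q6]
    push_cast
    ring
  exact_mod_cast this

/-- (ORDE6) the `r`-parts of the orders of `E₆(q)` and `E₆(q¹²)` (`dF = gcd(3, q - 1)`,
`dK = gcd(3, q¹² - 1)`; use helper69's `factorization_pow_sub_one`) -/
theorem val_E6 {r q : ℕ} (hr : r.Prime) (hq : 2 ≤ q) (hr13 : 13 ≤ r) (hrq : r ∣ q ^ 4 - q ^ 2 + 1)
    (cF cK dF dK : ℕ) (hdF : dF ∣ 3) (hdK : dK ∣ 3)
    (hcF : dF * cF = q ^ 36 * (q ^ 2 - 1) * (q ^ 5 - 1) * (q ^ 6 - 1) * (q ^ 8 - 1) * (q ^ 9 - 1) * (q ^ 12 - 1))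
    (hcK : dK * cK = (q ^ 12) ^ 36 * ((q ^ 12) ^ 2 - 1) * ((q ^ 12) ^ 5 - 1) * ((q ^ 12) ^ 6 - 1) *
      ((q ^ 12) ^ 8 - 1) * ((q ^ 12) ^ 9 - 1) * ((q ^ 12) ^ 12 - 1)) :
    r ∣ cF ∧ cK.factorization r = 6 * (q ^ 12 - 1).factorization r := by
  have hr12 : r ∣ q ^ 12 - 1 := dvd_trans hrq (ORDE6_dvd q hq)
  have hnd : ∀ d : ℕ, d ∣ 3 → ¬ r ∣ d := by
    intro d hd hrd
    have := Nat.le_of_dvd (by norm_num) (dvd_trans hrd hd)
    omega
  constructor
  · have h1 : r ∣ dF * cF := by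
      rw [hcF]; exact Dvd.dvd.mul_left hr12 _
    rcases (Nat.Prime.dvd_mul hr).mp h1 with h | h
    · exact absurd h (hnd dF hdF)
    · exact h
  · set Q : ℕ := q ^ 12 with hQdef
    have hQ : 2 ≤ Q := le_trans hq (Nat.le_self_pow (by norm_num) q)
    have hQi : ∀ i : ℕ, 0 < i → 2 ≤ Q ^ i := fun i hi =>
      le_trans hQ (Nat.le_self_pow (by omega) Q)
    have hne : ∀ i : ℕ, 0 < i → Q ^ i - 1 ≠ 0 := fun i hi => by
      have := hQi i hi; omega
    have hf : ∀ i : ℕ, 0 < i → i < 13 → (Q ^ i - 1).factorization r = (Q - 1).factorization r :=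
      fun i hi hi' => Cfsg.Agent.Helper69.Tor.factorization_pow_sub_one hr hQ hr12 hi (by omega)
    have hrQ : ¬ r ∣ Q := by
      intro h
      have h1 : r ∣ 1 := by
        have : Q = (Q - 1) + 1 := by omega
        rw [this] at h
        exact (Nat.dvd_add_right hr12).mp h
      have := Nat.le_of_dvd (by norm_num) h1
      omega
    have hQ36 : (Q ^ 36).factorization r = 0 :=
      Nat.factorization_eq_zero_of_not_dvd (fun h => hrQ (hr.dvd_of_dvd_pow h))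
    have hQ36ne : Q ^ 36 ≠ 0 := by
      have := hQi 36 (by norm_num); omega
    have hdK0 : dK ≠ 0 := by
      rintro rfl
      simp at hdK
    have hP0 : Q ^ 36 * (Q ^ 2 - 1) * (Q ^ 5 - 1) * (Q ^ 6 - 1) * (Q ^ 8 - 1) * (Q ^ 9 - 1) *
        (Q ^ 12 - 1) ≠ 0 := by
      have h2 := hne 2 (by norm_num)
      have h5 := hne 5 (by norm_num)
      have h6 := hne 6 (by norm_num)
      have h8 := hne 8 (by norm_num)
      have h9 := hne 9 (by norm_num)
      have h12 := hne 12 (by norm_num)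
      exact mul_ne_zero (mul_ne_zero (mul_ne_zero (mul_ne_zero (mul_ne_zero (mul_ne_zero hQ36ne h2)
        h5) h6) h8) h9) h12
    have hcK0 : cK ≠ 0 := by
      rintro rfl
      rw [mul_zero] at hcK
      exact hP0 hcK.symm
    have hL : (dK * cK).factorization r = cK.factorization r := by
      rw [ORDE6_fmul hdK0 hcK0, Nat.factorization_eq_zero_of_not_dvd (hnd dK hdK), zero_add]
    rw [← hL, hcK]
    have h2 := hne 2 (by norm_num)
    have h5 := hne 5 (by norm_num)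
    have h6 := hne 6 (by norm_num)
    have h8 := hne 8 (by norm_num)
    have h9 := hne 9 (by norm_num)
    have h12 := hne 12 (by norm_num)
    have m1 := mul_ne_zero hQ36ne h2
    have m2 := mul_ne_zero m1 h5
    have m3 := mul_ne_zero m2 h6
    have m4 := mul_ne_zero m3 h8
    have m5 := mul_ne_zero m4 h9
    rw [ORDE6_fmul m5 h12, ORDE6_fmul m4 h9, ORDE6_fmul m3 h8, ORDE6_fmul m2 h6, ORDE6_fmul m1 h5,
      ORDE6_fmul hQ36ne h2, hQ36, hf 2 (by norm_num) (by norm_num), hf 5 (by norm_num) (by norm_num),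
      hf 6 (by norm_num) (by norm_num), hf 8 (by norm_num) (by norm_num),
      hf 9 (by norm_num) (by norm_num), hf 12 (by norm_num) (by norm_num)]
    ring

end Cfsg.Agent.Helper49.E6Tor
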