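import Cfsg.Agent.Helper40.E6Tor.Defs

/-!
Helper49: piece (WENUM0) of helper40's E6TOR farm (#14814, S2373): certified enumeration for the
representative number 0 of the first row.
-/

set_option autoImplicit false

namespace Cfsg.Agent.Helper49.E6Tor

open Cfsg.Agent.Helper40.E6Tor

set_option maxRecDepth 100000 in
/-- (WENUM0) -/
theorem chk_rep0 : chk [1,0,0,0,0,0] = true := by
  decide +kernel

end Cfsg.Agent.Helper49.E6Tor
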