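import Mathlib
import Cfsg.Agent.Helper96.E7.Data
import Cfsg.Agent.Helper96.AltStemA

/-!
# (U) of #7993 (helper96, S2093): the upper bound for the kernel of a perfect central extension
of a group generated by seven involutions with the `E_7` Coxeter relations

`card_ker_le_two_aux` takes piece (Γ′) (`two_mul_card_le_of_relations`) as an explicit hypothesis.
-/

set_option autoImplicit false

namespace Cfsg.Agent.Helper49.E7U

open Cfsg.Agent.Helper96.E7 (cm)
open Cfsg.Agent.Helper96.AltStem
open scoped commutatorElement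

/-- the Coxeter group `W(E_7)` -/
abbrev W : Type := CoxeterMatrix.E₇.Group

universe uG uE

section lift

variable {G : Type uG} {E : Type uE} [Group G] [Group E] (p : E →* G)
  (hp : Function.Surjective p) (hker : p.ker ≤ Subgroup.center E)

include hp hker in
/-- lifting a braid relation through a central extension -/
theorem exists_braid_lift {a b : G} (hab : a * b * a = b * a * b) (y : E) (hy : p y = a) :
    ∃ x : E, p x = b ∧ y * x * y = x * y * x := by
  obtain ⟨e, he⟩ := hp b
  set l : E := (e * y * e)⁻¹ * (y * e * y) with hl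
  have hlk : l ∈ p.ker := by
    rw [MonoidHom.mem_ker, hl]
    simp only [map_mul, map_inv, he, hy]
    rw [hab, inv_mul_cancel]
  have hlc : ∀ g : E, g * l = l * g := fun g => Subgroup.mem_center_iff.mp (hker hlk) g
  refine ⟨e * l, by rw [map_mul, he, MonoidHom.mem_ker.mp hlk, mul_one], ?_⟩
  have h1 : y * e * y = e * y * e * l := by rw [hl]; group
  calc y * (e * l) * y = y * e * (l * y) := by simp only [mul_assoc]
    _ = y * e * (y * l) := by rw [hlc y]
    _ = y * e * y * l := by simp only [mul_assoc]
    _ = e * y * e * l * l := by rw [h1]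
    _ = e * y * (e * l) * l := by simp only [mul_assoc]
    _ = e * y * (l * e) * l := by rw [hlc e]
    _ = e * (y * l) * (e * l) := by simp only [mul_assoc]
    _ = e * (l * y) * (e * l) := by rw [hlc y]
    _ = e * l * y * (e * l) := by simp only [mul_assoc]

theorem cm_self : ∀ i : Fin 7, cm i i = 1 := by decide

/-- involutions -/
theorem sq_of_cox {d : Fin 7 → G} (hd : ∀ i j, (d i * d j) ^ cm i j = 1) (i : Fin 7) :
    d i * d i = 1 := by
  have := hd i i
  rwa [cm_self, pow_one] at this

/-- the braid relation from the Coxeter relation -/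
theorem braid_of_cox {d : Fin 7 → G} (hd : ∀ i j, (d i * d j) ^ cm i j = 1) (i j : Fin 7)
    (h : cm i j = 3) : d i * d j * d i = d j * d i * d j := by
  have h3 := hd i j
  rw [h] at h3
  have hi := sq_of_cox hd i
  have hj := sq_of_cox hd j
  have hi' : (d i)⁻¹ = d i := inv_eq_of_mul_eq_one_left hi
  have hj' : (d j)⁻¹ = d j := inv_eq_of_mul_eq_one_left hj
  have h4 : d i * d j * d i * (d j * d i * d j) = 1 := by
    rw [← h3]
    simp only [pow_succ, pow_zero, one_mul, mul_assoc]
  have h5 := eq_inv_of_mul_eq_one_left h4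
  rw [h5, mul_inv_rev, mul_inv_rev, hi', hj', mul_assoc]

/-- commuting from the Coxeter relation -/
theorem comm_of_cox {d : Fin 7 → G} (hd : ∀ i j, (d i * d j) ^ cm i j = 1) (i j : Fin 7)
    (h : cm i j = 2) : d i * d j = d j * d i := by
  have h2 := hd i j
  rw [h] at h2
  have hi := sq_of_cox hd i
  have hj := sq_of_cox hd j
  have hi' : (d i)⁻¹ = d i := inv_eq_of_mul_eq_one_left hi
  have hj' : (d j)⁻¹ = d j := inv_eq_of_mul_eq_one_left hj
  have h4 : d i * d j * (d i * d j) = 1 := by
    rw [← h2]
    simp only [pow_succ, pow_zero, one_mul]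
  have h5 := eq_inv_of_mul_eq_one_left h4
  rw [h5, mul_inv_rev, hi', hj']

include hp hker in
/-- lifts of the seven generators satisfying the braid relations -/
theorem exists_lifts (d : Fin 7 → G) (hd : ∀ i j, (d i * d j) ^ cm i j = 1) :
    ∃ x : Fin 7 → E, (∀ i, p (x i) = d i) ∧
      ∀ i j, cm i j = 3 → x i * x j * x i = x j * x i * x j := by
  obtain ⟨x0, h0⟩ := hp (d 0)
  obtain ⟨x2, h2, b02⟩ := exists_braid_lift p hp hker (braid_of_cox hd 0 2 (by decide)) x0 h0
  obtain ⟨x3, h3, b23⟩ := exists_braid_lift p hp hker (braid_of_cox hd 2 3 (by decide)) x2 h2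
  obtain ⟨x1, h1, b31⟩ := exists_braid_lift p hp hker (braid_of_cox hd 3 1 (by decide)) x3 h3
  obtain ⟨x4, h4, b34⟩ := exists_braid_lift p hp hker (braid_of_cox hd 3 4 (by decide)) x3 h3
  obtain ⟨x5, h5, b45⟩ := exists_braid_lift p hp hker (braid_of_cox hd 4 5 (by decide)) x4 h4
  obtain ⟨x6, h6, b56⟩ := exists_braid_lift p hp hker (braid_of_cox hd 5 6 (by decide)) x5 h5
  refine ⟨![x0, x1, x2, x3, x4, x5, x6], ?_, ?_⟩
  · intro i
    fin_cases i
    · exact h0
    · exact h1
    · exact h2
    · exact h3
    · exact h4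
    · exact h5
    · exact h6
  · intro i j hij
    fin_cases i <;> fin_cases j <;>
      first
        | (exfalso; revert hij; decide)
        | exact b02 | exact b02.symm | exact b23 | exact b23.symm | exact b31 | exact b31.symm
        | exact b34 | exact b34.symm | exact b45 | exact b45.symm | exact b56 | exact b56.symm

end lift

/-- (U) with (Γ′) as a hypothesis -/
theorem card_ker_le_two_aux {G : Type uG} {E : Type uE} [Group G] [Group E] [Finite E]
    (p : E →* G)
    (hp : Function.Surjective p) (hker : p.ker ≤ Subgroup.center E) (hperf : commutator E = ⊤)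
    (d : Fin 7 → G) (hd : ∀ i j, (d i * d j) ^ cm i j = 1)
    (hgen : Subgroup.closure (Set.range d) = ⊤)
    (hconj : ∀ i j, i < j → cm i j = 2 → ∃ g : G, g * d i = d 0 * g ∧ g * d j = d 1 * g)
    (hcard : Nat.card W ≤ 2 * Nat.card G)
    (hΓ : ∀ (H : Type uE) [Group H] [Finite H] (x : Fin 7 → H),
      (∀ i j, cm i j = 3 → x i * x j * x i = x j * x i * x j) →
      (∀ i j, cm i j = 2 → x i * x j = x j * x i) →
      (∀ i j, x i * x i * x j = x j * (x i * x i)) →
      Subgroup.closure (Set.range x) = ⊤ → commutator H = ⊤ → 2 * Nat.card H ≤ Nat.card W) :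
    Nat.card p.ker ≤ 2 := by
  obtain ⟨x, hx, hbr⟩ := exists_lifts p hp hker d hd
  have hsqG : ∀ i, d i * d i = 1 := sq_of_cox hd
  -- central squares
  have hz : ∀ i j, x i * x i * x j = x j * (x i * x i) := by
    intro i j
    have hk : x i * x i ∈ p.ker := by rw [MonoidHom.mem_ker, map_mul, hx, hsqG]
    exact (Subgroup.mem_center_iff.mp (hker hk) (x j)).symm
  set c : E := ⁅x 0, x 1⁆ with hc
  have hck : ∀ i j, cm i j = 2 → ⁅x i, x j⁆ ∈ p.ker := by
    intro i j h
    apply comm_mem_ker p hker
    rw [hx, hx]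
    exact comm_of_cox hd i j h
  have hc_lt : ∀ i j, i < j → cm i j = 2 → ⁅x i, x j⁆ = c := by
    intro i j hij h2
    obtain ⟨g, hg1, hg2⟩ := hconj i j hij h2
    obtain ⟨g', hg'⟩ := hp g
    have e1 : p (g' * x i * g'⁻¹) = p (x 0) := by
      rw [map_mul, map_mul, map_inv, hg', hx, hx, hg1, mul_inv_cancel_right]
    have e2 : p (g' * x j * g'⁻¹) = p (x 1) := by
      rw [map_mul, map_mul, map_inv, hg', hx, hx, hg2, mul_inv_cancel_right]
    have h3 := comm_congr p hker e1 e2
    have h4 : ⁅g' * x i * g'⁻¹, g' * x j * g'⁻¹⁆ = g' * ⁅x i, x j⁆ * g'⁻¹ := by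
      simp only [commutatorElement_def]; group
    have h5 := conj_ker p hker (hck i j h2) g'
    rw [h4, h5] at h3
    exact h3
  have hck01 : c ∈ p.ker := hck 0 1 (by decide)
  have hcc : ∀ g : E, g * c = c * g := fun g => Subgroup.mem_center_iff.mp (hker hck01) g
  -- `c * c = 1`
  have hc2 : c * c = 1 := by
    have h1 : c * x 1 = x 0 * x 1 * (x 0)⁻¹ := by
      rw [hc, commutatorElement_def]; group
    have h2 : c * x 1 * (c * x 1) = x 1 * x 1 := by
      rw [h1]
      calc x 0 * x 1 * (x 0)⁻¹ * (x 0 * x 1 * (x 0)⁻¹) = x 0 * (x 1 * x 1) * (x 0)⁻¹ := by group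
        _ = x 1 * x 1 * x 0 * (x 0)⁻¹ := by rw [← hz 1 0]
        _ = x 1 * x 1 := by group
    have h3 : c * x 1 * (c * x 1) = c * c * (x 1 * x 1) := by
      calc c * x 1 * (c * x 1) = c * (x 1 * c) * x 1 := by simp only [mul_assoc]
        _ = c * (c * x 1) * x 1 := by rw [hcc (x 1)]
        _ = c * c * (x 1 * x 1) := by simp only [mul_assoc]
    rw [h3] at h2
    exact mul_eq_right.mp h2 |> fun h => h
  set C : Subgroup E := Subgroup.zpowers c with hC
  have hCcen : C ≤ Subgroup.center E := by
    rw [hC, Subgroup.zpowers_le]; exact hker hck01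
  haveI hCn : C.Normal := ⟨fun y hy g => by
    have hyc := hCcen hy
    have : g * y * g⁻¹ = y := by
      rw [Subgroup.mem_center_iff] at hyc
      rw [hyc g, mul_inv_cancel_right]
    rw [this]; exact hy⟩
  -- all commutators of non-adjacent generators lie in `C`
  have hcC : ∀ i j, cm i j = 2 → ⁅x i, x j⁆ ∈ C := by
    intro i j h2
    rcases lt_trichotomy i j with hij | hij | hij
    · rw [hc_lt i j hij h2]; exact Subgroup.mem_zpowers c
    · exfalso; rw [hij, cm_self] at h2; omega
    · have h2' : cm j i = 2 := by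
        revert h2; revert i j; decide
      rw [← commutatorElement_inv, hc_lt j i hij h2']
      exact inv_mem (Subgroup.mem_zpowers c)
  -- the closure of the lifts is everything
  have hK : Subgroup.closure (Set.range x) = ⊤ := by
    set K := Subgroup.closure (Set.range x) with hKdef
    have hKmap : K.map p = ⊤ := by
      rw [hKdef, MonoidHom.map_closure, ← Set.range_comp]
      have : (p : E → G) ∘ x = d := funext hx
      rw [this, hgen]
    have hex : ∀ e : E, ∃ k ∈ K, p k = p e := by
      intro e
      have : p e ∈ K.map p := by rw [hKmap]; trivial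
      exact this
    have hsub : commutatorSet E ⊆ K := by
      rintro _ ⟨e1, e2, rfl⟩
      obtain ⟨k1, hk1, hk1'⟩ := hex e1
      obtain ⟨k2, hk2, hk2'⟩ := hex e2
      rw [comm_congr p hker hk1'.symm hk2'.symm, commutatorElement_def]
      exact K.mul_mem (K.mul_mem (K.mul_mem hk1 hk2) (K.inv_mem hk1)) (K.inv_mem hk2)
    have hle : commutator E ≤ K := by
      rw [commutator_eq_closure]; exact (Subgroup.closure_le K).mpr hsub
    rw [hperf] at hle
    exact top_le_iff.mp hle
  -- the quotient
  set f : E →* E ⧸ C := QuotientGroup.mk' C with hf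
  have hfs : Function.Surjective f := QuotientGroup.mk'_surjective C
  have hbound := hΓ (E ⧸ C) (fun i => f (x i))
    (fun i j h => by
      have := congrArg f (hbr i j h)
      simpa only [map_mul] using this)
    (fun i j h => by
      have h1 : f ⁅x i, x j⁆ = 1 := by
        rw [hf, QuotientGroup.mk'_apply, QuotientGroup.eq_one_iff]; exact hcC i j h
      rw [map_commutatorElement, commutatorElement_eq_one_iff_mul_comm] at h1
      exact h1)
    (fun i j => by
      have := congrArg f (hz i j)
      simpa only [map_mul] using this)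
    (by
      have h1 : (Subgroup.closure (Set.range x)).map f = ⊤ := by
        rw [hK, Subgroup.map_top_of_surjective f hfs]
      rw [MonoidHom.map_closure, ← Set.range_comp] at h1
      exact h1)
    (by
      rw [commutator_def, ← Subgroup.map_top_of_surjective f hfs, ← Subgroup.map_commutator,
        ← commutator_def, hperf])
  -- counting
  haveI : Finite G := Finite.of_surjective p hp
  have h1 : Nat.card E = Nat.card G * Nat.card p.ker := by
    rw [Subgroup.card_eq_card_quotient_mul_card_subgroup p.ker,
      Nat.card_congr (QuotientGroup.quotientKerEquivOfSurjective p hp).toEquiv]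
  have h2 : Nat.card E = Nat.card (E ⧸ C) * Nat.card C :=
    Subgroup.card_eq_card_quotient_mul_card_subgroup C
  have h3 : Nat.card C ≤ 2 := by
    rw [hC, Nat.card_zpowers]
    apply Nat.le_of_dvd (by norm_num)
    apply orderOf_dvd_of_pow_eq_one
    rw [sq, hc2]
  have h5 : Nat.card (E ⧸ C) ≤ Nat.card G := by omega
  have hGpos : 0 < Nat.card G := Nat.card_pos
  have h6 : Nat.card G * Nat.card p.ker ≤ Nat.card G * 2 := by
    rw [← h1, h2]
    exact Nat.mul_le_mul h5 h3
  exact Nat.le_of_mul_le_mul_left h6 hGpos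

end Cfsg.Agent.Helper49.E7U
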