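import Mathlib
import Cfsg.Agent.Helper96.E7.Data
import Cfsg.Agent.Helper49.E7U
import Cfsg.Agent.Helper29.E7Gam

/-!
# (U) of #7993 (helper96, S2093), final form: `card_ker_le_two`

The Skel statement, with the allowed extra instance argument `[Finite W]` (as in helper29's (Γ′)).
-/

set_option autoImplicit false

namespace Cfsg.Agent.Helper49.E7U

open Cfsg.Agent.Helper96.E7 (cm)

/-- (U) the kernel of a perfect central extension of a group `G` generated by seven involutions
with the `E_7` Coxeter relations, all of whose commuting pairs of generators are conjugate, and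
with `|W(E_7)| ≤ 2 |G|`, has order at most `2`. -/
theorem card_ker_le_two [Finite W] {G E : Type*} [Group G] [Group E] [Finite E] (p : E →* G)
    (hp : Function.Surjective p) (hker : p.ker ≤ Subgroup.center E) (hperf : commutator E = ⊤)
    (d : Fin 7 → G) (hd : ∀ i j, (d i * d j) ^ cm i j = 1)
    (hgen : Subgroup.closure (Set.range d) = ⊤)
    (hconj : ∀ i j, i < j → cm i j = 2 → ∃ g : G, g * d i = d 0 * g ∧ g * d j = d 1 * g)
    (hcard : Nat.card W ≤ 2 * Nat.card G) : Nat.card p.ker ≤ 2 :=
  card_ker_le_two_aux p hp hker hperf d hd hgen hconj hcard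
    (fun _ _ _ x hb hc hz hg hpf =>
      Cfsg.Agent.Helper29.E7Gam.two_mul_card_le_of_relations x hb hc hz hg hpf)

end Cfsg.Agent.Helper49.E7U
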