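import Mathlib
import Cfsg.Agent.Helper1.FFStruct

set_option autoImplicit false
set_option linter.style.haveILetI false

/-!
The `O₃` of the product structure of KS 9.3.7 for `p = 2` (helper49): with `H = E_1 × ⋯ × E_r`,
`E_i ≅ S₃`, the subgroup `D3 V H` generated by the squares of the elements of the `E_i` is an
elementary abelian `3`-group, every square of an element of `H` lies in it, and it is invariant
under automorphisms fixing `V` and `H`.
-/

namespace Cfsg.Agent.Helper49.FFProd

open Subgroup Cfsg.Agent.Helper1.FF Cfsg.Agent.Helper1.AutInv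

theorem card_SL22 : Nat.card (Matrix.SpecialLinearGroup (Fin 2) (ZMod 2)) = 6 := by
  rw [Nat.card_eq_fintype_card]; decide

/-- In a group of order 6, squares commute. -/
theorem sq_commute_of_card_six {E : Type*} [Group E] (h : Nat.card E = 6) (a b : E) :
    a ^ 2 * b ^ 2 = b ^ 2 * a ^ 2 := by
  haveI : Finite E := Nat.finite_of_card_ne_zero (by omega)
  haveI : Fact (Nat.Prime 3) := ⟨by norm_num⟩
  obtain ⟨x, hx⟩ := exists_prime_orderOf_dvd_card' (G := E) 3 (by rw [h]; norm_num)
  have hc : Nat.card (zpowers x) = 3 := by rw [Nat.card_zpowers, hx]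
  have hi : (zpowers x).index = 2 := by
    have := (zpowers x).card_mul_index
    rw [hc, h] at this
    omega
  have ha := sq_mem_of_index_two hi a
  have hb := sq_mem_of_index_two hi b
  obtain ⟨m, hm⟩ := mem_zpowers_iff.1 ha
  obtain ⟨n, hn⟩ := mem_zpowers_iff.1 hb
  rw [← hm, ← hn, ← zpow_add, ← zpow_add, add_comm]

theorem pow_six_of_card_six {E : Type*} [Group E] (h : Nat.card E = 6) (a : E) :
    (a ^ 2) ^ 3 = 1 := by
  haveI : Finite E := Nat.finite_of_card_ne_zero (by omega)
  rw [← pow_mul, show 2 * 3 = Nat.card E from by rw [h]]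
  exact pow_card_eq_one'

variable {G : Type*} [Group G]

/-- the squares of the elements of the `E_A` -/
def sqSet (V H : Subgroup G) : Set G :=
  {x | ∃ A, IsMinOff 2 V H A ∧ ∃ e ∈ EE 2 H A, x = e ^ 2}

/-- `O₃(H)` -/
def D3 (V H : Subgroup G) : Subgroup G := closure (sqSet V H)

variable [Finite G] {V H : Subgroup G}


theorem card_EE_two (hyp : FFHyp 2 V H) {A : Subgroup G} (hA : IsMinOff 2 V H A) :
    Nat.card (EE 2 H A) = 6 := by
  obtain ⟨e⟩ := (hyp.s616 hA).2.1
  rw [Nat.card_congr e.toEquiv, card_SL22]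

theorem pow_three_of_mem_sqSet (hyp : FFHyp 2 V H) {x : G} (hx : x ∈ sqSet V H) : x ^ 3 = 1 := by
  obtain ⟨A, hA, e, he, rfl⟩ := hx
  have := pow_six_of_card_six (card_EE_two hyp hA) ⟨e, he⟩
  exact congrArg Subtype.val this

theorem commute_sqSet (hyp : FFHyp 2 V H) {x y : G} (hx : x ∈ sqSet V H) (hy : y ∈ sqSet V H) :
    x * y = y * x := by
  obtain ⟨A, hA, e, he, rfl⟩ := hx
  obtain ⟨B, hB, f, hf, rfl⟩ := hy
  by_cases hne : EE 2 H A = EE 2 H B
  · rw [← hne] at hf
    have := sq_commute_of_card_six (card_EE_two hyp hA) ⟨e, he⟩ ⟨f, hf⟩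
    exact congrArg Subtype.val this
  · have h1 := hyp.commute_EE_of_ne hA hB hne e he f hf
    exact (h1.pow_pow 2 2).eq

theorem sqSet_subset (hyp : FFHyp 2 V H) : sqSet V H ⊆ (H : Set G) := by
  rintro x ⟨A, hA, e, he, rfl⟩
  exact H.pow_mem (hyp.EE_le hA he) 2

theorem D3_le (hyp : FFHyp 2 V H) : D3 V H ≤ H := by
  unfold D3
  rw [closure_le]
  exact sqSet_subset hyp

theorem commute_D3 (hyp : FFHyp 2 V H) {a b : G} (ha : a ∈ D3 V H) (hb : b ∈ D3 V H) :
    a * b = b * a := by
  letI := closureCommGroupOfComm (k := sqSet V H) (fun x hx y hy => commute_sqSet hyp hx hy)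
  have := mul_comm (⟨a, ha⟩ : closure (sqSet V H)) ⟨b, hb⟩
  exact congrArg Subtype.val this

theorem pow_three_of_mem_D3 (hyp : FFHyp 2 V H) {d : G} (hd : d ∈ D3 V H) : d ^ 3 = 1 := by
  have key : ∀ x ∈ closure (sqSet V H), x ^ 3 = 1 := by
    intro x hx
    induction hx using closure_induction with
    | mem x hx => exact pow_three_of_mem_sqSet hyp hx
    | one => exact one_pow 3
    | mul x y hx hy ihx ihy =>
      have hc : Commute x y := commute_D3 hyp hx hy
      rw [hc.mul_pow, ihx, ihy, one_mul]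
    | inv x hx ih => rw [inv_pow, ih, inv_one]
  exact key d hd

/-- every square of an element of `H` lies in `D3`. -/
theorem sq_mem_D3 (hyp : FFHyp 2 V H) {h : G} (hh : h ∈ H) : h ^ 2 ∈ D3 V H := by
  classical
  haveI : Fintype (Idx 2 V H) := Fintype.ofFinite _
  have hcomm : Pairwise fun i j : Idx 2 V H =>
      ∀ x y : G, x ∈ (i : Subgroup G) → y ∈ (j : Subgroup G) → Commute x y := by
    intro i j hij x y hx hy
    obtain ⟨A, hA, hiA⟩ := exists_minOff_of_idx i
    obtain ⟨B, hB, hjB⟩ := exists_minOff_of_idx j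
    rw [hiA] at hx
    rw [hjB] at hy
    refine hyp.commute_EE_of_ne hA hB ?_ x hx y hy
    intro heq
    apply hij
    apply Subtype.ext
    rw [hiA, hjB, heq]
  have hr := noncommPiCoprod_range (hcomm := hcomm)
  rw [hyp.iSup_idx] at hr
  rw [← hr] at hh
  obtain ⟨f, rfl⟩ := hh
  rw [← map_pow, noncommPiCoprod_apply]
  apply Subgroup.noncommProd_mem
  intro i _
  obtain ⟨A, hA, hiA⟩ := exists_minOff_of_idx i
  apply Subgroup.subset_closure
  refine ⟨A, hA, (f i : G), ?_, ?_⟩
  · rw [← hiA]; exact (f i).2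
  · simp

/-- invariance under automorphisms fixing `V` and `H`. -/
theorem D3_map (φ : G ≃* G) (hV : V.map φ.toMonoidHom = V) (hH : H.map φ.toMonoidHom = H) :
    (D3 V H).map φ.toMonoidHom = D3 V H := by
  have key : ∀ ψ : G ≃* G, V.map ψ.toMonoidHom = V → H.map ψ.toMonoidHom = H →
      (D3 V H).map ψ.toMonoidHom ≤ D3 V H := by
    intro ψ hV hH
    unfold D3
    rw [MonoidHom.map_closure, closure_le]
    rintro _ ⟨x, ⟨A, hA, e, he, rfl⟩, rfl⟩
    apply Subgroup.subset_closure
    refine ⟨A.map ψ.toMonoidHom, isMinOff_map ψ hV hH hA, ψ e, ?_, ?_⟩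
    · rw [← EE_map ψ hH]
      exact ⟨e, he, rfl⟩
    · simp
  apply le_antisymm (key φ hV hH)
  have h1 := key φ.symm (map_symm_of_map_eq φ hV) (map_symm_of_map_eq φ hH)
  have h2 := Subgroup.map_mono (f := φ.toMonoidHom) h1
  rwa [map_map_symm] at h2

end Cfsg.Agent.Helper49.FFProd
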