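import Mathlib
import Cfsg.Agent.Helper73.Taussky

/-!
# (G-F1) of board #4463 (helper82, S4923): a 2-group whose commutator subgroup has index 4 has a
cyclic maximal subgroup `⟨g⟩` on which some `x` acts by `g ↦ g ^ r`, `r ≡ -1` or `-1 + 2^(n-2)`.
-/

set_option autoImplicit false

namespace Cfsg.Agent.Helper49.FVF1

open Subgroup

/-- square roots of `1` modulo `2 ^ k` -/
theorem sq_modEq_one_two_pow (k : ℕ) (hk : 2 ≤ k) (r : ℕ) (h : r * r ≡ 1 [MOD 2 ^ k]) :
    r ≡ 1 [MOD 2 ^ k] ∨ r + 1 ≡ 0 [MOD 2 ^ k] ∨ r + 1 ≡ 2 ^ (k - 1) [MOD 2 ^ k] ∨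
      r ≡ 1 + 2 ^ (k - 1) [MOD 2 ^ k] := by
  obtain ⟨j, rfl⟩ : ∃ j, k = j + 2 := ⟨k - 2, by omega⟩
  have hpow : 2 ^ (j + 2) = 4 * 2 ^ j := by rw [pow_add]; ring
  have hpow1 : 2 ^ (j + 2 - 1) = 2 * 2 ^ j := by
    have : j + 2 - 1 = j + 1 := by omega
    rw [this, pow_succ]; ring
  -- `r` is odd
  have hodd : r % 2 = 1 := by
    by_contra hne
    have hev : r % 2 = 0 := by omega
    have h2 : (2 : ℕ) ∣ r * r := Dvd.dvd.mul_right (Nat.dvd_of_mod_eq_zero hev) r
    have h3 : (2 : ℕ) ∣ 2 ^ (j + 2) := dvd_pow_self 2 (by omega)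
    have h4 := (Nat.ModEq.dvd_iff h h3).1 h2
    omega
  obtain ⟨s, rfl⟩ : ∃ s, r = 2 * s + 1 := ⟨r / 2, by omega⟩
  -- `2 ^ j ∣ s * (s + 1)`
  have hdvd : 2 ^ j ∣ s * (s + 1) := by
    have h1 : (2 * s + 1) * (2 * s + 1) = 4 * (s * (s + 1)) + 1 := by ring
    rw [h1] at h
    have h2 : 4 * (s * (s + 1)) ≡ 0 [MOD 2 ^ (j + 2)] := by
      have : 4 * (s * (s + 1)) + 1 ≡ 0 + 1 [MOD 2 ^ (j + 2)] := by simpa using h
      exact Nat.ModEq.add_right_cancel' 1 this
    have h3 : 2 ^ (j + 2) ∣ 4 * (s * (s + 1)) := (Nat.modEq_zero_iff_dvd).1 h2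
    rw [hpow] at h3
    exact (Nat.mul_dvd_mul_iff_left (by norm_num : 0 < 4)).1 h3
  rw [hpow, hpow1]
  rcases Nat.even_or_odd s with hs | hs
  · -- `s` even: `2 ^ j ∣ s`
    have h1 : ¬ 2 ∣ s + 1 := by
      obtain ⟨t, ht⟩ := hs
      omega
    have h2 : 2 ^ j ∣ s :=
      Nat.prime_two.prime.pow_dvd_of_dvd_mul_right j h1 hdvd
    obtain ⟨u, rfl⟩ := h2
    rcases Nat.even_or_odd u with hu | hu
    · left
      obtain ⟨v, rfl⟩ := hu
      show (2 * (2 ^ j * (v + v)) + 1) % (4 * 2 ^ j) = 1 % (4 * 2 ^ j)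
      have : 2 * (2 ^ j * (v + v)) + 1 = 4 * 2 ^ j * v + 1 := by ring
      rw [this, Nat.mul_add_mod]
    · right; right; right
      obtain ⟨v, rfl⟩ := hu
      show (2 * (2 ^ j * (2 * v + 1)) + 1) % (4 * 2 ^ j) = (1 + 2 * 2 ^ j) % (4 * 2 ^ j)
      have : 2 * (2 ^ j * (2 * v + 1)) + 1 = 4 * 2 ^ j * v + (1 + 2 * 2 ^ j) := by ring
      rw [this, Nat.mul_add_mod]
  · -- `s` odd: `2 ^ j ∣ s + 1`
    have h1 : ¬ 2 ∣ s := by
      obtain ⟨t, ht⟩ := hs
      omega
    have h2 : 2 ^ j ∣ s + 1 :=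
      Nat.prime_two.prime.pow_dvd_of_dvd_mul_left j h1 hdvd
    obtain ⟨u, hu'⟩ := h2
    right
    rcases Nat.even_or_odd u with hu | hu
    · left
      obtain ⟨v, rfl⟩ := hu
      show (2 * s + 1 + 1) % (4 * 2 ^ j) = 0 % (4 * 2 ^ j)
      have : 2 * s + 1 + 1 = 4 * 2 ^ j * v + 0 := by
        have : 2 * s + 1 + 1 = 2 * (s + 1) := by ring
        rw [this, hu']; ring
      rw [this, Nat.mul_add_mod]
    · right; left
      obtain ⟨v, rfl⟩ := hu
      show (2 * s + 1 + 1) % (4 * 2 ^ j) = (2 * 2 ^ j) % (4 * 2 ^ j)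
      have : 2 * s + 1 + 1 = 4 * 2 ^ j * v + 2 * 2 ^ j := by
        have : 2 * s + 1 + 1 = 2 * (s + 1) := by ring
        rw [this, hu']; ring
      rw [this, Nat.mul_add_mod]

/-- **(G-F1)** -/
theorem exists_gen_of_index_four {P : Type*} [Group P] [Finite P] (n : ℕ) (hn : 3 ≤ n)
    (hP : Nat.card P = 2 ^ n) (h4 : (commutator P).index = 4) :
    ∃ (g x : P) (r : ℕ), orderOf g = 2 ^ (n - 1) ∧ x * g * x⁻¹ = g ^ r ∧ g ^ r ≠ g ∧
      (r + 1 ≡ 0 [MOD 2 ^ (n - 1)] ∨ r + 1 ≡ 2 ^ (n - 2) [MOD 2 ^ (n - 1)]) := by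
  classical
  obtain ⟨g, hg⟩ := Cfsg.Agent.Helper73.taussky n hn hP h4
  obtain ⟨m, rfl⟩ : ∃ m, n = m + 3 := ⟨n - 3, by omega⟩
  have e1 : m + 3 - 1 = m + 2 := by omega
  have e2 : m + 3 - 2 = m + 1 := by omega
  rw [e1] at hg ⊢
  rw [e2]
  set C : Subgroup P := zpowers g with hC
  have hCcard : Nat.card C = 2 ^ (m + 2) := by rw [hC, Nat.card_zpowers, hg]
  have hCidx : C.index = 2 := by
    have h1 := C.card_mul_index
    rw [hCcard, hP] at h1
    have : 2 ^ (m + 3) = 2 ^ (m + 2) * 2 := by rw [pow_succ]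
    rw [this] at h1
    exact Nat.eq_of_mul_eq_mul_left (by positivity) h1
  have hCn : C.Normal := normal_of_index_eq_two hCidx
  have hCcomm : ∀ a ∈ C, ∀ b ∈ C, a * b = b * a := by
    intro a ha b hb
    obtain ⟨i, rfl⟩ := mem_zpowers_iff.1 ha
    obtain ⟨j, rfl⟩ := mem_zpowers_iff.1 hb
    rw [← zpow_add, ← zpow_add, add_comm]
  -- `P` is not abelian
  have hnc : ∃ a b : P, a * b ≠ b * a := by
    by_contra hcon
    push Not at hcon
    have hc := Cfsg.Agent.Helper73.commutator_eq_bot_of_comm hcon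
    rw [hc, index_bot, hP] at h4
    have : 2 ^ (m + 3) = 8 * 2 ^ m := by rw [pow_add]; ring
    have hpos : 0 < 2 ^ m := by positivity
    omega
  -- `|Z(P)| = 2`
  have hZ : Nat.card (center P) = 2 := by
    have h1 := Cfsg.Agent.Helper73.card_eq_card_center_mul_card_commutator C hCidx hCcomm hnc
    have h2 := (commutator P).card_mul_index
    rw [h4, hP] at h2
    have h3 : Nat.card (commutator P) = 2 ^ (m + 1) := by
      have : 2 ^ (m + 3) = 2 ^ (m + 1) * 4 := by ring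
      rw [this] at h2
      exact Nat.eq_of_mul_eq_mul_right (by norm_num) h2
    rw [hCcard, h3] at h1
    have : 2 ^ (m + 2) = 2 * 2 ^ (m + 1) := by rw [pow_succ]; ring
    rw [this] at h1
    exact (Nat.eq_of_mul_eq_mul_right (by positivity) h1).symm
  -- an element of the centre has order at most 2
  have hcen_le : ∀ y : P, y ∈ center P → orderOf y ≤ 2 := by
    intro y hy
    have h1 : zpowers y ≤ center P := (zpowers_le).2 hy
    have h2 := Subgroup.card_le_of_le h1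
    rw [Nat.card_zpowers, hZ] at h2
    exact h2
  -- `g` is not central
  have hgc : ∃ x : P, x * g ≠ g * x := by
    by_contra hcon
    push Not at hcon
    have hgz : g ∈ center P := by
      rw [mem_center_iff]
      intro y
      exact hcon y
    have := hcen_le g hgz
    rw [hg] at this
    have h4' : 2 ^ (m + 2) = 4 * 2 ^ m := by rw [pow_add]; ring
    have hpos : 0 < 2 ^ m := by positivity
    omega
  obtain ⟨x, hx⟩ := hgc
  have hxg : x * g * x⁻¹ ≠ g := by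
    intro h
    exact hx (mul_inv_eq_iff_eq_mul.1 h)
  have hconjC : x * g * x⁻¹ ∈ C := hCn.conj_mem g (mem_zpowers g) x
  obtain ⟨r, hr⟩ := (mem_powers_iff_mem_zpowers.2 hconjC)
  have hr' : x * g * x⁻¹ = g ^ r := hr.symm
  have hne : g ^ r ≠ g := by rw [← hr']; exact hxg
  refine ⟨g, x, r, hg, hr', hne, ?_⟩
  -- `x ∉ C`
  have hxC : x ∉ C := by
    intro h
    exact hx (hCcomm x h g (mem_zpowers g))
  -- `r * r ≡ 1`
  have hx2 : x * x ∈ C := mul_self_mem_of_index_two hCidx x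
  have hrr : g ^ (r * r) = g ^ 1 := by
    have h1 : (x * x) * g * (x * x)⁻¹ = g := by
      have := hCcomm (x * x) hx2 g (mem_zpowers g)
      rw [this]; group
    have h2 : (x * x) * g * (x * x)⁻¹ = x * (x * g * x⁻¹) * x⁻¹ := by group
    rw [h2, hr', ← conj_pow, hr', ← pow_mul] at h1
    rw [h1, pow_one]
  have hmod : r * r ≡ 1 [MOD 2 ^ (m + 2)] := by
    rw [← hg]; exact pow_eq_pow_iff_modEq.1 hrr
  have e3 : m + 2 - 1 = m + 1 := by omega
  rcases sq_modEq_one_two_pow (m + 2) (by omega) r hmod with h | h | h | h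
  · exfalso
    apply hne
    have : g ^ r = g ^ 1 := by
      rw [pow_eq_pow_iff_modEq, hg]; exact h
    rw [this, pow_one]
  · left; exact h
  · right; rw [e3] at h; exact h
  · rw [e3] at h
    rcases Nat.eq_zero_or_pos m with hm | hm
    · -- `n = 3`
      subst hm
      left
      have h' : r ≡ 3 [MOD 4] := by simpa using h
      have : r + 1 ≡ 3 + 1 [MOD 4] := Nat.ModEq.add_right 1 h'
      show r + 1 ≡ 0 [MOD 2 ^ (0 + 2)]
      have h44 : 3 + 1 ≡ 0 [MOD 4] := by decide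
      simpa using this.trans h44
    · -- `n ≥ 4`: `g ^ 2` would be central of order `≥ 4`
      exfalso
      have hxg2 : x * g ^ 2 * x⁻¹ = g ^ 2 := by
        rw [← conj_pow, hr', ← pow_mul]
        rw [pow_eq_pow_iff_modEq, hg]
        have h1 : r * 2 ≡ (1 + 2 ^ (m + 1)) * 2 [MOD 2 ^ (m + 2)] := Nat.ModEq.mul_right 2 h
        have h2 : (1 + 2 ^ (m + 1)) * 2 = 2 ^ (m + 2) * 1 + 2 := by rw [pow_succ 2 (m + 1)]; ring
        rw [h2] at h1
        have h3 : 2 ^ (m + 2) * 1 + 2 ≡ 2 [MOD 2 ^ (m + 2)] := by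
          show (2 ^ (m + 2) * 1 + 2) % 2 ^ (m + 2) = 2 % 2 ^ (m + 2)
          rw [Nat.mul_add_mod]
        exact h1.trans h3
      have hg2C : g ^ 2 ∈ C := pow_mem (mem_zpowers g) 2
      have hg2z : g ^ 2 ∈ center P := by
        rw [mem_center_iff]
        intro y
        by_cases hy : y ∈ C
        · exact hCcomm y hy _ hg2C
        · have hxy : x⁻¹ * y ∈ C := by
            rw [mul_mem_iff_of_index_two hCidx, inv_mem_iff]
            exact ⟨fun h => (hxC h).elim, fun h => (hy h).elim⟩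
          have h1 : y = x * (x⁻¹ * y) := by group
          have h2 := hCcomm (x⁻¹ * y) hxy _ hg2C
          have h3 : x * g ^ 2 = g ^ 2 * x := mul_inv_eq_iff_eq_mul.1 hxg2
          rw [h1, mul_assoc, h2, ← mul_assoc, h3, mul_assoc]
      have h5 := hcen_le (g ^ 2) hg2z
      have h6 : orderOf (g ^ 2) = 2 ^ (m + 1) := by
        rw [orderOf_pow' g (by norm_num : (2 : ℕ) ≠ 0), hg]
        have : Nat.gcd (2 ^ (m + 2)) 2 = 2 := by
          apply Nat.gcd_eq_right
          exact dvd_pow_self 2 (by omega)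
        rw [this, pow_succ 2 (m + 1)]
        simp
      rw [h6] at h5
      have : 2 ^ (m + 1) = 4 * 2 ^ (m - 1) := by
        have : m + 1 = (m - 1) + 2 := by omega
        rw [this, pow_add]; ring
      have hpos : 0 < 2 ^ (m - 1) := by positivity
      omega

end Cfsg.Agent.Helper49.FVF1
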