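import Cfsg.Agent.S0878
import Cfsg.Agent.S0881
import Cfsg.Agent.S0157
import Cfsg.Agent.Helper87.FeitW2
import Cfsg.Agent.Helper52.FeitW3
import Cfsg.Agent.Helper15.PermChar
import Cfsg.Agent.Helper79.FeitData

/-!
# Character fields of `FeitData` for a simple Zassenhaus group (helper49, for helper79's S0885)

`feitData_char_fields` gives the four character-theoretic fields `hlin`, `hps`, `hpsd`, `h2t` of
`Cfsg.Agent.Helper79.Feit.FeitData H e h` for the Frobenius kernel `H` of a point stabilizer of a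
simple Zassenhaus group, stated over `normalizer H` (which equals the point stabilizer by S0878).
-/

set_option autoImplicit false

namespace Cfsg.Agent.Helper49.FeitZ2

open Cfsg MulAction
open scoped ComplexConjugate

/-- An irreducible character is a character. -/
theorem isCharacter_of_isIrr {G : Type*} [Group G] {χ : G → ℂ} (h : IsIrrCharacter G χ) :
    IsCharacter G χ := by
  obtain ⟨n, ρ, _, hρ⟩ := h
  exact ⟨n, ρ, hρ⟩

/-- The permutation character of a transitive action is induced from the trivial character of a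
point stabilizer. -/
theorem indFun_stabilizer_one_eq {G Ω : Type*} [Group G] [Fintype G] [MulAction G Ω]
    [IsPretransitive G Ω] (a : Ω) (g : G) :
    indFun (stabilizer G a) (fun _ => (1 : ℂ)) g = (Nat.card (fixedBy Ω g) : ℂ) := by
  rw [Cfsg.Agent.Helper15.indFun_one_eq, ← Cfsg.Agent.Helper15.card_fixed_in_orbit a g]
  congr 1
  apply Nat.card_congr
  refine Equiv.subtypeEquivRight ?_
  intro x
  rw [mem_fixedBy]
  constructor
  · exact fun h => h.2
  · intro h
    refine ⟨?_, h⟩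
    rw [orbit_eq_univ]
    exact Set.mem_univ x

/-- The four character fields, over an arbitrary subgroup `N` equal to the point stabilizer. -/
theorem char_fields_aux {G Ω : Type*} [Group G] [Fintype G] [MulAction G Ω] [Fintype Ω]
    (hZ : Cfsg.IsZassenhausGroup G Ω) {a b : Ω} (hab : a ≠ b) [IsSimpleGroup G] (h e : ℕ)
    (hh : Fintype.card Ω = h + 1)
    (he : Nat.card ↥(MulAction.stabilizer G a ⊓ MulAction.stabilizer G b : Subgroup G) = e)
    (hodd : Odd e) (hlt : 2 * e < h - 1) (H : Subgroup G)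
    (hHa : H ≤ MulAction.stabilizer G a) (hHcard : Nat.card H + 1 = Fintype.card Ω)
    (hHfix : ∀ u ∈ H, u ≠ 1 → ∀ c : Ω, u • c = c → c = a)
    (hW3 : ∀ μ : MulAction.stabilizer G a → ℂ, Cfsg.IsIrrCharacter (MulAction.stabilizer G a) μ →
      (∀ u : MulAction.stabilizer G a, (u : G) ∈ H → μ u = μ 1) → μ 1 = 1)
    (N : Subgroup G) (hN : N = MulAction.stabilizer G a) :
    (∀ μ : ↥N → ℂ, IsIrrCharacter ↥N μ → (∀ u : ↥N, (u : G) ∈ H → μ u = μ 1) → μ 1 = 1) ∧
    (∀ μ : ↥N → ℂ, IsIrrCharacter ↥N μ → (∀ u : ↥N, (u : G) ∈ H → μ u = μ 1) →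
      μ ≠ (fun _ => 1) →
      IsIrrCharacter G (indFun N μ) ∧ ∀ u ∈ H, u ≠ 1 → indFun N μ u = 1) ∧
    (∀ μ ν : ↥N → ℂ, IsIrrCharacter ↥N μ → (∀ u : ↥N, (u : G) ∈ H → μ u = μ 1) →
      IsIrrCharacter ↥N ν → (∀ u : ↥N, (u : G) ∈ H → ν u = ν 1) →
      indFun N μ = indFun N ν → ν = μ ∨ ν = fun x => conj (μ x)) ∧
    (∃ ψ₀ : G → ℂ, IsIrrCharacter G ψ₀ ∧
      indFun N (fun _ => (1 : ℂ)) = (fun _ => (1 : ℂ)) + ψ₀ ∧ ∀ u ∈ H, u ≠ 1 → ψ₀ u = 0) := by
  subst hN
  have hodd' : Odd (Nat.card ↥(MulAction.stabilizer G a ⊓ MulAction.stabilizer G b : Subgroup G)) := by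
    rw [he]; exact hodd
  have hlt' : Nat.card ↥(MulAction.stabilizer G a ⊓ MulAction.stabilizer G b : Subgroup G)
      < Fintype.card Ω - 2 := by
    rw [he, hh]; omega
  refine ⟨hW3, ?_, ?_, ?_⟩
  · intro μ hμ hμH hμne
    have h1 : μ 1 = 1 := hW3 μ hμ hμH
    exact Cfsg.Agent.S0881.result hZ hab hodd' hlt' H hHa hHcard hHfix μ
      ⟨isCharacter_of_isIrr hμ, h1⟩ (fun u hu => by rw [hμH u hu, h1]) hμne
  · intro μ ν hμ hμH hν hνH heq
    have h1 : μ 1 = 1 := hW3 μ hμ hμH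
    have h2 : ν 1 = 1 := hW3 ν hν hνH
    exact Cfsg.Agent.Helper87.ind_lin_eq_imp hZ hab hodd' H hHa hHcard hHfix μ ν
      ⟨isCharacter_of_isIrr hμ, h1⟩ ⟨isCharacter_of_isIrr hν, h2⟩
      (fun u hu => by rw [hμH u hu, h1]) (fun u hu => by rw [hνH u hu, h2]) heq
  · have h2t : IsMultiplyPretransitive G Ω 2 := hZ.2.1
    have : IsPretransitive G Ω := isPretransitive_of_is_two_pretransitive
    have hX : 2 ≤ Nat.card Ω := by
      rw [Nat.card_eq_fintype_card]
      exact Fintype.one_lt_card_iff.mpr ⟨a, b, hab⟩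
    refine ⟨fun g => (Nat.card (fixedBy Ω g) : ℂ) - 1,
      (Cfsg.Agent.S0157.result Ω hX).mpr h2t, ?_, ?_⟩
    · funext g
      rw [indFun_stabilizer_one_eq a g]
      simp
    · intro u hu hu1
      have hfix : fixedBy Ω u = {a} := by
        ext c
        rw [mem_fixedBy, Set.mem_singleton_iff]
        constructor
        · exact fun hc => hHfix u hu hu1 c hc
        · rintro rfl
          exact hHa hu
      simp only [hfix]
      simp

/-- **(Z2)** The character fields `hlin`, `hps`, `hpsd`, `h2t` of `FeitData H e h`, for the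
Frobenius kernel `H` of a point stabilizer in a simple Zassenhaus group with odd two-point
stabilizer of order `e`, `2e < h - 1`.  `hW3` is the statement of (W3). -/
theorem feitData_char_fields_of_W3 {G Ω : Type*} [Group G] [Fintype G] [MulAction G Ω] [Fintype Ω]
    (hZ : Cfsg.IsZassenhausGroup G Ω) {a b : Ω} (hab : a ≠ b) [IsSimpleGroup G] (h e : ℕ)
    (hh : Fintype.card Ω = h + 1)
    (he : Nat.card ↥(MulAction.stabilizer G a ⊓ MulAction.stabilizer G b : Subgroup G) = e)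
    (hodd : Odd e) (hlt : 2 * e < h - 1) (H : Subgroup G)
    (hHa : H ≤ MulAction.stabilizer G a) (hHcard : Nat.card H + 1 = Fintype.card Ω)
    (hHfix : ∀ u ∈ H, u ≠ 1 → ∀ c : Ω, u • c = c → c = a)
    (hW3 : ∀ μ : MulAction.stabilizer G a → ℂ, Cfsg.IsIrrCharacter (MulAction.stabilizer G a) μ →
      (∀ u : MulAction.stabilizer G a, (u : G) ∈ H → μ u = μ 1) → μ 1 = 1) :
    (∀ μ : ↥(Subgroup.normalizer (H : Set G)) → ℂ,
      IsIrrCharacter ↥(Subgroup.normalizer (H : Set G)) μ →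
      (∀ u : ↥(Subgroup.normalizer (H : Set G)), (u : G) ∈ H → μ u = μ 1) → μ 1 = 1) ∧
    (∀ μ : ↥(Subgroup.normalizer (H : Set G)) → ℂ,
      IsIrrCharacter ↥(Subgroup.normalizer (H : Set G)) μ →
      (∀ u : ↥(Subgroup.normalizer (H : Set G)), (u : G) ∈ H → μ u = μ 1) →
      μ ≠ (fun _ => 1) →
      IsIrrCharacter G (indFun (Subgroup.normalizer (H : Set G)) μ) ∧
        ∀ u ∈ H, u ≠ 1 → indFun (Subgroup.normalizer (H : Set G)) μ u = 1) ∧
    (∀ μ ν : ↥(Subgroup.normalizer (H : Set G)) → ℂ,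
      IsIrrCharacter ↥(Subgroup.normalizer (H : Set G)) μ →
      (∀ u : ↥(Subgroup.normalizer (H : Set G)), (u : G) ∈ H → μ u = μ 1) →
      IsIrrCharacter ↥(Subgroup.normalizer (H : Set G)) ν →
      (∀ u : ↥(Subgroup.normalizer (H : Set G)), (u : G) ∈ H → ν u = ν 1) →
      indFun (Subgroup.normalizer (H : Set G)) μ = indFun (Subgroup.normalizer (H : Set G)) ν →
      ν = μ ∨ ν = fun x => conj (μ x)) ∧
    (∃ ψ₀ : G → ℂ, IsIrrCharacter G ψ₀ ∧
      indFun (Subgroup.normalizer (H : Set G)) (fun _ => (1 : ℂ)) = (fun _ => (1 : ℂ)) + ψ₀ ∧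
      ∀ u ∈ H, u ≠ 1 → ψ₀ u = 0) :=
  char_fields_aux hZ hab h e hh he hodd hlt H hHa hHcard hHfix hW3
    (Subgroup.normalizer (H : Set G)) (Cfsg.Agent.S0878.result hZ a H hHa hHcard hHfix).2

/-- **(Z2)**, unconditional: the character fields `hlin`, `hps`, `hpsd`, `h2t` of `FeitData H e h`
(in this order, as a conjunction), with exactly the hypotheses of `feitData_of_zassenhaus`. -/
theorem feitData_char_fields {G Ω : Type*} [Group G] [Fintype G] [MulAction G Ω] [Fintype Ω]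
    (hZ : Cfsg.IsZassenhausGroup G Ω) {a b : Ω} (hab : a ≠ b) [IsSimpleGroup G] (h e : ℕ)
    (hh : Fintype.card Ω = h + 1)
    (he : Nat.card ↥(MulAction.stabilizer G a ⊓ MulAction.stabilizer G b : Subgroup G) = e)
    (hodd : Odd e) (hlt : 2 * e < h - 1) (H : Subgroup G)
    (hHa : H ≤ MulAction.stabilizer G a) (hHcard : Nat.card H + 1 = Fintype.card Ω)
    (hHfix : ∀ u ∈ H, u ≠ 1 → ∀ c : Ω, u • c = c → c = a) :
    (∀ μ : ↥(Subgroup.normalizer (H : Set G)) → ℂ,
      IsIrrCharacter ↥(Subgroup.normalizer (H : Set G)) μ →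
      (∀ u : ↥(Subgroup.normalizer (H : Set G)), (u : G) ∈ H → μ u = μ 1) → μ 1 = 1) ∧
    (∀ μ : ↥(Subgroup.normalizer (H : Set G)) → ℂ,
      IsIrrCharacter ↥(Subgroup.normalizer (H : Set G)) μ →
      (∀ u : ↥(Subgroup.normalizer (H : Set G)), (u : G) ∈ H → μ u = μ 1) →
      μ ≠ (fun _ => 1) →
      IsIrrCharacter G (indFun (Subgroup.normalizer (H : Set G)) μ) ∧
        ∀ u ∈ H, u ≠ 1 → indFun (Subgroup.normalizer (H : Set G)) μ u = 1) ∧
    (∀ μ ν : ↥(Subgroup.normalizer (H : Set G)) → ℂ,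
      IsIrrCharacter ↥(Subgroup.normalizer (H : Set G)) μ →
      (∀ u : ↥(Subgroup.normalizer (H : Set G)), (u : G) ∈ H → μ u = μ 1) →
      IsIrrCharacter ↥(Subgroup.normalizer (H : Set G)) ν →
      (∀ u : ↥(Subgroup.normalizer (H : Set G)), (u : G) ∈ H → ν u = ν 1) →
      indFun (Subgroup.normalizer (H : Set G)) μ = indFun (Subgroup.normalizer (H : Set G)) ν →
      ν = μ ∨ ν = fun x => conj (μ x)) ∧
    (∃ ψ₀ : G → ℂ, IsIrrCharacter G ψ₀ ∧
      indFun (Subgroup.normalizer (H : Set G)) (fun _ => (1 : ℂ)) = (fun _ => (1 : ℂ)) + ψ₀ ∧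
      ∀ u ∈ H, u ≠ 1 → ψ₀ u = 0) :=
  feitData_char_fields_of_W3 hZ hab h e hh he hodd hlt H hHa hHcard hHfix
    (fun μ hμ hμH =>
      Cfsg.Agent.Helper52.FeitW.lin_of_trivial_on_kernel hZ hab H hHa hHcard hHfix μ hμ hμH)

/-- The same, packaged against the structure `FeitData`: given the group fields, build the
structure. -/
theorem feitData_of_group_fields {G Ω : Type*} [Group G] [Fintype G] [MulAction G Ω] [Fintype Ω]
    (hZ : Cfsg.IsZassenhausGroup G Ω) {a b : Ω} (hab : a ≠ b) [IsSimpleGroup G] (h e : ℕ)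
    (hh : Fintype.card Ω = h + 1)
    (he : Nat.card ↥(MulAction.stabilizer G a ⊓ MulAction.stabilizer G b : Subgroup G) = e)
    (hodd : Odd e) (hlt : 2 * e < h - 1) (H : Subgroup G)
    (hHa : H ≤ MulAction.stabilizer G a) (hHcard : Nat.card H + 1 = Fintype.card Ω)
    (hHfix : ∀ u ∈ H, u ≠ 1 → ∀ c : Ω, u • c = c → c = a)
    [Fintype ↥(Subgroup.normalizer (H : Set G))]
    (gC : ∀ k ∈ H, k ≠ 1 → Subgroup.centralizer ({k} : Set G) ≤ H)
    (gTI : ∀ g : G, g ∉ Subgroup.normalizer (H : Set G) → ∀ k ∈ H, g * k * g⁻¹ ∈ H → k = 1)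
    (ge : Cfsg.Agent.Helper75.caE H = e) (gh : Nat.card H = h)
    (gidx : (Subgroup.normalizer (H : Set G)).index = h + 1) (ge1 : 1 < e)
    (gdeg : ∃ χ₁ ∈ Cfsg.Agent.Helper75.tfS H, χ₁ 1 = (e : ℂ))
    (gcls : e ≤ Nat.card {C : ConjClasses G // ∀ g : G, ConjClasses.mk g = C → g ∉ H}) :
    Cfsg.Agent.Helper79.Feit.FeitData H e h := by
  obtain ⟨f1, f2, f3, f4⟩ :=
    feitData_char_fields hZ hab h e hh he hodd hlt H hHa hHcard hHfix
  exact
    { hC := gC, hTI := gTI, he := ge, hh := gh, hidx := gidx, hodd := hodd, he1 := ge1,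
      hlt := hlt, hdeg := gdeg, hlin := f1, hps := f2, hpsd := f3, h2t := f4, hcls := gcls }

end Cfsg.Agent.Helper49.FeitZ2
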