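import Mathlib
import Cfsg.Agent.Helper49.FourGroup

set_option autoImplicit false

/-!
Automorphisms of order 3 of a four-group are fixed-point-free (helper49).
-/

namespace Cfsg.Agent.Helper49.JComp

open Cfsg

variable {G : Type*} [Group G]

namespace IsFour

variable {W : Subgroup G}

/-- An element of order dividing 3 normalizing but not centralizing `W` fixes no nontrivial
element of `W`. -/
theorem eq_one_of_conj_eq_of_pow_three (hW : IsFour W) {x : G}
    (hx : x ∈ Subgroup.normalizer (W : Set G)) (hx3 : x ^ 3 = 1)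
    (hxc : x ∉ Subgroup.centralizer (W : Set G)) {t : G} (ht : t ∈ W)
    (hxt : x * t * x⁻¹ = t) : t = 1 := by
  by_contra ht1
  have hxinv : x⁻¹ = x * x := by
    have : x * x * x = 1 := by rw [← hx3, pow_succ, pow_two]
    exact inv_eq_of_mul_eq_one_left this
  obtain ⟨u, hu, hu1, hut⟩ := hW.exists_not_mem ht
  have h1 : x * u * x⁻¹ = t * u := hW.conj_eq_mul ht ht1 hx hxt hxc hu hu1 hut
  have h2 : (x * x) * u * (x * x)⁻¹ = u := by
    have e : (x * x) * u * (x * x)⁻¹ = (x * t * x⁻¹) * (x * u * x⁻¹) := by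
      have e1 : (x * x) * u * (x * x)⁻¹ = x * (x * u * x⁻¹) * x⁻¹ := by group
      have e2 : x * (t * u) * x⁻¹ = (x * t * x⁻¹) * (x * u * x⁻¹) := by group
      rw [e1, h1, e2, h1]
    rw [e, hxt, h1, ← mul_assoc, hW.sq t ht, one_mul]
  rw [← hxinv] at h2
  have h3 : x⁻¹ * u * x = u := by simpa using h2
  have h4 : x * u * x⁻¹ = u := by
    calc x * u * x⁻¹ = x * (x⁻¹ * u * x) * x⁻¹ := by rw [h3]
      _ = u := by group
  rw [h4] at h1
  apply ht1
  have : t * u = 1 * u := by rw [one_mul]; exact h1.symm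
  exact mul_right_cancel this

/-- For such an element `x`, every element of `W` is a commutator `[u', x]` with `u' ∈ W`. -/
theorem exists_comm_eq_of_pow_three (hW : IsFour W) {x : G}
    (hx : x ∈ Subgroup.normalizer (W : Set G)) (hx3 : x ^ 3 = 1)
    (hxc : x ∉ Subgroup.centralizer (W : Set G)) {u : G} (hu : u ∈ W) :
    ∃ u' ∈ W, u = u' * x * u'⁻¹ * x⁻¹ := by
  have hxinv : x⁻¹ = x * x := by
    have : x * x * x = 1 := by rw [← hx3, pow_succ, pow_two]
    exact inv_eq_of_mul_eq_one_left this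
  have hxxx : x * x * x = 1 := by rw [← hx3, pow_succ, pow_two]
  set u₁ := x * u * x⁻¹ with hu₁
  set u₂ := x * u₁ * x⁻¹ with hu₂
  have hu₁W : u₁ ∈ W := conj_mem_of_mem_normalizer hx hu
  have hu₂W : u₂ ∈ W := conj_mem_of_mem_normalizer hx hu₁W
  have h3 : x * u₂ * x⁻¹ = u := by
    rw [hu₂, hu₁]
    have : x * (x * (x * u * x⁻¹) * x⁻¹) * x⁻¹ = (x * x * x) * u * (x * x * x)⁻¹ := by group
    rw [this, hxxx]; group
  -- the product of the orbit is fixed
  set s := u * u₁ * u₂ with hs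
  have hsW : s ∈ W := mul_mem (mul_mem hu hu₁W) hu₂W
  have hfix : x * s * x⁻¹ = s := by
    have e : x * s * x⁻¹ = u₁ * u₂ * u := by
      have e0 : x * s * x⁻¹ = (x * u * x⁻¹) * (x * u₁ * x⁻¹) * (x * u₂ * x⁻¹) := by
        rw [hs]; group
      rw [e0, h3]
    rw [e, hW.comm (mul_mem hu₁W hu₂W) hu, hs]
    exact (mul_assoc u u₁ u₂).symm
  have hs1 : s = 1 := hW.eq_one_of_conj_eq_of_pow_three hx hx3 hxc hsW hfix
  refine ⟨u₁, hu₁W, ?_⟩
  have e : u₁ * x * u₁⁻¹ * x⁻¹ = u₁ * (x * u₁ * x⁻¹)⁻¹ := by group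
  rw [e, ← hu₂, hW.inv_eq hu₂W]
  -- `u * u₁ * u₂ = 1` and `u⁻¹ = u`
  have : u * (u₁ * u₂) = 1 := by rw [← mul_assoc]; exact hs1
  have h4 := eq_inv_of_mul_eq_one_right this
  rw [h4, hW.inv_eq hu]

end IsFour

end Cfsg.Agent.Helper49.JComp
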