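import Cfsg.Agent.Helper49.RConj

set_option autoImplicit false

/-!
Chains of Sylow subgroups linked through a family of subgroups: a `ReflTransGen` form of
`Cfsg.ControlsSylowIntersections` (helper49).
-/

namespace Cfsg.Agent.Helper49

open Cfsg

variable {G : Type*} [Group G] {p : ℕ}

/-- Symmetric link between two Sylow subgroups containing `D`, through a member `X` of `𝓕`
containing `D` and meeting both in Sylow subgroups of `X`, and an element of `X` conjugating one
to the other. -/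
def GLink (p : ℕ) (𝓕 : Set (Subgroup G)) (D : Subgroup G) (A B : Sylow p G) : Prop :=
  D ≤ (A : Subgroup G) ∧ D ≤ (B : Subgroup G) ∧
    ∃ X ∈ 𝓕, IsSylowOf p ((A : Subgroup G) ⊓ X) X ∧ IsSylowOf p ((B : Subgroup G) ⊓ X) X ∧ D ≤ X ∧
      ∃ x ∈ X, subgroupConjRight x (B : Subgroup G) = (A : Subgroup G)

theorem GLink.symm {𝓕 : Set (Subgroup G)} {D : Subgroup G} {A B : Sylow p G}
    (h : GLink p 𝓕 D A B) : GLink p 𝓕 D B A := by
  obtain ⟨hA, hB, X, hX, hAX, hBX, hDX, x, hx, hxB⟩ := h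
  refine ⟨hB, hA, X, hX, hBX, hAX, hDX, x⁻¹, X.inv_mem hx, ?_⟩
  rw [← hxB, scr_scr_inv]

theorem GLink.mono_left {𝓕 : Set (Subgroup G)} {D D' : Subgroup G} {A B : Sylow p G}
    (hD : D' ≤ D) (h : GLink p 𝓕 D A B) : GLink p 𝓕 D' A B := by
  obtain ⟨hA, hB, X, hX, hAX, hBX, hDX, x, hx, hxB⟩ := h
  exact ⟨hD.trans hA, hD.trans hB, X, hX, hAX, hBX, hD.trans hDX, x, hx, hxB⟩

theorem GLink.mono_family {𝓕 𝓕' : Set (Subgroup G)} {D : Subgroup G} {A B : Sylow p G}
    (hF : 𝓕 ⊆ 𝓕') (h : GLink p 𝓕 D A B) : GLink p 𝓕' D A B := by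
  obtain ⟨hA, hB, X, hX, hAX, hBX, hDX, x, hx, hxB⟩ := h
  exact ⟨hA, hB, X, hF hX, hAX, hBX, hDX, x, hx, hxB⟩

/-- Connectedness through links. -/
def GConn (p : ℕ) (𝓕 : Set (Subgroup G)) (D : Subgroup G) (A B : Sylow p G) : Prop :=
  Relation.ReflTransGen (GLink p 𝓕 D) A B

theorem GConn.refl {𝓕 : Set (Subgroup G)} {D : Subgroup G} (A : Sylow p G) : GConn p 𝓕 D A A :=
  Relation.ReflTransGen.refl

theorem GConn.trans {𝓕 : Set (Subgroup G)} {D : Subgroup G} {A B C : Sylow p G}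
    (h1 : GConn p 𝓕 D A B) (h2 : GConn p 𝓕 D B C) : GConn p 𝓕 D A C :=
  Relation.ReflTransGen.trans h1 h2

theorem GConn.of_link {𝓕 : Set (Subgroup G)} {D : Subgroup G} {A B : Sylow p G}
    (h : GLink p 𝓕 D A B) : GConn p 𝓕 D A B :=
  Relation.ReflTransGen.single h

theorem GConn.symm {𝓕 : Set (Subgroup G)} {D : Subgroup G} {A B : Sylow p G}
    (h : GConn p 𝓕 D A B) : GConn p 𝓕 D B A := by
  induction h with
  | refl => exact GConn.refl _
  | tail _ h2 ih => exact Relation.ReflTransGen.head h2.symm ih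

theorem GConn.mono_left {𝓕 : Set (Subgroup G)} {D D' : Subgroup G} {A B : Sylow p G}
    (hD : D' ≤ D) (h : GConn p 𝓕 D A B) : GConn p 𝓕 D' A B :=
  Relation.ReflTransGen.mono (fun _ _ h => h.mono_left hD) _ _ h

theorem GConn.mono_family {𝓕 𝓕' : Set (Subgroup G)} {D : Subgroup G} {A B : Sylow p G}
    (hF : 𝓕 ⊆ 𝓕') (h : GConn p 𝓕 D A B) : GConn p 𝓕' D A B :=
  Relation.ReflTransGen.mono (fun _ _ h => h.mono_family hF) _ _ h

/-- A chain in the sense of `ControlsSylowIntersections` from a `GConn`. -/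
theorem chain_of_gconn [Finite G] [Fact p.Prime] {𝓕 : Set (Subgroup G)} {D : Subgroup G}
    {A T : Sylow p G} (h : GConn p 𝓕 D A T) :
    ∃ (n : ℕ) (c : Fin (n + 1) → Sylow p G) (X : Fin n → Subgroup G) (x : Fin n → G),
      c 0 = A ∧ c (Fin.last n) = T ∧
      ∀ i : Fin n,
        X i ∈ sylowMembers p 𝓕 (c i.castSucc : Subgroup G) ∧
        X i ∈ sylowMembers p 𝓕 (c i.succ : Subgroup G) ∧
        x i ∈ X i ∧ subgroupConjRight (x i) (c i.succ : Subgroup G) = (c i.castSucc : Subgroup G) ∧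
        D ≤ (c i.succ : Subgroup G) ⊓ X i := by
  unfold GConn at h
  induction h using Relation.ReflTransGen.head_induction_on with
  | refl => exact ⟨0, fun _ => T, Fin.elim0, Fin.elim0, rfl, rfl, fun i => i.elim0⟩
  | @head a b hl _ ih =>
    obtain ⟨n, c, X, x, hc0, hcn, hstep⟩ := ih
    obtain ⟨hA, hB, X₀, hX₀, hAX, hBX, hDX, x₀, hx₀, hxB⟩ := hl
    refine ⟨n + 1, Fin.cons a c, Fin.cons X₀ X, Fin.cons x₀ x, rfl, ?_, ?_⟩
    · rw [← Fin.succ_last, Fin.cons_succ]; exact hcn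
    · intro i
      refine Fin.cases ?_ (fun j => ?_) i
      · simp only [Fin.castSucc_zero, Fin.cons_zero, Fin.cons_succ, Fin.succ_zero_eq_one]
        have h1 : (Fin.cons a c : Fin (n + 2) → Sylow p G) 1 = b := by
          rw [← Fin.succ_zero_eq_one, Fin.cons_succ]; exact hc0
        rw [h1]
        exact ⟨mem_sylowMembers_iff.mpr ⟨hX₀, hAX⟩, mem_sylowMembers_iff.mpr ⟨hX₀, hBX⟩, hx₀, hxB,
          le_inf hB hDX⟩
      · have e1 : (Fin.cons a c : Fin (n + 2) → Sylow p G) j.succ.castSucc = c j.castSucc := by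
          rw [← Fin.succ_castSucc, Fin.cons_succ]
        have e2 : (Fin.cons a c : Fin (n + 2) → Sylow p G) j.succ.succ = c j.succ := by
          rw [Fin.cons_succ]
        rw [e1, e2, Fin.cons_succ, Fin.cons_succ]
        exact hstep j

/-- `ControlsSylowIntersections` in `ReflTransGen` form. -/
theorem controls_iff [Finite G] [Fact p.Prime] {𝓕 : Set (Subgroup G)} :
    ControlsSylowIntersections p 𝓕 ↔
      ∀ S T : Sylow p G, S ≠ T → (S : Subgroup G) ⊓ (T : Subgroup G) ≠ ⊥ →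
        GConn p 𝓕 ((S : Subgroup G) ⊓ (T : Subgroup G)) S T := by
  constructor
  · intro h S T hne hST
    obtain ⟨n, c, X, x, hc0, hcn, hstep⟩ := h S T hne hST
    have key : ∀ i : Fin (n + 1), GConn p 𝓕 ((S : Subgroup G) ⊓ (T : Subgroup G)) S (c i) ∧
        (S : Subgroup G) ⊓ (T : Subgroup G) ≤ (c i : Subgroup G) := by
      intro i
      induction i using Fin.induction with
      | zero => rw [hc0]; exact ⟨GConn.refl _, inf_le_left⟩
      | succ i ih =>
        obtain ⟨h1, h2, h3, h4, h5⟩ := hstep i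
        rw [mem_sylowMembers_iff] at h1 h2
        refine ⟨Relation.ReflTransGen.tail ih.1 ?_, h5.trans inf_le_left⟩
        exact ⟨ih.2, h5.trans inf_le_left, X i, h1.1, h1.2, h2.2, h5.trans inf_le_right, x i, h3, h4⟩
    have := (key (Fin.last n)).1
    rwa [hcn] at this
  · intro h S T hne hST
    exact chain_of_gconn (h S T hne hST)

/-- Connectedness over every nontrivial `p`-subgroup, from control of Sylow intersections. -/
theorem gconn_of_controls [Finite G] [Fact p.Prime] {𝓕 : Set (Subgroup G)}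
    (h : ControlsSylowIntersections p 𝓕) {D : Subgroup G} (hD : D ≠ ⊥) {S T : Sylow p G}
    (hS : D ≤ (S : Subgroup G)) (hT : D ≤ (T : Subgroup G)) : GConn p 𝓕 D S T := by
  by_cases hne : S = T
  · rw [hne]; exact GConn.refl _
  · have hST : (S : Subgroup G) ⊓ (T : Subgroup G) ≠ ⊥ := by
      intro h0
      apply hD
      rw [eq_bot_iff, ← h0]
      exact le_inf hS hT
    exact (controls_iff.mp h S T hne hST).mono_left (le_inf hS hT)

theorem controls_of_gconn [Finite G] [Fact p.Prime] {𝓕 : Set (Subgroup G)}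
    (h : ∀ D : Subgroup G, D ≠ ⊥ → ∀ S T : Sylow p G, D ≤ (S : Subgroup G) → D ≤ (T : Subgroup G) →
      GConn p 𝓕 D S T) : ControlsSylowIntersections p 𝓕 :=
  controls_iff.mpr fun S T _ hST => h _ hST S T inf_le_left inf_le_right

end Cfsg.Agent.Helper49
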