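import Cfsg.Prelude.Def_SylowChains
import Cfsg.Agent.Helper49.SylowChain

set_option autoImplicit false

/-!
Ambient form of `Cfsg.IsFunctorRegular`: chains of Sylow subgroups of a subgroup `M` linked through
normalizers of members of `f` (helper49).
-/

namespace Cfsg.Agent.Helper49

open Cfsg

variable {G : Type*} [Group G] {p : ℕ}

theorem map_subtype_scr {M : Subgroup G} (x : ↥M) (H : Subgroup ↥M) :
    (subgroupConjRight x H).map M.subtype = subgroupConjRight (x : G) (H.map M.subtype) := by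
  ext a
  rw [mem_scr, Subgroup.mem_map, Subgroup.mem_map]
  constructor
  · rintro ⟨b, hb, rfl⟩
    rw [mem_scr] at hb
    exact ⟨x * b * x⁻¹, hb, by simp⟩
  · rintro ⟨b, hb, hba⟩
    have hba' : (b : G) = (x : G) * a * (x : G)⁻¹ := hba
    refine ⟨x⁻¹ * b * x, ?_, ?_⟩
    · rw [mem_scr]; simpa [mul_assoc] using hb
    · simp [hba', mul_assoc]

theorem subgroupOf_scr {M : Subgroup G} (x : ↥M) (H : Subgroup G) :
    subgroupConjRight x (H.subgroupOf M) = (subgroupConjRight (x : G) H).subgroupOf M := by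
  ext a
  rw [mem_scr, Subgroup.mem_subgroupOf, Subgroup.mem_subgroupOf, mem_scr]
  simp

theorem isSylowOf_map_subtype {M : Subgroup G} {H K : Subgroup ↥M} (h : IsSylowOf p H K) :
    IsSylowOf p (H.map M.subtype) (K.map M.subtype) :=
  ⟨Subgroup.map_mono h.1, h.2.1.map _, by
    rw [Subgroup.relIndex_map_map_of_injective _ _ M.subtype_injective]; exact h.2.2⟩

theorem isSylowOf_subgroupOf {M H K : Subgroup G} (h : IsSylowOf p H K) (hKM : K ≤ M) :
    IsSylowOf p (H.subgroupOf M) (K.subgroupOf M) :=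
  ⟨Subgroup.subgroupOf_mono M h.1, h.2.1.comap_subtype, by
    rw [Subgroup.relIndex_subgroupOf hKM]; exact h.2.2⟩

theorem functor_scr {f : Subgroup G → Set (Subgroup G)} (hf : IsNormalizerFunctor p f)
    {P F : Subgroup G} (hP : IsPGroup p P) (hF : F ∈ f P) (g : G) :
    subgroupConjRight g F ∈ f (subgroupConjRight g P) := by
  have := (hf P hP).2 g⁻¹
  unfold subgroupConjRight
  rw [this]
  exact ⟨F, hF, rfl⟩

/-- Link between two Sylow subgroups of `M` containing `D`: conjugate under an element of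
`N_M(F)` for some `F ∈ f B`. -/
def FLink (p : ℕ) (f : Subgroup G → Set (Subgroup G)) (M D A B : Subgroup G) : Prop :=
  IsSylowOf p A M ∧ IsSylowOf p B M ∧ D ≤ A ∧ D ≤ B ∧
    ∃ F ∈ f B, ∃ x ∈ M ⊓ Subgroup.normalizer (F : Set G), subgroupConjRight x B = A

/-- Expanded form of a link. -/
theorem FLink.data {f : Subgroup G → Set (Subgroup G)} (hf : IsNormalizerFunctor p f)
    {M D A B : Subgroup G} (h : FLink p f M D A B) :
    ∃ F, F ∈ f A ∧ F ∈ f B ∧ F ≤ A ∧ F ≤ B ∧ A ≤ Subgroup.normalizer (F : Set G) ∧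
      B ≤ Subgroup.normalizer (F : Set G) ∧
      ∃ x ∈ M ⊓ Subgroup.normalizer (F : Set G), subgroupConjRight x B = A := by
  obtain ⟨hA, hB, _, _, F, hF, x, hx, hxB⟩ := h
  have hFA : F ∈ f A := by
    have := functor_scr hf hB.2.1 hF x
    rwa [hxB, scr_eq_self_of_mem_normalizer hx.2] at this
  have h1 := (hf A hA.2.1).1 F hFA
  have h2 := (hf B hB.2.1).1 F hF
  exact ⟨F, hFA, hF, h1.1, h2.1, Subgroup.le_normalizer.trans h1.2,
    Subgroup.le_normalizer.trans h2.2, x, hx, hxB⟩

theorem FLink.symm {f : Subgroup G → Set (Subgroup G)} (hf : IsNormalizerFunctor p f)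
    {M D A B : Subgroup G} (h : FLink p f M D A B) : FLink p f M D B A := by
  obtain ⟨F, hFA, _, _, _, _, _, x, hx, hxB⟩ := h.data hf
  obtain ⟨hA, hB, hDA, hDB, _⟩ := h
  refine ⟨hB, hA, hDB, hDA, F, hFA, x⁻¹, Subgroup.inv_mem _ hx, ?_⟩
  rw [← hxB, scr_scr_inv]

theorem FLink.mono_left {f : Subgroup G → Set (Subgroup G)} {M D D' A B : Subgroup G}
    (hD : D' ≤ D) (h : FLink p f M D A B) : FLink p f M D' A B := by
  obtain ⟨hA, hB, hDA, hDB, h5⟩ := h
  exact ⟨hA, hB, hD.trans hDA, hD.trans hDB, h5⟩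

theorem IsSylowOf.to_top {A M : Subgroup G} (h : IsSylowOf p A M) (hM : ¬ p ∣ M.index)
    [Fact p.Prime] : IsSylowOf p A ⊤ := by
  refine ⟨le_top, h.2.1, ?_⟩
  rw [Subgroup.relIndex_top_right, ← Subgroup.relIndex_mul_index h.1]
  intro hd
  rcases (Nat.Prime.dvd_mul Fact.out).mp hd with h1 | h1
  · exact h.2.2 h1
  · exact hM h1

theorem FLink.to_top [Fact p.Prime] {f : Subgroup G → Set (Subgroup G)} {M D A B : Subgroup G}
    (hM : ¬ p ∣ M.index) (h : FLink p f M D A B) : FLink p f ⊤ D A B := by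
  obtain ⟨hA, hB, hDA, hDB, F, hF, x, hx, hxB⟩ := h
  exact ⟨hA.to_top hM, hB.to_top hM, hDA, hDB, F, hF, x, ⟨Subgroup.mem_top _, hx.2⟩, hxB⟩

theorem FLink.conj {f : Subgroup G → Set (Subgroup G)} (hf : IsNormalizerFunctor p f)
    {M D A B : Subgroup G} (g : G) (h : FLink p f M D A B) :
    FLink p f (subgroupConjRight g M) (subgroupConjRight g D) (subgroupConjRight g A)
      (subgroupConjRight g B) := by
  obtain ⟨hA, hB, hDA, hDB, F, hF, x, hx, hxB⟩ := h
  refine ⟨isSylowOf_scr g hA, isSylowOf_scr g hB, scr_mono g hDA, scr_mono g hDB,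
    subgroupConjRight g F, functor_scr hf hB.2.1 hF g, g⁻¹ * x * g, ?_, ?_⟩
  · rw [← scr_normalizer, ← scr_inf]
    exact conj_mem_scr hx
  · rw [← scr_mul, ← hxB, ← scr_mul]
    congr 1
    group

/-- Connectedness through `FLink`s. -/
def FConn (p : ℕ) (f : Subgroup G → Set (Subgroup G)) (M D A B : Subgroup G) : Prop :=
  Relation.ReflTransGen (FLink p f M D) A B

theorem FConn.refl {f : Subgroup G → Set (Subgroup G)} {M D : Subgroup G} (A : Subgroup G) :
    FConn p f M D A A := Relation.ReflTransGen.refl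

theorem FConn.trans {f : Subgroup G → Set (Subgroup G)} {M D A B C : Subgroup G}
    (h1 : FConn p f M D A B) (h2 : FConn p f M D B C) : FConn p f M D A C :=
  Relation.ReflTransGen.trans h1 h2

theorem FConn.symm {f : Subgroup G → Set (Subgroup G)} (hf : IsNormalizerFunctor p f)
    {M D A B : Subgroup G} (h : FConn p f M D A B) : FConn p f M D B A := by
  induction h with
  | refl => exact FConn.refl _
  | tail _ h2 ih => exact Relation.ReflTransGen.head (h2.symm hf) ih

theorem FConn.mono_left {f : Subgroup G → Set (Subgroup G)} {M D D' A B : Subgroup G}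
    (hD : D' ≤ D) (h : FConn p f M D A B) : FConn p f M D' A B :=
  Relation.ReflTransGen.mono (fun _ _ h => h.mono_left hD) _ _ h

theorem FConn.to_top [Fact p.Prime] {f : Subgroup G → Set (Subgroup G)} {M D A B : Subgroup G}
    (hM : ¬ p ∣ M.index) (h : FConn p f M D A B) : FConn p f ⊤ D A B :=
  Relation.ReflTransGen.mono (fun _ _ h => h.to_top hM) _ _ h

theorem FConn.conj {f : Subgroup G → Set (Subgroup G)} (hf : IsNormalizerFunctor p f)
    {M D A B : Subgroup G} (g : G) (h : FConn p f M D A B) :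
    FConn p f (subgroupConjRight g M) (subgroupConjRight g D) (subgroupConjRight g A)
      (subgroupConjRight g B) :=
  Relation.ReflTransGen.lift (subgroupConjRight g) (fun _ _ h => FLink.conj hf g h) _ _ h

/-- The Sylow subgroups of `M` are linked through the normalizers in `M` of members of `f`. -/
def FControls (p : ℕ) (f : Subgroup G → Set (Subgroup G)) (M : Subgroup G) : Prop :=
  ∀ A B : Subgroup G, IsSylowOf p A M → IsSylowOf p B M → A ≠ B → A ⊓ B ≠ ⊥ →
    FConn p f M (A ⊓ B) A B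

theorem FControls.fconn {f : Subgroup G → Set (Subgroup G)} {M : Subgroup G}
    (h : FControls p f M) {D A B : Subgroup G} (hA : IsSylowOf p A M) (hB : IsSylowOf p B M)
    (hD : D ≠ ⊥) (hDA : D ≤ A) (hDB : D ≤ B) : FConn p f M D A B := by
  by_cases hne : A = B
  · rw [hne]; exact FConn.refl _
  · have hAB : A ⊓ B ≠ ⊥ := by
      intro h0
      apply hD
      rw [eq_bot_iff, ← h0]
      exact le_inf hDA hDB
    exact (h A B hA hB hne hAB).mono_left (le_inf hDA hDB)

theorem flink_of_glink [Finite G] [Fact p.Prime] {f : Subgroup G → Set (Subgroup G)}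
    (hf : IsNormalizerFunctor p f) {M : Subgroup G} {D' : Subgroup ↥M} {A' B' : Sylow p ↥M}
    (h : GLink p ((fun X : Subgroup G => X.subgroupOf M) '' functorFamily p f M) D' A' B') :
    FLink p f M (D'.map M.subtype) ((A' : Subgroup ↥M).map M.subtype)
      ((B' : Subgroup ↥M).map M.subtype) := by
  obtain ⟨hA, hB, X', ⟨X, ⟨P₀', F, hF, rfl⟩, rfl⟩, hAX, hBX, hDX, x', hx', hxB⟩ := h
  set P₀ : Subgroup G := (P₀' : Subgroup ↥M).map M.subtype with hP₀def
  have hP₀ : IsSylowOf p P₀ M := isSylowOf_map P₀'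
  have hFle := (hf P₀ hP₀.2.1).1 F hF
  have hP₀X : P₀ ≤ M ⊓ Subgroup.normalizer (F : Set G) :=
    le_inf hP₀.1 (Subgroup.le_normalizer.trans hFle.2)
  have hP₀X' : IsSylowOf p P₀ (M ⊓ Subgroup.normalizer (F : Set G)) :=
    hP₀.mono_right hP₀X inf_le_left
  set B : Subgroup G := (B' : Subgroup ↥M).map M.subtype with hBdef
  have hBM : IsSylowOf p B M := isSylowOf_map B'
  have hBX2 : IsSylowOf p (B ⊓ (M ⊓ Subgroup.normalizer (F : Set G)))
      (M ⊓ Subgroup.normalizer (F : Set G)) := by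
    have := isSylowOf_map_subtype hBX
    rw [Subgroup.map_inf _ _ _ M.subtype_injective,
      Subgroup.map_subgroupOf_eq_of_le inf_le_left] at this
    exact this
  have hcard : Nat.card ↥(B ⊓ (M ⊓ Subgroup.normalizer (F : Set G))) = Nat.card B := by
    rw [hBX2.card_eq, hBM.card_eq, ← hP₀X'.card_eq, hP₀.card_eq]
  have hBleX : B ≤ M ⊓ Subgroup.normalizer (F : Set G) := by
    have : B ⊓ (M ⊓ Subgroup.normalizer (F : Set G)) = B :=
      Subgroup.eq_of_le_of_card_ge inf_le_left (by rw [hcard])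
    rw [← this]; exact inf_le_right
  have hBX3 : IsSylowOf p B (M ⊓ Subgroup.normalizer (F : Set G)) :=
    hBM.mono_right hBleX inf_le_left
  obtain ⟨m, hm, hmP⟩ := hP₀X'.exists_conj hBX3
  have hFB : F ∈ f B := by
    have := functor_scr hf hP₀.2.1 hF m
    rwa [hmP, scr_eq_self_of_mem_normalizer hm.2] at this
  refine ⟨isSylowOf_map A', hBM, Subgroup.map_mono hA, Subgroup.map_mono hB, F, hFB, (x' : G),
    Subgroup.mem_subgroupOf.mp hx', ?_⟩
  rw [hBdef, ← map_subtype_scr, hxB]

theorem fcontrols_of_regular [Finite G] [Fact p.Prime] {f : Subgroup G → Set (Subgroup G)}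
    (hf : IsNormalizerFunctor p f) {M : Subgroup G} (h : IsFunctorRegular p f M) :
    FControls p f M := by
  intro A B hA hB hne hAB
  have hne' : hA.toSylow ≠ hB.toSylow := by
    intro e
    apply hne
    rw [← hA.map_toSylow, ← hB.map_toSylow, e]
  have hint : (hA.toSylow : Subgroup ↥M) ⊓ (hB.toSylow : Subgroup ↥M) ≠ ⊥ := by
    intro e
    apply hAB
    have := congrArg (Subgroup.map M.subtype) e
    rwa [Subgroup.map_inf _ _ _ M.subtype_injective, hA.map_toSylow, hB.map_toSylow,
      Subgroup.map_bot] at this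
  have h1 := controls_iff.mp h hA.toSylow hB.toSylow hne' hint
  have h2 := Relation.ReflTransGen.lift
    (fun A' : Sylow p ↥M => (A' : Subgroup ↥M).map M.subtype)
    (fun a b hl => flink_of_glink hf hl) _ _ h1
  simp only [Function.onFun] at h2
  unfold FConn
  rw [Subgroup.map_inf _ _ _ M.subtype_injective, hA.map_toSylow, hB.map_toSylow] at h2
  exact h2

theorem glink_of_flink [Finite G] [Fact p.Prime] {f : Subgroup G → Set (Subgroup G)}
    (hf : IsNormalizerFunctor p f) {M D A B : Subgroup G} (h : FLink p f M D A B) :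
    GLink p ((fun X : Subgroup G => X.subgroupOf M) '' functorFamily p f M) (D.subgroupOf M)
      h.1.toSylow h.2.1.toSylow := by
  obtain ⟨hA, hB, hDA, hDB, F, hF, x, hx, hxB⟩ := h
  have hFle := (hf B hB.2.1).1 F hF
  have hBX : B ≤ M ⊓ Subgroup.normalizer (F : Set G) :=
    le_inf hB.1 (Subgroup.le_normalizer.trans hFle.2)
  have hAX : A ≤ M ⊓ Subgroup.normalizer (F : Set G) := by
    rw [← hxB]
    have := scr_mono x hBX
    rwa [scr_eq_self_of_mem hx] at this
  refine ⟨Subgroup.subgroupOf_mono M hDA, Subgroup.subgroupOf_mono M hDB,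
    (M ⊓ Subgroup.normalizer (F : Set G)).subgroupOf M,
    ⟨M ⊓ Subgroup.normalizer (F : Set G), ⟨hB.toSylow, F, ?_, rfl⟩, rfl⟩, ?_, ?_, ?_,
    ⟨x, hx.1⟩, ?_, ?_⟩
  · rw [hB.map_toSylow]; exact hF
  · rw [hA.coe_toSylow]
    have e : A.subgroupOf M ⊓ (M ⊓ Subgroup.normalizer (F : Set G)).subgroupOf M =
        A.subgroupOf M := inf_eq_left.mpr (Subgroup.subgroupOf_mono M hAX)
    rw [e]
    exact isSylowOf_subgroupOf (hA.mono_right hAX inf_le_left) inf_le_left
  · rw [hB.coe_toSylow]
    have e : B.subgroupOf M ⊓ (M ⊓ Subgroup.normalizer (F : Set G)).subgroupOf M =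
        B.subgroupOf M := inf_eq_left.mpr (Subgroup.subgroupOf_mono M hBX)
    rw [e]
    exact isSylowOf_subgroupOf (hB.mono_right hBX inf_le_left) inf_le_left
  · exact Subgroup.subgroupOf_mono M (hDB.trans hBX)
  · exact Subgroup.mem_subgroupOf.mpr hx
  · rw [hB.coe_toSylow, hA.coe_toSylow, subgroupOf_scr]
    simp only [hxB]

theorem regular_of_fcontrols [Finite G] [Fact p.Prime] {f : Subgroup G → Set (Subgroup G)}
    (hf : IsNormalizerFunctor p f) {M : Subgroup G} (h : FControls p f M) :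
    IsFunctorRegular p f M := by
  unfold IsFunctorRegular
  rw [controls_iff]
  intro S' T' hne hint
  have hA := isSylowOf_map S'
  have hB := isSylowOf_map T'
  have hne' : (S' : Subgroup ↥M).map M.subtype ≠ (T' : Subgroup ↥M).map M.subtype := by
    intro e
    exact hne (Sylow.ext (Subgroup.map_injective M.subtype_injective e))
  have hint' : (S' : Subgroup ↥M).map M.subtype ⊓ (T' : Subgroup ↥M).map M.subtype ≠ ⊥ := by
    rw [← Subgroup.map_inf _ _ _ M.subtype_injective]
    intro e
    exact hint ((Subgroup.map_eq_bot_iff_of_injective _ M.subtype_injective).mp e)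
  have h1 := h _ _ hA hB hne' hint'
  have claim : ∀ {D A C : Subgroup G}, FConn p f M D A C → ∀ hA : IsSylowOf p A M,
      ∃ hC : IsSylowOf p C M,
        GConn p ((fun X : Subgroup G => X.subgroupOf M) '' functorFamily p f M) (D.subgroupOf M)
          hA.toSylow hC.toSylow := by
    intro D A C hc hA
    induction hc with
    | refl => exact ⟨hA, GConn.refl _⟩
    | tail _ hl ih =>
      obtain ⟨hB', hconn⟩ := ih
      exact ⟨hl.2.1, Relation.ReflTransGen.tail hconn (glink_of_flink hf hl)⟩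
  obtain ⟨hC, h2⟩ := claim h1 hA
  have e1 : hA.toSylow = S' := by
    apply Sylow.ext
    rw [hA.coe_toSylow]
    exact Subgroup.comap_map_eq_self_of_injective M.subtype_injective _
  have e2 : hC.toSylow = T' := by
    apply Sylow.ext
    rw [hC.coe_toSylow]
    exact Subgroup.comap_map_eq_self_of_injective M.subtype_injective _
  have e3 : ((S' : Subgroup ↥M).map M.subtype ⊓ (T' : Subgroup ↥M).map M.subtype).subgroupOf M =
      (S' : Subgroup ↥M) ⊓ (T' : Subgroup ↥M) := by
    rw [← Subgroup.map_inf _ _ _ M.subtype_injective]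
    exact Subgroup.comap_map_eq_self_of_injective M.subtype_injective _
  rw [e1, e2, e3] at h2
  exact h2

/-- A link over `⊤` is a link through the family `functorFamily p f ⊤`. -/
theorem glink_top_of_flink [Finite G] [Fact p.Prime] {f : Subgroup G → Set (Subgroup G)}
    (hf : IsNormalizerFunctor p f) {D : Subgroup G} {A B : Sylow p G}
    (h : FLink p f ⊤ D (A : Subgroup G) (B : Subgroup G)) :
    GLink p (functorFamily p f ⊤) D A B := by
  obtain ⟨hA, hB, hDA, hDB, F, hF, x, hx, hxB⟩ := h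
  have hFle := (hf (B : Subgroup G) hB.2.1).1 F hF
  have hBX : (B : Subgroup G) ≤ ⊤ ⊓ Subgroup.normalizer (F : Set G) :=
    le_inf le_top (Subgroup.le_normalizer.trans hFle.2)
  have hAX : (A : Subgroup G) ≤ ⊤ ⊓ Subgroup.normalizer (F : Set G) := by
    rw [← hxB]
    have := scr_mono x hBX
    rwa [scr_eq_self_of_mem hx] at this
  refine ⟨hDA, hDB, ⊤ ⊓ Subgroup.normalizer (F : Set G), ⟨hB.toSylow, F, ?_, rfl⟩, ?_, ?_,
    hDB.trans hBX, x, hx, hxB⟩
  · rw [hB.map_toSylow]; exact hF
  · rw [inf_eq_left.mpr hAX]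
    exact hA.mono_right hAX inf_le_left
  · rw [inf_eq_left.mpr hBX]
    exact hB.mono_right hBX inf_le_left

end Cfsg.Agent.Helper49
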