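import Mathlib
import Cfsg.Agent.Helper64.GrossDefs
import Cfsg.Agent.Helper64.SGW10
import Cfsg.Agent.Helper70.FrattiniAction
import Cfsg.Agent.S0023
import Cfsg.Agent.S0552

/-!
# Piece (A1) of helper64's proof of Gross's theorem (S3795): Claim A2 in linear form from the
three level lemma inside `MulAut W`.
-/

set_option autoImplicit false
set_option linter.style.haveILetI false

namespace Cfsg.Agent.Helper49.GrossA1

open Subgroup Cfsg.Agent.Helper64.Gross Cfsg.Agent.Helper47.SG Cfsg.Agent.Helper64.SG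
open Cfsg.Agent.Lib
open scoped commutatorElement

universe u

/-! ### general lemmas -/

/-- an element killed by two coprime exponents is trivial -/
theorem eq_one_of_pow_of_coprime {K : Type*} [Group K] (g : K) (m n : ℕ) (hm : g ^ m = 1)
    (hn : g ^ n = 1) (h : m.Coprime n) : g = 1 := by
  have h1 : orderOf g ∣ m := orderOf_dvd_of_pow_eq_one hm
  have h2 : orderOf g ∣ n := orderOf_dvd_of_pow_eq_one hn
  have h3 : orderOf g ∣ 1 := by
    have := Nat.dvd_gcd h1 h2
    rwa [h.gcd_eq_one] at this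
  exact orderOf_eq_one_iff.mp (Nat.dvd_one.mp h3)

/-- `q`-elements of the Fitting subgroup lie in `O_q` -/
theorem mem_pCore_of_mem_fitting {K : Type*} [Group K] [Finite K] (q : ℕ) [Fact q.Prime] (g : K)
    (hg : g ∈ Cfsg.fittingSubgroup K) (k : ℕ) (hgk : g ^ (q ^ k) = 1) : g ∈ Cfsg.pCore q K := by
  haveI : (Cfsg.pCore q K).Characteristic := pCore_characteristic q
  have hcop := relIndex_pCore_fittingSubgroup_coprime (G := K) q
  set m := (Cfsg.pCore q K).relIndex (Cfsg.fittingSubgroup K) with hm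
  have h1 : g ^ m ∈ Cfsg.pCore q K := Subgroup.pow_relIndex_mem _ hg
  have hcop' : Nat.Coprime m (q ^ k) := Nat.Coprime.pow_right k hcop
  obtain ⟨a, b, hab⟩ := (Nat.isCoprime_iff_coprime.mpr hcop')
  have h2 : g = (g ^ m) ^ a * (g ^ (q ^ k)) ^ b := by
    rw [← zpow_natCast g m, ← zpow_natCast g (q ^ k), ← zpow_mul, ← zpow_mul, ← zpow_add]
    have : (m : ℤ) * a + ((q ^ k : ℕ) : ℤ) * b = 1 := by
      push_cast at hab ⊢; linarith
    rw [this, zpow_one]
  rw [h2, hgk, one_zpow, mul_one]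
  exact Subgroup.zpow_mem _ h1 a

/-- an automorphism fixing every `O_q` pointwise fixes the Fitting subgroup pointwise -/
theorem fix_fitting_of_fix_pCores {K : Type*} [Group K] [Finite K] (σ : K ≃* K)
    (h : ∀ q : ℕ, q.Prime → ∀ g ∈ Cfsg.pCore q K, σ g = g) :
    ∀ g ∈ Cfsg.fittingSubgroup K, σ g = g := by
  have hle : ∀ q : ℕ, q.Prime →
      Cfsg.pCore q K ≤ (σ.toMonoidHom).eqLocus (MonoidHom.id K) := by
    intro q hq g hg
    exact h q hq g hg
  have hrel : ((σ.toMonoidHom).eqLocus (MonoidHom.id K)).relIndex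
      (Cfsg.fittingSubgroup K) = 1 := by
    rw [Nat.eq_one_iff_not_exists_prime_dvd]
    intro q hq hdvd
    have : Fact q.Prime := ⟨hq⟩
    have h1 := Subgroup.relIndex_dvd_of_le_left (Cfsg.fittingSubgroup K) (hle q hq)
    have h2 := relIndex_pCore_fittingSubgroup_coprime (G := K) q
    have h3 : q ∣ (Cfsg.pCore q K).relIndex (Cfsg.fittingSubgroup K) := hdvd.trans h1
    exact (Nat.Prime.coprime_iff_not_dvd hq).mp h2.symm h3
  rw [Subgroup.relIndex_eq_one] at hrel
  intro g hg
  exact hrel hg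

/-- a finite group all of whose `q`-elements, `q ≠ s`, are central is nilpotent -/
theorem isNilpotent_of_central_prime_elements {N : Type*} [Group N] [Finite N] (s : ℕ)
    (hs : s.Prime)
    (h : ∀ q : ℕ, q.Prime → q ≠ s → ∀ g : N, (∃ k : ℕ, g ^ (q ^ k) = 1) → g ∈ center N) :
    Group.IsNilpotent N := by
  haveI : Fact s.Prime := ⟨hs⟩
  have hidx0 : (center N).index ≠ 0 := Subgroup.index_ne_zero_of_finite
  have hidx : ∀ {d : ℕ}, d.Prime → d ∣ (center N).index → d = s := by
    intro d hd hdvd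
    by_contra hne
    haveI : Fact d.Prime := ⟨hd⟩
    obtain ⟨P⟩ : Nonempty (Sylow d N) := inferInstance
    have hP : (P : Subgroup N) ≤ center N := by
      intro g hg
      obtain ⟨k, hk⟩ := P.2 ⟨g, hg⟩
      refine h d hd hne g ⟨k, ?_⟩
      have := congrArg Subtype.val hk
      simpa using this
    have h1 : (center N).index ∣ (P : Subgroup N).index := Subgroup.index_dvd_of_le hP
    exact P.not_dvd_index (hdvd.trans h1)
  have hcard : Nat.card (N ⧸ center N) = s ^ (center N).index.primeFactorsList.length := by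
    rw [← Subgroup.index_eq_card]
    exact Nat.eq_prime_pow_of_unique_prime_dvd hidx0 hidx
  have hp : IsPGroup s (N ⧸ center N) := IsPGroup.of_card hcard
  exact Group.of_quotient_center_nilpotent hp.isNilpotent

/-- `O_2` of a group of odd order is trivial -/
theorem pCore_two_eq_one {K : Type*} [Group K] [Finite K] (hodd : ¬ 2 ∣ Nat.card K) (g : K)
    (hg : g ∈ Cfsg.pCore 2 K) : g = 1 := by
  obtain ⟨k, hk⟩ := (isPGroup_pCore (G := K) 2) ⟨g, hg⟩
  have hk' : g ^ (2 ^ k) = 1 := by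
    have := congrArg Subtype.val hk
    simpa using this
  have hcop : Nat.Coprime (2 ^ k) (Nat.card K) :=
    Nat.Coprime.pow_left k ((Nat.Prime.coprime_iff_not_dvd Nat.prime_two).mpr hodd)
  exact eq_one_of_pow_of_coprime g _ _ hk' pow_card_eq_one' hcop


/-! ### `O_r(G) = 1` by irreducibility -/

/-- `O_r(G)` acts trivially on the irreducible module `W` of exponent `r` (copy of the
corresponding block of `Helper64.SG.claimA_lin_of`). -/
theorem pCore_r_trivial {W : Type u} [CommGroup W] [Finite W] (r : ℕ) (hr : r.Prime)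
    (H G : Subgroup (MulAut W)) (hW : ∀ w : W, w ^ r = 1)
    (hHN : H ≤ normalizer (G : Set (MulAut W)))
    (hirr : ∀ W₀ : Subgroup W, (∀ h ∈ H, ∀ w ∈ W₀, h w ∈ W₀) → W₀ = ⊥ ∨ W₀ = ⊤)
    (g : ↥G) (hg : g ∈ Cfsg.pCore r ↥G) : ((g : ↥G) : MulAut W) = 1 := by
  have : Finite (MulAut W) := Finite.of_injective (fun f : MulAut W => (f : W → W))
    (fun f g hfg => MulEquiv.ext (fun w => congrFun hfg w))
  have hqF : Fact r.Prime := ⟨hr⟩
  have hPq : IsPGroup r (Cfsg.pCore r ↥G) := isPGroup_pCore r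
  have hchar : (Cfsg.pCore r ↥G).Characteristic := pCore_characteristic r
  have hWp : IsPGroup r W := fun w => ⟨1, by rw [pow_one]; exact hW w⟩
  let W0 : Subgroup W :=
    { carrier := {w | ∀ b ∈ Cfsg.pCore r ↥G, ((b : ↥G) : MulAut W) w = w}
      one_mem' := fun b _ => map_one _
      mul_mem' := fun {u v} hu hv b hb => by
        rw [map_mul, hu b hb, hv b hb]
      inv_mem' := fun {u} hu b hb => by
        rw [map_inv, hu b hb] }
  have hW0inv : ∀ k ∈ H, ∀ w ∈ W0, k w ∈ W0 := by
    intro k hk w hw b hb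
    have hkN : k ∈ Subgroup.normalizer (G : Set (MulAut W)) := hHN hk
    have hkN' : k⁻¹ ∈ Subgroup.normalizer (G : Set (MulAut W)) := Subgroup.inv_mem _ hkN
    have hb' : conjAut G k⁻¹ hkN' b ∈ Cfsg.pCore r ↥G := by
      have := hchar.fixed (conjAut G k⁻¹ hkN')
      have h2 : b ∈ (Cfsg.pCore r ↥G).comap (conjAut G k⁻¹ hkN').toMonoidHom := by
        rw [this]; exact hb
      exact h2
    have h3 := hw _ hb'
    rw [conjAut_coe] at h3
    have h4 : (k⁻¹ * (b : MulAut W) * k⁻¹⁻¹) w = k⁻¹ ((b : MulAut W) (k w)) := by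
      simp [MulAut.mul_apply]
    rw [h4] at h3
    have h5 : k (k⁻¹ ((b : MulAut W) (k w))) = k w := by rw [h3]
    simpa using h5
  have hall : ∀ w : W, w ∈ W0 := by
    rcases hirr W0 hW0inv with h0 | h0
    · have hWcard : Nat.card W = 1 := by
        rcases hWp.card_eq_or_dvd with h1 | h1
        · exact h1
        · exfalso
          have hact : (1 : W) ∈ MulAction.fixedPoints ↥((Cfsg.pCore r ↥G).map G.subtype) W := by
            intro b
            exact map_one (b : MulAut W)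
          have hP' : IsPGroup r ↥((Cfsg.pCore r ↥G).map G.subtype) := hPq.map _
          obtain ⟨w, hwfix, hw1⟩ :=
            hP'.exists_fixed_point_of_prime_dvd_card_of_fixed_point W h1 hact
          have hwW0 : w ∈ W0 := by
            intro b hb
            exact hwfix ⟨(b : MulAut W), ⟨b, hb, rfl⟩⟩
          rw [h0, Subgroup.mem_bot] at hwW0
          exact hw1 hwW0.symm
      intro w
      have : Subsingleton W := (Nat.card_eq_one_iff_unique.mp hWcard).1
      have hw1 : w = 1 := Subsingleton.elim _ _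
      rw [hw1]; exact W0.one_mem
    · intro w; rw [h0]; exact Subgroup.mem_top w
  ext w
  exact hall w g hg


/-! ### the main step: `[S, τ]` lands in `F(G)` -/

/-- The nilpotent normal subgroup `N = R ∩ ⋂_{q ≠ s} C(O_q(K))`, `R` the preimage of
`O_s(K / F(K))`, lies in `F(K)`. -/
theorem mem_fitting_of_centralizes {K : Type*} [Group K] [Finite K] (s : ℕ) (hs : s.Prime)
    (c : K)
    (hcR : ((c : K) : K ⧸ Cfsg.fittingSubgroup K) ∈ Cfsg.pCore s (K ⧸ Cfsg.fittingSubgroup K))
    (hcC : ∀ q : ℕ, q.Prime → q ≠ s → ∀ z ∈ Cfsg.pCore q K, z * c = c * z) :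
    c ∈ Cfsg.fittingSubgroup K := by
  haveI : Fact s.Prime := ⟨hs⟩
  haveI hcs : (Cfsg.pCore s (K ⧸ Cfsg.fittingSubgroup K)).Characteristic := pCore_characteristic s
  have hPs : IsPGroup s (Cfsg.pCore s (K ⧸ Cfsg.fittingSubgroup K)) := isPGroup_pCore s
  let R : Subgroup K :=
    (Cfsg.pCore s (K ⧸ Cfsg.fittingSubgroup K)).comap (QuotientGroup.mk' (Cfsg.fittingSubgroup K))
  let C : Subgroup K := ⨅ q : {q : ℕ // q.Prime ∧ q ≠ s},
    centralizer ((Cfsg.pCore q.1 K : Subgroup K) : Set K)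
  have hCn : C.Normal := by
    apply Subgroup.normal_iInf_normal
    intro q
    haveI : (Cfsg.pCore q.1 K).Characteristic := pCore_characteristic q.1
    infer_instance
  have hRn : R.Normal := by
    show ((Cfsg.pCore s (K ⧸ Cfsg.fittingSubgroup K)).comap
      (QuotientGroup.mk' (Cfsg.fittingSubgroup K))).Normal
    infer_instance
  let N : Subgroup K := R ⊓ C
  have hNn : N.Normal := by
    show (R ⊓ C).Normal
    infer_instance
  have hcN : c ∈ N := by
    refine ⟨hcR, Subgroup.mem_iInf.mpr fun q => Subgroup.mem_centralizer_iff.mpr fun z hz => ?_⟩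
    exact hcC q.1 q.2.1 q.2.2 z hz
  have hnil : Group.IsNilpotent ↥N := by
    apply isNilpotent_of_central_prime_elements s hs
    intro q hq hqs g hgq
    obtain ⟨k, hk⟩ := hgq
    haveI : Fact q.Prime := ⟨hq⟩
    have hk' : ((g : ↥N) : K) ^ (q ^ k) = 1 := by
      have := congrArg Subtype.val hk
      simpa using this
    -- `g ∈ F(K)`
    have hgR : (((g : ↥N) : K) : K ⧸ Cfsg.fittingSubgroup K) ∈
        Cfsg.pCore s (K ⧸ Cfsg.fittingSubgroup K) := g.2.1
    obtain ⟨j, hj⟩ := hPs ⟨_, hgR⟩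
    have hj' : (((g : ↥N) : K) : K ⧸ Cfsg.fittingSubgroup K) ^ (s ^ j) = 1 := by
      have := congrArg Subtype.val hj
      simpa using this
    have hk'' : (((g : ↥N) : K) : K ⧸ Cfsg.fittingSubgroup K) ^ (q ^ k) = 1 := by
      rw [← QuotientGroup.mk_pow, hk']; rfl
    have hcop : Nat.Coprime (q ^ k) (s ^ j) :=
      Nat.Coprime.pow _ _ ((Nat.coprime_primes hq hs).mpr hqs)
    have hg1 := eq_one_of_pow_of_coprime _ _ _ hk'' hj' hcop
    have hgF : ((g : ↥N) : K) ∈ Cfsg.fittingSubgroup K := (QuotientGroup.eq_one_iff _).mp hg1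
    -- `g ∈ O_q(K)`
    have hgq : ((g : ↥N) : K) ∈ Cfsg.pCore q K := mem_pCore_of_mem_fitting q _ hgF k hk'
    -- central in `N`
    rw [Subgroup.mem_center_iff]
    intro n'
    have hn'C : ((n' : ↥N) : K) ∈ C := n'.2.2
    rw [Subgroup.mem_iInf] at hn'C
    have h1 := hn'C ⟨q, hq, hqs⟩
    rw [Subgroup.mem_centralizer_iff] at h1
    apply Subtype.ext
    have h2 := h1 _ hgq
    simp only [Subgroup.coe_mul]
    exact h2.symm
  exact le_fittingSubgroup hNn hnil hcN

/-- **(A1)** linear from the three level lemma. -/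
theorem claimA2_lin_of (h : KL3Stmt.{u, u}) : ClaimA2LinStmt.{u} := by
  intro W _ _ r n H G x hr hr2 hW hGH hHN hsol hodd hxH hx2 hGfix hWfix hirr a ha
  classical
  have : Finite (MulAut W) := Finite.of_injective (fun f : MulAut W => (f : W → W))
    (fun f g hfg => MulEquiv.ext (fun w => congrFun hfg w))
  haveI := hsol
  haveI hFc : (Cfsg.fittingSubgroup ↥G).Characteristic := fittingSubgroup_characteristic
  have hxN : x ∈ Subgroup.normalizer (G : Set (MulAut W)) := hHN hxH
  have hτN : x ^ (2 ^ n) ∈ Subgroup.normalizer (G : Set (MulAut W)) :=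
    Subgroup.pow_mem _ hxN _
  have hτ2 : (x ^ (2 ^ n)) ^ 2 = 1 := by rw [← pow_mul, ← pow_succ]; exact hx2
  -- the automorphisms of `G` induced by `τ` and by `x`
  obtain ⟨σ, hσ⟩ : ∃ σ : ↥G ≃* ↥G, σ = conjAut G (x ^ (2 ^ n)) hτN := ⟨_, rfl⟩
  have hσ2 : σ ^ 2 = 1 := by
    ext g
    rw [hσ, conjAut_pow, hτ2]; simp
  -- `x`-invariant Sylow subgroups of `G`
  have hcopx : (Nat.card (zpowers x)).Coprime (Nat.card G) := by
    rw [Nat.card_zpowers]
    have h1 : orderOf x ∣ 2 ^ (n + 1) := orderOf_dvd_of_pow_eq_one hx2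
    have h2 : Nat.Coprime (2 ^ (n + 1)) (Nat.card G) :=
      Nat.Coprime.pow_left _ ((Nat.Prime.coprime_iff_not_dvd Nat.prime_two).mpr hodd)
    exact Nat.Coprime.coprime_dvd_left h1 h2
  have hxzN : zpowers x ≤ normalizer (G : Set (MulAut W)) := by
    rw [Subgroup.zpowers_le]; exact hxN
  -- the key: `(σ b)⁻¹ * b ∈ F(G)` for every `b` in an `x`-invariant Sylow `s`-subgroup whose
  -- image lies in `O_s(G / F(G))`
  have hkey : ∀ s : ℕ, s.Prime → ∀ y ∈ Cfsg.pCore s (↥G ⧸ Cfsg.fittingSubgroup ↥G),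
      (Cfsg.Agent.Helper70.autQuot (Cfsg.fittingSubgroup ↥G) σ) y = y := by
    intro s hs y hy
    haveI : Fact s.Prime := ⟨hs⟩
    have hoddq : ¬ 2 ∣ Nat.card (↥G ⧸ Cfsg.fittingSubgroup ↥G) := fun h2 =>
      hodd (h2.trans (Subgroup.card_quotient_dvd_card _))
    by_cases hs2 : s = 2
    · subst hs2
      have hy1 : y = 1 := pCore_two_eq_one hoddq y hy
      rw [hy1, map_one]
    -- an `x`-invariant Sylow `s`-subgroup
    obtain ⟨P, hP⟩ := Cfsg.Agent.S0023.result (zpowers x) G hxzN hcopx (Or.inr hsol) s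
    have hsurj : Function.Surjective (QuotientGroup.mk' (Cfsg.fittingSubgroup ↥G)) :=
      QuotientGroup.mk'_surjective _
    have hyP : y ∈ (P : Subgroup ↥G).map (QuotientGroup.mk' (Cfsg.fittingSubgroup ↥G)) := by
      have h1 := pCore_le_sylow (P.mapSurjective hsurj) hy
      rwa [Sylow.coe_mapSurjective] at h1
    obtain ⟨b, hbP, rfl⟩ := hyP
    -- the commutator element
    have hcF : (σ b)⁻¹ * b ∈ Cfsg.fittingSubgroup ↥G := by
      apply mem_fitting_of_centralizes s hs
      · -- in the preimage of `O_s`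
        have hchar : (Cfsg.pCore s (↥G ⧸ Cfsg.fittingSubgroup ↥G)).Characteristic :=
          pCore_characteristic s
        have h1 : (Cfsg.Agent.Helper70.autQuot (Cfsg.fittingSubgroup ↥G) σ)
            ((b : ↥G) : ↥G ⧸ Cfsg.fittingSubgroup ↥G) ∈
            Cfsg.pCore s (↥G ⧸ Cfsg.fittingSubgroup ↥G) := by
          have := hchar.fixed (Cfsg.Agent.Helper70.autQuot (Cfsg.fittingSubgroup ↥G) σ)
          have h2 : ((b : ↥G) : ↥G ⧸ Cfsg.fittingSubgroup ↥G) ∈
              (Cfsg.pCore s (↥G ⧸ Cfsg.fittingSubgroup ↥G)).comap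
                (Cfsg.Agent.Helper70.autQuot (Cfsg.fittingSubgroup ↥G) σ).toMonoidHom := by
            rw [this]; exact hy
          exact h2
        rw [Cfsg.Agent.Helper70.autQuot_mk] at h1
        rw [QuotientGroup.mk_mul, QuotientGroup.mk_inv]
        exact Subgroup.mul_mem _ (Subgroup.inv_mem _ h1) hy
      · -- centralizes every `O_q(G)`, `q ≠ s`
        intro q hq hqs z hz
        haveI : Fact q.Prime := ⟨hq⟩
        by_cases hq2 : q = 2
        · subst hq2
          have hz1 : z = 1 := pCore_two_eq_one hodd z hz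
          rw [hz1]; simp
        by_cases hqr : q = r
        · subst hqr
          have hz1 : ((z : ↥G) : MulAut W) = 1 := pCore_r_trivial q hq H G hW hHN hirr z hz
          have hz1' : z = 1 := Subtype.ext hz1
          rw [hz1']; simp
        -- the three level lemma
        have hcharq : (Cfsg.pCore q ↥G).Characteristic := pCore_characteristic q
        have hQn : ∀ k : MulAut W, ∀ hk : k ∈ normalizer (G : Set (MulAut W)),
            k ∈ normalizer (((Cfsg.pCore q ↥G).map G.subtype : Subgroup (MulAut W)) :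
              Set (MulAut W)) := by
          intro k hk
          apply mem_normalizer_fintype
          rintro _ ⟨d, hd, rfl⟩
          have hd' : conjAut G k hk d ∈ Cfsg.pCore q ↥G := by
            have := hcharq.fixed (conjAut G k hk)
            have h2 : d ∈ (Cfsg.pCore q ↥G).comap (conjAut G k hk).toMonoidHom := by
              rw [this]; exact hd
            exact h2
          exact ⟨_, hd', rfl⟩
        have hmain := h (MulAut W) W q s r n (MonoidHom.id (MulAut W))
          ((Cfsg.pCore q ↥G).map G.subtype) ((P : Subgroup ↥G).map G.subtype) x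
          hq hs hr hq2 hs2 hr2 hqr hqs hW ((isPGroup_pCore q).map _) (P.2.map _)
          (by
            rintro _ ⟨d, _, rfl⟩
            exact hQn _ (le_normalizer d.2))
          (hQn x hxN)
          (hP (mem_zpowers x)) hx2
          (fun d _ hd1 => hd1)
          (by
            rintro _ ⟨d, _, rfl⟩ hcomm
            exact hGfix _ d.2 hcomm)
          hWfix
        have hb' : ((b⁻¹ : ↥G) : MulAut W) ∈ (P : Subgroup ↥G).map G.subtype :=
          ⟨b⁻¹, Subgroup.inv_mem _ hbP, rfl⟩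
        have hz' : ((z : ↥G) : MulAut W) ∈ (Cfsg.pCore q ↥G).map G.subtype := ⟨z, hz, rfl⟩
        have h3 := hmain _ hb' _ hz'
        -- translate
        apply Subtype.ext
        simp only [Subgroup.coe_mul, Subgroup.coe_inv, hσ, conjAut_coe]
        rw [commutatorElement_def] at h3
        simp only [Subgroup.coe_inv, inv_inv] at h3
        -- `u := b⁻¹ τ b τ⁻¹` commutes with `z`; goal is about `u⁻¹`
        have h4 : (x ^ (2 ^ n) * (b : MulAut W) * (x ^ (2 ^ n))⁻¹)⁻¹ * (b : MulAut W) =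
            ((b : MulAut W)⁻¹ * x ^ (2 ^ n) * (b : MulAut W) * (x ^ (2 ^ n))⁻¹)⁻¹ := by
          group
        rw [h4]
        generalize (b : MulAut W)⁻¹ * x ^ (2 ^ n) * (b : MulAut W) * (x ^ (2 ^ n))⁻¹ = u at h3 ⊢
        calc (z : MulAut W) * u⁻¹ = u⁻¹ * (u * (z : MulAut W)) * u⁻¹ := by group
          _ = u⁻¹ * ((z : MulAut W) * u) * u⁻¹ := by rw [h3]
          _ = u⁻¹ * (z : MulAut W) := by group
    show (((σ b : ↥G)) : ↥G ⧸ Cfsg.fittingSubgroup ↥G) =
      ((b : ↥G) : ↥G ⧸ Cfsg.fittingSubgroup ↥G)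
    exact QuotientGroup.eq.mpr hcF
  -- `σ` is trivial on `G / F(G)`
  have hσb : Cfsg.Agent.Helper70.autQuot (Cfsg.fittingSubgroup ↥G) σ =
      MulEquiv.refl (↥G ⧸ Cfsg.fittingSubgroup ↥G) := by
    by_contra hne
    have hfix := fix_fitting_of_fix_pCores
      (Cfsg.Agent.Helper70.autQuot (Cfsg.fittingSubgroup ↥G) σ) hkey
    have hnc := Cfsg.Agent.S0552.result
      (Cfsg.Agent.Helper70.autQuot (Cfsg.fittingSubgroup ↥G) σ) hfix hne
    apply hnc
    have hpow : (Cfsg.Agent.Helper70.autQuot (Cfsg.fittingSubgroup ↥G) σ) ^ 2 = 1 := by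
      rw [← map_pow, hσ2, map_one]
    have hdvd : orderOf (Cfsg.Agent.Helper70.autQuot (Cfsg.fittingSubgroup ↥G) σ) ∣ 2 :=
      orderOf_dvd_of_pow_eq_one hpow
    have hoddq : ¬ 2 ∣ Nat.card (↥G ⧸ Cfsg.fittingSubgroup ↥G) := fun h2 =>
      hodd (h2.trans (Subgroup.card_quotient_dvd_card _))
    have hcop : Nat.Coprime 2 (Nat.card (↥G ⧸ Cfsg.fittingSubgroup ↥G)) :=
      (Nat.Prime.coprime_iff_not_dvd Nat.prime_two).mpr hoddq
    exact Nat.Coprime.coprime_dvd_left hdvd hcop
  -- conclusion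
  have hfin : ∀ g : ↥G, (σ g)⁻¹ * g ∈ Cfsg.fittingSubgroup ↥G := by
    intro g
    have h1 := congrArg (fun f : (↥G ⧸ Cfsg.fittingSubgroup ↥G) ≃* (↥G ⧸ Cfsg.fittingSubgroup ↥G) =>
      f ((g : ↥G) : ↥G ⧸ Cfsg.fittingSubgroup ↥G)) hσb
    simp only [MulEquiv.refl_apply] at h1
    rw [Cfsg.Agent.Helper70.autQuot_mk] at h1
    exact QuotientGroup.eq.mp h1
  refine ⟨(σ (⟨a, ha⟩⁻¹ : ↥G))⁻¹ * (⟨a, ha⟩⁻¹ : ↥G), hfin _, ?_⟩
  simp only [Subgroup.coe_subtype, Subgroup.coe_mul, Subgroup.coe_inv, hσ, conjAut_coe,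
    commutatorElement_def]
  group

end Cfsg.Agent.Helper49.GrossA1
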