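import Cfsg.Agent.Helper95.Hig.Basic

/-!
Helper49: piece (HD2) of helper95's HIG batch 1 (S3050, Higman): block form of `L γ = W * U γ * W`
in a characteristic-2 model.
-/

set_option autoImplicit false

namespace Cfsg.Agent.Helper49.Hig

open Cfsg.Agent.Helper40.SL2Hom
open Cfsg.Agent.Helper95.Hig

universe u v w

section hd
variable {K : Type u} [Field K] [CharP K 2] {V : Type v} [AddCommGroup V] [Module (ZG K) V]
  {C : Type w} [AddCommGroup C]

omit [CharP K 2] in
theorem HD2_actW (m : Model K V C) (c d : C) :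
    act (W : SL2 K) (m.φ.symm (c, d)) = m.φ.symm (d, c) := by
  apply m.φ.injective
  rw [m.hW, AddEquiv.apply_symm_apply]

omit [CharP K 2] in
theorem HD2_actU (m : Model K V C) (γ : K) (c d : C) :
    act (U γ) (m.φ.symm (c, d)) = m.φ.symm (c + m.A γ c + m.B γ d, d + m.A γ d) := by
  apply m.φ.injective
  rw [m.hU, AddEquiv.apply_symm_apply]

/-- (HD2) block form of `L γ = W * U γ * W`:
`L γ (c, d) = (c + A γ c, d + B γ c + A γ d)`. -/
theorem hd2 (m : Model K V C) (γ : K) (c d : C) :
    m.φ (act (L γ) (m.φ.symm (c, d))) = (c + m.A γ c, d + m.B γ c + m.A γ d) := by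
  rw [L_eq γ, act_mul, act_mul, HD2_actW, HD2_actU, HD2_actW, AddEquiv.apply_symm_apply,
    add_right_comm d]

end hd

end Cfsg.Agent.Helper49.Hig
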