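import Cfsg.Agent.Helper95.Hig.Basic

/-!
Helper49: piece (HD5) of helper95's HIG batch 1 (S3050, Higman): the relations `rel21` and `rel22`
of `HData` for a characteristic-2 model.
-/

set_option autoImplicit false

namespace Cfsg.Agent.Helper49.Hig

open Cfsg.Agent.Helper40.SL2Hom
open Cfsg.Agent.Helper95.Hig

universe u v w

section hd
variable {K : Type u} [Field K] [CharP K 2] {V : Type v} [AddCommGroup V] [Module (ZG K) V]
  {C : Type w} [AddCommGroup C]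

omit [CharP K 2] in
theorem HD5_actW (m : Model K V C) (c d : C) :
    act (W : SL2 K) (m.φ.symm (c, d)) = m.φ.symm (d, c) := by
  apply m.φ.injective
  rw [m.hW, AddEquiv.apply_symm_apply]

omit [CharP K 2] in
theorem HD5_actU (m : Model K V C) (γ : K) (c d : C) :
    act (U γ) (m.φ.symm (c, d)) = m.φ.symm (c + m.A γ c + m.B γ d, d + m.A γ d) := by
  apply m.φ.injective
  rw [m.hU, AddEquiv.apply_symm_apply]

theorem HD5_actL (m : Model K V C) (γ : K) (c d : C) :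
    act (L γ) (m.φ.symm (c, d)) = m.φ.symm (c + m.A γ c, d + m.B γ c + m.A γ d) := by
  rw [L_eq γ, act_mul, act_mul, HD5_actW, HD5_actU, HD5_actW, add_right_comm d]

/-- block form of `w_γ = U γ * L γ⁻¹ * U γ` (this is (HD4), reproved here to be self-contained) -/
theorem HD5_actw (h2 : ∀ c : C, c + c = 0) (hH : IsHig K V) (m : Model K V C) (γ : K)
    (hγ : γ ≠ 0) (c d : C) :
    act (U γ * L γ⁻¹ * U γ) (m.φ.symm (c, d)) =
      m.φ.symm (m.A γ c + m.A γ⁻¹ c + m.B γ d, m.B γ⁻¹ c + (m.A γ d + m.A γ⁻¹ d)) := by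
  have h := (s3r hH γ hγ (m.φ.symm (c, d))).2
  have hneg : ∀ x : C, -x = x := fun x => neg_eq_of_add_eq_zero_left (h2 x)
  have h' : act (U γ * L γ⁻¹ * U γ) (m.φ.symm (c, d)) =
      -(act (U γ) (m.φ.symm (c, d)) + act (L γ⁻¹) (m.φ.symm (c, d))) :=
    eq_neg_of_add_eq_zero_right h
  rw [h', HD5_actU, HD5_actL, ← map_add, ← map_neg]
  congr 1
  ext
  · simp only [Prod.fst_neg, Prod.fst_add, hneg]
    have := h2 c
    calc c + m.A γ c + m.B γ d + (c + m.A γ⁻¹ c)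
        = (c + c) + (m.A γ c + m.A γ⁻¹ c + m.B γ d) := by abel
      _ = m.A γ c + m.A γ⁻¹ c + m.B γ d := by rw [this, zero_add]
  · simp only [Prod.snd_neg, Prod.snd_add, hneg]
    have := h2 d
    calc d + m.A γ d + (d + m.B γ⁻¹ c + m.A γ⁻¹ d)
        = (d + d) + (m.B γ⁻¹ c + (m.A γ d + m.A γ⁻¹ d)) := by abel
      _ = m.B γ⁻¹ c + (m.A γ d + m.A γ⁻¹ d) := by rw [this, zero_add]

/-- (HD5) `rel21` and `rel22`. -/
theorem hd5 (h2 : ∀ c : C, c + c = 0) (hH : IsHig K V) (m : Model K V C) (γ δ : K) (hγ : γ ≠ 0)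
    (c : C) :
    (m.B γ⁻¹ (m.A δ (m.A γ c + m.A γ⁻¹ c)) + m.B γ⁻¹ (m.B δ (m.B γ⁻¹ c))
      + (m.A γ (m.A δ (m.B γ⁻¹ c)) + m.A γ⁻¹ (m.A δ (m.B γ⁻¹ c))) = m.B (δ / γ ^ 2) c) ∧
    (m.B γ⁻¹ (m.A δ (m.B γ c)) + m.B γ⁻¹ (m.B δ (m.A γ c + m.A γ⁻¹ c))
      + (m.A γ (m.A δ (m.A γ c + m.A γ⁻¹ c)) + m.A γ⁻¹ (m.A δ (m.A γ c + m.A γ⁻¹ c)))
        = m.A (δ / γ ^ 2) c) := by
  have hw := HD5_actw h2 hH m γ hγ
  have hconj : ∀ x : V, act (U γ * L γ⁻¹ * U γ) (act (U δ) (act (U γ * L γ⁻¹ * U γ) x)) =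
      act (L (δ / γ ^ 2)) x := by
    intro x
    rw [← wg_conj γ δ hγ, act_mul (U γ * L γ⁻¹ * U γ * U δ) (U γ * L γ⁻¹ * U γ),
      act_mul (U γ * L γ⁻¹ * U γ) (U δ)]
  have hsq : ∀ x : V, act (U γ * L γ⁻¹ * U γ) (act (U γ * L γ⁻¹ * U γ) x) = x := by
    intro x
    rw [← act_mul, wg_sq γ hγ, act_one]
  constructor
  · have h1 := hconj (m.φ.symm (c, 0))
    have h3 := hsq (m.φ.symm (c, 0))
    rw [hw, HD5_actU, hw, HD5_actL] at h1
    rw [hw, hw] at h3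
    have h1' := congrArg Prod.snd (m.φ.symm.injective h1)
    have h3' := congrArg Prod.snd (m.φ.symm.injective h3)
    simp only [map_add, map_zero, add_zero, zero_add] at h1' h3' ⊢
    linear_combination (norm := abel) h1' - h3'
  · have h1 := hconj (m.φ.symm (0, c))
    have h3 := hsq (m.φ.symm (0, c))
    rw [hw, HD5_actU, hw, HD5_actL] at h1
    rw [hw, hw] at h3
    have h1' := congrArg Prod.snd (m.φ.symm.injective h1)
    have h3' := congrArg Prod.snd (m.φ.symm.injective h3)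
    simp only [map_add, map_zero, add_zero, zero_add] at h1' h3' ⊢
    linear_combination (norm := abel) h1' - h3'

end hd

end Cfsg.Agent.Helper49.Hig
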