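/-
helper49: piece (ARI2) of helper99's farm for S3590 (#12233).
-/
import Mathlib

set_option autoImplicit false
set_option linter.unusedSectionVars false
set_option linter.unusedVariables false

namespace Cfsg.Agent.Helper49.Is8

/-- (ARI2) -/
theorem two_mul_dvd_lcm (j r t c N' : ℕ) (hr : Odd r) (hjc : 2 ^ j + 1 ≤ 2 * c) (hct : 2 * c ≤ 2 ^ t)
    (h : 2 ^ j * r ∣ Nat.lcm (2 ^ t) N') : 2 * (2 ^ j * r) ∣ Nat.lcm (2 ^ t) N' := by
  have hlt : 2 ^ j < 2 ^ t := by omega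
  have hjt : j < t := (Nat.pow_lt_pow_iff_right (by norm_num)).mp hlt
  have h1 : 2 ^ (j + 1) ∣ Nat.lcm (2 ^ t) N' :=
    (pow_dvd_pow 2 hjt).trans (Nat.dvd_lcm_left _ _)
  have h2 : r ∣ Nat.lcm (2 ^ t) N' := (Dvd.intro_left _ rfl).trans h
  have hcop : Nat.Coprime (2 ^ (j + 1)) r :=
    Nat.Coprime.pow_left _ (Nat.coprime_two_left.mpr hr)
  have := Nat.Coprime.mul_dvd_of_dvd_of_dvd hcop h1 h2
  have e : 2 * (2 ^ j * r) = 2 ^ (j + 1) * r := by ring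
  rw [e]
  exact this

end Cfsg.Agent.Helper49.Is8
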