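/-
helper49: piece (LCM) of helper99's farm for S3590 (#12233).
-/
import Mathlib

set_option autoImplicit false
set_option linter.unusedSectionVars false
set_option linter.unusedVariables false

namespace Cfsg.Agent.Helper49.Is8

/-- (LCM) -/
theorem lcm_facts (q : ℕ) (hq : 2 ≤ q) (heven : Even q) :
    Nat.lcm (q ^ 2 + 1) (q ^ 2 - 1) = q ^ 4 - 1 ∧
    Nat.lcm (q ^ 3 - 1) (q + 1) = (q ^ 3 - 1) * (q + 1) ∧
    Nat.lcm (q ^ 3 + 1) (q - 1) = (q ^ 3 + 1) * (q - 1) ∧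
    Nat.lcm (q ^ 2 + 1) (q + 1) = (q ^ 2 + 1) * (q + 1) ∧
    Nat.lcm (q ^ 2 + 1) (q - 1) = (q ^ 2 + 1) * (q - 1) := by
  obtain ⟨r, rfl⟩ : ∃ r, q = 2 * r + 2 := by
    obtain ⟨s, hs⟩ := heven
    exact ⟨s - 1, by omega⟩
  have e1 : (2 * r + 2) ^ 2 - 1 = 4 * r ^ 2 + 8 * r + 3 := by
    apply Nat.sub_eq_of_eq_add; ring
  have e2 : (2 * r + 2) ^ 3 - 1 = 8 * r ^ 3 + 24 * r ^ 2 + 24 * r + 7 := by
    apply Nat.sub_eq_of_eq_add; ring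
  have e3 : (2 * r + 2) - 1 = 2 * r + 1 := by omega
  have e4 : (2 * r + 2) ^ 4 - 1 = (( 2 * r + 2) ^ 2 + 1) * (4 * r ^ 2 + 8 * r + 3) := by
    apply Nat.sub_eq_of_eq_add; ring
  rw [e1, e2, e3, e4]
  refine ⟨?_, ?_, ?_, ?_, ?_⟩
  · apply Nat.Coprime.lcm_eq_mul
    apply Nat.isCoprime_iff_coprime.mp
    refine ⟨2 * ((r : ℤ) + 1) ^ 2, -(2 * ((r : ℤ) + 1) ^ 2 + 1), ?_⟩
    push_cast
    ring
  · apply Nat.Coprime.lcm_eq_mul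
    apply Nat.isCoprime_iff_coprime.mp
    refine ⟨(r : ℤ) + 1,
      1 - ((r : ℤ) + 1) * ((2 * (r : ℤ) + 2) ^ 2 - (2 * (r : ℤ) + 2) + 1), ?_⟩
    push_cast
    ring
  · apply Nat.Coprime.lcm_eq_mul
    apply Nat.isCoprime_iff_coprime.mp
    refine ⟨(r : ℤ) + 1,
      -(((r : ℤ) + 1) * ((2 * (r : ℤ) + 2) ^ 2 + (2 * (r : ℤ) + 2) + 1) + 1), ?_⟩
    push_cast
    ring
  · apply Nat.Coprime.lcm_eq_mul
    apply Nat.isCoprime_iff_coprime.mp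
    refine ⟨-((r : ℤ) + 1), 1 + ((r : ℤ) + 1) * ((2 * (r : ℤ) + 2) - 1), ?_⟩
    push_cast
    ring
  · apply Nat.Coprime.lcm_eq_mul
    apply Nat.isCoprime_iff_coprime.mp
    refine ⟨(r : ℤ) + 1, -(((r : ℤ) + 1) * ((2 * (r : ℤ) + 2) + 1) + 1), ?_⟩
    push_cast
    ring

end Cfsg.Agent.Helper49.Is8
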