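/-
helper49: piece (ODDA) `hr8_of_odd` of helper99's farm for S3590 (#12233).
An odd element order of a minus-type space of dimension 8 is realised in `Ω` with `w = 0`.
Uses helper47's (ODD) `mem_Omega_of_odd`.
-/
import Mathlib
import Cfsg.Prelude.Def_Classical
import Cfsg.Agent.Helper99.Is8.Defs
import Cfsg.Agent.Helper44.OrthRealizeC
import Cfsg.Agent.Helper47.Is8ODD

set_option autoImplicit false
set_option linter.unusedSectionVars false
set_option linter.unusedVariables false

universe u

namespace Cfsg.Agent.Helper49.Is8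

open Matrix Polynomial QuadraticMap Cfsg.Agent.Helper99.Is8 Cfsg.Agent.Helper94.Sg
  Cfsg.Agent.Helper44 Cfsg.Agent.Helper44.QType

section real

variable {F : Type u} [Field F] [Fintype F]

/-- (ODDA) odd orders. -/
theorem hr8_of_odd [CharP F 2] {N : ℕ} (h : Real F 4 (-1) N) (hodd : Odd N) : HR8 F N := by
  obtain ⟨ι, hfin, hdec, Q, hcard, hnd, hT, g, hg⟩ := h
  refine ⟨ι, hfin, hdec, Q, hcard, hnd, hT, g, 0, ?_, ?_, Or.inl ⟨?_, hg.symm⟩⟩
  · apply Cfsg.Agent.Helper47.Is8.mem_Omega_of_odd Q ((nondeg_iff Q).mpr hnd)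
    · right
      rw [hcard]
      norm_num
    · rw [hg]
      exact hodd
  · rw [hg]
    exact hodd.pos
  · exact Matrix.mulVec_zero _

end real

end Cfsg.Agent.Helper49.Is8
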