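/-
helper49: helper lemma for the explicit unipotent pieces of helper99's S3590 farm (#12233):
a `0/1` matrix over `ZMod 2` of order `2 ^ (n + 1)` whose image preserves `Q`, with a rank
normal form of `M₀ - 1` and a vector not killed by `(M₀ + 1) ^ (2 ^ (n + 1) - 1)`, gives `UR`.
(Extends helper55's `real_of_zmod_two`.)
-/
import Mathlib
import Cfsg.Agent.Helper99.Is8.Defs
import Cfsg.Agent.Helper44.OrthRealizeC

set_option autoImplicit false
set_option linter.unusedSectionVars false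
set_option linter.unusedVariables false

namespace Cfsg.Agent.Helper49.Is8

open Matrix QuadraticMap Cfsg.Agent.Helper44.QType Cfsg.Agent.Helper99.Is8

universe u
variable {F : Type u} [Field F] [Fintype F]

theorem ur_of_zmod_two [CharP F 2] {ι : Type} [Fintype ι] [DecidableEq ι]
    (Q : QuadraticForm F (ι → F)) (m : ℕ) (ε : ℤ)
    (hcard : Fintype.card ι = 2 * m) (hnd : ∀ x, (∀ y, polar Q x y = 0) → x = 0)
    (hT : HasType (⇑Q) m ε) (M₀ : Matrix ι ι (ZMod 2)) (n : ℕ)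
    (hM : ∀ v : ι → F, Q (Matrix.mulVec ((ZMod.castHom (dvd_refl 2) F).mapMatrix M₀) v) = Q v)
    (hpow : M₀ ^ 2 ^ (n + 1) = 1) (hne : M₀ ^ 2 ^ n ≠ 1)
    (P₀ P₀' Q₀ Q₀' : Matrix ι ι (ZMod 2)) (d₀ : ι → ZMod 2)
    (hdec : M₀ - 1 = P₀ * Matrix.diagonal d₀ * Q₀) (hP : P₀ * P₀' = 1) (hQ : Q₀ * Q₀' = 1)
    (hd : Even (Fintype.card {i // d₀ i ≠ 0}))
    (w₀ : ι → ZMod 2) (hw : ((M₀ + 1) ^ (2 ^ (n + 1) - 1)) *ᵥ w₀ ≠ 0) :
    UR F m ε (n + 1) := by
  classical
  set φ : ZMod 2 →+* F := ZMod.castHom (dvd_refl 2) F with hφ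
  set M : Matrix ι ι F := φ.mapMatrix M₀ with hMdef
  have hφinj : Function.Injective φ := φ.injective
  have hMpow : M ^ 2 ^ (n + 1) = 1 := by rw [hMdef, ← map_pow, hpow, map_one]
  have hpos : 1 ≤ 2 ^ (n + 1) := Nat.one_le_two_pow
  let g : GL ι F := ⟨M, M ^ (2 ^ (n + 1) - 1),
    by rw [← pow_succ', Nat.sub_add_cancel hpos, hMpow],
    by rw [← pow_succ, Nat.sub_add_cancel hpos, hMpow]⟩
  have hg : g ∈ Cfsg.isometryGroup F ⇑Q := (Cfsg.Agent.Helper44.mem_isometryGroup_iff _ g).mpr hM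
  have hgM : ((⟨g, hg⟩ : ↥(Cfsg.isometryGroup F ⇑Q)) : GL ι F).1 = M := rfl
  refine ⟨ι, inferInstance, inferInstance, Q, hcard, hnd, hT, ⟨g, hg⟩, fun i => φ (w₀ i), ?_, ?_, ?_⟩
  · -- the order
    have hcoe : ∀ k : ℕ, (((⟨g, hg⟩ : ↥(Cfsg.isometryGroup F ⇑Q)) ^ k :
        ↥(Cfsg.isometryGroup F ⇑Q)) : GL ι F).1 = M ^ k := by
      intro k
      rw [Subgroup.coe_pow, Units.val_pow_eq_pow_val]
    have : Fact (Nat.Prime 2) := ⟨Nat.prime_two⟩
    apply orderOf_eq_prime_pow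
    · intro h1
      have h2 := hcoe (2 ^ n)
      rw [h1] at h2
      have h3 : M ^ 2 ^ n = 1 := h2.symm
      rw [hMdef, ← map_pow] at h3
      apply hne
      have hinj : Function.Injective (φ.mapMatrix (m := ι)) := by
        intro A B hAB
        simp only [RingHom.mapMatrix_apply] at hAB
        exact Matrix.map_injective φ.injective hAB
      apply hinj
      rw [h3, map_one]
    · apply Subtype.ext
      apply Units.ext
      rw [hcoe, hMpow]
      rfl
  · -- the rank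
    change Even (M - 1).rank
    have e1 : M - 1 = φ.mapMatrix P₀ * Matrix.diagonal (fun i => φ (d₀ i)) * φ.mapMatrix Q₀ := by
      have h := congrArg φ.mapMatrix hdec
      rw [map_sub, map_one, map_mul, map_mul] at h
      rw [hMdef, h]
      congr 2
      ext i j
      simp [Matrix.diagonal_apply, apply_ite φ]
    have hPu : IsUnit (φ.mapMatrix P₀).det := by
      have h := congrArg φ.mapMatrix hP
      rw [map_mul, map_one] at h
      exact (Matrix.isUnit_iff_isUnit_det _).mp (IsUnit.of_mul_eq_one _ h)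
    have hQu : IsUnit (φ.mapMatrix Q₀).det := by
      have h := congrArg φ.mapMatrix hQ
      rw [map_mul, map_one] at h
      exact (Matrix.isUnit_iff_isUnit_det _).mp (IsUnit.of_mul_eq_one _ h)
    rw [e1, Matrix.rank_mul_eq_left_of_isUnit_det _ _ hQu,
      Matrix.rank_mul_eq_right_of_isUnit_det _ _ hPu, Matrix.rank_diagonal]
    have e2 : Fintype.card {i // φ (d₀ i) ≠ 0} = Fintype.card {i // d₀ i ≠ 0} := by
      apply Fintype.card_congr
      apply Equiv.subtypeEquivRight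
      intro i
      rw [Ne, Ne, map_eq_zero_iff φ hφinj]
    rw [e2]
    exact hd
  · -- the vector
    change ((M + 1) ^ (2 ^ (n + 1) - 1)) *ᵥ (fun i => φ (w₀ i)) ≠ 0
    have e1 : (M + 1) ^ (2 ^ (n + 1) - 1) = φ.mapMatrix ((M₀ + 1) ^ (2 ^ (n + 1) - 1)) := by
      rw [map_pow, map_add, map_one]
    have e2 : (φ.mapMatrix ((M₀ + 1) ^ (2 ^ (n + 1) - 1))) *ᵥ (fun i => φ (w₀ i)) =
        fun i => φ ((((M₀ + 1) ^ (2 ^ (n + 1) - 1)) *ᵥ w₀) i) := by
      funext i
      simp [Matrix.mulVec, dotProduct, map_sum]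
    rw [e1, e2]
    intro h0
    apply hw
    funext i
    have := congrFun h0 i
    simpa [map_eq_zero_iff φ hφinj] using this

end Cfsg.Agent.Helper49.Is8
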