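/-
helper49: piece (U32M) `ur_3_minus_2` of helper99's farm for S3590 (#12233).
On `minusForm 2 F 1 ζ`, coordinates `(x₁, x₂, y₁, y₂, z₁, z₂)`: the 4-cycle
`x₁' = x₂, x₂' = y₁, y₁' = y₂, y₂' = x₁` together with `z₁ ↦ z₁ + z₂`, `z₂ ↦ z₂`.
-/
import Mathlib
import Cfsg.Agent.Helper49.Is8URZ2
import Cfsg.Agent.Helper94.Sg.Aniso

set_option autoImplicit false
set_option linter.unusedSectionVars false
set_option linter.unusedVariables false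
set_option maxRecDepth 100000

namespace Cfsg.Agent.Helper49.Is8

open Matrix QuadraticMap Cfsg.Agent.Helper44.QType Cfsg.Agent.Helper99.Is8 Cfsg.Agent.Helper94.Sg

universe u
variable {F : Type u} [Field F] [Fintype F]

/-- the index type of `minusForm 2` -/
abbrev I6m : Type := (Fin 2 ⊕ Fin 2) ⊕ Fin 2

/-- numbering of the coordinates `(x₁, x₂, y₁, y₂, z₁, z₂)` -/
def u32m_enc : I6m → Fin 6
  | Sum.inl (Sum.inl i) => ⟨i.1, by omega⟩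
  | Sum.inl (Sum.inr i) => ⟨i.1 + 2, by omega⟩
  | Sum.inr i => ⟨i.1 + 4, by omega⟩

/-- the isometry over `ZMod 2` -/
def u32m_M : Matrix I6m I6m (ZMod 2) :=
  (!![0, 1, 0, 0, 0, 0; 0, 0, 1, 0, 0, 0; 0, 0, 0, 1, 0, 0; 1, 0, 0, 0, 0, 0;
      0, 0, 0, 0, 1, 1; 0, 0, 0, 0, 0, 1] : Matrix (Fin 6) (Fin 6) (ZMod 2)).submatrix
    u32m_enc u32m_enc

def u32m_P : Matrix I6m I6m (ZMod 2) :=
  (!![1, 0, 0, 0, 0, 0; 0, 1, 0, 0, 0, 0; 0, 0, 1, 0, 0, 0; 1, 1, 1, 0, 1, 0;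
      0, 0, 0, 1, 0, 0; 0, 0, 0, 0, 0, 1] : Matrix (Fin 6) (Fin 6) (ZMod 2)).submatrix
    u32m_enc u32m_enc

def u32m_P' : Matrix I6m I6m (ZMod 2) :=
  (!![1, 0, 0, 0, 0, 0; 0, 1, 0, 0, 0, 0; 0, 0, 1, 0, 0, 0; 0, 0, 0, 0, 1, 0;
      1, 1, 1, 1, 0, 0; 0, 0, 0, 0, 0, 1] : Matrix (Fin 6) (Fin 6) (ZMod 2)).submatrix
    u32m_enc u32m_enc

def u32m_Q : Matrix I6m I6m (ZMod 2) :=
  (!![1, 1, 0, 0, 0, 0; 0, 1, 1, 0, 0, 0; 0, 0, 1, 1, 0, 0; 0, 0, 0, 0, 0, 1;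
      0, 0, 0, 0, 1, 0; 0, 0, 0, 1, 0, 0] : Matrix (Fin 6) (Fin 6) (ZMod 2)).submatrix
    u32m_enc u32m_enc

def u32m_Q' : Matrix I6m I6m (ZMod 2) :=
  (!![1, 1, 1, 0, 0, 1; 0, 1, 1, 0, 0, 1; 0, 0, 1, 0, 0, 1; 0, 0, 0, 0, 0, 1;
      0, 0, 0, 0, 1, 0; 0, 0, 0, 1, 0, 0] : Matrix (Fin 6) (Fin 6) (ZMod 2)).submatrix
    u32m_enc u32m_enc

def u32m_d : I6m → ZMod 2 := fun i => (![1, 1, 1, 1, 0, 0] : Fin 6 → ZMod 2) (u32m_enc i)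

def u32m_w : I6m → ZMod 2 := fun i => (![1, 0, 0, 0, 0, 0] : Fin 6 → ZMod 2) (u32m_enc i)

theorem u32m_pow : u32m_M ^ 2 ^ (1 + 1) = 1 := by decide +kernel

theorem u32m_ne : u32m_M ^ 2 ^ 1 ≠ 1 := by decide +kernel

theorem u32m_dec : u32m_M - 1 = u32m_P * Matrix.diagonal u32m_d * u32m_Q := by decide +kernel

theorem u32m_PP : u32m_P * u32m_P' = 1 := by decide +kernel

theorem u32m_QQ : u32m_Q * u32m_Q' = 1 := by decide +kernel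

theorem u32m_card : Fintype.card {i // u32m_d i ≠ 0} = 4 := by decide +kernel

theorem u32m_vec : ((u32m_M + 1) ^ (2 ^ (1 + 1) - 1)) *ᵥ u32m_w ≠ 0 := by decide +kernel

/-- (U32M) -/
theorem ur_3_minus_2 [CharP F 2] : UR F 3 (-1) 2 := by
  have h2 : (2 : F) = 0 := CharTwo.two_eq_zero
  obtain ⟨ζ, hζ⟩ := exists_aniso (F := F)
  have hD : (1 : F) ^ 2 - 4 * ζ ≠ 0 := by
    have h4 : (4 : F) = 0 := by linear_combination (2 : F) * h2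
    rw [h4, zero_mul, sub_zero, one_pow]
    exact one_ne_zero
  have h := ur_of_zmod_two (F := F) (Cfsg.Agent.Helper44.minusForm 2 F 1 ζ) 3 (-1)
    (by simp) ((Cfsg.Agent.Helper44.QType.nondeg_iff _).mp
      (Cfsg.Agent.Helper44.nondegenerate_minusForm 2 1 ζ hD))
    (Cfsg.Agent.Helper44.QType.hasType_minus 2 1 ζ hζ) u32m_M 1 ?_ u32m_pow u32m_ne
    u32m_P u32m_P' u32m_Q u32m_Q' u32m_d u32m_dec u32m_PP u32m_QQ
    (by rw [u32m_card]; decide) u32m_w u32m_vec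
  · exact h
  · intro v
    rw [Cfsg.Agent.Helper44.minusForm_coe]
    unfold Cfsg.quadFormMinus
    simp only [Fin.sum_univ_two, u32m_M, RingHom.mapMatrix_apply, Matrix.mulVec, dotProduct,
      Fintype.sum_sum_type, Matrix.map_apply, Matrix.submatrix_apply, u32m_enc]
    simp
    linear_combination (v (Sum.inr 0) * v (Sum.inr 1) + v (Sum.inr 1) ^ 2) * h2

end Cfsg.Agent.Helper49.Is8
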