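import Mathlib
import Cfsg.Prelude.Def_JComponents
import Cfsg.Agent.Helper10.Thompson

set_option autoImplicit false

/-!
Ambient form of "elementary abelian `p`-subgroup of largest order of the subgroup `S`" and the
Thompson subgroup `thompsonSubgroupOf p S` in these terms (helper49).
-/

namespace Cfsg.Agent.Helper49.JComp

open Cfsg Cfsg.Agent.Helper10

variable {G : Type*} [Group G] {p : ℕ}

/-- `A` is an elementary abelian `p`-subgroup of `S` of largest order (ambient form). -/
def MaxEA (p : ℕ) (S A : Subgroup G) : Prop :=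
  A ≤ S ∧ Cfsg.IsElementaryAbelian p A ∧
    ∀ B : Subgroup G, B ≤ S → Cfsg.IsElementaryAbelian p B → Nat.card B ≤ Nat.card A

theorem card_subgroupOf_of_le {A S : Subgroup G} (h : A ≤ S) :
    Nat.card (A.subgroupOf S) = Nat.card A :=
  Nat.card_congr (Subgroup.subgroupOfEquivOfLe h).toEquiv

theorem maxEA_map_of_mem {S : Subgroup G} {A' : Subgroup ↥S}
    (h : A' ∈ Cfsg.maxElementaryAbelianSubgroups p ↥S) : MaxEA p S (A'.map S.subtype) := by
  refine ⟨Subgroup.map_subtype_le _, isElementaryAbelian_map h.1 _, ?_⟩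
  intro B hBS hB
  have h1 : Cfsg.IsElementaryAbelian p (B.subgroupOf S) :=
    isElementaryAbelian_comap hB S.subtype S.subtype_injective
  have h2 := h.2 _ h1
  rw [card_subgroupOf_of_le hBS] at h2
  rwa [card_map_of_injective A' S.subtype S.subtype_injective]

theorem MaxEA.subgroupOf_mem {S A : Subgroup G} (h : MaxEA p S A) :
    A.subgroupOf S ∈ Cfsg.maxElementaryAbelianSubgroups p ↥S := by
  refine ⟨isElementaryAbelian_comap h.2.1 S.subtype S.subtype_injective, ?_⟩
  intro B' hB'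
  rw [card_subgroupOf_of_le h.1, ← card_map_of_injective B' S.subtype S.subtype_injective]
  exact h.2.2 _ (Subgroup.map_subtype_le _) (isElementaryAbelian_map hB' _)

/-- `J(S)`, viewed in `G`, is generated by the elementary abelian subgroups of `S` of largest
order. -/
theorem thompsonSubgroupOf_eq_sSup_maxEA (p : ℕ) (S : Subgroup G) :
    Cfsg.thompsonSubgroupOf p S = sSup {A : Subgroup G | MaxEA p S A} := by
  unfold Cfsg.thompsonSubgroupOf Cfsg.thompsonSubgroup
  apply le_antisymm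
  · rw [Subgroup.map_le_iff_le_comap]
    apply sSup_le
    intro A' hA'
    rw [← Subgroup.map_le_iff_le_comap]
    exact le_sSup (maxEA_map_of_mem hA')
  · apply sSup_le
    intro A hA
    have h1 : A.subgroupOf S ≤ sSup (Cfsg.maxElementaryAbelianSubgroups p ↥S) :=
      le_sSup hA.subgroupOf_mem
    have h2 := Subgroup.map_mono (f := S.subtype) h1
    rwa [Subgroup.map_subgroupOf_eq_of_le hA.1] at h2

theorem MaxEA.le_thompson {S A : Subgroup G} (h : MaxEA p S A) :
    A ≤ Cfsg.thompsonSubgroupOf p S := by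
  rw [thompsonSubgroupOf_eq_sSup_maxEA]
  exact le_sSup h

theorem thompsonSubgroupOf_le (p : ℕ) (S : Subgroup G) : Cfsg.thompsonSubgroupOf p S ≤ S := by
  unfold Cfsg.thompsonSubgroupOf
  exact Subgroup.map_subtype_le _

theorem exists_maxEA [Finite G] (p : ℕ) (S : Subgroup G) : ∃ A, MaxEA p S A := by
  obtain ⟨A', hA'⟩ := exists_maxElementaryAbelian (G := ↥S) p
  exact ⟨_, maxEA_map_of_mem hA'⟩

theorem MaxEA.of_card_le {S A B : Subgroup G} (h : MaxEA p S A) (hBS : B ≤ S)
    (hB : Cfsg.IsElementaryAbelian p B) (hc : Nat.card A ≤ Nat.card B) : MaxEA p S B :=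
  ⟨hBS, hB, fun C hCS hC => (h.2.2 C hCS hC).trans hc⟩

theorem MaxEA.card_eq {S A B : Subgroup G} (h : MaxEA p S A) (h' : MaxEA p S B) :
    Nat.card A = Nat.card B :=
  le_antisymm (h'.2.2 A h.1 h.2.1) (h.2.2 B h'.1 h'.2.1)

/-- An elementary abelian subgroup of `S` commuting with a largest one lies in it. -/
theorem MaxEA.le_of_commute [Finite G] {S A B : Subgroup G} (h : MaxEA p S A) (hBS : B ≤ S)
    (hB : Cfsg.IsElementaryAbelian p B) (hc : ∀ a ∈ A, ∀ b ∈ B, a * b = b * a) : B ≤ A := by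
  have h1 : Cfsg.IsElementaryAbelian p (A ⊔ B) := isElementaryAbelian_sup h.2.1 hB hc
  have h2 : Nat.card ↥(A ⊔ B) ≤ Nat.card A := h.2.2 _ (sup_le h.1 hBS) h1
  have h3 : A = A ⊔ B := Subgroup.eq_of_le_of_card_ge le_sup_left h2
  rw [h3]; exact le_sup_right

/-- Conjugates of largest elementary abelian subgroups. -/
theorem MaxEA.conj {S A : Subgroup G} (h : MaxEA p S A) (g : G) :
    MaxEA p (S.map (MulAut.conj g).toMonoidHom) (A.map (MulAut.conj g).toMonoidHom) := by
  refine ⟨Subgroup.map_mono h.1, isElementaryAbelian_map h.2.1 _, ?_⟩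
  intro B hBS hB
  have h1 : B.map (MulAut.conj g⁻¹).toMonoidHom ≤ S := by
    rintro _ ⟨b, hb, rfl⟩
    obtain ⟨s, hs, hsb⟩ := hBS hb
    have : (MulAut.conj g⁻¹).toMonoidHom b = s := by
      rw [← hsb]; simp [MulAut.conj_apply, mul_assoc]
    rw [this]; exact hs
  have h2 := h.2.2 _ h1 (isElementaryAbelian_map hB _)
  rwa [card_map_of_injective B (MulAut.conj g⁻¹).toMonoidHom (MulAut.conj g⁻¹).injective,
    ← card_map_of_injective A (MulAut.conj g).toMonoidHom (MulAut.conj g).injective] at h2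

/-- `J(S)` is normalized by `N_G(S)`. -/
theorem normalizer_le_normalizer_thompson (p : ℕ) (S : Subgroup G) :
    Subgroup.normalizer (S : Set G) ≤
      Subgroup.normalizer (Cfsg.thompsonSubgroupOf p S : Set G) := by
  have key : ∀ g ∈ Subgroup.normalizer (S : Set G), ∀ x ∈ Cfsg.thompsonSubgroupOf p S,
      g * x * g⁻¹ ∈ Cfsg.thompsonSubgroupOf p S := by
    intro g hg
    have hS : S.map (MulAut.conj g).toMonoidHom = S := by
      ext y
      constructor
      · rintro ⟨s, hs, rfl⟩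
        exact (Subgroup.mem_normalizer_iff.1 hg s).1 hs
      · intro hy
        refine ⟨g⁻¹ * y * g, ?_, by simp [MulAut.conj_apply, mul_assoc]⟩
        have := (Subgroup.mem_normalizer_iff.1 (inv_mem hg) y).1 hy
        simpa using this
    have : Cfsg.thompsonSubgroupOf p S ≤
        (Cfsg.thompsonSubgroupOf p S).comap (MulAut.conj g).toMonoidHom := by
      conv_lhs => rw [thompsonSubgroupOf_eq_sSup_maxEA]
      apply sSup_le
      intro A hA
      rw [← Subgroup.map_le_iff_le_comap]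
      have h1 := hA.conj g
      rw [hS] at h1
      exact h1.le_thompson
    intro x hx
    exact this hx
  intro g hg
  rw [Subgroup.mem_normalizer_iff]
  intro x
  refine ⟨key g hg x, fun hx => ?_⟩
  have := key g⁻¹ (inv_mem hg) _ hx
  simpa [mul_assoc] using this

/-! ### `Ω₁(Z(X))` -/

theorem mem_omegaCenterOf_iff {X : Subgroup G} {x : G} :
    x ∈ Cfsg.omegaCenterOf X ↔ x ∈ X ∧ x ∈ Subgroup.centralizer (X : Set G) ∧ x ^ 2 = 1 := by
  unfold Cfsg.omegaCenterOf Cfsg.omegaOne
  constructor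
  · intro hx
    induction hx using Subgroup.closure_induction with
    | mem y hy => exact ⟨hy.1.1, hy.1.2, hy.2⟩
    | one => exact ⟨one_mem _, one_mem _, one_pow _⟩
    | mul a b _ _ iha ihb =>
      refine ⟨mul_mem iha.1 ihb.1, mul_mem iha.2.1 ihb.2.1, ?_⟩
      have hc : Commute a b := (Subgroup.mem_centralizer_iff.1 ihb.2.1 a iha.1)
      rw [hc.mul_pow, iha.2.2, ihb.2.2, one_mul]
    | inv a _ iha =>
      exact ⟨inv_mem iha.1, inv_mem iha.2.1, by rw [inv_pow, iha.2.2, inv_one]⟩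
  · rintro ⟨h1, h2, h3⟩
    exact Subgroup.subset_closure ⟨⟨h1, h2⟩, h3⟩

theorem omegaCenterOf_le (X : Subgroup G) : Cfsg.omegaCenterOf X ≤ X :=
  fun _ hx => (mem_omegaCenterOf_iff.1 hx).1

theorem omegaCenterOf_le_centralizer (X : Subgroup G) :
    Cfsg.omegaCenterOf X ≤ Subgroup.centralizer (X : Set G) :=
  fun _ hx => (mem_omegaCenterOf_iff.1 hx).2.1

theorem isElementaryAbelian_omegaCenterOf (X : Subgroup G) :
    Cfsg.IsElementaryAbelian 2 (Cfsg.omegaCenterOf X) := by
  rw [isElementaryAbelian_iff]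
  refine ⟨fun a ha b hb => ?_, fun a ha => (mem_omegaCenterOf_iff.1 ha).2.2⟩
  exact (Subgroup.mem_centralizer_iff.1 (mem_omegaCenterOf_iff.1 hb).2.1 a
    (mem_omegaCenterOf_iff.1 ha).1)

/-- `Ω₁(Z(X))` is normalized by `N_G(X)`. -/
theorem normalizer_le_normalizer_omegaCenterOf (X : Subgroup G) :
    Subgroup.normalizer (X : Set G) ≤ Subgroup.normalizer (Cfsg.omegaCenterOf X : Set G) := by
  have key : ∀ g ∈ Subgroup.normalizer (X : Set G), ∀ x ∈ Cfsg.omegaCenterOf X,
      g * x * g⁻¹ ∈ Cfsg.omegaCenterOf X := by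
    intro g hg x hx
    rw [mem_omegaCenterOf_iff] at hx ⊢
    refine ⟨(Subgroup.mem_normalizer_iff.1 hg x).1 hx.1, ?_, ?_⟩
    · rw [Subgroup.mem_centralizer_iff]
      intro y hy
      have hy' : g⁻¹ * y * g ∈ X := by
        have := (Subgroup.mem_normalizer_iff.1 (inv_mem hg) y).1 hy
        simpa using this
      have hc := Subgroup.mem_centralizer_iff.1 hx.2.1 _ hy'
      have e1 : y * (g * x * g⁻¹) = g * ((g⁻¹ * y * g) * x) * g⁻¹ := by group
      have e2 : g * x * g⁻¹ * y = g * (x * (g⁻¹ * y * g)) * g⁻¹ := by group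
      rw [e1, e2, hc]
    · rw [conj_pow, hx.2.2]; simp
  intro g hg
  rw [Subgroup.mem_normalizer_iff]
  intro x
  refine ⟨key g hg x, fun hx => ?_⟩
  have := key g⁻¹ (inv_mem hg) _ hx
  simpa [mul_assoc] using this

end Cfsg.Agent.Helper49.JComp
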