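import Mathlib
import Cfsg.Prelude.Def_JComponents
import Cfsg.Agent.Helper49.MaxEA
import Cfsg.Agent.Helper49.FourGroup
import Cfsg.Agent.Helper49.RConj
import Cfsg.Agent.Helper50.CL2
import Cfsg.Agent.Helper21.LargeSub
import Cfsg.Agent.Helper46.SylowIn

set_option autoImplicit false

/-!
Structure of a `J(T)`-component `K` (helper49): with `J = J(T)`, `X = ⟨K, J⟩`, `Q = O₂(K)`,
`W = W_K`: `Z₀ = Ω₁(Z(J))` meets `W` in a subgroup of order 2 and
`Z₀ = (Z₀ ∩ Z(X)) (Z₀ ∩ W)`.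
-/

namespace Cfsg.Agent.Helper49.JComp

open Cfsg
open scoped commutatorElement

variable {G : Type*} [Group G]

/-- The data of a `J`-component `K`, with `J` an arbitrary 2-subgroup. -/
structure Data (K J : Subgroup G) : Prop where
  gen : Subgroup.closure {g : G | g ∈ K ∧ Odd (orderOf g)} = K
  comm : ⁅K, J⁆ = K
  idx : (pCoreOf 2 K).relIndex K = 3
  syl : ∀ S : Subgroup G, IsSylowTwoIn S (K ⊔ J) → J ≤ S → thompsonSubgroupOf 2 S = J
  four : IsFour (wOf K)
  hJ : IsPGroup 2 ↥J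

theorem data_of_isJComponent {T K : Subgroup G} (hT : IsPGroup 2 ↥T) (hK : IsJComponent T K) :
    Data K (thompsonSubgroupOf 2 T) := by
  obtain ⟨h1, h2, h3, h4, h5, h6⟩ := hK
  exact ⟨h1, h2, h3, h4, ⟨h5, h6⟩, hT.to_le (thompsonSubgroupOf_le 2 T)⟩

namespace Data

variable {K J : Subgroup G} (h : Data K J)

include h

theorem J_le_normalizer : J ≤ Subgroup.normalizer (K : Set G) := by
  have := Subgroup.normalizer_commutator_ge_right K J
  rwa [h.comm] at this

theorem X_le_normalizer : K ⊔ J ≤ Subgroup.normalizer (K : Set G) :=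
  sup_le Subgroup.le_normalizer h.J_le_normalizer

theorem Q_le : pCoreOf 2 K ≤ K := Cfsg.Agent.Helper46.pCoreOf_le K

theorem idx_prime : ((pCoreOf 2 K).relIndex K).Prime := by
  rw [h.idx]; exact Nat.prime_three

/-- A subgroup containing `O₂(K)` and an element of `K` outside `O₂(K)` contains `K`. -/
theorem K_le_of {D : Subgroup G} (hQD : pCoreOf 2 K ≤ D) {x : G} (hxK : x ∈ K)
    (hxQ : x ∉ pCoreOf 2 K) (hxD : x ∈ D) : K ≤ D :=
  le_of_relIndex_prime h.Q_le h.idx_prime hQD hxK hxQ hxD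

theorem V_le_Q : omegaCenterOf (pCoreOf 2 K) ≤ pCoreOf 2 K := omegaCenterOf_le _

theorem Q_le_centralizer_V :
    pCoreOf 2 K ≤ Subgroup.centralizer (omegaCenterOf (pCoreOf 2 K) : Set G) := by
  intro q hq
  rw [Subgroup.mem_centralizer_iff]
  intro v hv
  have := Subgroup.mem_centralizer_iff.1 (omegaCenterOf_le_centralizer _ hv) q hq
  exact this.symm

variable [Finite G]

theorem nK_le_nQ :
    Subgroup.normalizer (K : Set G) ≤ Subgroup.normalizer (pCoreOf 2 K : Set G) := by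
  haveI : Fact (Nat.Prime 2) := ⟨Nat.prime_two⟩
  exact Cfsg.Agent.Helper21.le_normalizer_pCoreOf le_rfl

theorem nK_le_nV : Subgroup.normalizer (K : Set G) ≤
    Subgroup.normalizer (omegaCenterOf (pCoreOf 2 K) : Set G) :=
  h.nK_le_nQ.trans (normalizer_le_normalizer_omegaCenterOf _)

theorem nK_le_nW : Subgroup.normalizer (K : Set G) ≤ Subgroup.normalizer (wOf K : Set G) := by
  unfold wOf
  exact le_normalizer_commutator_of_le h.nK_le_nV le_rfl

theorem Q_isPGroup : IsPGroup 2 ↥(pCoreOf 2 K) := by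
  haveI : Fact (Nat.Prime 2) := ⟨Nat.prime_two⟩
  exact Cfsg.Agent.Helper46.pCoreOf_isPGroup K

theorem W_le_V : wOf K ≤ omegaCenterOf (pCoreOf 2 K) := by
  unfold wOf
  rw [Subgroup.commutator_le]
  intro v hv k hk
  have h1 : k * v⁻¹ * k⁻¹ ∈ omegaCenterOf (pCoreOf 2 K) :=
    conj_mem_of_mem_normalizer (h.nK_le_nV (Subgroup.le_normalizer hk)) (inv_mem hv)
  have e : ⁅v, k⁆ = v * (k * v⁻¹ * k⁻¹) := by rw [commutatorElement_def]; group
  rw [e]
  exact mul_mem hv h1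

theorem W_le_Q : wOf K ≤ pCoreOf 2 K := h.W_le_V.trans h.V_le_Q

theorem W_le_K : wOf K ≤ K := h.W_le_Q.trans h.Q_le

theorem Q_le_centralizer_W : pCoreOf 2 K ≤ Subgroup.centralizer (wOf K : Set G) :=
  h.Q_le_centralizer_V.trans (Subgroup.centralizer_le (SetLike.coe_subset_coe.2 h.W_le_V))

theorem W_ne_bot : wOf K ≠ ⊥ := by
  intro hb
  have := h.four.card
  rw [hb, Subgroup.card_bot] at this
  omega

/-- `O₂(K) ≠ K`. -/
theorem exists_odd_not_mem : ∃ g ∈ K, g ∉ pCoreOf 2 K ∧ Odd (orderOf g) := by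
  by_contra hcon
  have hle : K ≤ pCoreOf 2 K := by
    conv_lhs => rw [← h.gen]
    rw [Subgroup.closure_le]
    rintro g ⟨hgK, hodd⟩
    by_contra hgQ
    exact hcon ⟨g, hgK, hgQ, hodd⟩
  have := Subgroup.relIndex_eq_one.2 hle
  rw [h.idx] at this
  omega

/-- There is an element of order 3 of `K` outside `O₂(K)`. -/
theorem exists_g : ∃ g ∈ K, g ∉ pCoreOf 2 K ∧ g ^ 3 = 1 := by
  obtain ⟨g, hgK, hgQ, hodd⟩ := h.exists_odd_not_mem
  refine ⟨g, hgK, hgQ, ?_⟩
  -- `g ^ 3 ∈ Q`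
  have hn : ((pCoreOf 2 K).subgroupOf K).Normal :=
    (Subgroup.normal_subgroupOf_iff_le_normalizer h.Q_le).2
      ((Subgroup.le_normalizer).trans h.nK_le_nQ)
  have h3 : (⟨g, hgK⟩ : ↥K) ^ ((pCoreOf 2 K).subgroupOf K).index ∈ (pCoreOf 2 K).subgroupOf K :=
    Subgroup.pow_index_mem _ _
  have hidx : ((pCoreOf 2 K).subgroupOf K).index = 3 := h.idx
  rw [hidx, Subgroup.mem_subgroupOf] at h3
  have h3' : g ^ 3 ∈ pCoreOf 2 K := by simpa using h3
  apply eq_one_of_odd_of_mem_isPGroup h.Q_isPGroup h3'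
  have hdvd : orderOf (g ^ 3) ∣ orderOf g := orderOf_pow_dvd 3
  exact Odd.of_dvd_nat hodd hdvd

/-- An element `g` of order 3 of `K` outside `O₂(K)` fixes no nontrivial element of `W`. -/
theorem eq_one_of_conj_eq {g : G} (hgK : g ∈ K) (hgQ : g ∉ pCoreOf 2 K) (hg3 : g ^ 3 = 1)
    {w : G} (hw : w ∈ wOf K) (hfix : g * w * g⁻¹ = w) : w = 1 := by
  by_contra hw1
  have hgN : g ∈ Subgroup.normalizer (wOf K : Set G) := h.nK_le_nW (Subgroup.le_normalizer hgK)
  have hginv : g⁻¹ = g * g := by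
    have : g * g * g = 1 := by rw [← hg3, pow_succ, pow_two]
    exact inv_eq_of_mul_eq_one_left this
  -- `g` does not centralize `W`
  have hgc : g ∉ Subgroup.centralizer (wOf K : Set G) := by
    intro hgc
    -- then `g` centralizes `V`
    have hgV : g ∈ Subgroup.centralizer (omegaCenterOf (pCoreOf 2 K) : Set G) := by
      rw [Subgroup.mem_centralizer_iff]
      intro v hv
      have hcw : g * v * g⁻¹ * v⁻¹ ∈ wOf K := by
        have h1 : ⁅g, v⁆ ∈ ⁅K, omegaCenterOf (pCoreOf 2 K)⁆ :=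
          Subgroup.commutator_mem_commutator hgK hv
        rw [Subgroup.commutator_comm] at h1
        rw [commutatorElement_def] at h1
        exact h1
      set c := g * v * g⁻¹ * v⁻¹ with hc
      have hgv : g * v * g⁻¹ = c * v := by rw [hc]; group
      have hgcc : g * c * g⁻¹ = c := by
        have := Subgroup.mem_centralizer_iff.1 hgc c hcw
        rw [← this]; group
      have hcc : c * c = 1 := h.four.sq c hcw
      -- `g² v g⁻² = v`
      have h2 : (g * g) * v * (g * g)⁻¹ = v := by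
        have e : (g * g) * v * (g * g)⁻¹ = (g * c * g⁻¹) * (g * v * g⁻¹) := by
          have e1 : (g * g) * v * (g * g)⁻¹ = g * (g * v * g⁻¹) * g⁻¹ := by group
          have e2 : g * (c * v) * g⁻¹ = (g * c * g⁻¹) * (g * v * g⁻¹) := by group
          rw [e1, hgv, e2, hgv]
        rw [e, hgcc, hgv, ← mul_assoc, hcc, one_mul]
      rw [← hginv] at h2
      have : g⁻¹ * v * g⁻¹⁻¹ = v := h2
      rw [inv_inv] at this
      calc v * g = g * (g⁻¹ * v * g) := by group
        _ = g * v := by rw [this]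
    have hKV : K ≤ Subgroup.centralizer (omegaCenterOf (pCoreOf 2 K) : Set G) :=
      h.K_le_of h.Q_le_centralizer_V hgK hgQ hgV
    have hbot : wOf K = ⊥ := by
      unfold wOf
      rw [Subgroup.commutator_comm, Subgroup.commutator_eq_bot_iff_le_centralizer]
      exact hKV
    exact h.W_ne_bot hbot
  obtain ⟨u, hu, hu1, huw⟩ := h.four.exists_not_mem hw
  have h1 : g * u * g⁻¹ = w * u := h.four.conj_eq_mul hw hw1 hgN hfix hgc hu hu1 huw
  have h2 : (g * g) * u * (g * g)⁻¹ = u := by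
    have e : (g * g) * u * (g * g)⁻¹ = (g * w * g⁻¹) * (g * u * g⁻¹) := by
      have e1 : (g * g) * u * (g * g)⁻¹ = g * (g * u * g⁻¹) * g⁻¹ := by group
      have e2 : g * (w * u) * g⁻¹ = (g * w * g⁻¹) * (g * u * g⁻¹) := by group
      rw [e1, h1, e2, h1]
    rw [e, hfix, h1, ← mul_assoc, h.four.sq w hw, one_mul]
  rw [← hginv] at h2
  have h3 : g⁻¹ * u * g = u := by simpa using h2
  have h4 : g * u * g⁻¹ = u := by
    calc g * u * g⁻¹ = g * (g⁻¹ * u * g) * g⁻¹ := by rw [h3]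
      _ = u := by group
  rw [h4] at h1
  apply hw1
  have : w * u = 1 * u := by rw [one_mul]; exact h1.symm
  exact mul_right_cancel this

/-- `C_K(W) = O₂(K)`. -/
theorem K_inf_centralizer_le : K ⊓ Subgroup.centralizer (wOf K : Set G) ≤ pCoreOf 2 K := by
  obtain ⟨g, hgK, hgQ, hg3⟩ := h.exists_g
  rcases le_or_le_of_relIndex_prime (le_inf h.Q_le h.Q_le_centralizer_W)
    (inf_le_left : K ⊓ Subgroup.centralizer (wOf K : Set G) ≤ K) h.idx_prime with h1 | h1
  · exact h1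
  · exfalso
    have hgc : g ∈ Subgroup.centralizer (wOf K : Set G) := (h1 hgK).2
    obtain ⟨w, hw1⟩ := (Subgroup.ne_bot_iff_exists_ne_one).1 h.W_ne_bot
    apply hw1
    have hfix : g * (w : G) * g⁻¹ = w := by
      have := Subgroup.mem_centralizer_iff.1 hgc w w.2
      rw [← this]; group
    have := h.eq_one_of_conj_eq hgK hgQ hg3 w.2 hfix
    exact Subtype.ext this

theorem X_le_nW : K ⊔ J ≤ Subgroup.normalizer (wOf K : Set G) :=
  h.X_le_normalizer.trans h.nK_le_nW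

/-- `C_X(W)`, where `X = ⟨K, J⟩`. -/
def cw (K J : Subgroup G) : Subgroup G := (K ⊔ J) ⊓ Subgroup.centralizer (wOf K : Set G)

theorem X_le_ncw : K ⊔ J ≤ Subgroup.normalizer (cw K J : Set G) := by
  unfold cw
  exact Cfsg.Agent.Helper21.le_normalizer_inf_of_le Subgroup.le_normalizer
    (h.X_le_nW.trans (normalizer_le_normalizer_centralizer _))

theorem cw_le : cw K J ≤ K ⊔ J := inf_le_left

theorem Q_le_cw : pCoreOf 2 K ≤ cw K J :=
  le_inf (h.Q_le.trans le_sup_left) h.Q_le_centralizer_W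

theorem W_le_cw : wOf K ≤ cw K J := h.W_le_Q.trans h.Q_le_cw

/-- `C_X(W)` is a 2-group. -/
theorem cw_isPGroup : IsPGroup 2 ↥(cw K J) := by
  haveI : Fact (Nat.Prime 2) := ⟨Nat.prime_two⟩
  apply Cfsg.Agent.Helper21.isPGroup_of_no_p'_elements
  intro x hx hcop
  have hodd : Odd (orderOf x) := Nat.Coprime.odd_of_right hcop
  have hxK : x ∈ K := mem_left_of_odd_of_mem_sup h.J_le_normalizer h.hJ hx.1 hodd
  have hxQ : x ∈ pCoreOf 2 K := h.K_inf_centralizer_le ⟨hxK, hx.2⟩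
  exact eq_one_of_odd_of_mem_isPGroup h.Q_isPGroup hxQ hodd

/-- `C_X(W)` lies in every Sylow 2-subgroup of `X`. -/
theorem cw_le_sylow {S : Subgroup G} (hS : IsSylowTwoIn S (K ⊔ J)) : cw K J ≤ S := by
  haveI : Fact (Nat.Prime 2) := ⟨Nat.prime_two⟩
  have hS' : IsSylowOf 2 S (K ⊔ J) :=
    ⟨hS.1, hS.2.1, fun hd => (Nat.not_even_iff_odd.2 hS.2.2) (even_iff_two_dvd.2 hd)⟩
  obtain ⟨A, hA, hPA⟩ := exists_isSylowOf_ge h.cw_isPGroup h.cw_le
  obtain ⟨m, hm, hmA⟩ := hA.exists_conj hS'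
  rw [← hmA, ← scr_eq_self_of_mem_normalizer (h.X_le_ncw hm)]
  exact scr_mono m hPA

theorem exists_sylow : ∃ S : Subgroup G, IsSylowTwoIn S (K ⊔ J) ∧ J ≤ S := by
  haveI : Fact (Nat.Prime 2) := ⟨Nat.prime_two⟩
  obtain ⟨A, hA, hJA⟩ := exists_isSylowOf_ge h.hJ (le_sup_right : J ≤ K ⊔ J)
  refine ⟨A, ⟨hA.1, hA.2.1, ?_⟩, hJA⟩
  exact Nat.not_even_iff_odd.1 (fun he => hA.2.2 (even_iff_two_dvd.1 he))

theorem W_isPGroup : IsPGroup 2 ↥(wOf K) := h.Q_isPGroup.to_le h.W_le_Q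

/-- A Sylow 2-subgroup of `X` fixes a nontrivial element of `W`. -/
theorem exists_fixed {S : Subgroup G} (hS : IsSylowTwoIn S (K ⊔ J)) :
    ∃ t ∈ wOf K, t ≠ 1 ∧ t ∈ Subgroup.centralizer (S : Set G) := by
  haveI : Fact (Nat.Prime 2) := ⟨Nat.prime_two⟩
  have h1 := Cfsg.Agent.Helper21.inf_centralizer_ne_bot_of_le_normalizer hS.2.1 h.W_isPGroup
    (hS.1.trans h.X_le_nW) h.W_ne_bot
  obtain ⟨t, ht1⟩ := (Subgroup.ne_bot_iff_exists_ne_one).1 h1
  refine ⟨t, t.2.1, ?_, t.2.2⟩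
  intro h2
  exact ht1 (Subtype.ext h2)

end Data

/-- A `J`-component together with a Sylow 2-subgroup `S ≥ J` of `X = ⟨K, J⟩` and a nontrivial
element `t` of `W` fixed by `S`. -/
structure SData (K J S : Subgroup G) (t : G) : Prop where
  data : Data K J
  hS : IsSylowTwoIn S (K ⊔ J)
  hJS : J ≤ S
  ht : t ∈ wOf K
  ht1 : t ≠ 1
  htS : t ∈ Subgroup.centralizer (S : Set G)

theorem Data.exists_sdata [Finite G] {K J : Subgroup G} (h : Data K J) :
    ∃ (S : Subgroup G) (t : G), SData K J S t := by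
  obtain ⟨S, hS, hJS⟩ := h.exists_sylow
  obtain ⟨t, ht, ht1, htS⟩ := h.exists_fixed hS
  exact ⟨S, t, h, hS, hJS, ht, ht1, htS⟩

namespace SData

open Cfsg.Agent.Helper10

variable {K J S : Subgroup G} {t : G} (d : SData K J S t)

include d

theorem JS : thompsonSubgroupOf 2 S = J := d.data.syl S d.hS d.hJS

theorem conj_t {s : G} (hs : s ∈ S) : s * t * s⁻¹ = t := by
  have := Subgroup.mem_centralizer_iff.1 d.htS s hs
  rw [this]; group

theorem tt : t * t = 1 := d.data.four.sq t d.ht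

theorem isEA_W : Cfsg.IsElementaryAbelian 2 (wOf K) := by
  rw [isElementaryAbelian_iff]
  exact ⟨fun a ha b hb => d.data.four.comm ha hb,
    fun a ha => by rw [pow_two]; exact d.data.four.sq a ha⟩

variable [Finite G]

theorem S_le_nW : S ≤ Subgroup.normalizer (wOf K : Set G) := d.hS.1.trans d.data.X_le_nW

theorem W_le_S : wOf K ≤ S := d.data.W_le_cw.trans (d.data.cw_le_sylow d.hS)

/-- If `a ∈ A` moves `W`, the elements of `A ∩ W` lie in `{1, t}`. -/
theorem eq_one_or_eq_t {A : Subgroup G} (hA : MaxEA 2 S A) {a : G} (ha : a ∈ A)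
    (hac : a ∉ Subgroup.centralizer (wOf K : Set G)) {x : G} (hxA : x ∈ A) (hxW : x ∈ wOf K) :
    x = 1 ∨ x = t := by
  by_contra hcon
  rw [not_or] at hcon
  have haS : a ∈ S := hA.1 ha
  have h1 := d.data.four.conj_eq_mul d.ht d.ht1 (d.S_le_nW haS) (d.conj_t haS) hac hxW
    hcon.1 hcon.2
  have h2 : a * x * a⁻¹ = x := by
    have := (isElementaryAbelian_iff.1 hA.2.1).1 a ha x hxA
    rw [this]; group
  rw [h2] at h1
  apply d.ht1
  have : 1 * x = t * x := by rw [one_mul]; exact h1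
  exact (mul_right_cancel this).symm

/-- Replacement: `C_A(W) W` is again an elementary abelian subgroup of `S` of largest order. -/
theorem maxEA_replace {A : Subgroup G} (hA : MaxEA 2 S A) {a : G} (ha : a ∈ A)
    (hac : a ∉ Subgroup.centralizer (wOf K : Set G)) :
    MaxEA 2 S ((A ⊓ Subgroup.centralizer (wOf K : Set G)) ⊔ wOf K) := by
  set A₀ := A ⊓ Subgroup.centralizer (wOf K : Set G) with hA₀
  have hEA := isElementaryAbelian_iff.1 hA.2.1
  have haS : a ∈ S := hA.1 ha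
  have haN : a ∈ Subgroup.normalizer (wOf K : Set G) := d.S_le_nW haS
  have hat : a * t * a⁻¹ = t := d.conj_t haS
  have hidx : ∀ b ∈ A, b ∈ A₀ ∨ a⁻¹ * b ∈ A₀ := by
    intro b hb
    by_cases hbc : b ∈ Subgroup.centralizer (wOf K : Set G)
    · left; exact Subgroup.mem_inf.2 ⟨hb, hbc⟩
    · right
      refine Subgroup.mem_inf.2 ⟨mul_mem (inv_mem ha) hb, ?_⟩
      rw [Subgroup.mem_centralizer_iff]
      intro u hu
      have hbS := hA.1 hb
      have hab : a * u * a⁻¹ = b * u * b⁻¹ := by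
        by_cases hu1 : u = 1
        · rw [hu1]; group
        by_cases hut : u = t
        · rw [hut, hat, d.conj_t hbS]
        rw [d.data.four.conj_eq_mul d.ht d.ht1 haN hat hac hu hu1 hut,
          d.data.four.conj_eq_mul d.ht d.ht1 (d.S_le_nW hbS) (d.conj_t hbS) hbc hu hu1 hut]
      calc u * (a⁻¹ * b) = a⁻¹ * (a * u * a⁻¹) * b := by group
        _ = a⁻¹ * (b * u * b⁻¹) * b := by rw [hab]
        _ = a⁻¹ * b * u := by group
  have ha2 : a ^ 2 = 1 := hEA.2 a ha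
  have ha1 : a ≠ 1 := by
    intro h1; apply hac; rw [h1]; exact one_mem _
  have hza : Nat.card ↥(Subgroup.zpowers a) = 2 := by
    rw [Nat.card_zpowers]; exact orderOf_eq_prime ha2 ha1
  have hle : A ≤ A₀ ⊔ Subgroup.zpowers a := by
    intro b hb
    rcases hidx b hb with h1 | h1
    · exact Subgroup.mem_sup_left h1
    · have : b = a * (a⁻¹ * b) := by group
      rw [this]
      exact mul_mem (Subgroup.mem_sup_right (Subgroup.mem_zpowers a)) (Subgroup.mem_sup_left h1)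
  have hn1 : A₀ ≤ Subgroup.normalizer (Subgroup.zpowers a : Set G) := by
    refine le_trans ?_ (Subgroup.centralizer_le_normalizer _)
    intro x hx
    rw [Subgroup.mem_centralizer_iff]
    rintro _ ⟨n, rfl⟩
    have hc : Commute a x := hEA.1 a ha x hx.1
    exact (hc.zpow_left n).eq
  have hcard1 := Cfsg.Agent.Helper50.card_sup_mul_card_inf_of_le_normalizer A₀
    (Subgroup.zpowers a) hn1
  rw [hza] at hcard1
  have hcA : Nat.card ↥A ≤ Nat.card ↥A₀ * 2 := by
    have h1 : Nat.card ↥A ≤ Nat.card ↥(A₀ ⊔ Subgroup.zpowers a) := Subgroup.card_le_of_le hle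
    have h2 : 0 < Nat.card ↥(A₀ ⊓ Subgroup.zpowers a) := Nat.card_pos
    calc Nat.card ↥A ≤ Nat.card ↥(A₀ ⊔ Subgroup.zpowers a) * 1 := by rw [mul_one]; exact h1
      _ ≤ Nat.card ↥(A₀ ⊔ Subgroup.zpowers a) * Nat.card ↥(A₀ ⊓ Subgroup.zpowers a) :=
        Nat.mul_le_mul_left _ h2
      _ = Nat.card ↥A₀ * 2 := hcard1
  -- the new subgroup
  have hA₀EA : Cfsg.IsElementaryAbelian 2 A₀ := isElementaryAbelian_mono hA.2.1 inf_le_left
  have hBEA : Cfsg.IsElementaryAbelian 2 (A₀ ⊔ wOf K) := by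
    apply isElementaryAbelian_sup hA₀EA d.isEA_W
    intro x hx w hw
    exact Subgroup.mem_centralizer_iff.1 hx.2 w hw |>.symm
  have hBS : A₀ ⊔ wOf K ≤ S := sup_le (inf_le_left.trans hA.1) d.W_le_S
  have hn2 : A₀ ≤ Subgroup.normalizer (wOf K : Set G) :=
    inf_le_right.trans (Subgroup.centralizer_le_normalizer _)
  have hcard2 := Cfsg.Agent.Helper50.card_sup_mul_card_inf_of_le_normalizer A₀ (wOf K) hn2
  rw [d.data.four.card] at hcard2
  have hinf : A₀ ⊓ wOf K ≤ Subgroup.zpowers t := by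
    intro x hx
    rw [d.data.four.mem_zpowers_iff d.ht]
    exact d.eq_one_or_eq_t hA ha hac hx.1.1 hx.2
  have hfin : Finite ↥(Subgroup.zpowers t) := inferInstance
  have hcinf : Nat.card ↥(A₀ ⊓ wOf K) ≤ 2 := by
    have := Subgroup.card_le_of_le hinf
    rwa [d.data.four.card_zpowers d.ht d.ht1] at this
  apply hA.of_card_le hBS hBEA
  have h3 : Nat.card ↥A₀ * 4 ≤ Nat.card ↥(A₀ ⊔ wOf K) * 2 := by
    rw [← hcard2]; exact Nat.mul_le_mul_left _ hcinf
  omega

/-- Every elementary abelian subgroup of `S` of largest order contains `t`. -/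
theorem t_mem_of_maxEA {A : Subgroup G} (hA : MaxEA 2 S A) : t ∈ A := by
  have h1 : Subgroup.zpowers t ≤ A := by
    apply hA.le_of_commute
    · rw [Subgroup.zpowers_le]; exact d.W_le_S d.ht
    · apply isElementaryAbelian_zpowers; rw [pow_two]; exact d.tt
    · rintro a ha _ ⟨n, rfl⟩
      have hc : Commute a t := Subgroup.mem_centralizer_iff.1 d.htS a (hA.1 ha)
      exact (hc.zpow_right n).eq
  exact h1 (Subgroup.mem_zpowers t)

/-- Some elementary abelian subgroup of `S` of largest order does not centralize `W`. -/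
theorem exists_moving : ∃ (A : Subgroup G) (a : G), MaxEA 2 S A ∧ a ∈ A ∧
    a ∉ Subgroup.centralizer (wOf K : Set G) := by
  by_contra hcon
  have hall : ∀ A : Subgroup G, MaxEA 2 S A → A ≤ Subgroup.centralizer (wOf K : Set G) := by
    intro A hA a ha
    by_contra hac
    exact hcon ⟨A, a, hA, ha, hac⟩
  have hJc : J ≤ Data.cw K J := by
    apply le_inf le_sup_right
    rw [← d.JS, thompsonSubgroupOf_eq_sSup_maxEA]
    exact sSup_le hall
  have hKc : K ≤ Data.cw K J := by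
    conv_lhs => rw [← d.data.comm]
    rw [Subgroup.commutator_le]
    intro k hk j hj
    have h1 : k * j * k⁻¹ ∈ Data.cw K J :=
      conj_mem_of_mem_normalizer (d.data.X_le_ncw (Subgroup.mem_sup_left hk)) (hJc hj)
    rw [commutatorElement_def]
    exact mul_mem h1 (inv_mem (hJc hj))
  obtain ⟨g, hgK, hgQ, -⟩ := d.data.exists_odd_not_mem
  exact hgQ (d.data.K_inf_centralizer_le ⟨hgK, (hKc hgK).2⟩)

theorem W_le_J : wOf K ≤ J := by
  obtain ⟨A, a, hA, ha, hac⟩ := d.exists_moving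
  have := (d.maxEA_replace hA ha hac).le_thompson
  rw [d.JS] at this
  exact le_sup_right.trans this

/-- `Ω₁(Z(J))` lies in every elementary abelian subgroup of `S` of largest order. -/
theorem Z₀_le_of_maxEA {A : Subgroup G} (hA : MaxEA 2 S A) : omegaCenterOf J ≤ A := by
  apply hA.le_of_commute ((omegaCenterOf_le J).trans d.hJS) (isElementaryAbelian_omegaCenterOf J)
  intro a ha b hb
  have haJ : a ∈ J := by
    have := hA.le_thompson ha
    rwa [d.JS] at this
  exact Subgroup.mem_centralizer_iff.1 (omegaCenterOf_le_centralizer J hb) a haJ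

theorem t_mem_Z₀ : t ∈ omegaCenterOf J := by
  rw [mem_omegaCenterOf_iff]
  refine ⟨d.W_le_J d.ht, ?_, by rw [pow_two]; exact d.tt⟩
  exact Subgroup.centralizer_le (SetLike.coe_subset_coe.2 d.hJS) d.htS

theorem Z₀_inf_W : omegaCenterOf J ⊓ wOf K = Subgroup.zpowers t := by
  obtain ⟨A, a, hA, ha, hac⟩ := d.exists_moving
  apply le_antisymm
  · intro x hx
    rw [d.data.four.mem_zpowers_iff d.ht]
    exact d.eq_one_or_eq_t hA ha hac (d.Z₀_le_of_maxEA hA hx.1) hx.2
  · rw [Subgroup.zpowers_le]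
    exact ⟨d.t_mem_Z₀, d.ht⟩

theorem card_Z₀_inf_W : Nat.card ↥(omegaCenterOf J ⊓ wOf K) = 2 := by
  rw [d.Z₀_inf_W]
  exact d.data.four.card_zpowers d.ht d.ht1

/-- Main decomposition: every `z ∈ Ω₁(Z(J))` is `c` or `c t` with `c ∈ Ω₁(Z(J))` centralized by
`X = ⟨K, J⟩`. -/
theorem exists_central {z : G} (hz : z ∈ omegaCenterOf J) :
    ∃ c ∈ omegaCenterOf J, c ∈ Subgroup.centralizer ((K ⊔ J : Subgroup G) : Set G) ∧
      (z = c ∨ z = c * t) := by
  obtain ⟨A, a, hA, ha, hac⟩ := d.exists_moving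
  obtain ⟨g, hgK, hgQ, hg3⟩ := d.data.exists_g
  have hfour := d.data.four
  have haS : a ∈ S := hA.1 ha
  have haN : a ∈ Subgroup.normalizer (wOf K : Set G) := d.S_le_nW haS
  have hat : a * t * a⁻¹ = t := d.conj_t haS
  have haJ : a ∈ J := by
    have := hA.le_thompson ha
    rwa [d.JS] at this
  have haX : a ∈ K ⊔ J := Subgroup.mem_sup_right haJ
  set B := (A ⊓ Subgroup.centralizer (wOf K : Set G)) ⊔ wOf K with hB
  have hBmax : MaxEA 2 S B := d.maxEA_replace hA ha hac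
  have hB_le_cw : B ≤ Data.cw K J :=
    sup_le (le_inf (inf_le_left.trans (hA.1.trans d.hS.1)) inf_le_right) d.data.W_le_cw
  -- conjugates of `B` under `X` are again of largest order in `S`
  have hBconj : ∀ y ∈ K ⊔ J, MaxEA 2 S (B.map (MulAut.conj y).toMonoidHom) := by
    intro y hy
    apply hBmax.of_card_le
    · rintro _ ⟨b, hb, rfl⟩
      apply d.data.cw_le_sylow d.hS
      exact conj_mem_of_mem_normalizer (d.data.X_le_ncw hy) (hB_le_cw hb)
    · exact isElementaryAbelian_map hBmax.2.1 _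
    · rw [card_map_of_injective B (MulAut.conj y).toMonoidHom (MulAut.conj y).injective]
  -- decomposition of the elements of `Z₀` with respect to a conjugate of `B`
  have hdec : ∀ y ∈ K ⊔ J, ∀ x ∈ omegaCenterOf J,
      ∃ a₀ ∈ A ⊓ Subgroup.centralizer (wOf K : Set G), ∃ w ∈ wOf K, x = y * (a₀ * w) * y⁻¹ := by
    intro y hy x hx
    obtain ⟨b, hb, hbx⟩ := d.Z₀_le_of_maxEA (hBconj y hy) hx
    have hn2 : A ⊓ Subgroup.centralizer (wOf K : Set G) ≤ Subgroup.normalizer (wOf K : Set G) :=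
      inf_le_right.trans (Subgroup.centralizer_le_normalizer _)
    have hcoe := Subgroup.coe_mul_of_left_le_normalizer_right
      (A ⊓ Subgroup.centralizer (wOf K : Set G)) (wOf K) hn2
    have hb' : b ∈ ((A ⊓ Subgroup.centralizer (wOf K : Set G) ⊔ wOf K : Subgroup G) : Set G) := hb
    rw [hcoe] at hb'
    obtain ⟨a₀, ha₀, w, hw, rfl⟩ := hb'
    refine ⟨a₀, ha₀, w, hw, ?_⟩
    rw [← hbx]; simp [MulAut.conj_apply]
  -- the commutator of a conjugate of `a` with an element of `Z₀`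
  have hcomm : ∀ y ∈ K ⊔ J, ∀ x ∈ omegaCenterOf J,
      (y * a * y⁻¹) * x * (y * a * y⁻¹)⁻¹ * x⁻¹ = 1 ∨
        (y * a * y⁻¹) * x * (y * a * y⁻¹)⁻¹ * x⁻¹ = y * t * y⁻¹ := by
    intro y hy x hx
    obtain ⟨a₀, ha₀, w, hw, rfl⟩ := hdec y hy x hx
    have h1 : a * a₀ = a₀ * a := (isElementaryAbelian_iff.1 hA.2.1).1 a ha a₀ ha₀.1
    have hmem : a * w * a⁻¹ * w⁻¹ ∈ wOf K :=
      mul_mem (conj_mem_of_mem_normalizer haN hw) (inv_mem hw)
    have h2 : a₀ * (a * w * a⁻¹ * w⁻¹) = (a * w * a⁻¹ * w⁻¹) * a₀ :=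
      (Subgroup.mem_centralizer_iff.1 ha₀.2 _ hmem).symm
    have e : (y * a * y⁻¹) * (y * (a₀ * w) * y⁻¹) * (y * a * y⁻¹)⁻¹ * (y * (a₀ * w) * y⁻¹)⁻¹ =
        y * (a * w * a⁻¹ * w⁻¹) * y⁻¹ := by
      have e1 : (y * a * y⁻¹) * (y * (a₀ * w) * y⁻¹) * (y * a * y⁻¹)⁻¹ *
          (y * (a₀ * w) * y⁻¹)⁻¹ = y * ((a * a₀) * w * a⁻¹ * w⁻¹ * a₀⁻¹) * y⁻¹ := by group
      have e2 : a₀ * a * w * a⁻¹ * w⁻¹ * a₀⁻¹ = (a₀ * (a * w * a⁻¹ * w⁻¹)) * a₀⁻¹ := by group
      rw [e1, h1, e2, h2]; group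
    rw [e]
    rcases hfour.conj_mul_inv_mem d.ht d.ht1 haN hat hw with h3 | h3
    · left; rw [h3]; group
    · right; rw [h3]
  -- the elements `t' = g t g⁻¹` and `a' = g a g⁻¹`
  have hgX : g ∈ K ⊔ J := Subgroup.mem_sup_left hgK
  have hgN : g ∈ Subgroup.normalizer (wOf K : Set G) := d.data.X_le_nW hgX
  set t' := g * t * g⁻¹ with ht'
  have ht'W : t' ∈ wOf K := conj_mem_of_mem_normalizer hgN d.ht
  have ht't : t' ≠ t := fun h1 => d.ht1 (d.data.eq_one_of_conj_eq hgK hgQ hg3 d.ht h1)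
  have ht'1 : t' ≠ 1 := by
    intro h1
    apply d.ht1
    have : t = g⁻¹ * t' * g := by rw [ht']; group
    rw [this, h1]; group
  set a' := g * a * g⁻¹ with ha'
  have hat' : a * t' * a⁻¹ = t * t' :=
    hfour.conj_eq_mul d.ht d.ht1 haN hat hac ht'W ht'1 ht't
  have ha't : a' * t * a'⁻¹ = t' * t := by
    set s := g⁻¹ * t * g with hs
    have hsW : s ∈ wOf K := conj_inv_mem_of_mem_normalizer hgN d.ht
    have hs1 : s ≠ 1 := by
      intro h1
      apply d.ht1
      have : t = g * s * g⁻¹ := by rw [hs]; group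
      rw [this, h1]; group
    have hst : s ≠ t := by
      intro h1
      apply ht't
      have : t = g * s * g⁻¹ := by rw [hs]; group
      rw [h1] at this
      exact this.symm
    have h1 : a * s * a⁻¹ = t * s := hfour.conj_eq_mul d.ht d.ht1 haN hat hac hsW hs1 hst
    calc a' * t * a'⁻¹ = g * (a * s * a⁻¹) * g⁻¹ := by rw [ha', hs]; group
      _ = g * (t * s) * g⁻¹ := by rw [h1]
      _ = t' * t := by rw [ht', hs]; group
  -- the element `c`
  have hzW : ∀ w ∈ wOf K, w * z = z * w := fun w hw =>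
    Subgroup.mem_centralizer_iff.1 (omegaCenterOf_le_centralizer J hz) w (d.W_le_J hw)
  obtain ⟨c, hcZ, hca', hzc⟩ : ∃ c ∈ omegaCenterOf J, a' * c * a'⁻¹ = c ∧ (z = c ∨ z = c * t) := by
    rcases hcomm g hgX z hz with h1 | h1
    · exact ⟨z, hz, mul_inv_eq_one.1 h1, Or.inl rfl⟩
    · refine ⟨z * t, mul_mem hz d.t_mem_Z₀, ?_, Or.inr ?_⟩
      · have h2 : a' * z * a'⁻¹ = t' * z := by
          have : a' * z * a'⁻¹ = (a' * z * a'⁻¹ * z⁻¹) * z := by group
          rw [this, h1]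
        calc a' * (z * t) * a'⁻¹ = (a' * z * a'⁻¹) * (a' * t * a'⁻¹) := by group
          _ = (t' * z) * (t' * t) := by rw [h2, ha't]
          _ = z * t := by
            rw [hzW t' ht'W, mul_assoc, ← mul_assoc t' t' t, hfour.sq t' ht'W, one_mul]
      · rw [mul_assoc, d.tt, mul_one]
  have hcJ : ∀ j ∈ J, j * c = c * j := fun j hj =>
    Subgroup.mem_centralizer_iff.1 (omegaCenterOf_le_centralizer J hcZ) j hj
  -- the element `h = a⁻¹ a'` of `K`
  set h := a⁻¹ * a' with hh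
  have hhK : h ∈ K := by
    have h1 : a⁻¹ * g * a ∈ K :=
      conj_inv_mem_of_mem_normalizer (d.data.J_le_normalizer haJ) hgK
    have : h = (a⁻¹ * g * a) * g⁻¹ := by rw [hh, ha']; group
    rw [this]; exact mul_mem h1 (inv_mem hgK)
  have hhc : h * c * h⁻¹ = c := by
    have h1 : a⁻¹ * c * a = c := by
      have := hcJ a haJ
      calc a⁻¹ * c * a = a⁻¹ * (c * a) := by group
        _ = a⁻¹ * (a * c) := by rw [this]
        _ = c := by group
    calc h * c * h⁻¹ = a⁻¹ * (a' * c * a'⁻¹) * a := by rw [hh]; group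
      _ = a⁻¹ * c * a := by rw [hca']
      _ = c := h1
  have hainv : a⁻¹ = a := by
    have h1 : a ^ 2 = 1 := (isElementaryAbelian_iff.1 hA.2.1).2 a ha
    rw [pow_two] at h1
    exact inv_eq_of_mul_eq_one_left h1
  have hswap : ∀ x : G, a⁻¹ * x * a = a * x * a⁻¹ := by
    intro x; rw [hainv]
  have hht : h * t * h⁻¹ = t' := by
    calc h * t * h⁻¹ = a⁻¹ * (a' * t * a'⁻¹) * a := by rw [hh]; group
      _ = a⁻¹ * (t' * t) * a := by rw [ha't]
      _ = a * (t' * t) * a⁻¹ := hswap _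
      _ = (a * t' * a⁻¹) * (a * t * a⁻¹) := by group
      _ = (t * t') * t := by rw [hat', hat]
      _ = t' := by rw [hfour.comm d.ht ht'W, mul_assoc, d.tt, mul_one]
  have hhQ : h ∉ pCoreOf 2 K := by
    intro hq
    have h1 := d.data.Q_le_centralizer_W hq
    have h2 : h * t * h⁻¹ = t := by
      have := Subgroup.mem_centralizer_iff.1 h1 t d.ht
      rw [← this]; group
    rw [hht] at h2
    exact ht't h2
  -- the subgroup of the elements of `N(W)` whose commutator with `c` lies in `W`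
  let D : Subgroup G :=
    { carrier := {x | x ∈ Subgroup.normalizer (wOf K : Set G) ∧ x * c * x⁻¹ * c⁻¹ ∈ wOf K}
      one_mem' := ⟨one_mem _, by simp⟩
      mul_mem' := by
        rintro x y ⟨hx, hxc⟩ ⟨hy, hyc⟩
        refine ⟨mul_mem hx hy, ?_⟩
        have e : (x * y) * c * (x * y)⁻¹ * c⁻¹ =
            (x * (y * c * y⁻¹ * c⁻¹) * x⁻¹) * (x * c * x⁻¹ * c⁻¹) := by group
        rw [e]
        exact mul_mem (conj_mem_of_mem_normalizer hx hyc) hxc
      inv_mem' := by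
        rintro x ⟨hx, hxc⟩
        refine ⟨inv_mem hx, ?_⟩
        have e : x⁻¹ * c * x⁻¹⁻¹ * c⁻¹ = x⁻¹ * (x * c * x⁻¹ * c⁻¹)⁻¹ * x := by group
        rw [e]
        exact conj_inv_mem_of_mem_normalizer hx (inv_mem hxc) }
  have hD1 : ∀ y ∈ K ⊔ J, y * a * y⁻¹ ∈ D := by
    intro y hy
    refine ⟨d.data.X_le_nW (mul_mem (mul_mem hy haX) (inv_mem hy)), ?_⟩
    rcases hcomm y hy c hcZ with h1 | h1
    · rw [h1]; exact one_mem _
    · rw [h1]; exact conj_mem_of_mem_normalizer (d.data.X_le_nW hy) d.ht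
  set K₂ := Subgroup.closure {u : G | ∃ x ∈ K ⊔ J, u = x * h * x⁻¹} with hK₂
  have hK₂D : K₂ ≤ D := by
    rw [hK₂, Subgroup.closure_le]
    rintro _ ⟨x, hx, rfl⟩
    have e : x * h * x⁻¹ = (x * a * x⁻¹)⁻¹ * ((x * g) * a * (x * g)⁻¹) := by
      rw [hh, ha']; group
    rw [e]
    exact mul_mem (inv_mem (hD1 x hx)) (hD1 (x * g) (mul_mem hx hgX))
  have hXK₂ : K ⊔ J ≤ Subgroup.normalizer (K₂ : Set G) := by
    apply le_normalizer_of_conj_mem
    intro y hy u hu
    have : K₂ ≤ K₂.comap (MulAut.conj y).toMonoidHom := by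
      conv_lhs => rw [hK₂]
      rw [Subgroup.closure_le]
      rintro _ ⟨x, hx, rfl⟩
      show y * (x * h * x⁻¹) * y⁻¹ ∈ K₂
      apply Subgroup.subset_closure
      exact ⟨y * x, mul_mem hy hx, by group⟩
    exact this hu
  have hhK₂ : h ∈ K₂ := Subgroup.subset_closure ⟨1, one_mem _, by group⟩
  have hKle : K ≤ K₂ ⊔ pCoreOf 2 K :=
    d.data.K_le_of le_sup_right hhK hhQ (Subgroup.mem_sup_left hhK₂)
  have hKK₂ : K ≤ K₂ := by
    conv_lhs => rw [← d.data.gen]
    rw [Subgroup.closure_le]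
    rintro x ⟨hxK, hodd⟩
    exact mem_left_of_odd_of_mem_sup ((d.data.Q_le.trans le_sup_left).trans hXK₂)
      d.data.Q_isPGroup (hKle hxK) hodd
  have hKD : K ≤ D := hKK₂.trans hK₂D
  -- `O₂(K)` centralizes `c`
  have hSZ : S ≤ Subgroup.normalizer (omegaCenterOf J : Set G) := by
    have h1 : S ≤ Subgroup.normalizer (thompsonSubgroupOf 2 S : Set G) :=
      Subgroup.le_normalizer.trans (normalizer_le_normalizer_thompson 2 S)
    rw [d.JS] at h1
    exact h1.trans (normalizer_le_normalizer_omegaCenterOf J)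
  have hQS : pCoreOf 2 K ≤ S := d.data.Q_le_cw.trans (d.data.cw_le_sylow d.hS)
  have hmem : ∀ q ∈ pCoreOf 2 K, q * c * q⁻¹ * c⁻¹ = 1 ∨ q * c * q⁻¹ * c⁻¹ = t := by
    intro q hq
    have h1 : q * c * q⁻¹ * c⁻¹ ∈ wOf K := (hKD (d.data.Q_le hq)).2
    have h2 : q * c * q⁻¹ * c⁻¹ ∈ omegaCenterOf J :=
      mul_mem (conj_mem_of_mem_normalizer (hSZ (hQS hq)) hcZ) (inv_mem hcZ)
    have : q * c * q⁻¹ * c⁻¹ ∈ Subgroup.zpowers t := by
      rw [← d.Z₀_inf_W]; exact ⟨h2, h1⟩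
    exact (hfour.mem_zpowers_iff d.ht).1 this
  have hQc : ∀ q ∈ pCoreOf 2 K, q * c * q⁻¹ * c⁻¹ = 1 := by
    intro q hq
    rcases hmem q hq with h1 | h1
    · exact h1
    · exfalso
      have hq' : h * q * h⁻¹ ∈ pCoreOf 2 K :=
        conj_mem_of_mem_normalizer (d.data.nK_le_nQ (Subgroup.le_normalizer hhK)) hq
      have hc1 : h⁻¹ * c * h = c := by
        calc h⁻¹ * c * h = h⁻¹ * (h * c * h⁻¹) * h := by rw [hhc]
          _ = c := by group
      have hc2 : h⁻¹ * c⁻¹ * h = c⁻¹ := by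
        calc h⁻¹ * c⁻¹ * h = (h⁻¹ * c * h)⁻¹ := by group
          _ = c⁻¹ := by rw [hc1]
      have e : (h * q * h⁻¹) * c * (h * q * h⁻¹)⁻¹ * c⁻¹ = h * (q * c * q⁻¹ * c⁻¹) * h⁻¹ := by
        calc (h * q * h⁻¹) * c * (h * q * h⁻¹)⁻¹ * c⁻¹
            = h * (q * (h⁻¹ * c * h) * q⁻¹ * (h⁻¹ * c⁻¹ * h)) * h⁻¹ := by group
          _ = h * (q * c * q⁻¹ * c⁻¹) * h⁻¹ := by rw [hc1, hc2]
      rcases hmem _ hq' with h2 | h2
      · rw [e, h1, hht] at h2; exact ht'1 h2
      · rw [e, h1, hht] at h2; exact ht't h2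
  -- `K` and `J` centralize `c`
  have hQcent : pCoreOf 2 K ≤ Subgroup.centralizer ({c} : Set G) := by
    intro q hq
    rw [Subgroup.mem_centralizer_singleton_iff]
    have := hQc q hq
    have h1 : q * c * q⁻¹ = c := mul_inv_eq_one.1 this
    calc q * c = (q * c * q⁻¹) * q := by group
      _ = c * q := by rw [h1]
  have hhcent : h ∈ Subgroup.centralizer ({c} : Set G) := by
    rw [Subgroup.mem_centralizer_singleton_iff]
    calc h * c = (h * c * h⁻¹) * h := by group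
      _ = c * h := by rw [hhc]
  have hKcent : K ≤ Subgroup.centralizer ({c} : Set G) := d.data.K_le_of hQcent hhK hhQ hhcent
  have hJcent : J ≤ Subgroup.centralizer ({c} : Set G) := by
    intro j hj
    rw [Subgroup.mem_centralizer_singleton_iff]
    exact hcJ j hj
  refine ⟨c, hcZ, ?_, hzc⟩
  rw [Subgroup.mem_centralizer_iff]
  intro x hx
  exact Subgroup.mem_centralizer_singleton_iff.1 (sup_le hKcent hJcent hx)

end SData

/-- The two assertions on `Z₀ = Ω₁(Z(J))` for a `J`-component `K`. -/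
theorem Data.main [Finite G] {K J : Subgroup G} (h : Data K J) :
    Nat.card ↥(omegaCenterOf J ⊓ wOf K) = 2 ∧
      (omegaCenterOf J ⊓ ((K ⊔ J) ⊓ Subgroup.centralizer ((K ⊔ J : Subgroup G) : Set G))) ⊔
        (omegaCenterOf J ⊓ wOf K) = omegaCenterOf J := by
  obtain ⟨S, t, d⟩ := h.exists_sdata
  refine ⟨d.card_Z₀_inf_W, ?_⟩
  apply le_antisymm (sup_le inf_le_left inf_le_left)
  intro z hz
  obtain ⟨c, hcZ, hcX, hzc⟩ := d.exists_central hz
  have hc : c ∈ omegaCenterOf J ⊓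
      ((K ⊔ J) ⊓ Subgroup.centralizer ((K ⊔ J : Subgroup G) : Set G)) :=
    ⟨hcZ, (omegaCenterOf_le J hcZ |> fun h1 => Subgroup.mem_sup_right h1), hcX⟩
  have ht : t ∈ omegaCenterOf J ⊓ wOf K := ⟨d.t_mem_Z₀, d.ht⟩
  rcases hzc with rfl | rfl
  · exact Subgroup.mem_sup_left hc
  · exact mul_mem (Subgroup.mem_sup_left hc) (Subgroup.mem_sup_right ht)

end Cfsg.Agent.Helper49.JComp
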