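import Mathlib
import Cfsg.Prelude.Def_JComponents
import Cfsg.Agent.Helper11.ThompsonIso
import Cfsg.Agent.Helper11.PLength

set_option autoImplicit false

/-!
Transport of the notion of `J(T)`-component along an injective homomorphism (helper49).
-/

namespace Cfsg.Agent.Helper49.JTransfer

open Cfsg Subgroup
open scoped commutatorElement

variable {H G : Type*} [Group H] [Group G] (f : H →* G) (hf : Function.Injective f)

include hf

theorem thompson_map (T : Subgroup H) :
    thompsonSubgroupOf 2 (T.map f) = (thompsonSubgroupOf 2 T).map f :=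
  Cfsg.Agent.Helper11.thompsonSubgroupOf_map 2 f T
    (fun x _ hx => hf (by rw [hx, map_one]))

theorem omegaCenterOf_map (X : Subgroup H) :
    omegaCenterOf (X.map f) = (omegaCenterOf X).map f :=
  Cfsg.Agent.Helper11.omegaZ_map 2 f X (fun x _ hx => hf (by rw [hx, map_one]))

theorem pCoreOf_map (p : ℕ) (K : Subgroup H) : pCoreOf p (K.map f) = (pCoreOf p K).map f := by
  unfold pCoreOf
  set e : ↥K ≃* ↥(K.map f) := K.equivMapOfInjective f hf with he
  rw [← Cfsg.Agent.Helper11.pCore_map_mulEquiv p e, Subgroup.map_map, Subgroup.map_map]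
  congr 1

theorem odd_closure_map (K : Subgroup H) :
    Subgroup.closure {g : G | g ∈ K.map f ∧ Odd (orderOf g)} =
      (Subgroup.closure {g : H | g ∈ K ∧ Odd (orderOf g)}).map f := by
  rw [MonoidHom.map_closure]
  congr 1
  ext y
  constructor
  · rintro ⟨⟨x, hx, rfl⟩, hodd⟩
    refine ⟨x, ⟨hx, ?_⟩, rfl⟩
    rwa [orderOf_injective f hf x] at hodd
  · rintro ⟨x, ⟨hx, hodd⟩, rfl⟩
    refine ⟨⟨x, hx, rfl⟩, ?_⟩
    rwa [orderOf_injective f hf x]

theorem wOf_map (K : Subgroup H) : wOf (K.map f) = (wOf K).map f := by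
  unfold wOf
  rw [pCoreOf_map f hf, omegaCenterOf_map f hf, Subgroup.map_commutator]

theorem isSylowTwoIn_map {S X : Subgroup H} :
    IsSylowTwoIn (S.map f) (X.map f) ↔ IsSylowTwoIn S X := by
  unfold IsSylowTwoIn
  rw [Subgroup.map_le_map_iff_of_injective hf, Subgroup.relIndex_map_map_of_injective _ _ hf]
  constructor
  · rintro ⟨h1, h2, h3⟩
    refine ⟨h1, ?_, h3⟩
    exact h2.of_equiv (S.equivMapOfInjective f hf).symm
  · rintro ⟨h1, h2, h3⟩
    refine ⟨h1, ?_, h3⟩
    exact h2.of_equiv (S.equivMapOfInjective f hf)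

/-- `K` is a `J(T)`-component of `H` iff its image is a `J(f T)`-component of `G`. -/
theorem isJComponent_map_iff (T K : Subgroup H) :
    IsJComponent (T.map f) (K.map f) ↔ IsJComponent T K := by
  unfold IsJComponent
  rw [thompson_map f hf, odd_closure_map f hf, ← Subgroup.map_commutator, pCoreOf_map f hf,
    Subgroup.relIndex_map_map_of_injective _ _ hf, wOf_map f hf,
    (Subgroup.map_injective hf).eq_iff, (Subgroup.map_injective hf).eq_iff,
    Subgroup.card_map_of_injective hf, ← Subgroup.map_sup]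
  have hS : (∀ S : Subgroup G, IsSylowTwoIn S ((K ⊔ thompsonSubgroupOf 2 T).map f) →
      (thompsonSubgroupOf 2 T).map f ≤ S → thompsonSubgroupOf 2 S = (thompsonSubgroupOf 2 T).map f) ↔
      (∀ S : Subgroup H, IsSylowTwoIn S (K ⊔ thompsonSubgroupOf 2 T) →
      thompsonSubgroupOf 2 T ≤ S → thompsonSubgroupOf 2 S = thompsonSubgroupOf 2 T) := by
    constructor
    · intro h S hS hJS
      have := h (S.map f) ((isSylowTwoIn_map f hf).2 hS) (Subgroup.map_mono hJS)
      rw [thompson_map f hf] at this
      exact Subgroup.map_injective hf this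
    · intro h S hS hJS
      have hSle : S ≤ f.range := hS.1.trans (Subgroup.map_le_range f _)
      have hSeq : (S.comap f).map f = S := Subgroup.map_comap_eq_self hSle
      rw [← hSeq] at hS hJS ⊢
      rw [isSylowTwoIn_map f hf] at hS
      rw [Subgroup.map_le_map_iff_of_injective hf] at hJS
      rw [thompson_map f hf, h _ hS hJS]
  have hW : (∀ w ∈ (wOf K).map f, w * w = 1) ↔ (∀ w ∈ wOf K, w * w = 1) := by
    constructor
    · intro h w hw
      apply hf
      rw [map_mul, map_one]
      exact h _ ⟨w, hw, rfl⟩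
    · rintro h _ ⟨w, hw, rfl⟩
      rw [← map_mul, h w hw, map_one]
  rw [hS, hW]

omit hf in
/-- The subgroup form: for `T, K ≤ L`. -/
theorem isJComponent_subgroupOf_iff {L T K : Subgroup G} (hT : T ≤ L) (hK : K ≤ L) :
    IsJComponent (T.subgroupOf L) (K.subgroupOf L) ↔ IsJComponent T K := by
  rw [← isJComponent_map_iff L.subtype L.subtype_injective, Subgroup.subgroupOf_map_subtype,
    Subgroup.subgroupOf_map_subtype, inf_eq_left.2 hT, inf_eq_left.2 hK]

end Cfsg.Agent.Helper49.JTransfer
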