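import Mathlib
import Cfsg.Agent.Helper49.MaxEA
import Cfsg.Agent.Helper49.JTransfer

set_option autoImplicit false
set_option linter.style.haveILetI false

/-!
Monotonicity properties of the Thompson subgroup `J` (helper49).
-/

namespace Cfsg.Agent.Helper49.JMono

open Cfsg Subgroup
open Cfsg.Agent.Helper49.JComp

variable {G : Type*} [Group G] [Finite G]

omit [Finite G] in
/-- `a(T)` is the order of any largest elementary abelian subgroup of `T`. -/
theorem maxElemAbelianOrder_eq {T A : Subgroup G} (h : MaxEA 2 T A) :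
    maxElemAbelianOrder T = Nat.card A := by
  unfold maxElemAbelianOrder
  have hset : (fun A' : Subgroup ↥T => Nat.card ↥A') '' maxElementaryAbelianSubgroups 2 ↥T =
      {Nat.card A} := by
    ext n
    constructor
    · rintro ⟨A', hA', rfl⟩
      have h1 := maxEA_map_of_mem hA'
      have h2 := h1.card_eq h
      rw [Set.mem_singleton_iff, ← h2]
      exact (Subgroup.card_map_of_injective T.subtype_injective).symm
    · intro hn
      rw [Set.mem_singleton_iff] at hn
      refine ⟨A.subgroupOf T, h.subgroupOf_mem, ?_⟩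
      rw [hn]
      exact card_subgroupOf_of_le h.1
  rw [hset, csSup_singleton]

theorem maxEA_of_le {T T' A : Subgroup G} (hA : MaxEA 2 T A) (hAT' : A ≤ T')
    (ha : maxElemAbelianOrder T' ≤ maxElemAbelianOrder T) : MaxEA 2 T' A := by
  obtain ⟨B, hB⟩ := exists_maxEA (G := G) 2 T'
  rw [maxElemAbelianOrder_eq hA, maxElemAbelianOrder_eq hB] at ha
  exact hB.of_card_le hAT' hA.2.1 ha

theorem maxElemAbelianOrder_mono {R P : Subgroup G} (hRP : R ≤ P) :
    maxElemAbelianOrder R ≤ maxElemAbelianOrder P := by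
  obtain ⟨B, hB⟩ := exists_maxEA (G := G) 2 R
  obtain ⟨A, hA⟩ := exists_maxEA (G := G) 2 P
  rw [maxElemAbelianOrder_eq hA, maxElemAbelianOrder_eq hB]
  exact hA.2.2 B (hB.1.trans hRP) hB.2.1

/-- If `J(T) ≤ T'` and `a(T') ≤ a(T)` then `J(T) ≤ J(T')`. -/
theorem thompson_le_thompson {T T' : Subgroup G} (hJ : thompsonSubgroupOf 2 T ≤ T')
    (ha : maxElemAbelianOrder T' ≤ maxElemAbelianOrder T) :
    thompsonSubgroupOf 2 T ≤ thompsonSubgroupOf 2 T' := by
  conv_lhs => rw [thompsonSubgroupOf_eq_sSup_maxEA]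
  apply sSup_le
  intro A hA
  exact (maxEA_of_le hA (hA.le_thompson.trans hJ) ha).le_thompson

/-- If `J(T) ≤ T'` then `a(T) ≤ a(T')`. -/
theorem maxElemAbelianOrder_le_of_thompson_le {T T' : Subgroup G}
    (hJ : thompsonSubgroupOf 2 T ≤ T') : maxElemAbelianOrder T ≤ maxElemAbelianOrder T' := by
  obtain ⟨A, hA⟩ := exists_maxEA (G := G) 2 T
  obtain ⟨B, hB⟩ := exists_maxEA (G := G) 2 T'
  rw [maxElemAbelianOrder_eq hA, maxElemAbelianOrder_eq hB]
  exact hB.2.2 A (hA.le_thompson.trans hJ) hA.2.1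

/-- `J(P) ≤ R ≤ P` implies `J(R) = J(P)`. -/
theorem thompson_eq_of_between {P R : Subgroup G} (hRP : R ≤ P)
    (hJ : thompsonSubgroupOf 2 P ≤ R) : thompsonSubgroupOf 2 R = thompsonSubgroupOf 2 P := by
  have ha : maxElemAbelianOrder R = maxElemAbelianOrder P :=
    le_antisymm (maxElemAbelianOrder_mono hRP) (maxElemAbelianOrder_le_of_thompson_le hJ)
  apply le_antisymm
  · conv_lhs => rw [thompsonSubgroupOf_eq_sSup_maxEA]
    apply sSup_le
    intro B hB
    exact (maxEA_of_le hB (hB.1.trans hRP) ha.ge).le_thompson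
  · exact thompson_le_thompson hJ ha.le

omit [Finite G] in
theorem thompson_conj (T : Subgroup G) (g : G) :
    thompsonSubgroupOf 2 (T.map (MulAut.conj g).toMonoidHom) =
      (thompsonSubgroupOf 2 T).map (MulAut.conj g).toMonoidHom :=
  Cfsg.Agent.Helper49.JTransfer.thompson_map (MulAut.conj g).toMonoidHom (MulAut.conj g).injective T

theorem maxElemAbelianOrder_conj (T : Subgroup G) (g : G) :
    maxElemAbelianOrder (T.map (MulAut.conj g).toMonoidHom) = maxElemAbelianOrder T := by
  obtain ⟨A, hA⟩ := exists_maxEA (G := G) 2 T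
  rw [maxElemAbelianOrder_eq hA, maxElemAbelianOrder_eq (hA.conj g)]
  exact Subgroup.card_map_of_injective (MulAut.conj g).injective

/-- If `J(T) ≤ Tᵍ` then `J(Tᵍ) = J(T)`. -/
theorem thompson_conj_eq_of_le {T : Subgroup G} {g : G}
    (hJ : thompsonSubgroupOf 2 T ≤ T.map (MulAut.conj g).toMonoidHom) :
    thompsonSubgroupOf 2 (T.map (MulAut.conj g).toMonoidHom) = thompsonSubgroupOf 2 T := by
  have h1 : thompsonSubgroupOf 2 T ≤ thompsonSubgroupOf 2 (T.map (MulAut.conj g).toMonoidHom) :=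
    thompson_le_thompson hJ (maxElemAbelianOrder_conj T g).le
  symm
  apply Subgroup.eq_of_le_of_card_ge h1
  rw [thompson_conj]
  exact (Subgroup.card_map_of_injective (MulAut.conj g).injective).le

/-- For a Sylow 2-subgroup `T` and a 2-subgroup `S ⊇ J(T)`: `J(S) = J(T)`. -/
theorem thompson_eq_of_sylow (T : Sylow 2 G) {S : Subgroup G} (hS : IsPGroup 2 ↥S)
    (hJ : thompsonSubgroupOf 2 (T : Subgroup G) ≤ S) :
    thompsonSubgroupOf 2 S = thompsonSubgroupOf 2 (T : Subgroup G) := by
  haveI : Fact (Nat.Prime 2) := ⟨Nat.prime_two⟩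
  obtain ⟨T', hT'⟩ := hS.exists_le_sylow
  obtain ⟨g, hg⟩ := MulAction.exists_smul_eq G T T'
  have hcoe : (T' : Subgroup G) = (T : Subgroup G).map (MulAut.conj g).toMonoidHom := by
    rw [← hg, Sylow.coe_subgroup_smul, Subgroup.pointwise_smul_def]
    rfl
  rw [hcoe] at hT'
  have h1 := thompson_conj_eq_of_le (hJ.trans hT')
  have h2 := thompson_eq_of_between hT' (by rw [h1]; exact hJ)
  rw [h2, h1]

end Cfsg.Agent.Helper49.JMono
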