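import Mathlib
import Cfsg.Prelude.Def_OddOrderLocal

/-!
# Piece (B) of board #3838 (for helper85's S5235)

`metacyclic_index_two_homocyclic`: in a metacyclic 2-group `R`, if `Q` is an abelian subgroup of
index 2, of order `4 ^ n` and exponent dividing `2 ^ n` (`n ≥ 1`), and some commutator
`y⁻¹ * (x * y * x⁻¹)` with `y ∈ Q` is not a square of an element of `Q`, then `n = 1`.
-/

set_option autoImplicit false

namespace Cfsg.Agent.Helper49.MetaTwoB

open Subgroup

/-- A subgroup all of whose elements are killed by `e`, in a group with a cyclic normal subgroup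
`N` and cyclic quotient `R ⧸ N`, has order dividing `e * e`. -/
theorem card_dvd_sq_of_pow_eq_one {R : Type*} [Group R] [Finite R] (N : Subgroup R) [N.Normal]
    [IsCyclic N] [IsCyclic (R ⧸ N)] (K : Subgroup R) (e : ℕ) (hK : ∀ k ∈ K, k ^ e = 1) :
    Nat.card K ∣ e * e := by
  classical
  let f : K →* R ⧸ N := (QuotientGroup.mk' N).comp K.subtype
  have hker : Nat.card f.ker ∣ e := by
    let g : f.ker →* N :=
      { toFun := fun k => ⟨((k : K) : R), by
          have hk : f (k : K) = 1 := k.2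
          exact (QuotientGroup.eq_one_iff _).mp hk⟩
        map_one' := rfl
        map_mul' := fun _ _ => rfl }
    have hg : Function.Injective g := by
      intro a b hab
      apply Subtype.ext; apply Subtype.ext
      exact congrArg (fun z : N => (z : R)) hab
    have : IsCyclic f.ker := isCyclic_of_injective g hg
    rw [← IsCyclic.exponent_eq_card]
    apply Monoid.exponent_dvd_of_forall_pow_eq_one
    intro k
    apply Subtype.ext; apply Subtype.ext
    simpa using hK _ (k : K).2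
  have hran : Nat.card f.range ∣ e := by
    rw [← IsCyclic.exponent_eq_card]
    apply Monoid.exponent_dvd_of_forall_pow_eq_one
    rintro ⟨_, k, rfl⟩
    apply Subtype.ext
    have h1 : (k ^ e : K) = 1 := Subtype.ext (by simpa using hK _ k.2)
    simp only [Subgroup.coe_pow, Subgroup.coe_one]
    rw [← map_pow, h1, map_one]
  have hcard : Nat.card K = Nat.card f.ker * Nat.card f.range := by
    rw [← Subgroup.index_ker, Subgroup.card_mul_index]
  rw [hcard]; exact Nat.mul_dvd_mul hker hran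

/-- In a 2-group with a cyclic normal subgroup `N` and cyclic quotient, every commutator is the
square of an element of `N`. -/
theorem comm_eq_sq {R : Type*} [Group R] [Finite R] (hR : IsPGroup 2 R) (N : Subgroup R)
    [hN : N.Normal] [IsCyclic N] [IsCyclic (R ⧸ N)] (u v : R) :
    ∃ h ∈ N, u * v * u⁻¹ * v⁻¹ = h ^ 2 := by
  classical
  obtain ⟨a', ha'⟩ := IsCyclic.exists_generator (α := N)
  obtain ⟨a, haN⟩ := a'
  have hgen : ∀ h ∈ N, ∃ k : ℤ, a ^ k = h := by
    intro h hh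
    obtain ⟨k, hk⟩ := Subgroup.mem_zpowers_iff.mp (ha' ⟨h, hh⟩)
    exact ⟨k, by simpa using congrArg (fun z : N => (z : R)) hk⟩
  have h2 : (a ^ 2 : R) = a ^ (2 : ℤ) := (zpow_ofNat a 2).symm
  let S' : Subgroup R := Subgroup.zpowers (a ^ 2)
  have hS'N : S' ≤ N := by
    rw [Subgroup.zpowers_le]; exact N.pow_mem haN 2
  have hS'n : S'.Normal := ⟨by
    intro n hn g
    obtain ⟨k, rfl⟩ := Subgroup.mem_zpowers_iff.mp hn
    obtain ⟨m, hm⟩ := hgen _ (hN.conj_mem a haN g)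
    have : g * (a ^ 2) ^ k * g⁻¹ = (a ^ 2) ^ (m * k) := by
      rw [← conj_zpow, ← conj_pow, ← hm, h2, ← zpow_natCast, ← zpow_mul, ← zpow_mul, ← zpow_mul]
      congr 1; push_cast; ring
    rw [this]; exact Subgroup.zpow_mem_zpowers _ _⟩
  -- if `a` is a power of `a ^ 2` then `a = 1`
  have hA : a ∈ S' → a = 1 := by
    intro h
    obtain ⟨i, hi⟩ := Subgroup.mem_zpowers_iff.mp h
    have h1 : a ^ (2 * i - 1) = 1 := by
      rw [zpow_sub, zpow_mul, ← h2, hi, zpow_one, mul_inv_cancel]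
    have hd : (orderOf a : ℤ) ∣ 2 * i - 1 := orderOf_dvd_iff_zpow_eq_one.mpr h1
    obtain ⟨s, -, hs⟩ := (Nat.dvd_prime_pow Nat.prime_two).mp
      (orderOf_dvd_of_pow_eq_one (hR a).choose_spec)
    rcases Nat.eq_zero_or_pos s with h0 | hpos
    · have : orderOf a = 1 := by rw [hs, h0, pow_zero]
      exact orderOf_eq_one_iff.mp this
    · exfalso
      have h2d : (2 : ℤ) ∣ (orderOf a : ℤ) := by
        rw [hs]; push_cast
        exact dvd_pow_self 2 (by omega)
      have := dvd_trans h2d hd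
      omega
  -- conjugation moves an element of `N` by an element of `S'`
  have hkey : ∀ g : R, ∃ j : ℤ, g * a * g⁻¹ = a * (a ^ 2) ^ j := by
    intro g
    obtain ⟨m, hm⟩ := hgen _ (hN.conj_mem a haN g)
    rcases Int.even_or_odd' m with ⟨i, hi | hi⟩
    · -- even: then `a = 1`
      have hmem : g * a * g⁻¹ ∈ S' := by
        rw [← hm, hi, zpow_mul, ← h2]; exact Subgroup.zpow_mem_zpowers _ _
      have : a ∈ S' := by
        have := hS'n.conj_mem _ hmem g⁻¹
        simpa [mul_assoc] using this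
      have ha1 := hA this
      exact ⟨0, by simp [ha1]⟩
    · refine ⟨i, ?_⟩
      rw [← hm, hi, h2, ← zpow_mul, add_comm, zpow_add, zpow_one]
  have hkey2 : ∀ g : R, ∀ h ∈ N, ∃ s ∈ S', g * h * g⁻¹ = h * s := by
    intro g h hh
    obtain ⟨k, rfl⟩ := hgen h hh
    obtain ⟨j, hj⟩ := hkey g
    refine ⟨(a ^ 2) ^ (j * k), Subgroup.zpow_mem_zpowers _ _, ?_⟩
    rw [← conj_zpow, hj, h2, ← zpow_mul, ← zpow_mul]
    have : a * a ^ (2 * j) = a ^ (1 + 2 * j) := by rw [zpow_add, zpow_one]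
    rw [this, ← zpow_mul, ← zpow_add]
    congr 1; ring
  let f : R ⧸ S' →* R ⧸ N :=
    QuotientGroup.map S' N (MonoidHom.id R) (fun z hz => hS'N hz)
  have hker : f.ker ≤ Subgroup.center (R ⧸ S') := by
    intro z hz
    induction z using QuotientGroup.induction_on with
    | H r =>
      have hrN : r ∈ N := by
        have h1 : f (QuotientGroup.mk r) = 1 := hz
        have h2' : f (QuotientGroup.mk r) = QuotientGroup.mk r := rfl
        rw [h2'] at h1
        exact (QuotientGroup.eq_one_iff _).mp h1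
      rw [Subgroup.mem_center_iff]
      intro w
      induction w using QuotientGroup.induction_on with
      | H g =>
        rw [← QuotientGroup.mk_mul, ← QuotientGroup.mk_mul, QuotientGroup.eq]
        obtain ⟨s, hs, hsr⟩ := hkey2 g⁻¹ r hrN
        have : (g * r)⁻¹ * (r * g) = (r⁻¹ * (g⁻¹ * r * g⁻¹⁻¹)) := by group
        rw [this, hsr, inv_mul_cancel_left]
        exact hs
  have hcomm := commutative_of_cyclic_center_quotient f hker
  have hc : u * v * u⁻¹ * v⁻¹ ∈ S' := by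
    rw [← QuotientGroup.eq_one_iff]
    have h1 := hcomm (QuotientGroup.mk u) (QuotientGroup.mk v)
    simp only [QuotientGroup.mk_mul, QuotientGroup.mk_inv]
    rw [h1]; group
  obtain ⟨k, hk⟩ := Subgroup.mem_zpowers_iff.mp hc
  refine ⟨a ^ k, N.zpow_mem haN k, ?_⟩
  rw [← hk, h2, ← zpow_natCast, ← zpow_mul, ← zpow_mul]
  congr 1; push_cast; ring

/-- In an abelian subgroup `Q` of order `4 ^ n` and exponent dividing `2 ^ n` (`n ≥ 2`) of a group
with cyclic normal `N` and cyclic `R ⧸ N`, every element of square one is a square in `Q`. -/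
theorem sq_of_sq_eq_one {R : Type*} [Group R] [Finite R] (N : Subgroup R) [N.Normal]
    [IsCyclic N] [IsCyclic (R ⧸ N)] (Q : Subgroup R) (hab : ∀ a ∈ Q, ∀ b ∈ Q, a * b = b * a)
    (n : ℕ) (hn2 : 2 ≤ n) (hcard : Nat.card Q = 4 ^ n) (hexp : ∀ q ∈ Q, q ^ 2 ^ n = 1)
    (z : R) (hz : z ∈ Q) (hz2 : z ^ 2 = 1) : ∃ q ∈ Q, z = q ^ 2 := by
  classical
  let _ : CommGroup ↥Q :=
    { (inferInstance : Group ↥Q) with
      mul_comm := fun a b => Subtype.ext (hab a a.2 b b.2) }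
  obtain ⟨m, rfl⟩ : ∃ m, n = m + 1 := ⟨n - 1, by omega⟩
  have hm1 : 1 ≤ m := by omega
  let φ : ↥Q →* ↥Q := powMonoidHom (2 ^ m)
  let Ω : Subgroup ↥Q := (powMonoidHom 2 : ↥Q →* ↥Q).ker
  have hker : Nat.card φ.ker ∣ 2 ^ m * 2 ^ m := by
    have h := card_dvd_sq_of_pow_eq_one N (φ.ker.map Q.subtype) (2 ^ m) (by
      rintro _ ⟨k, hk, rfl⟩
      have h1 : k ^ (2 ^ m) = 1 := hk
      simpa using congrArg Subtype.val h1)
    rwa [Subgroup.card_map_of_injective Q.subtype_injective] at h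
  have hΩ : Nat.card Ω ∣ 2 * 2 := by
    have h := card_dvd_sq_of_pow_eq_one N (Ω.map Q.subtype) 2 (by
      rintro _ ⟨k, hk, rfl⟩
      have h1 : k ^ 2 = 1 := hk
      simpa using congrArg Subtype.val h1)
    rwa [Subgroup.card_map_of_injective Q.subtype_injective] at h
  have hrΩ : φ.range ≤ Ω := by
    rintro _ ⟨q, rfl⟩
    show (φ q) ^ 2 = 1
    show (q ^ 2 ^ m) ^ 2 = 1
    apply Subtype.ext
    have := hexp q q.2
    rw [pow_succ] at this
    simpa [pow_mul] using this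
  have hcardQ : Nat.card φ.ker * Nat.card φ.range = 4 * (2 ^ m * 2 ^ m) := by
    rw [← Subgroup.index_ker, Subgroup.card_mul_index, hcard, pow_succ, ← mul_pow]
    ring
  have hle : Nat.card Ω ≤ Nat.card φ.range := by
    have h1 : Nat.card φ.ker ≤ 2 ^ m * 2 ^ m := Nat.le_of_dvd (by positivity) hker
    have h2 : Nat.card Ω ≤ 4 := Nat.le_of_dvd (by norm_num) hΩ
    have hpos : 0 < 2 ^ m * 2 ^ m := by positivity
    by_contra hlt
    have h3 : Nat.card φ.range ≤ 3 := by omega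
    have h4 : Nat.card φ.ker * Nat.card φ.range ≤ (2 ^ m * 2 ^ m) * 3 := Nat.mul_le_mul h1 h3
    omega
  have heq : φ.range = Ω := Subgroup.eq_of_le_of_card_ge hrΩ hle
  have hzΩ : (⟨z, hz⟩ : ↥Q) ∈ Ω := by
    show (⟨z, hz⟩ : ↥Q) ^ 2 = 1
    exact Subtype.ext (by simpa using hz2)
  rw [← heq] at hzΩ
  obtain ⟨q, hq⟩ := hzΩ
  refine ⟨(q : R) ^ 2 ^ (m - 1), Q.pow_mem q.2 _, ?_⟩
  have h5 : (q : R) ^ 2 ^ m = z := by
    have : (q ^ 2 ^ m : ↥Q) = ⟨z, hz⟩ := hq
    simpa using congrArg Subtype.val this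
  rw [← h5, ← pow_mul, ← pow_succ]
  congr 2; omega

/-- Board #3838 (B). -/
theorem metacyclic_index_two_homocyclic {R : Type*} [Group R] [Finite R] (hR : IsPGroup 2 R) (hm : Cfsg.IsMetacyclic R) (Q : Subgroup R) (hidx : Q.index = 2) (hab : ∀ a ∈ Q, ∀ b ∈ Q, a * b = b * a) (n : ℕ) (hn : 1 ≤ n) (hcard : Nat.card Q = 4 ^ n) (hexp : ∀ q ∈ Q, q ^ 2 ^ n = 1) (x y : R) (hy : y ∈ Q) (hxy : ¬ ∃ q ∈ Q, y⁻¹ * (x * y * x⁻¹) = q ^ 2) : n = 1 := by
  classical
  obtain ⟨N, hN, hNc, hRNc⟩ := hm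
  by_contra hne
  have hn2 : 2 ≤ n := by omega
  have hQn : Q.Normal := Subgroup.normal_of_index_eq_two hidx
  have hcQ : y⁻¹ * (x * y * x⁻¹) ∈ Q := Q.mul_mem (Q.inv_mem hy) (hQn.conj_mem y hy x)
  obtain ⟨h, hhN, hch⟩ := comm_eq_sq hR N y⁻¹ x
  have hch' : y⁻¹ * (x * y * x⁻¹) = h ^ 2 := by rw [← hch]; group
  have hhQ : h ∉ Q := fun hh => hxy ⟨h, hh, hch'⟩
  have hxQ : x ∉ Q := fun hx => hxy ⟨1, Q.one_mem, by
    rw [hab x hx y hy]; group⟩
  have hq0 : x * h⁻¹ ∈ Q :=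
    (Subgroup.mul_mem_iff_of_index_two hidx).mpr
      ⟨fun hx => absurd hx hxQ, fun hh => absurd (Q.inv_mem_iff.mp hh) hhQ⟩
  have e1 : x * y * x⁻¹ = h * y * h⁻¹ := by
    have hyh : h * y * h⁻¹ ∈ Q := hQn.conj_mem y hy h
    have hc := hab (x * h⁻¹) hq0 (h * y * h⁻¹) hyh
    calc x * y * x⁻¹ = (x * h⁻¹) * (h * y * h⁻¹) * (x * h⁻¹)⁻¹ := by group
      _ = (h * y * h⁻¹) * (x * h⁻¹) * (x * h⁻¹)⁻¹ := by rw [hc]
      _ = h * y * h⁻¹ := by group
  have e2 : y⁻¹ * h * y = h ^ 3 := by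
    have h1 : y⁻¹ * (h * y * h⁻¹) = h ^ 2 := by rw [← e1, hch']
    calc y⁻¹ * h * y = (y⁻¹ * (h * y * h⁻¹)) * h := by group
      _ = h ^ 2 * h := by rw [h1]
      _ = h ^ 3 := by rw [← pow_succ]
  have hh2 : h ^ 2 ∈ Q := hch' ▸ hcQ
  have e3 : y⁻¹ * h ^ 2 * y = h ^ 2 := by
    rw [hab y⁻¹ (Q.inv_mem hy) (h ^ 2) hh2]; group
  have e4 : y⁻¹ * h ^ 2 * y = (h ^ 3) ^ 2 := by
    rw [← e2, pow_two, pow_two]; group
  have e5 : h ^ 4 = 1 := by
    have h6 : h ^ 2 * 1 = h ^ 2 * h ^ 4 := by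
      rw [mul_one, ← pow_add, ← e3, e4, ← pow_mul]
    exact (mul_left_cancel h6).symm
  have hc2 : (y⁻¹ * (x * y * x⁻¹)) ^ 2 = 1 := by rw [hch', ← pow_mul]; exact e5
  exact hxy (sq_of_sq_eq_one N Q hab n hn2 hcard hexp _ hcQ hc2)

end Cfsg.Agent.Helper49.MetaTwoB
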