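import Mathlib

/-!
# (3T) of #8146 (helper61, S3611): two-point transitivity plus "a two-point stabiliser has at most
three orbits" gives triple transitivity
-/

set_option autoImplicit false

namespace Cfsg.Agent.Helper49.Neu

open MulAction

/-- (3T) two-point transitivity plus "a two-point stabiliser has at most three orbits" gives
triple transitivity -/
theorem three_trans_of_card_le {G : Type*} [Group G] {Ω : Type*} [Finite Ω] [MulAction G Ω]
    (h2 : ∀ a b c d : Ω, a ≠ b → c ≠ d → ∃ g : G, g • a = c ∧ g • b = d) (α β : Ω) (hαβ : α ≠ β)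
    (h3 : Nat.card (orbitRel.Quotient (↥(stabilizer G α ⊓ stabilizer G β)) Ω) ≤ 3) :
    IsMultiplyPretransitive G Ω 3 := by
  classical
  set X : Subgroup G := stabilizer G α ⊓ stabilizer G β with hX
  -- elements of `X` fix `α` and `β`
  have hXα : ∀ x : X, x • α = α := fun x => by
    have h1 : (x : G) ∈ stabilizer G α := (Subgroup.mem_inf.mp x.2).1
    exact mem_stabilizer_iff.mp h1
  have hXβ : ∀ x : X, x • β = β := fun x => by
    have h1 : (x : G) ∈ stabilizer G β := (Subgroup.mem_inf.mp x.2).2
    exact mem_stabilizer_iff.mp h1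
  -- class equality
  have hcls : ∀ a b : Ω, (Quotient.mk'' a : orbitRel.Quotient X Ω) = Quotient.mk'' b →
      ∃ x : X, x • b = a := by
    intro a b h
    have := Quotient.eq''.mp h
    rw [orbitRel_apply] at this
    exact this
  -- the key: `X` is transitive on the remaining points
  have key : ∀ γ δ : Ω, γ ≠ α → γ ≠ β → δ ≠ α → δ ≠ β →
      ∃ k : G, k • α = α ∧ k • β = β ∧ k • γ = δ := by
    intro γ δ hγα hγβ hδα hδβ
    by_contra hno
    have hγδ : (Quotient.mk'' δ : orbitRel.Quotient X Ω) ≠ Quotient.mk'' γ := by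
      intro h
      obtain ⟨x, hx⟩ := hcls _ _ h
      exact hno ⟨(x : G), hXα x, hXβ x, hx⟩
    have hαβ' : (Quotient.mk'' α : orbitRel.Quotient X Ω) ≠ Quotient.mk'' β := by
      intro h
      obtain ⟨x, hx⟩ := hcls _ _ h
      rw [hXβ x] at hx
      exact hαβ hx.symm
    have hαc : ∀ c : Ω, c ≠ α → (Quotient.mk'' α : orbitRel.Quotient X Ω) ≠ Quotient.mk'' c := by
      intro c hc h
      obtain ⟨x, hx⟩ := hcls _ _ h.symm
      rw [hXα x] at hx
      exact hc hx.symm
    have hβc : ∀ c : Ω, c ≠ β → (Quotient.mk'' β : orbitRel.Quotient X Ω) ≠ Quotient.mk'' c := by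
      intro c hc h
      obtain ⟨x, hx⟩ := hcls _ _ h.symm
      rw [hXβ x] at hx
      exact hc hx.symm
    let f : Fin 4 → orbitRel.Quotient X Ω :=
      ![Quotient.mk'' α, Quotient.mk'' β, Quotient.mk'' γ, Quotient.mk'' δ]
    have hf : Function.Injective f := by
      intro i j hij
      fin_cases i <;> fin_cases j <;>
        first
          | rfl
          | (exfalso; exact hαβ' hij)
          | (exfalso; exact hαβ' hij.symm)
          | (exfalso; exact hαc γ hγα hij)
          | (exfalso; exact hαc γ hγα hij.symm)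
          | (exfalso; exact hαc δ hδα hij)
          | (exfalso; exact hαc δ hδα hij.symm)
          | (exfalso; exact hβc γ hγβ hij)
          | (exfalso; exact hβc γ hγβ hij.symm)
          | (exfalso; exact hβc δ hδβ hij)
          | (exfalso; exact hβc δ hδβ hij.symm)
          | (exfalso; exact hγδ hij)
          | (exfalso; exact hγδ hij.symm)
    have h4 := Nat.card_le_card_of_injective f hf
    rw [Nat.card_eq_fintype_card, Fintype.card_fin] at h4
    omega
  rw [isMultiplyPretransitive_iff]
  intro x y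
  have hx01 : x 0 ≠ x 1 := fun h => by simpa using x.injective h
  have hx02 : x 0 ≠ x 2 := fun h => by simpa using x.injective h
  have hx12 : x 1 ≠ x 2 := fun h => by simpa using x.injective h
  have hy01 : y 0 ≠ y 1 := fun h => by simpa using y.injective h
  have hy02 : y 0 ≠ y 2 := fun h => by simpa using y.injective h
  have hy12 : y 1 ≠ y 2 := fun h => by simpa using y.injective h
  obtain ⟨g, hg0, hg1⟩ := h2 (x 0) (x 1) α β hx01 hαβ
  obtain ⟨h, hh0, hh1⟩ := h2 (y 0) (y 1) α β hy01 hαβ
  have hγα : g • x 2 ≠ α := fun e => hx02 (smul_left_cancel g (hg0.trans e.symm))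
  have hγβ : g • x 2 ≠ β := fun e => hx12 (smul_left_cancel g (hg1.trans e.symm))
  have hδα : h • y 2 ≠ α := fun e => hy02 (smul_left_cancel h (hh0.trans e.symm))
  have hδβ : h • y 2 ≠ β := fun e => hy12 (smul_left_cancel h (hh1.trans e.symm))
  obtain ⟨k, hkα, hkβ, hkγ⟩ := key _ _ hγα hγβ hδα hδβ
  refine ⟨h⁻¹ * k * g, ?_⟩
  ext i
  rw [Function.Embedding.smul_apply]
  fin_cases i
  · show (h⁻¹ * k * g) • x 0 = y 0
    rw [mul_smul, mul_smul, hg0, hkα, inv_smul_eq_iff, hh0]
  · show (h⁻¹ * k * g) • x 1 = y 1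
    rw [mul_smul, mul_smul, hg1, hkβ, inv_smul_eq_iff, hh1]
  · show (h⁻¹ * k * g) • x 2 = y 2
    rw [mul_smul, mul_smul, hkγ, inv_smul_smul]

end Cfsg.Agent.Helper49.Neu
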