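import Mathlib

/-!
# (ORB2) of #8146 (helper61, S3611): a free action on a set of twice the size has two orbits
-/

set_option autoImplicit false

namespace Cfsg.Agent.Helper49.Neu

open MulAction

/-- (ORB2) a free action on a set of twice the size has exactly two orbits -/
theorem exists_two_reps {N : Type*} [Group N] [Finite N] {D : Type*} [Finite D] [MulAction N D]
    (hfree : ∀ (n : N) (d : D), n • d = d → n = 1) (hcard : Nat.card D = 2 * Nat.card N) :
    ∃ d₁ d₂ : D, ∀ d : D, ∃ n : N, n • d₁ = d ∨ n • d₂ = d := by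
  classical
  have hNpos : 0 < Nat.card N := Nat.card_pos
  have hDpos : 0 < Nat.card D := by omega
  haveI : Nonempty D := (Nat.card_pos_iff.mp hDpos).1
  obtain ⟨d₁⟩ := ‹Nonempty D›
  -- orbits have `|N|` elements
  have horb : ∀ d : D, (orbit N d).ncard = Nat.card N := by
    intro d
    have hinj : Function.Injective (fun n : N => n • d) := by
      intro a b hab
      have h1 : (b⁻¹ * a) • d = d := by
        rw [mul_smul]
        simp only at hab
        rw [hab, inv_smul_smul]
      have h2 := hfree _ _ h1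
      exact (inv_mul_eq_one.mp h2).symm
    have : orbit N d = Set.range (fun n : N => n • d) := rfl
    rw [this, ← Nat.card_coe_set_eq, Nat.card_range_of_injective hinj]
  by_cases hex : ∃ d₂ : D, d₂ ∉ orbit N d₁
  · obtain ⟨d₂, hd₂⟩ := hex
    refine ⟨d₁, d₂, ?_⟩
    have hdisj : Disjoint (orbit N d₁) (orbit N d₂) := by
      rw [Set.disjoint_left]
      rintro x ⟨n₁, hn₁⟩ ⟨n₂, hn₂⟩
      apply hd₂
      refine ⟨n₂⁻¹ * n₁, ?_⟩
      have hn₁' : n₁ • d₁ = x := hn₁
      have hn₂' : n₂ • d₂ = x := hn₂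
      show (n₂⁻¹ * n₁) • d₁ = d₂
      rw [mul_smul, hn₁', ← hn₂', inv_smul_smul]
    have hun : (orbit N d₁ ∪ orbit N d₂).ncard = Nat.card D := by
      rw [Set.ncard_union_eq hdisj (Set.toFinite _) (Set.toFinite _), horb, horb, hcard]
      ring
    have huniv : orbit N d₁ ∪ orbit N d₂ = Set.univ := by
      apply Set.eq_of_subset_of_ncard_le (Set.subset_univ _) _ (Set.toFinite _)
      rw [hun, Set.ncard_univ]
    intro d
    have hd : d ∈ orbit N d₁ ∪ orbit N d₂ := by rw [huniv]; trivial
    rcases hd with ⟨n, hn⟩ | ⟨n, hn⟩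
    · exact ⟨n, Or.inl hn⟩
    · exact ⟨n, Or.inr hn⟩
  · refine ⟨d₁, d₁, ?_⟩
    intro d
    have hd : d ∈ orbit N d₁ := by
      by_contra h
      exact hex ⟨d, h⟩
    obtain ⟨n, hn⟩ := hd
    exact ⟨n, Or.inl hn⟩

end Cfsg.Agent.Helper49.Neu
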