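import Mathlib
import Cfsg.Agent.Helper2.NormIdeal
import Cfsg.Agent.Helper71.FrobConstruct

/-!
# (B) of #4541: a finite group whose norm ideal over `ZMod l` (`l ∤ |X|`) is proper is a Frobenius
complement (helper49 for helper2, S3357 + S4292)
-/

set_option autoImplicit false
set_option linter.style.haveILetI false

namespace Cfsg.Agent.Helper49.NormIdealB

open Cfsg.Agent.Helper2.NormIdeal MonoidAlgebra

/-- the norm span as a left ideal -/
noncomputable def normIdeal (R : Type*) [CommRing R] (X : Type*) [Group X] :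
    Ideal (MonoidAlgebra R X) where
  carrier := normSpan R (X := X)
  add_mem' := fun ha hb => Submodule.add_mem _ ha hb
  zero_mem' := Submodule.zero_mem _
  smul_mem' := fun c x hx => by
    have := mul_mem_left (R := R) c hx
    simpa using this

theorem mem_normIdeal {R : Type*} [CommRing R] {X : Type*} [Group X] (y : MonoidAlgebra R X) :
    y ∈ normIdeal R X ↔ y ∈ normSpan R (X := X) := Iff.rfl

theorem frob_of_NF {X : Type*} [Group X] [Finite X] [Nontrivial X] (l : ℕ) (hl : l.Prime)
    (hdvd : ¬ l ∣ Nat.card X) (h : NF (ZMod l) X) :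
    ∃ (L : Type) (_ : Group L) (_ : Finite L) (H : Subgroup L),
      Cfsg.IsFrobeniusComplement H ∧ Nonempty (X ≃* H) := by
  haveI : Fact l.Prime := ⟨hl⟩
  let A := MonoidAlgebra (ZMod l) X
  let I : Ideal A := normIdeal (ZMod l) X
  let V := A ⧸ I
  haveI : Finite A := by
    haveI : Module.Finite (ZMod l) (MonoidAlgebra (ZMod l) X) := inferInstance
    exact Module.finite_of_finite (ZMod l)
  haveI : Finite V := Quotient.finite _
  haveI : Nontrivial V := by
    refine ⟨⟨Submodule.Quotient.mk (1 : A), 0, ?_⟩⟩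
    intro h0
    rw [Submodule.Quotient.mk_eq_zero] at h0
    exact h h0
  letI : DistribMulAction X V := DistribMulAction.compHom V (MonoidAlgebra.of (ZMod l) X)
  have hsmul : ∀ (g : X) (v : V), g • v = (MonoidAlgebra.of (ZMod l) X g : A) • v := fun _ _ => rfl
  apply Cfsg.Agent.Helper71.exists_frobenius_of_fpf_add (V := V) (H := X)
  intro g hg v hv
  -- a prime-order power of g
  have hn1 : orderOf g ≠ 1 := by
    intro h1
    exact hg (orderOf_eq_one_iff.1 h1)
  obtain ⟨r, hr, hrd⟩ := Nat.exists_prime_and_dvd hn1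
  obtain ⟨m, hm⟩ := hrd
  have hpos : 0 < orderOf g := orderOf_pos g
  have hmpos : 0 < m := by
    rcases Nat.eq_zero_or_pos m with h0 | h0
    · rw [h0, mul_zero] at hm; omega
    · exact h0
  set c := g ^ m with hc
  have hco : orderOf c = r := by
    rw [hc, orderOf_pow' g hmpos.ne', hm, Nat.gcd_eq_right (Dvd.intro_left r rfl)]
    exact Nat.mul_div_cancel _ hmpos
  have hrl : r ≠ l := by
    intro hrl
    apply hdvd
    rw [← hrl, ← hco]
    exact orderOf_dvd_natCard c
  -- c fixes v
  have hgi : ∀ i : ℕ, (g ^ i) • v = v := by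
    intro i
    induction i with
    | zero => simp
    | succ n ih => rw [pow_succ, mul_smul, hv, ih]
  have hci : ∀ i : ℕ, (MonoidAlgebra.of (ZMod l) X (c ^ i) : A) • v = v := by
    intro i
    rw [← hsmul, hc, ← pow_mul]
    exact hgi _
  have hnorm : (normElt (ZMod l) c : A) • v = (r : ℕ) • v := by
    unfold normElt
    rw [Finset.sum_smul, Finset.sum_congr rfl (fun i _ => hci i), Finset.sum_const,
      Finset.card_range, hco]
  have hzero : (normElt (ZMod l) c : A) • v = 0 := by
    induction v using Submodule.Quotient.induction_on with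
    | H a =>
      rw [← Submodule.Quotient.mk_smul, Submodule.Quotient.mk_eq_zero]
      have := normElt_mul_mem (R := ZMod l) c (by rw [hco]; exact hr) a
      exact (mem_normIdeal _).2 (by simpa using this)
  have hrv : (r : ℕ) • v = 0 := by rw [← hnorm, hzero]
  -- r is a unit mod l
  have hcop : Nat.Coprime r l := (Nat.coprime_primes hr hl).2 hrl
  have hunit : IsUnit ((r : ℕ) : ZMod l) := (ZMod.isUnit_iff_coprime r l).2 hcop
  obtain ⟨u, hu⟩ := hunit
  have h2 : ((r : ℕ) : ZMod l) • v = 0 := by
    rw [Nat.cast_smul_eq_nsmul]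
    exact hrv
  have h3 : v = (↑u⁻¹ : ZMod l) • (((r : ℕ) : ZMod l) • v) := by
    rw [smul_smul, ← hu, Units.inv_mul, one_smul]
  rw [h3, h2, smul_zero]

end Cfsg.Agent.Helper49.NormIdealB
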