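import Mathlib
import Cfsg.Agent.Helper99.O9.Defs

set_option autoImplicit false
set_option linter.unusedSectionVars false
set_option linter.unusedVariables false

/-!
# (DVD) of helper99's S2517 farm (#13715): element orders are closed under divisors
-/

namespace Cfsg.Agent.Helper49.O9

open Matrix QuadraticMap Cfsg.Agent.Helper44 Cfsg.Agent.Helper44.QType

universe u

variable {F : Type u} [Field F] [Fintype F]

/-- (DVD) element orders of a group are closed under divisors -/
theorem exists_orderOf_of_dvd {G : Type*} [Group G] {N N' : ℕ} (hN' : 0 < N')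
    (h : N' ∈ Set.range (orderOf : G → ℕ)) (hd : N ∣ N') : N ∈ Set.range (orderOf : G → ℕ) := by
  obtain ⟨g, rfl⟩ := h
  obtain ⟨k, hk⟩ := hd
  have hk0 : k ≠ 0 := by
    rintro rfl
    rw [mul_zero] at hk
    omega
  have hN0 : N ≠ 0 := by
    rintro rfl
    rw [zero_mul] at hk
    omega
  refine ⟨g ^ k, ?_⟩
  rw [orderOf_pow_of_dvd hk0 ⟨N, by rw [hk, mul_comm]⟩, hk]
  exact Nat.mul_div_cancel _ (Nat.pos_of_ne_zero hk0)

end Cfsg.Agent.Helper49.O9
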