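/-
helper49: piece (NNIL) `N_nilpotent` of helper62's farm for S2444 (#12939).
With `B = A ∘ Y₀`: `N v = B⁻¹ v - ε(B⁻¹ v) B⁻¹ z = ↑(Y₁⁻¹ ⟨PiMap v⟩)`, so
`N ^ (k+1) = ι ∘ Y₁⁻¹ ∘ (Γ Y₁⁻¹) ^ k ∘ Π'`.
-/
import Mathlib
import Cfsg.Agent.Helper62.Ore.Defs

set_option autoImplicit false

namespace Cfsg.Agent.Helper49.Ore

open Polynomial Module Cfsg.Agent.Helper62.Ore

variable {F : Type*} [Field F] {V : Type*} [AddCommGroup V] [Module F V]

/-- (NNIL) the partial inverse of `A Y₀` is nilpotent. -/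
theorem N_nilpotent (A : V ≃ₗ[F] V) (ε : Module.Dual F V) (z : V) (s : F) (hs : s ≠ 0)
    (hz : ε (A.symm z) = s)
    (Y₁ : ↥(LinearMap.ker ε) ≃ₗ[F] ↥(LinearMap.ker ε)) (Y₀ : V ≃ₗ[F] V)
    (hY₀ : ∀ h : ↥(LinearMap.ker ε), Y₀ (h : V) = (Y₁ h : V)) (hε : ∀ x, ε (Y₀ x) = s * ε x)
    (hnil : IsNilpotent (GammaMap A ε z s hs hz ∘ₗ
      (Y₁.symm : ↥(LinearMap.ker ε) →ₗ[F] ↥(LinearMap.ker ε)))) :
    IsNilpotent ((((Y₀.trans A).symm : V ≃ₗ[F] V) : V →ₗ[F] V) -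
      (ε.comp (((Y₀.trans A).symm : V ≃ₗ[F] V) : V →ₗ[F] V)).smulRight ((Y₀.trans A).symm z)) := by
  set N : Module.End F V := (((Y₀.trans A).symm : V ≃ₗ[F] V) : V →ₗ[F] V) -
      (ε.comp (((Y₀.trans A).symm : V ≃ₗ[F] V) : V →ₗ[F] V)).smulRight ((Y₀.trans A).symm z)
    with hNdef
  set G : Module.End F ↥(LinearMap.ker ε) := GammaMap A ε z s hs hz ∘ₗ
      (Y₁.symm : ↥(LinearMap.ker ε) →ₗ[F] ↥(LinearMap.ker ε)) with hGdef
  -- `Π'`
  let Pi' : V → ↥(LinearMap.ker ε) := fun v => ⟨PiMap A ε z s v, PiMap_mem_ker A ε z s hs hz v⟩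
  have hεinv : ∀ x, ε (Y₀.symm x) = s⁻¹ * ε x := by
    intro x
    have h := hε (Y₀.symm x)
    rw [LinearEquiv.apply_symm_apply] at h
    rw [h, ← mul_assoc, inv_mul_cancel₀ hs, one_mul]
  have hBinv : ∀ x, (Y₀.trans A).symm x = Y₀.symm (A.symm x) := fun x => rfl
  -- (a) `N v = ↑(Y₁⁻¹ (Π' v))`
  have hN : ∀ v, N v = ((Y₁.symm (Pi' v) : ↥(LinearMap.ker ε)) : V) := by
    intro v
    apply Y₀.injective
    rw [hY₀, LinearEquiv.apply_symm_apply]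
    change Y₀ (N v) = PiMap A ε z s v
    rw [PiMap_apply, hNdef]
    simp only [LinearMap.sub_apply, LinearEquiv.coe_coe, LinearMap.smulRight_apply,
      LinearMap.comp_apply, hBinv, map_sub, map_smul, LinearEquiv.apply_symm_apply, hεinv]
  -- (b) `Π' ∘ ι = Γ`
  have hGam : ∀ h : ↥(LinearMap.ker ε), Pi' (h : V) = GammaMap A ε z s hs hz h := by
    intro h
    apply Subtype.ext
    rw [GammaMap_coe]
  have hstep : ∀ v, Pi' (N v) = G (Pi' v) := by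
    intro v
    rw [hN, hGam]
    rfl
  have hpow : ∀ (k : ℕ) (v : V), (N ^ (k + 1)) v = ((Y₁.symm ((G ^ k) (Pi' v)) : ↥(LinearMap.ker ε)) : V) := by
    intro k
    induction k with
    | zero =>
      intro v
      rw [zero_add, pow_one, pow_zero, Module.End.one_apply]
      exact hN v
    | succ k ih =>
      intro v
      rw [pow_succ (N) (k + 1), Module.End.mul_apply, ih (N v), hstep, pow_succ G k,
        Module.End.mul_apply]
  obtain ⟨k, hk⟩ := hnil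
  refine ⟨k + 1, ?_⟩
  apply LinearMap.ext
  intro v
  rw [hpow k v, hk, LinearMap.zero_apply, map_zero, LinearMap.zero_apply]
  rfl

end Cfsg.Agent.Helper49.Ore
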