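/-
helper49: leaf (CH3) of helper38's farm for S2500 part 5 (#12547).
-/
import Mathlib

set_option autoImplicit false
set_option linter.unusedVariables false

namespace Cfsg.Agent.Helper49.P5

variable {F : Type*} [Field F] [Fintype F] {q : ℕ}

/-- (CH3) characteristic three -/
theorem charP_three (a : ℕ) (hF : Fintype.card F = q ^ 2) (ha : 1 ≤ a) (hq : q = 3 ^ a) :
    CharP F 3 := by
  obtain ⟨p, hp⟩ := CharP.exists F
  have := hp
  have : Fact p.Prime := ⟨CharP.char_is_prime F p⟩
  have h1 : p ∣ Fintype.card F := by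
    have : ((Fintype.card F : ℕ) : F) = 0 := Nat.cast_card_eq_zero F
    exact (CharP.cast_eq_zero_iff F p _).1 this
  rw [hF, hq] at h1
  have h2 : p ∣ 3 :=
    (Fact.out : p.Prime).dvd_of_dvd_pow ((Fact.out : p.Prime).dvd_of_dvd_pow h1)
  have h3 : p = 3 := (Nat.prime_dvd_prime_iff_eq Fact.out Nat.prime_three).1 h2
  exact h3 ▸ hp

end Cfsg.Agent.Helper49.P5
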