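import Mathlib
import Cfsg.Agent.Helper99.PGDefs
import Cfsg.Agent.Helper38.SpBlock

/-!
# (S2) of #10721 for helper99 (S2474): a commuting pair in `Sp_{2n}` from an element of a smaller
symplectic group (block embedding: `a = (a₀, 1)`, `t = (1, -1)`).
-/

set_option autoImplicit false

universe u

namespace Cfsg.Agent.Helper49.PG

open Matrix Cfsg.Agent.Helper99.PG

variable {F : Type u} [Field F]

/-- entries of a block sum -/
theorem pgS2_blockSum_apply {α β γ : Type*} [Fintype α] [Fintype β] [Fintype γ] [DecidableEq α]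
    [DecidableEq β] [DecidableEq γ] (E : α ⊕ β ≃ γ) (A : Matrix α α F) (B : Matrix β β F)
    (x y : α ⊕ β) :
    Cfsg.Agent.Helper38.blockSum E (A, B) (E x) (E y) = Matrix.fromBlocks A 0 0 B x y := by
  show Matrix.reindex E E (Matrix.fromBlocks A 0 0 B) (E x) (E y) = _
  rw [Matrix.reindex_apply, Matrix.submatrix_apply, Equiv.symm_apply_apply,
    Equiv.symm_apply_apply]

variable [Fintype F]

/-- (S2) block embedding `Cfsg.Agent.Helper38.spBlock`: `a = (a₀, 1)`, `t = (1, -1)` -/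
theorem sp_pair_of_small (h2 : (2 : F) ≠ 0) (n i : ℕ) (hi : 1 ≤ i) (hin : i < n) (s : ℕ)
    (a₀ : SpG i F) (ha₀ : orderOf a₀ = s) :
    ∃ a t : SpG n F, Commute a t ∧ orderOf a = s ∧
      ((t : Matrix (Fin n ⊕ Fin n) (Fin n ⊕ Fin n) F) * (t : Matrix (Fin n ⊕ Fin n) (Fin n ⊕ Fin n) F) = 1 ∨
        (t : Matrix (Fin n ⊕ Fin n) (Fin n ⊕ Fin n) F) * (t : Matrix (Fin n ⊕ Fin n) (Fin n ⊕ Fin n) F) = -1) ∧
      (t : Matrix (Fin n ⊕ Fin n) (Fin n ⊕ Fin n) F) ≠ 1 ∧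
      (t : Matrix (Fin n ⊕ Fin n) (Fin n ⊕ Fin n) F) ≠ -1 := by
  classical
  obtain ⟨b, hb⟩ : ∃ b, i + b = n := ⟨n - i, by omega⟩
  have hb1 : 1 ≤ b := by omega
  have h11 : (1 : F) ≠ -1 := by
    intro h
    apply h2
    have : (2 : F) = 1 + 1 := by norm_num
    rw [this]
    nth_rewrite 1 [h]
    ring
  -- `-1 ∈ Sp_{2b}`
  let t₀ : SpG b F := ⟨-1, SymplecticGroup.neg_mem (one_mem _)⟩
  have ht₀sq : t₀ * t₀ = 1 := by
    apply Subtype.ext
    show (-1 : Matrix (Fin b ⊕ Fin b) (Fin b ⊕ Fin b) F) * (-1) = 1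
    simp
  let φ := Cfsg.Agent.Helper38.spBlock (F := F) hb
  have hφinj : Function.Injective φ := Cfsg.Agent.Helper38.spBlock_injective hb
  refine ⟨φ (a₀, 1), φ (1, t₀), ?_, ?_, Or.inl ?_, ?_, ?_⟩
  · show φ (a₀, 1) * φ (1, t₀) = φ (1, t₀) * φ (a₀, 1)
    rw [← map_mul, ← map_mul, Prod.mk_mul_mk, Prod.mk_mul_mk, mul_one, one_mul, mul_one, one_mul]
  · rw [orderOf_injective φ hφinj, Prod.orderOf_mk, orderOf_one, Nat.lcm_one_right, ha₀]
  · have e : φ (1, t₀) * φ (1, t₀) = 1 := by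
      rw [← map_mul, Prod.mk_mul_mk, mul_one, ht₀sq]
      exact map_one φ
    have e' := congrArg (fun g : SpG n F => (g : Matrix (Fin n ⊕ Fin n) (Fin n ⊕ Fin n) F)) e
    exact e'
  · -- `t ≠ 1`
    intro h
    have h1 := congrFun (congrFun h ((Cfsg.Agent.Helper38.spEquiv hb)
        (Sum.inr (Sum.inl (⟨0, by omega⟩ : Fin b))))) ((Cfsg.Agent.Helper38.spEquiv hb)
        (Sum.inr (Sum.inl (⟨0, by omega⟩ : Fin b))))
    have h3 : ((φ (1, t₀) : SpG n F) : Matrix (Fin n ⊕ Fin n) (Fin n ⊕ Fin n) F) =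
        Cfsg.Agent.Helper38.blockSum (Cfsg.Agent.Helper38.spEquiv hb)
          ((1 : Matrix (Fin i ⊕ Fin i) (Fin i ⊕ Fin i) F),
            (-1 : Matrix (Fin b ⊕ Fin b) (Fin b ⊕ Fin b) F)) := rfl
    rw [h3, pgS2_blockSum_apply, Matrix.one_apply_eq] at h1
    simp at h1
    exact h11 h1.symm
  · -- `t ≠ -1`
    intro h
    have h1 := congrFun (congrFun h ((Cfsg.Agent.Helper38.spEquiv hb)
        (Sum.inl (Sum.inl (⟨0, by omega⟩ : Fin i))))) ((Cfsg.Agent.Helper38.spEquiv hb)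
        (Sum.inl (Sum.inl (⟨0, by omega⟩ : Fin i))))
    have h3 : ((φ (1, t₀) : SpG n F) : Matrix (Fin n ⊕ Fin n) (Fin n ⊕ Fin n) F) =
        Cfsg.Agent.Helper38.blockSum (Cfsg.Agent.Helper38.spEquiv hb)
          ((1 : Matrix (Fin i ⊕ Fin i) (Fin i ⊕ Fin i) F),
            (-1 : Matrix (Fin b ⊕ Fin b) (Fin b ⊕ Fin b) F)) := rfl
    rw [h3, pgS2_blockSum_apply, Matrix.neg_apply, Matrix.one_apply_eq] at h1
    simp at h1
    exact h11 h1

end Cfsg.Agent.Helper49.PG
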