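import Mathlib
import Cfsg.Agent.Helper52.PQDefs
import Cfsg.Agent.Helper1.WardAmb
import Cfsg.Agent.Helper25.PQL

set_option autoImplicit false

/-!
# Piece (AM) of helper52's WANTED #5134 (for S4306): `PQT1Stmt → PQAmbientStmt`

Strong induction on `Nat.card G`, passing to the quotient by a minimal normal subgroup `V ≤ G` of
the ambient group `H`; the images of `σ`, `τ` again form a `FrobPair` because `|V|` is prime to
`s t`, fixed points are lifted by `Helper25.PQ.pq_fixed_lift`, and the chief factor step `(T1)`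
gives that `G / C_G(V)` is nilpotent.  Same shape as `Helper1.Ward.wardAmbient_aux` and
`Helper1.Shult.ambient_aux`.
-/

namespace Cfsg.Agent.Helper49.PQ

open Subgroup Cfsg.Agent.Helper1.Shult Cfsg.Agent.Helper52.PQ

universe v

/-- the image of a `FrobPair` modulo a normal subgroup of order prime to `s t` is a `FrobPair`. -/
theorem frobPair_map_mk {H : Type*} [Group H] [Finite H] {s t : ℕ} {σ τ : H}
    (h : FrobPair s t σ τ) (V : Subgroup H) [V.Normal]
    (hcop : (Nat.card V).Coprime (s * t)) :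
    FrobPair s t (QuotientGroup.mk' V σ) (QuotientGroup.mk' V τ) := by
  set π : H →* H ⧸ V := QuotientGroup.mk' V with hπ
  have hker : π.ker = V := QuotientGroup.ker_mk' V
  have hsV : (Nat.card V).Coprime s := Nat.Coprime.coprime_dvd_right (dvd_mul_right s t) hcop
  have htV : (Nat.card V).Coprime t := Nat.Coprime.coprime_dvd_right (dvd_mul_left t s) hcop
  have hordV : ∀ x ∈ V, orderOf x ∣ Nat.card V := by
    intro x hx
    have := orderOf_dvd_natCard (⟨x, hx⟩ : V)
    rwa [Subgroup.orderOf_mk] at this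
  -- an element of `V` whose order divides `s` (or `t`) is trivial
  have htriv_s : ∀ x ∈ V, orderOf x ∣ s → x = 1 := by
    intro x hx hd
    have : orderOf x = 1 := Nat.eq_one_of_dvd_coprimes hsV (hordV x hx) hd
    exact orderOf_eq_one_iff.mp this
  have htriv_t : ∀ x ∈ V, orderOf x ∣ t → x = 1 := by
    intro x hx hd
    have : orderOf x = 1 := Nat.eq_one_of_dvd_coprimes htV (hordV x hx) hd
    exact orderOf_eq_one_iff.mp this
  have hσ1 : σ ≠ 1 := by
    intro h1
    have := h.oσ
    rw [h1, orderOf_one] at this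
    exact h.hs.ne_one this.symm
  have hτ1 : τ ≠ 1 := by
    intro h1
    have := h.oτ
    rw [h1, orderOf_one] at this
    exact h.ht.ne_one this.symm
  refine ⟨h.hs, h.ht, ?_, ?_, ?_, ?_⟩
  · have hd : orderOf (π σ) ∣ s := by
      rw [← h.oσ]
      exact orderOf_map_dvd π σ
    rcases (Nat.dvd_prime h.hs).mp hd with h1 | h3
    · exfalso
      have hσV : σ ∈ V := by
        rw [← hker, MonoidHom.mem_ker]
        exact orderOf_eq_one_iff.mp h1
      exact hσ1 (htriv_s σ hσV (by rw [h.oσ]))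
    · exact h3
  · have hd : orderOf (π τ) ∣ t := by
      rw [← h.oτ]
      exact orderOf_map_dvd π τ
    rcases (Nat.dvd_prime h.ht).mp hd with h1 | h3
    · exfalso
      have hτV : τ ∈ V := by
        rw [← hker, MonoidHom.mem_ker]
        exact orderOf_eq_one_iff.mp h1
      exact hτ1 (htriv_t τ hτV (by rw [h.oτ]))
    · exact h3
  · have h1 : π (τ * σ * τ⁻¹) ∈ (zpowers σ).map π := Subgroup.mem_map_of_mem π h.norm
    rw [MonoidHom.map_zpowers] at h1
    rwa [map_mul, map_mul, map_inv] at h1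
  · intro hc
    apply h.ncomm
    -- `c = τ σ τ⁻¹ σ⁻¹ ∈ ⟨σ⟩ ∩ V` is trivial
    have hcz : τ * σ * τ⁻¹ * σ⁻¹ ∈ zpowers σ :=
      (zpowers σ).mul_mem h.norm ((zpowers σ).inv_mem (mem_zpowers σ))
    have hcV : τ * σ * τ⁻¹ * σ⁻¹ ∈ V := by
      rw [← hker, MonoidHom.mem_ker, map_mul, map_mul, map_mul, map_inv, map_inv, hc]
      group
    have hcs : orderOf (τ * σ * τ⁻¹ * σ⁻¹) ∣ s := by
      have h2 : orderOf (⟨τ * σ * τ⁻¹ * σ⁻¹, hcz⟩ : zpowers σ) ∣ Nat.card (zpowers σ) :=
        orderOf_dvd_natCard _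
      rw [Subgroup.orderOf_mk, Nat.card_zpowers, h.oσ] at h2
      exact h2
    have hc1 : τ * σ * τ⁻¹ * σ⁻¹ = 1 := htriv_s _ hcV hcs
    calc τ * σ = (τ * σ * τ⁻¹ * σ⁻¹) * (σ * τ) := by group
      _ = σ * τ := by rw [hc1, one_mul]

theorem ambient_aux (hT : PQT1Stmt.{v}) :
    ∀ (n : ℕ) (H : Type v) [Group H] [Finite H] (s t : ℕ) (σ τ : H) (G : Subgroup H),
      Nat.card G = n → FrobPair s t σ τ → G.Normal → G ⊔ closure {σ, τ} = ⊤ →
      Group.IsSolvable G → (Nat.card G).Coprime (s * t) → Fix σ τ G = ⊥ →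
      ∃ N : Subgroup H, N.Normal ∧ N ≤ G ∧ (∃ k : ℕ, N.lowerCentralSeries k = ⊥) ∧
        ∃ k : ℕ, G.lowerCentralSeries k ≤ N := by
  intro n
  induction n using Nat.strong_induction_on with
  | _ n ih =>
  intro H _ _ s t σ τ G hn hF hGn hGA hGsol hcop hfix
  by_cases hG1 : G = ⊥
  · refine ⟨⊥, inferInstance, bot_le, ⟨0, rfl⟩, ⟨0, ?_⟩⟩
    simp [hG1]
  haveI := hGn
  obtain ⟨V, hVn, hVG, hV1, hVmin⟩ := Cfsg.Agent.Helper1.Ward.exists_minimal_normal_le G hG1
  haveI := hVn
  -- the quotient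
  let π : H →* H ⧸ V := QuotientGroup.mk' V
  have hπsurj : Function.Surjective π := QuotientGroup.mk'_surjective V
  have hker : π.ker = V := QuotientGroup.ker_mk' V
  have hcopV : (Nat.card V).Coprime (s * t) :=
    Nat.Coprime.coprime_dvd_left (Subgroup.card_dvd_of_le hVG) hcop
  have hF' : FrobPair s t (π σ) (π τ) := frobPair_map_mk hF V hcopV
  have hGn' : (G.map π).Normal := hGn.map π hπsurj
  have hGA' : G.map π ⊔ closure {π σ, π τ} = ⊤ := by
    have e : closure ({π σ, π τ} : Set (H ⧸ V)) = (closure ({σ, τ} : Set H)).map π := by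
      rw [MonoidHom.map_closure, Set.image_pair]
    rw [e, ← Subgroup.map_sup, hGA, ← MonoidHom.range_eq_map, MonoidHom.range_eq_top]
    exact hπsurj
  have hsurjG : Function.Surjective (π.subgroupMap G) := π.subgroupMap_surjective G
  have hGsol' : Group.IsSolvable (G.map π) := solvable_of_surjective hsurjG
  have hcarddvd : Nat.card (G.map π) ∣ Nat.card G := Subgroup.card_dvd_of_surjective _ hsurjG
  have hcop' : (Nat.card (G.map π)).Coprime (s * t) :=
    Nat.Coprime.coprime_dvd_left hcarddvd hcop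
  have hVinv : Inv σ τ V := by
    constructor
    · exact (Subgroup.normalizer_eq_top (H := V)) ▸ mem_top σ
    · exact (Subgroup.normalizer_eq_top (H := V)) ▸ mem_top τ
  have hfix' : Fix (π σ) (π τ) (G.map π) = ⊥ := by
    rw [eq_bot_iff]
    rintro y ⟨⟨g, hgG, rfl⟩, hyc⟩
    rw [mem_bot]
    have hx : ∀ a : H, π a * π g = π g * π a → g⁻¹ * (a * g * a⁻¹) ∈ V := by
      intro a hc
      have : π (g⁻¹ * (a * g * a⁻¹)) = 1 := by
        rw [map_mul, map_mul, map_mul, map_inv, map_inv, hc]
        group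
      rw [← MonoidHom.mem_ker, hker] at this
      exact this
    have hσg := hx σ (hyc (π σ) (by simp))
    have hτg := hx τ (hyc (π τ) (by simp))
    obtain ⟨v, hvV, hσv, hτv⟩ :=
      Cfsg.Agent.Helper25.PQ.pq_fixed_lift hF V hVinv hcopV g hσg hτg
    have hgvG : g * v ∈ G := G.mul_mem hgG (hVG hvV)
    have hgvC : g * v ∈ centralizer ({σ, τ} : Set H) := by
      rw [mem_centralizer_iff]
      intro a ha
      rcases ha with rfl | ha
      · calc a * (g * v) = (a * (g * v) * a⁻¹) * a := by group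
          _ = g * v * a := by rw [hσv]
      · rw [Set.mem_singleton_iff] at ha
        subst ha
        calc a * (g * v) = (a * (g * v) * a⁻¹) * a := by group
          _ = g * v * a := by rw [hτv]
    have hgv1 : g * v = 1 := by
      have : g * v ∈ Fix σ τ G := ⟨hgvG, hgvC⟩
      rw [hfix, mem_bot] at this
      exact this
    have hgV : g ∈ V := by
      have : g = v⁻¹ := eq_inv_of_mul_eq_one_left hgv1
      rw [this]
      exact V.inv_mem hvV
    show π g = 1
    rw [← MonoidHom.mem_ker, hker]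
    exact hgV
  have hlt : Nat.card (G.map π) < n := by
    rw [← hn]
    apply Helper48.card_map_lt π G
    rw [hker, inf_eq_right.mpr hVG]
    exact hV1
  obtain ⟨N', hN'n, hN'G, ⟨k₁, hk₁⟩, ⟨k₂, hk₂⟩⟩ :=
    ih _ hlt (H ⧸ V) s t (π σ) (π τ) (G.map π) rfl hF' hGn' hGA' hGsol' hcop' hfix'
  -- pull back
  set N : Subgroup H := N'.comap π with hN
  have hNn : N.Normal := hN'n.comap π
  have hVN : V ≤ N := by
    intro v hv
    show π v ∈ N'
    have : π v = 1 := (QuotientGroup.eq_one_iff v).mpr hv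
    rw [this]
    exact N'.one_mem
  have hNG : N ≤ G := by
    have h1 : N ≤ (G.map π).comap π := Subgroup.comap_mono hN'G
    rw [Subgroup.comap_map_eq, hker, sup_eq_left.mpr hVG] at h1
    exact h1
  have hNmap : N.map π = N' := Subgroup.map_comap_eq_self_of_surjective hπsurj N'
  have hNk₁ : N.lowerCentralSeries k₁ ≤ V := by
    have : (N.lowerCentralSeries k₁).map π = ⊥ := by
      rw [Subgroup.map_lowerCentralSeries, hNmap, hk₁]
    rw [← hker]
    exact (Subgroup.map_eq_bot_iff _).mp this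
  have hGk₂ : G.lowerCentralSeries k₂ ≤ N := by
    rw [hN, ← Subgroup.map_le_iff_le_comap, Subgroup.map_lowerCentralSeries]
    exact hk₂
  set k := max k₁ k₂ with hk
  have hNk : N.lowerCentralSeries k ≤ V :=
    (N.lowerCentralSeries_antitone (le_max_left k₁ k₂)).trans hNk₁
  have hGk : G.lowerCentralSeries k ≤ N :=
    (G.lowerCentralSeries_antitone (le_max_right k₁ k₂)).trans hGk₂
  obtain ⟨m, hm⟩ :=
    hT H s t σ τ G V N k hF hGn hGA hGsol hcop hfix hVn hVG hV1 hVmin hNn hVN hNG hNk hGk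
  refine ⟨N ⊓ centralizer (V : Set H), inferInstance, inf_le_left.trans hNG, ⟨k + 1, ?_⟩,
    ⟨max k m, ?_⟩⟩
  · rw [Subgroup.lowerCentralSeries_succ, eq_bot_iff]
    have h1 : (N ⊓ centralizer (V : Set H)).lowerCentralSeries k ≤ V :=
      (Subgroup.lowerCentralSeries_mono k (inf_le_left : N ⊓ centralizer (V : Set H) ≤ N)).trans hNk
    have h2 : ⁅V, centralizer (V : Set H)⁆ = ⊥ := by
      rw [Subgroup.commutator_comm, Subgroup.commutator_eq_bot_iff_le_centralizer]
    exact (Subgroup.commutator_mono h1 inf_le_right).trans h2.le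
  · apply le_inf
    · exact (G.lowerCentralSeries_antitone (le_max_left k m)).trans hGk
    · exact (G.lowerCentralSeries_antitone (le_max_right k m)).trans hm

/-- **(AM)** of #5134: the ambient theorem from the chief factor step. -/
theorem ambient_of_t1 (hT : PQT1Stmt.{v}) : PQAmbientStmt.{v} := by
  intro H _ _ s t σ τ G hF hGn hGA hGsol hcop hfix
  exact ambient_aux hT (Nat.card G) H s t σ τ G rfl hF hGn hGA hGsol hcop hfix

end Cfsg.Agent.Helper49.PQ
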