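import Mathlib
import Cfsg.Prelude.Def_LocalEven
import Cfsg.Agent.Helper49.Kieler
import Cfsg.Agent.Helper49.RConj
import Cfsg.Agent.Helper49.SylowExtra
import Cfsg.Agent.Helper91.Subnormal
import Cfsg.Agent.Helper97.SylowJoin

/-!
Point stabilizers in groups of local characteristic `p` (helper49).

* `kieler_local_subnormal`: the Kieler lemma for groups of LOCAL characteristic `p` and subnormal
  subgroups `X` with `T ∩ X ≠ 1`.
* `pointStabilizer_eq_ppart`: `P_X(T ∩ X)` is generated by the `p`-elements of `C_X(Ω₁Z(T))`.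
* `ppart_sup`: the join formula.
-/

set_option autoImplicit false

namespace Cfsg.Agent.Helper49

open Cfsg

section PointStab

variable {H : Type*} [Group H] {p : ℕ}

/-- Every `p`-local subgroup of `Y` has characteristic `p` (ambient form). -/
def LocCharPIn (p : ℕ) (Y : Subgroup H) : Prop :=
  ∀ R : Subgroup H, R ≤ Y → IsPGroup p R → R ≠ ⊥ →
    CharPIn p (Subgroup.normalizer (R : Set H) ⊓ Y)

theorem locCharPIn_top (hH : Cfsg.IsOfLocalCharacteristic p H) :
    LocCharPIn p (⊤ : Subgroup H) := by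
  intro R _ hR hR1
  rw [inf_top_eq]
  exact (charPIn_iff _).mpr (hH.2 R hR hR1)

variable [Finite H] [hp : Fact p.Prime]

theorem locCharPIn_of_normal {Y X : Subgroup H} (hY : LocCharPIn p Y) (hXY : X ≤ Y)
    (hn : Y ≤ Subgroup.normalizer (X : Set H)) : LocCharPIn p X := by
  intro R hRX hR hR1
  have hM := hY R (hRX.trans hXY) hR hR1
  refine charPIn_of_normalized hM (inf_le_inf_left _ hXY) ?_
  refine (coreIn_le _).trans ?_
  exact le_normalizer_inf' (inf_le_left.trans Subgroup.le_normalizer) (inf_le_right.trans hn)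

theorem locCharPIn_of_isSubnormal (hH : Cfsg.IsOfLocalCharacteristic p H) {X : Subgroup H}
    (hX : X.IsSubnormal) : LocCharPIn p X := by
  induction hX with
  | top => exact locCharPIn_top hH
  | step X K hle _ hn ih =>
    exact locCharPIn_of_normal ih hle ((Subgroup.normal_subgroupOf_iff_le_normalizer hle).mp hn)

/-- `Ω₁Z(T) ≠ 1` for a nontrivial `p`-subgroup `T`. -/
theorem oz_ne_bot {T : Subgroup H} (hT : IsPGroup p T) (hT1 : T ≠ ⊥) : oz p T ≠ ⊥ := by
  have : Nontrivial ↥T := (Subgroup.nontrivial_iff_ne_bot T).mpr hT1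
  have : Nontrivial (Subgroup.center ↥T) := hT.center_nontrivial
  obtain ⟨z, hz⟩ := exists_ne (1 : Subgroup.center ↥T)
  have hzc : ∀ y : ↥T, y * (z : ↥T) = (z : ↥T) * y := fun y =>
    (Subgroup.mem_center_iff.mp z.2 y)
  set Q : Subgroup H := T ⊓ Subgroup.centralizer (T : Set H) with hQ
  have hzQ : ((z : ↥T) : H) ∈ Q := by
    refine Subgroup.mem_inf.mpr ⟨(z : ↥T).2, ?_⟩
    rw [Subgroup.mem_centralizer_iff]
    intro y hy
    have := congrArg Subtype.val (hzc ⟨y, hy⟩)
    simpa using this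
  have hQ1 : Q ≠ ⊥ := by
    intro h0
    rw [h0, Subgroup.mem_bot] at hzQ
    apply hz
    apply Subtype.ext
    apply Subtype.ext
    simpa using hzQ
  have hQp : IsPGroup p Q := hT.to_inf_left
  obtain ⟨a, haQ, hao⟩ := exists_orderOf_eq_of_isPGroup hQp hQ1
  have ha : a ∈ oz p T := by
    rw [mem_oz_iff]
    refine ⟨haQ.1, ?_, ?_⟩
    · intro y hy
      exact (Subgroup.mem_centralizer_iff.mp haQ.2) y hy
    · rw [← hao]; exact pow_orderOf_eq_one a
  intro h0
  rw [h0, Subgroup.mem_bot] at ha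
  rw [ha, orderOf_one] at hao
  exact hp.out.one_lt.ne hao

omit [Finite H] hp in
theorem oz_isPGroup (X : Subgroup H) : IsPGroup p (oz p X) := by
  intro x
  refine ⟨1, ?_⟩
  apply Subtype.ext
  have := (oz_isElementaryAbelian (p := p) X).2 x.1 x.2
  simpa using this

omit [Finite H] hp in
theorem oz_le (X : Subgroup H) : oz p X ≤ X := fun _ hx => (mem_oz_iff.mp hx).1

omit [Finite H] hp in
theorem le_centralizer_oz (T : Subgroup H) : T ≤ Subgroup.centralizer (oz p T : Set H) := by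
  intro τ hτ
  rw [Subgroup.mem_centralizer_iff]
  intro z hz
  exact ((mem_oz_iff.mp hz).2.1 τ hτ).symm

/-- **Kieler lemma, local characteristic `p`, normal case** (ambient form). -/
theorem kieler_local_normal {Y X T : Subgroup H} (hY : LocCharPIn p Y) (hT : IsSylowOf p T Y)
    (hXY : X ≤ Y) (hXn : Y ≤ Subgroup.normalizer (X : Set H)) (hne : T ⊓ X ≠ ⊥) :
    X ⊓ Subgroup.centralizer (oz p T : Set H) =
      X ⊓ Subgroup.centralizer (oz p (T ⊓ X) : Set H) := by
  have hTY : T ≤ Y := hT.1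
  have hTp : IsPGroup p T := hT.2.1
  have hT1 : T ≠ ⊥ := fun h0 => hne (by rw [h0, bot_inf_eq])
  have hTnX : T ≤ Subgroup.normalizer (X : Set H) := hTY.trans hXn
  have hTnTX : T ≤ Subgroup.normalizer ((T ⊓ X : Subgroup H) : Set H) :=
    le_normalizer_inf' Subgroup.le_normalizer hTnX
  -- the general step: for a `p`-local `M = N(R) ∩ Y` containing `T`
  have step : ∀ R : Subgroup H, R ≤ Y → IsPGroup p R → R ≠ ⊥ →
      T ≤ Subgroup.normalizer (R : Set H) →
      X ⊓ (Subgroup.normalizer (R : Set H) ⊓ Y) ⊓ Subgroup.centralizer (oz p T : Set H) =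
        X ⊓ (Subgroup.normalizer (R : Set H) ⊓ Y) ⊓
          Subgroup.centralizer (oz p (T ⊓ X) : Set H) := by
    intro R hRY hRp hR1 hTR
    set M : Subgroup H := Subgroup.normalizer (R : Set H) ⊓ Y with hM
    have hMc : CharPIn p M := hY R hRY hRp hR1
    have hTM : IsSylowOf p T M := hT.mono_right (le_inf hTR hTY) inf_le_right
    have hLn : M ≤ Subgroup.normalizer ((X ⊓ M : Subgroup H) : Set H) :=
      le_normalizer_inf' (inf_le_right.trans hXn) Subgroup.le_normalizer
    have := kieler_normal hMc hTM (inf_le_right : X ⊓ M ≤ M) hLn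
    have e : T ⊓ (X ⊓ M) = T ⊓ X := by
      rw [← inf_assoc]
      exact inf_eq_left.mpr (inf_le_left.trans hTM.1)
    rwa [e] at this
  have hZ1 : oz p T ≠ ⊥ := oz_ne_bot hTp hT1
  have hZ2 : oz p (T ⊓ X) ≠ ⊥ := oz_ne_bot hTp.to_inf_left hne
  have s1 := step (oz p T) ((oz_le T).trans hTY) (oz_isPGroup T) hZ1
    (Subgroup.le_normalizer.trans (normalizer_le_normalizer_oz T))
  have s2 := step (oz p (T ⊓ X)) ((oz_le _).trans (inf_le_left.trans hTY)) (oz_isPGroup _) hZ2
    (hTnTX.trans (normalizer_le_normalizer_oz _))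
  apply le_antisymm
  · rintro x ⟨hxX, hxC⟩
    have hx : x ∈ X ⊓ (Subgroup.normalizer (oz p T : Set H) ⊓ Y) ⊓
        Subgroup.centralizer (oz p T : Set H) :=
      Subgroup.mem_inf.mpr ⟨Subgroup.mem_inf.mpr ⟨hxX, Subgroup.mem_inf.mpr
        ⟨Subgroup.centralizer_le_normalizer _ hxC, hXY hxX⟩⟩, hxC⟩
    rw [s1] at hx
    exact Subgroup.mem_inf.mpr ⟨hxX, hx.2⟩
  · rintro x ⟨hxX, hxC⟩
    have hx : x ∈ X ⊓ (Subgroup.normalizer (oz p (T ⊓ X) : Set H) ⊓ Y) ⊓
        Subgroup.centralizer (oz p (T ⊓ X) : Set H) :=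
      Subgroup.mem_inf.mpr ⟨Subgroup.mem_inf.mpr ⟨hxX, Subgroup.mem_inf.mpr
        ⟨Subgroup.centralizer_le_normalizer _ hxC, hXY hxX⟩⟩, hxC⟩
    rw [← s2] at hx
    exact Subgroup.mem_inf.mpr ⟨hxX, hx.2⟩

/-- **Kieler lemma for groups of local characteristic `p`** and subnormal subgroups. -/
theorem kieler_local_subnormal (hH : Cfsg.IsOfLocalCharacteristic p H) (T : Sylow p H)
    {X : Subgroup H} (hX : X.IsSubnormal) (hne : (T : Subgroup H) ⊓ X ≠ ⊥) :
    X ⊓ Subgroup.centralizer (oz p (T : Subgroup H) : Set H) =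
      X ⊓ Subgroup.centralizer (oz p ((T : Subgroup H) ⊓ X) : Set H) := by
  induction hX with
  | top =>
    rw [inf_top_eq]
  | step X K hle hK hn ih =>
    have hneK : (T : Subgroup H) ⊓ K ≠ ⊥ := by
      intro h0
      apply hne
      rw [eq_bot_iff, ← h0]
      exact inf_le_inf_left _ hle
    have ihK := ih hneK
    have hKloc : LocCharPIn p K := locCharPIn_of_isSubnormal hH hK
    have hTK : IsSylowOf p ((T : Subgroup H) ⊓ K) K := isSylowOf_inf_of_isSubnormal T hK
    have e : (T : Subgroup H) ⊓ K ⊓ X = (T : Subgroup H) ⊓ X := by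
      rw [inf_assoc, inf_eq_right.mpr hle]
    have hn' : K ≤ Subgroup.normalizer (X : Set H) :=
      (Subgroup.normal_subgroupOf_iff_le_normalizer hle).mp hn
    have key := kieler_local_normal hKloc hTK hle hn' (by rw [e]; exact hne)
    rw [e] at key
    rw [← key]
    ext x
    constructor
    · rintro ⟨hxX, hxC⟩
      have : x ∈ K ⊓ Subgroup.centralizer (oz p (T : Subgroup H) : Set H) :=
        Subgroup.mem_inf.mpr ⟨hle hxX, hxC⟩
      rw [ihK] at this
      exact Subgroup.mem_inf.mpr ⟨hxX, this.2⟩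
    · rintro ⟨hxX, hxC⟩
      have : x ∈ K ⊓ Subgroup.centralizer (oz p ((T : Subgroup H) ⊓ K) : Set H) :=
        Subgroup.mem_inf.mpr ⟨hle hxX, hxC⟩
      rw [← ihK] at this
      exact Subgroup.mem_inf.mpr ⟨hxX, this.2⟩

/-- The subgroup generated by the `p`-elements of `C_X(Ω₁Z(T))`. -/
def ppart (p : ℕ) (T X : Subgroup H) : Subgroup H :=
  Subgroup.closure {x : H | x ∈ X ⊓ Subgroup.centralizer (oz p T : Set H) ∧
    ∃ k : ℕ, orderOf x = p ^ k}

omit [Finite H] hp in
theorem ppart_mono (T : Subgroup H) {X X' : Subgroup H} (h : X ≤ X') :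
    ppart p T X ≤ ppart p T X' := by
  apply Subgroup.closure_mono
  rintro x ⟨hx, hk⟩
  exact ⟨Subgroup.mem_inf.mpr ⟨h hx.1, hx.2⟩, hk⟩

omit [Finite H] hp in
theorem ppart_le (T X : Subgroup H) :
    ppart p T X ≤ X ⊓ Subgroup.centralizer (oz p T : Set H) := by
  rw [ppart, Subgroup.closure_le]
  rintro x ⟨hx, _⟩
  exact hx

omit [Finite H] hp in
/-- `ppart` is normalized by `C_X(Ω₁Z(T))`. -/
theorem le_normalizer_ppart (T X : Subgroup H) :
    X ⊓ Subgroup.centralizer (oz p T : Set H) ≤ Subgroup.normalizer (ppart p T X : Set H) := by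
  have key : ∀ g ∈ X ⊓ Subgroup.centralizer (oz p T : Set H), ∀ x ∈ ppart p T X,
      g * x * g⁻¹ ∈ ppart p T X := by
    intro g hg x hx
    have hmap : (ppart p T X).map (MulAut.conj g).toMonoidHom ≤ ppart p T X := by
      rw [ppart, MonoidHom.map_closure, Subgroup.closure_le]
      rintro _ ⟨y, ⟨hy, k, hk⟩, rfl⟩
      apply Subgroup.subset_closure
      refine ⟨?_, k, ?_⟩
      · simp only [MulEquiv.coe_toMonoidHom, MulAut.conj_apply]
        exact Subgroup.mul_mem _ (Subgroup.mul_mem _ hg hy) (Subgroup.inv_mem _ hg)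
      · rw [← hk]
        exact orderOf_injective (MulAut.conj g).toMonoidHom (MulAut.conj g).injective y
    apply hmap
    exact ⟨x, hx, by simp [MulAut.conj_apply]⟩
  intro g hg
  rw [Subgroup.mem_normalizer_iff]
  intro x
  refine ⟨key g hg x, fun hx => ?_⟩
  have := key g⁻¹ (Subgroup.inv_mem _ hg) _ hx
  have e : g⁻¹ * (g * x * g⁻¹) * g⁻¹⁻¹ = x := by group
  rwa [e] at this

/-- The point stabilizer of a subnormal subgroup `X` with respect to `T ∩ X` is generated by the
`p`-elements of `C_X(Ω₁Z(T))`. -/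
theorem pointStabilizer_eq_ppart (hH : Cfsg.IsOfLocalCharacteristic p H) (T : Sylow p H)
    {X : Subgroup H} (hX : X.IsSubnormal) :
    Cfsg.pointStabilizer p X ((T : Subgroup H) ⊓ X) = ppart p (T : Subgroup H) X := by
  by_cases hne : (T : Subgroup H) ⊓ X = ⊥
  · -- `X` is a `p'`-group
    have hS : IsSylowOf p ((T : Subgroup H) ⊓ X) X := isSylowOf_inf_of_isSubnormal T hX
    have hnd : ¬ p ∣ Nat.card X := by
      have := hS.2.2
      rwa [hne, Subgroup.relIndex_bot_left] at this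
    have hone : ∀ x ∈ X, (∃ k : ℕ, orderOf x = p ^ k) → x = 1 := by
      rintro x hx ⟨k, hk⟩
      have hd : orderOf x ∣ Nat.card X := by
        have := orderOf_dvd_natCard (⟨x, hx⟩ : ↥X)
        rwa [Subgroup.orderOf_mk] at this
      rcases Nat.eq_zero_or_pos k with rfl | hkpos
      · rw [pow_zero] at hk
        exact orderOf_eq_one_iff.mp hk
      · exfalso
        apply hnd
        refine dvd_trans ?_ hd
        rw [hk]
        exact dvd_pow_self p hkpos.ne'
    have h1 : Cfsg.pointStabilizer p X ((T : Subgroup H) ⊓ X) = ⊥ := by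
      rw [eq_bot_iff, Cfsg.pointStabilizer, Subgroup.closure_le]
      rintro x ⟨hx, hk⟩
      rw [hone x hx.1 hk]
      exact Subgroup.one_mem _
    have h2 : ppart p (T : Subgroup H) X = ⊥ := by
      rw [eq_bot_iff, ppart, Subgroup.closure_le]
      rintro x ⟨hx, hk⟩
      rw [hone x hx.1 hk]
      exact Subgroup.one_mem _
    rw [h1, h2]
  · have key := kieler_local_subnormal hH T hX hne
    unfold Cfsg.pointStabilizer ppart
    unfold oz at key ⊢
    rw [key]

/-- A relatively subnormal subgroup containing a Sylow `p`-subgroup contains all `p`-elements. -/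
theorem mem_of_relSN_of_sylow_le {A Y P : Subgroup H} (hA : Cfsg.Agent.Helper91.RelSN A Y)
    (hP : IsSylowOf p P Y) (hPA : P ≤ A) {x : H} (hx : x ∈ Y) (hxp : ∃ k : ℕ, orderOf x = p ^ k) :
    x ∈ A := by
  induction hA with
  | refl => exact hx
  | step A K Y hAK hKn _ ih =>
    have hxK : x ∈ K := ih hP (hPA.trans hAK) hx
    have hKY : K ≤ Y := by
      rename_i h
      exact h.le
    have hPK : IsSylowOf p P K := hP.mono_right (hPA.trans hAK) hKY
    obtain ⟨k, hk⟩ := hxp
    have hQp : IsPGroup p (Subgroup.zpowers x) := by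
      apply IsPGroup.of_card (n := k)
      rw [Nat.card_zpowers, hk]
    have hQK : Subgroup.zpowers x ≤ K := by
      rw [Subgroup.zpowers_le]; exact hxK
    obtain ⟨P', hP', hQP'⟩ := Cfsg.Agent.Helper46.IsSylIn.exists_of_pgroup hQK hQp
    obtain ⟨g, hg, rfl⟩ := hPK.isSylIn.exists_conj hP'
    obtain ⟨y, hy, hyx⟩ := hQP' (Subgroup.mem_zpowers x)
    have hyA : y ∈ A := hPA hy
    have : g * y * g⁻¹ ∈ A := (Subgroup.mem_normalizer_iff.mp (hKn hg) y).mp hyA
    rw [← hyx]
    simpa [MulAut.conj_apply] using this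

/-- **Join formula** for `ppart` of subnormal subgroups. -/
theorem ppart_sup (T : Sylow p H) {L₁ L₂ : Subgroup H} (h₁ : L₁.IsSubnormal)
    (h₂ : L₂.IsSubnormal) :
    ppart p (T : Subgroup H) (L₁ ⊔ L₂) =
      ppart p (T : Subgroup H) L₁ ⊔ ppart p (T : Subgroup H) L₂ := by
  set C : Subgroup H := Subgroup.centralizer (oz p (T : Subgroup H) : Set H) with hC
  set A₁ := ppart p (T : Subgroup H) L₁ with hA₁
  set A₂ := ppart p (T : Subgroup H) L₂ with hA₂
  have hL : (L₁ ⊔ L₂).IsSubnormal := Cfsg.Agent.Helper9.isSubnormal_sup h₁ h₂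
  have hTC : (T : Subgroup H) ≤ C := le_centralizer_oz _
  apply le_antisymm
  · -- the hard inclusion
    -- relative subnormality of `A₁ ⊔ A₂` in `C`
    have hrel : ∀ {L : Subgroup H}, L.IsSubnormal →
        Cfsg.Agent.Helper91.RelSN (ppart p (T : Subgroup H) L) C := by
      intro L hLs
      have r1 : Cfsg.Agent.Helper91.RelSN (L ⊓ C) C := by
        have := (Cfsg.Agent.Helper91.relSN_top_iff.mpr hLs).inf_right C
        rwa [top_inf_eq] at this
      exact (Cfsg.Agent.Helper91.RelSN.of_normal (ppart_le _ L) (le_normalizer_ppart _ L)).trans r1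
    have hA₁C : A₁ ≤ C := (ppart_le _ L₁).trans inf_le_right
    have hA₂C : A₂ ≤ C := (ppart_le _ L₂).trans inf_le_right
    have hsub : Cfsg.Agent.Helper91.RelSN (A₁ ⊔ A₂) C := by
      have s1 := Cfsg.Agent.Helper91.isSubnormal_subgroupOf_of_relSN (hrel h₁)
      have s2 := Cfsg.Agent.Helper91.isSubnormal_subgroupOf_of_relSN (hrel h₂)
      have s := Cfsg.Agent.Helper9.isSubnormal_sup s1 s2
      have := Cfsg.Agent.Helper91.relSN_map_of_isSubnormal s
      rwa [Subgroup.map_sup, Subgroup.map_subgroupOf_eq_of_le hA₁C,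
        Subgroup.map_subgroupOf_eq_of_le hA₂C] at this
    set Y : Subgroup H := (L₁ ⊔ L₂) ⊓ C with hY
    have hAY : A₁ ⊔ A₂ ≤ Y := by
      apply sup_le
      · exact (ppart_le _ L₁).trans (inf_le_inf_right _ le_sup_left)
      · exact (ppart_le _ L₂).trans (inf_le_inf_right _ le_sup_right)
    have hsubY : Cfsg.Agent.Helper91.RelSN (A₁ ⊔ A₂) Y := hsub.mono hAY inf_le_right
    -- the Sylow subgroup
    have hS : IsSylowOf p ((T : Subgroup H) ⊓ (L₁ ⊔ L₂)) (L₁ ⊔ L₂) :=
      isSylowOf_inf_of_isSubnormal T hL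
    have hSY : IsSylowOf p ((T : Subgroup H) ⊓ (L₁ ⊔ L₂)) Y :=
      hS.mono_right (le_inf inf_le_right (inf_le_left.trans hTC)) inf_le_left
    have hTA : ∀ {L : Subgroup H}, L ⊓ (T : Subgroup H) ≤ ppart p (T : Subgroup H) L := by
      intro L x hx
      apply Subgroup.subset_closure
      refine ⟨Subgroup.mem_inf.mpr ⟨hx.1, hTC hx.2⟩, ?_⟩
      obtain ⟨k, hk⟩ := (IsPGroup.iff_orderOf.mp T.isPGroup') ⟨x, hx.2⟩
      exact ⟨k, by rwa [Subgroup.orderOf_mk] at hk⟩
    have hSA : (T : Subgroup H) ⊓ (L₁ ⊔ L₂) ≤ A₁ ⊔ A₂ := by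
      rw [inf_comm, Cfsg.Agent.Helper97.sup_inf_sylow_eq T h₁ h₂]
      exact sup_le_sup hTA hTA
    rw [ppart, Subgroup.closure_le]
    rintro x ⟨hx, hk⟩
    exact mem_of_relSN_of_sylow_le hsubY hSY hSA hx hk
  · exact sup_le (ppart_mono _ le_sup_left) (ppart_mono _ le_sup_right)

end PointStab

end Cfsg.Agent.Helper49
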