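import Mathlib
import Cfsg.Agent.Helper5.SuBN.Main
import Cfsg.Agent.Helper6.BN
import Cfsg.Agent.Helper9.PronAU.Defs

/-!
Helper49: leaf (NB) of helper9's farm #15335 (BLOCK AU of S2225/S2226): the normaliser of the upper
unitriangular group `Usub` of helper5's `UG n σ` lies in the Borel subgroup `Bsub` (as `h10` in the proof
of `Cfsg.Agent.Helper5.SuBN.Main.steinberg_UG`).
-/

set_option autoImplicit false
set_option linter.unusedSectionVars false
set_option linter.unusedVariables false

namespace Cfsg.Agent.Helper49.PronAU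

open Matrix Cfsg.Agent.Helper5.SuBN Cfsg.Agent.Helper5.SuBN.Pair Cfsg.Agent.Helper5.SuBN.Main
  Cfsg.Agent.Helper9.PronAU

section matrix

variable {F : Type*} [Field F] {n : ℕ} {σ : F →+* F}

/-- (NB) the normaliser of `U` lies in `B` -/
theorem normalizer_Usub_le (hσ : ∀ x, σ (σ x) = x) (c : F) (hc0 : c ≠ 0) (hc : σ c = -c) :
    Subgroup.normalizer ((Usub n σ : Subgroup (UG n σ)) : Set (UG n σ)) ≤ Bsub n σ := by
  intro g hg
  set P' : Cfsg.BNPair (UG n σ) := bnPair (n := n) hσ c hc0 hc with hP'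
  have hdec : ∀ s : P'.S, ∀ b ∈ P'.B, ∃ y x : UG n σ, b = y * x ∧ s.1 * y * s.1⁻¹ ∈ P'.B ∧
      x ∈ Xset σ (Classical.choose s.2) :=
    fun s b hb => exists_factor hσ c hc0 hc (Classical.choose s.2) s.1 (Classical.choose_spec s.2) b hb
  exact mem_B_of_conj_gen P' (fun s => Xset σ (Classical.choose s.2)) hdec (Usub n σ)
    (fun b hb u hu => conj_mem_Usub b hb u hu) (fun s => Xset_subset_Usub _) g
    (fun u hu => Usub_le_Bsub ((Subgroup.mem_normalizer_iff''.mp hg u).mp hu))

end matrix

end Cfsg.Agent.Helper49.PronAU
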