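import Cfsg.Agent.Helper71.PsuA.Defs
import Cfsg.Agent.Helper96.StemSLTwoA

/-!
Helper49: piece (CQ) of helper71's farm #15135 (S2089 block A, `p'`-part): a cyclic or generalised
quaternion subgroup `P` is `Good` for every stem extension (adapted from
`Cfsg.Agent.Helper96.StemSLTwo.ker_pow_index_of_isCyclic` / `ker_pow_index_of_quaternion`).
-/

set_option autoImplicit false

namespace Cfsg.Agent.Helper49.PsuA

open scoped commutatorElement
open Subgroup Cfsg.Agent.Helper96.StemBound Cfsg.Agent.Helper96.StemSLTwo Cfsg.Agent.Helper71.PsuA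

theorem CQ_good_of_isCyclic {Γ G : Type*} [Group Γ] [Group G] (τ : Γ →* G)
    (hτ : Cfsg.IsStemExtension τ) (P : Subgroup G) (hc : IsCyclic P) : Good τ P := by
  obtain ⟨g, hg⟩ := hc.exists_generator
  have hP : P = zpowers (g : G) := by
    ext x
    constructor
    · intro hx
      have := hg ⟨x, hx⟩
      rw [Subgroup.mem_zpowers_iff] at this ⊢
      obtain ⟨k, hk⟩ := this
      exact ⟨k, by have := congrArg Subtype.val hk; simpa using this⟩
    · intro hx
      rw [Subgroup.mem_zpowers_iff] at hx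
      obtain ⟨k, rfl⟩ := hx
      exact zpow_mem g.2 k
  unfold Good
  rw [hP, commutator_comap_zpowers τ hτ (g : G), inf_bot_eq]

theorem CQ_good_of_quaternion {Γ G : Type*} [Group Γ] [Group G] (τ : Γ →* G)
    (hτ : Cfsg.IsStemExtension τ) (P : Subgroup G) (n : ℕ) [NeZero n]
    (φ : P ≃* QuaternionGroup n) : Good τ P := by
  set ψ : QuaternionGroup n →* G := P.subtype.comp φ.symm.toMonoidHom with hψ
  have hψinj : Function.Injective ψ := by
    rw [hψ]
    exact (Subgroup.subtype_injective P).comp φ.symm.injective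
  have hψP : ∀ g ∈ P, ∃ w, g = ψ w := by
    intro g hg
    refine ⟨φ ⟨g, hg⟩, ?_⟩
    simp [hψ]
  obtain ⟨r, hr⟩ := hτ.1 (ψ (QuaternionGroup.a 1))
  obtain ⟨s, hs⟩ := hτ.1 (ψ (QuaternionGroup.xa 0))
  have hnorm : τ s * τ r * (τ s)⁻¹ ∈ zpowers (τ r) := by
    rw [hr, hs, ← map_inv, ← map_mul, ← map_mul, quat_conj, map_inv]
    exact inv_mem (Subgroup.mem_zpowers _)
  have hPf : ∀ g ∈ P, g ∈ zpowers (τ r) ∨ (τ s)⁻¹ * g ∈ zpowers (τ r) := by
    intro g hg
    obtain ⟨w, rfl⟩ := hψP g hg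
    rw [hr, hs]
    rcases quat_forms n w with ⟨i, rfl⟩ | ⟨i, rfl⟩
    · left
      rw [map_pow]; exact Subgroup.npow_mem_zpowers _ _
    · right
      rw [map_mul, map_pow, inv_mul_cancel_left]; exact Subgroup.npow_mem_zpowers _ _
  have hle := commutator_comap_le_zpowers τ hτ r s P hPf hnorm
  have hcn : ⁅r, s⁆ ^ n = 1 := by
    apply commElt_pow_eq_one_of_sq τ hτ r s hnorm 0 n
    rw [hr, hs, pow_zero, mul_one, ← map_pow, ← map_pow, QuaternionGroup.xa_sq,
      QuaternionGroup.a_one_pow]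
  have hord : orderOf (τ ⁅r, s⁆) = n := by
    rw [map_commutatorElement, hr, hs, ← map_commutatorElement, orderOf_injective ψ hψinj,
      quat_orderOf_comm]
  unfold Good
  rw [eq_bot_iff]
  rintro z ⟨hz1, hz2⟩
  have h1 := hle hz2
  have h2 := mem_zpowers_pow_of_mem_ker τ ⁅r, s⁆ hz1 h1
  rw [hord, hcn, Subgroup.zpowers_one_eq_bot] at h2
  exact h2

/-- (CQ) -/
theorem good_of_cyclic_or_quaternion {Γ G : Type*} [Group Γ] [Group G] [Finite Γ] (τ : Γ →* G)
    (hτ : Cfsg.IsStemExtension τ) (P : Subgroup G)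
    (hP : IsCyclic P ∨ ∃ k : ℕ, Nonempty (P ≃* QuaternionGroup (2 ^ k))) : Good τ P := by
  rcases hP with hc | ⟨k, ⟨φ⟩⟩
  · exact CQ_good_of_isCyclic τ hτ P hc
  · have : NeZero (2 ^ k) := ⟨pow_ne_zero k two_ne_zero⟩
    exact CQ_good_of_quaternion τ hτ P (2 ^ k) φ

end Cfsg.Agent.Helper49.PsuA
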