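import Cfsg.Agent.Helper49.PsuM_RED

/-!
Helper49: piece (RED') of helper71's farm #15135 (S2089 block A, `p'`-part): reduction of `NoStemP'`
to kernels of prime order (copy of the argument of `Cfsg.Agent.Helper49.PsuM.noStem_of`).
-/

set_option autoImplicit false
set_option linter.unusedSectionVars false
set_option linter.unusedVariables false

namespace Cfsg.Agent.Helper49.PsuA

open scoped commutatorElement
open Cfsg.Agent.Helper43.PsuM Cfsg.Agent.Helper49.PsuM

universe u

/-- a stem extension whose kernel has order divisible by the prime `r` has a quotient which is a stem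
extension with kernel of order `r` (in the same universe) -/
theorem REDp_exists_stem_card {G : Type u} [Group G] [Finite G] (r : ℕ) [Fact r.Prime]
    (Γ : Type u) [Group Γ] [Finite Γ] (τ : Γ →* G) (hst : Cfsg.IsStemExtension τ)
    (hdiv : r ∣ Nat.card τ.ker) :
    ∃ (Γ' : Type u) (_ : Group Γ') (_ : Finite Γ') (τ' : Γ' →* G),
      Cfsg.IsStemExtension τ' ∧ Nat.card τ'.ker = r := by
  obtain ⟨hτ, hcen, hcomm⟩ := hst
  let _ : CommGroup τ.ker :=
    { (inferInstance : Group τ.ker) with
      mul_comm := fun a b => by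
        apply Subtype.ext
        have := Subgroup.mem_center_iff.mp (hcen a.2) b
        exact this.symm }
  obtain ⟨B, hB⟩ := RED_exists_index_p (A := τ.ker) r hdiv
  set A₀ : Subgroup Γ := B.map τ.ker.subtype with hA₀
  have hA₀le : A₀ ≤ τ.ker := by
    rw [hA₀]
    exact Subgroup.map_subtype_le B
  have hA₀card : Nat.card τ.ker = r * Nat.card A₀ := by
    have e := Subgroup.card_mul_index B
    rw [hB] at e
    rw [hA₀, Subgroup.card_map_of_injective τ.ker.subtype_injective, ← e, mul_comm]
  have hA₀n : A₀.Normal := by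
    refine ⟨fun n hn g => ?_⟩
    have hc := Subgroup.mem_center_iff.mp (hcen (hA₀le hn)) g
    rw [hc, mul_inv_cancel_right]
    exact hn
  let τ' : Γ ⧸ A₀ →* G := QuotientGroup.lift A₀ τ hA₀le
  have hτ' : Function.Surjective τ' := by
    intro x
    obtain ⟨g, rfl⟩ := hτ x
    exact ⟨QuotientGroup.mk g, rfl⟩
  have hker' : τ'.ker = τ.ker.map (QuotientGroup.mk' A₀) := QuotientGroup.ker_lift A₀ τ hA₀le
  have hst' : Cfsg.IsStemExtension τ' := by
    refine ⟨hτ', ?_, ?_⟩
    · rw [hker']
      rintro _ ⟨g, hg, rfl⟩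
      rw [Subgroup.mem_center_iff]
      intro y
      obtain ⟨h, rfl⟩ := QuotientGroup.mk'_surjective A₀ y
      have hc := Subgroup.mem_center_iff.mp (hcen hg) h
      rw [← map_mul, ← map_mul, hc]
    · rw [hker']
      rintro _ ⟨g, hg, rfl⟩
      have hgc : g ∈ commutator Γ := hcomm hg
      rw [commutator_def] at hgc ⊢
      have := Subgroup.mem_map_of_mem (QuotientGroup.mk' A₀) hgc
      rw [Subgroup.map_commutator] at this
      exact Subgroup.commutator_mono le_top le_top this
  have hcard' : Nat.card τ'.ker = r := by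
    have e1 := Subgroup.card_eq_card_quotient_mul_card_subgroup A₀
    have e2 := Subgroup.card_eq_card_quotient_mul_card_subgroup τ.ker
    have e3 := Subgroup.card_eq_card_quotient_mul_card_subgroup τ'.ker
    rw [Nat.card_congr (QuotientGroup.quotientKerEquivOfSurjective τ hτ).toEquiv] at e2
    rw [Nat.card_congr (QuotientGroup.quotientKerEquivOfSurjective τ' hτ').toEquiv] at e3
    rw [e3, e2, hA₀card] at e1
    have hG : 0 < Nat.card G := Nat.card_pos
    have hA : 0 < Nat.card A₀ := Nat.card_pos
    have e4 : Nat.card G * (r * Nat.card A₀) = Nat.card G * (Nat.card τ'.ker * Nat.card A₀) := by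
      rw [e1]; ring
    have e5 := Nat.eq_of_mul_eq_mul_left hG e4
    exact (Nat.eq_of_mul_eq_mul_right hA e5).symm
  exact ⟨Γ ⧸ A₀, inferInstance, inferInstance, τ', hst', hcard'⟩

/-- (RED') reduction to kernels of prime order. -/
theorem noStemP'_of_forall_prime {G : Type u} [Group G] [Finite G] (p : ℕ)
    (h : ∀ r : ℕ, r.Prime → r ≠ p → NoStemP G r) : NoStemP' G p := by
  intro Γ _ _ τ hst hcop
  by_contra hne
  have hcard : Nat.card τ.ker ≠ 1 := by
    intro h1
    exact hne (Subgroup.card_eq_one.mp h1)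
  obtain ⟨r, hr, hrdvd⟩ := Nat.exists_prime_and_dvd hcard
  have hrp : r ≠ p := by
    rintro rfl
    have h1 : r ∣ Nat.gcd (Nat.card τ.ker) r := Nat.dvd_gcd hrdvd dvd_rfl
    rw [Nat.Coprime] at hcop
    rw [hcop] at h1
    exact hr.one_lt.ne' (Nat.dvd_one.mp h1)
  have : Fact r.Prime := ⟨hr⟩
  obtain ⟨Γ', _, _, τ', hst', hcard'⟩ := REDp_exists_stem_card r Γ τ hst hrdvd
  exact h r hr hrp Γ' τ' hst' hcard'

end Cfsg.Agent.Helper49.PsuA
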