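import Cfsg.Agent.Helper71.PsuA.Defs

/-!
Helper49: piece (TORG) of helper71's farm #15135 (S2089 block A, `p'`-part): two commuting
generators `x = diag(ζ, ζ⁻¹, 1)`, `y = diag(1, ζ, ζ⁻¹)` of the diagonal torus of `SU_3(q)` and the
action of `w01` on them.
-/

set_option autoImplicit false
set_option linter.unusedSectionVars false

namespace Cfsg.Agent.Helper49.PsuA

open scoped commutatorElement
open Matrix Cfsg.Agent.Helper43.PsuM Cfsg.Agent.Helper37.SU3Inv Cfsg.Agent.Helper71.PsuA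

universe u

theorem TORG_w01M_mul_dgM {F : Type*} [Field F] (a b c : F) :
    (w01M : Matrix (Fin 3) (Fin 3) F) * dgM a b c = dgM b a c * w01M := by
  ext i j
  fin_cases i <;> fin_cases j <;> simp [w01M, dgM, Matrix.mul_apply, Fin.sum_univ_three]

section concrete

variable {F : Type u} [Field F] [Fintype F] {q : ℕ} (hF : Fintype.card F = q ^ 2)
  (bar : F →+* F) (hbar : ∀ x, bar x = x ^ q)

omit [Fintype F] in
/-- conjugation by `w01` swaps the first two diagonal entries -/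
theorem TORG_w01_mul (u v : ↥(nrm F q)) :
    w01 bar hbar * dgHom bar hbar (u, v) = dgHom bar hbar (v, u) * w01 bar hbar := by
  apply SU_ext
  rw [SU_mul_val, SU_mul_val, w01_val, dgHom_val, dgHom_val, TORG_w01M_mul_dgM, mul_comm (u : Fˣ)]

omit [Fintype F] in
theorem TORG_conj (u v : ↥(nrm F q)) :
    w01 bar hbar * dgHom bar hbar (u, v) * (w01 bar hbar)⁻¹ = dgHom bar hbar (v, u) := by
  rw [TORG_w01_mul, mul_inv_cancel_right]

include hF

/-- (TORG) -/
theorem exists_torus_gens :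
    ∃ x y : ↥(Cfsg.SU 3 F q), x * y = y * x ∧
      (∀ t ∈ torus bar hbar, ∃ i j : ℤ, t = x ^ i * y ^ j) ∧
      ∃ w : ↥(Cfsg.SU 3 F q), w * x * w⁻¹ = x⁻¹ ∧ ∃ k : ℤ, w * y * w⁻¹ = x ^ k * y := by
  obtain ⟨ζ, hζ⟩ := IsCyclic.exists_generator (α := ↥(nrm F q))
  refine ⟨dgHom bar hbar (ζ, ζ⁻¹), dgHom bar hbar (1, ζ), ?_, ?_, w01 bar hbar, ?_, 1, ?_⟩
  · rw [← map_mul, ← map_mul, mul_comm]
  · rintro _ ⟨⟨u, v⟩, rfl⟩
    obtain ⟨i, rfl⟩ := Subgroup.mem_zpowers_iff.mp (hζ u)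
    obtain ⟨j, rfl⟩ := Subgroup.mem_zpowers_iff.mp (hζ v)
    refine ⟨i, i + j, ?_⟩
    rw [← map_zpow, ← map_zpow, ← map_mul]
    congr 1
    ext1
    · simp
    · simp only [Prod.pow_snd, Prod.snd_mul, _root_.inv_zpow, _root_.zpow_add]
      group
  · rw [TORG_conj, ← map_inv]
    congr 1
  · rw [TORG_conj, zpow_one, ← map_mul]
    congr 1
    ext1 <;> simp

end concrete

end Cfsg.Agent.Helper49.PsuA
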