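import Cfsg.Agent.Helper71.PsuA.Defs

/-!
Helper49: piece (TORN) of helper71's farm #15135 (S2089 block A, `p'`-part): the `3`-cycle `cyc`
normalises the diagonal torus of `SU_3(q)`, `monoP = torus * ⟨cyc⟩`, and a torus element fixed by
`cyc` is a scalar matrix.
-/

set_option autoImplicit false

namespace Cfsg.Agent.Helper49.PsuA

open scoped commutatorElement
open Matrix Cfsg.Agent.Helper43.PsuM Cfsg.Agent.Helper37.SU3Inv Cfsg.Agent.Helper71.PsuA

universe u

theorem TORN_cycM_mul_dgM {F : Type*} [Field F] (a b c : F) :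
    (cycM : Matrix (Fin 3) (Fin 3) F) * dgM a b c = dgM c a b * cycM := by
  ext i j
  fin_cases i <;> fin_cases j <;> simp [cycM, dgM, Matrix.mul_apply, Fin.sum_univ_three]

section concrete

variable {F : Type u} [Field F] [Fintype F] {q : ℕ} (hF : Fintype.card F = q ^ 2)
  (bar : F →+* F) (hbar : ∀ x, bar x = x ^ q)

omit [Fintype F] in
/-- conjugation by `cyc` rotates the diagonal entries -/
theorem TORN_cyc_mul (u v : ↥(nrm F q)) :
    cyc bar hbar * dgHom bar hbar (u, v) = dgHom bar hbar ((u * v)⁻¹, u) * cyc bar hbar := by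
  apply SU_ext
  rw [SU_mul_val, SU_mul_val, cyc_val, dgHom_val, dgHom_val, TORN_cycM_mul_dgM]
  congr 2
  simp only [Subgroup.coe_inv, Subgroup.coe_mul]
  congr 1
  group

omit [Fintype F] in
theorem TORN_conj (u v : ↥(nrm F q)) :
    cyc bar hbar * dgHom bar hbar (u, v) * (cyc bar hbar)⁻¹ = dgHom bar hbar ((u * v)⁻¹, u) := by
  rw [TORN_cyc_mul, mul_inv_cancel_right]

omit [Fintype F] in
theorem TORN_conj' (u v : ↥(nrm F q)) :
    (cyc bar hbar)⁻¹ * dgHom bar hbar (u, v) * cyc bar hbar = dgHom bar hbar (v, (u * v)⁻¹) := by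
  have h := TORN_cyc_mul bar hbar v (u * v)⁻¹
  have h2 : ((v * (u * v)⁻¹)⁻¹ : ↥(nrm F q)) = u := by
    rw [_root_.mul_inv_rev, inv_inv, mul_inv_cancel_right]
  rw [h2] at h
  rw [mul_assoc, ← h, inv_mul_cancel_left]

omit [Fintype F] in
theorem TORN_cyc_mem_normalizer : cyc bar hbar ∈ Subgroup.normalizer (torus bar hbar : Set ↥(Cfsg.SU 3 F q)) := by
  rw [Subgroup.mem_normalizer_iff]
  intro t
  constructor
  · rintro ⟨⟨u, v⟩, rfl⟩
    rw [TORN_conj]
    exact ⟨_, rfl⟩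
  · intro h
    obtain ⟨⟨u, v⟩, huv⟩ := h
    have : t = (cyc bar hbar)⁻¹ * dgHom bar hbar (u, v) * cyc bar hbar := by
      rw [huv]; group
    rw [this, TORN_conj']
    exact ⟨_, rfl⟩

omit [Fintype F] hF in
/-- (TORN) -/
theorem cyc_normalizes :
    (∀ t ∈ torus bar hbar, cyc bar hbar * t * (cyc bar hbar)⁻¹ ∈ torus bar hbar) ∧
    (∀ t ∈ torus bar hbar, (cyc bar hbar)⁻¹ * t * cyc bar hbar ∈ torus bar hbar) ∧
    (∀ g ∈ monoP bar hbar, ∃ t ∈ torus bar hbar, ∃ k : ℤ, g = t * cyc bar hbar ^ k) ∧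
    ∀ t ∈ torus bar hbar, cyc bar hbar * t * (cyc bar hbar)⁻¹ = t →
      ∀ g : ↥(Cfsg.SU 3 F q), t * g = g * t := by
  refine ⟨?_, ?_, ?_, ?_⟩
  · rintro _ ⟨⟨u, v⟩, rfl⟩
    rw [TORN_conj]
    exact ⟨_, rfl⟩
  · rintro _ ⟨⟨u, v⟩, rfl⟩
    rw [TORN_conj']
    exact ⟨_, rfl⟩
  · intro g hg
    have hLE : Subgroup.zpowers (cyc bar hbar) ≤
        Subgroup.normalizer (torus bar hbar : Set ↥(Cfsg.SU 3 F q)) := by
      rw [Subgroup.zpowers_le]
      exact TORN_cyc_mem_normalizer bar hbar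
    have hset := Subgroup.coe_mul_of_right_le_normalizer_left (torus bar hbar)
      (Subgroup.zpowers (cyc bar hbar)) hLE
    have hg' : g ∈ ((torus bar hbar ⊔ Subgroup.zpowers (cyc bar hbar) : Subgroup _) : Set _) := hg
    rw [hset] at hg'
    obtain ⟨t, ht, z, hz, rfl⟩ := hg'
    obtain ⟨k, rfl⟩ := hz
    exact ⟨t, ht, k, rfl⟩
  · rintro _ ⟨⟨u, v⟩, rfl⟩ hfix g
    have h1 : cyc bar hbar * dgHom bar hbar (u, v) = dgHom bar hbar (u, v) * cyc bar hbar := by
      have := congrArg (· * cyc bar hbar) hfix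
      simpa using this
    have h2 := congrArg (fun x : ↥(Cfsg.SU 3 F q) => (x.1).1) h1
    simp only [SU_mul_val, cyc_val, dgHom_val] at h2
    rw [TORN_cycM_mul_dgM] at h2
    -- compare entries
    have e02 := congrFun (congrFun h2 0) 2
    have e10 := congrFun (congrFun h2 1) 0
    simp [cycM, dgM, Matrix.mul_apply, Fin.sum_univ_three] at e02 e10
    rw [e10] at e02
    apply SU_ext
    rw [SU_mul_val, SU_mul_val, dgHom_val]
    have hscal : dgM ((u : Fˣ) : F) ((v : Fˣ) : F) ((((u : Fˣ) * (v : Fˣ))⁻¹ : Fˣ) : F) =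
        Matrix.scalar (Fin 3) ((u : Fˣ) : F) := by
      ext i j
      fin_cases i <;> fin_cases j <;> simp [dgM, e10, e02]
    rw [hscal]
    exact (Matrix.scalar_commute _ (fun r' => Commute.all _ r') _).eq

end concrete

end Cfsg.Agent.Helper49.PsuA
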