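import Cfsg.Agent.Helper5.PsuE2.Defs
import Cfsg.Agent.Helper59.PsuM_CPLG

/-!
Helper49: piece (L2) of helper5's farm #15283 (S2089 block I-even-2, `q = 2`): `Csh τ ⊓ τ.ker = ⊥`,
one call of (CPLG).
-/

set_option autoImplicit false
set_option linter.unusedSectionVars false
set_option linter.unusedVariables false

namespace Cfsg.Agent.Helper49.PsuE2

open Matrix
open scoped commutatorElement
open Cfsg.Agent.Helper43.PsuM.Ev
open Cfsg.Agent.Helper96.StLift
open Cfsg.Agent.Helper5.PsuE2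

universe u

section group

variable {K : Type u} [Field K] {σ : K →+* K} {m : ℕ} {Γ : Type u} [Group Γ] [Finite Γ]
  (τ : Γ →* SUe m σ) (hτ : Function.Surjective τ)

/-- (L2) -/
theorem csh_inf (E : Ext2 τ hτ) (F : F4Facts σ) (R : RootFacts σ m) (hm : 4 ≤ m) :
    Csh τ ⊓ τ.ker = ⊥ := by
  have h := Cfsg.Agent.Helper59.PsuM.comm_comap_inf_ker τ hτ E.central ((Qsub m σ).comap τ) ⊥
    (Tsub m σ) bot_le ?_ ?_ ?_ ?_ (bot_inf_eq _)
  · rw [bot_sup_eq] at h
    exact h
  · rw [Subgroup.commutator_le]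
    intro a ha b hb
    rw [Subgroup.mem_bot]
    exact commutatorElement_eq_one_iff_commute.mpr (E.comm a b ha hb)
  · intro g hg x hx
    rw [Subgroup.mem_comap] at hx ⊢
    rw [map_mul, map_mul, map_inv]
    exact R.T_norm _ hg _ hx
  · intro g hg x hx
    rw [Subgroup.mem_bot] at hx ⊢
    rw [hx, mul_one, mul_inv_cancel]
  · rw [E.card_ker]
    exact R.T_odd

end group

end Cfsg.Agent.Helper49.PsuE2
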