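import Cfsg.Agent.Helper5.PsuE2.Defs
import Cfsg.Agent.Helper33.PsuM_AI

/-!
Helper49: auxiliary file for the pieces (RW1), (RW2) of helper5's farm #15283 (S2089 block
I-even-2): in characteristic two the Weyl element `nE σ b c` is `iE σ` of the permutation matrix of
the transposition `(b c)`, and the conjugation formulas for that matrix.
-/

set_option autoImplicit false
set_option linter.unusedSectionVars false
set_option linter.unusedVariables false
set_option linter.unusedSimpArgs false

namespace Cfsg.Agent.Helper49.PsuE2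

open Matrix
open scoped commutatorElement
open Cfsg.Agent.Helper43.PsuM.Ev
open Cfsg.Agent.Helper5.PsuE2

universe u

theorem RW_eq_of_add {M : Type*} [AddCommGroup M] (h2 : ∀ X : M, X + X = 0) {A B : M}
    (h : A + B = 0) : A = B := by
  have := h2 B
  calc A = A + (B + B) := by rw [this, add_zero]
    _ = (A + B) + B := by abel
    _ = B := by rw [h, zero_add]

theorem RW_zsmul_even {M : Type*} [AddCommGroup M] (h2 : ∀ X : M, X + X = 0) (k : ℤ)
    (hk : k % 2 = 0) (X : M) : k • X = 0 := by
  obtain ⟨l, rfl⟩ : ∃ l, k = l * 2 := ⟨k / 2, by omega⟩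
  rw [mul_smul, two_zsmul, h2, smul_zero]

section aux

variable {n R : Type*} [Fintype n] [DecidableEq n] [CommRing R]

/-- the permutation matrix of the transposition `(b c)`, written in characteristic two -/
def RW_P (b c : n) : Matrix n n R := 1 + single b c 1 + single c b 1 + single b b 1 + single c c 1

omit [Fintype n] [DecidableEq n] in
theorem RW_h2M (h2 : ∀ x : R, x + x = 0) (X : Matrix n n R) : X + X = 0 := by
  ext i j; exact h2 _

theorem RW_P_eq (h2 : ∀ x : R, x + x = 0) {b c : n} (hbc : b ≠ c) :
    (1 + single b c (1 : R)) * (1 + single c b 1) * (1 + single b c 1) = RW_P b c := by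
  unfold RW_P
  have hcb : c ≠ b := hbc.symm
  simp only [mul_add, add_mul, mul_one, one_mul, single_mul_single_same,
    single_mul_single_of_ne _ _ _ _ hcb, add_zero]
  apply RW_eq_of_add (RW_h2M h2)
  abel_nf
  simp (disch := norm_num) only [RW_zsmul_even (RW_h2M h2), add_zero]

theorem RW_P_transpose (b c : n) : (RW_P b c : Matrix n n R)ᵀ = RW_P b c := by
  unfold RW_P
  simp only [transpose_add, transpose_one, transpose_single]
  abel

theorem RW_P_map (σ : R →+* R) (b c : n) : (RW_P b c : Matrix n n R).map σ = RW_P b c := by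
  unfold RW_P
  rw [Matrix.map_add σ (map_add σ), Matrix.map_add σ (map_add σ), Matrix.map_add σ (map_add σ),
    Matrix.map_add σ (map_add σ), Matrix.map_one σ (map_zero σ) (map_one σ), map_single, map_single,
    map_single, map_single, map_one]

/-- conjugation of a transvection -/
theorem RW_conj_x (h2 : ∀ x : R, x + x = 0) {a b c : n} (hab : a ≠ b) (hac : a ≠ c) (hbc : b ≠ c)
    (t : R) : RW_P b c * (1 + single a b t) = (1 + single a c t) * RW_P b c := by
  unfold RW_P
  have hcb : c ≠ b := hbc.symm
  have hba : b ≠ a := hab.symm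
  have hca : c ≠ a := hac.symm
  simp only [mul_add, add_mul, mul_one, one_mul, single_mul_single_same,
    single_mul_single_of_ne _ _ _ _ hcb, single_mul_single_of_ne _ _ _ _ hbc,
    single_mul_single_of_ne _ _ _ _ hab, single_mul_single_of_ne _ _ _ _ hac,
    single_mul_single_of_ne _ _ _ _ hba, single_mul_single_of_ne _ _ _ _ hca, add_zero, zero_add]
  apply RW_eq_of_add (RW_h2M h2)
  abel_nf
  simp (disch := norm_num) only [RW_zsmul_even (RW_h2M h2), add_zero]

/-- the action on the long root matrix -/
theorem RW_conj_z (h2 : ∀ x : R, x + x = 0) {b c : n} (hbc : b ≠ c) :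
    RW_P b c * single b b (1 : R) * RW_P b c = single c c 1 := by
  unfold RW_P
  have hcb : c ≠ b := hbc.symm
  simp only [mul_add, add_mul, mul_one, one_mul, single_mul_single_same,
    single_mul_single_of_ne _ _ _ _ hcb, single_mul_single_of_ne _ _ _ _ hbc, add_zero, zero_add]
  apply RW_eq_of_add (RW_h2M h2)
  abel_nf
  simp (disch := norm_num) only [RW_zsmul_even (RW_h2M h2), add_zero]

/-- the action on the short root matrix -/
theorem RW_conj_c (h2 : ∀ x : R, x + x = 0) {a b c : n} (hab : a ≠ b) (hac : a ≠ c) (hbc : b ≠ c)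
    (u v : R) :
    RW_P b c * (single a b u - single b a v) * RW_P b c = single a c u - single c a v := by
  unfold RW_P
  have hcb : c ≠ b := hbc.symm
  have hba : b ≠ a := hab.symm
  have hca : c ≠ a := hac.symm
  simp only [mul_add, add_mul, mul_sub, sub_mul, mul_one, one_mul, single_mul_single_same,
    single_mul_single_of_ne _ _ _ _ hcb, single_mul_single_of_ne _ _ _ _ hbc,
    single_mul_single_of_ne _ _ _ _ hab, single_mul_single_of_ne _ _ _ _ hac,
    single_mul_single_of_ne _ _ _ _ hba, single_mul_single_of_ne _ _ _ _ hca, add_zero, zero_add,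
    sub_zero, zero_sub, sub_self]
  apply RW_eq_of_add (RW_h2M h2)
  abel_nf
  simp (disch := norm_num) only [RW_zsmul_even (RW_h2M h2), add_zero]

end aux

section matrix

variable {K : Type u} [Field K] {σ : K →+* K} {m : ℕ}

/-- the permutation matrix as an element of `SL_m` -/
noncomputable def RW_PSL (b c : Fin m) (hbc : b ≠ c) : SpecialLinearGroup (Fin m) K :=
  SpecialLinearGroup.transvection hbc (1 : K) * SpecialLinearGroup.transvection hbc.symm (1 : K) *
    SpecialLinearGroup.transvection hbc (1 : K)

theorem RW_PSL_coe (h2 : ∀ x : K, x + x = 0) (b c : Fin m) (hbc : b ≠ c) :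
    (RW_PSL b c hbc : SpecialLinearGroup (Fin m) K).1 = RW_P b c := by
  unfold RW_PSL
  rw [← RW_P_eq h2 hbc]
  rfl

theorem RW_nE_eq (hσ : ∀ x, σ (σ x) = x) (b c : Fin m) (hbc : b ≠ c) :
    nE σ b c = iE σ (RW_PSL b c hbc) := by
  unfold nE RW_PSL xE
  rw [dif_pos hbc, dif_pos hbc.symm, Cfsg.Agent.Helper33.PsuM.iE_mul hσ,
    Cfsg.Agent.Helper33.PsuM.iE_mul hσ]

end matrix

end Cfsg.Agent.Helper49.PsuE2
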