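import Cfsg.Agent.Helper43.PsuM.RDefs

/-!
# (PL3) of helper43's S2089 block R (#14254)
-/

set_option autoImplicit false
set_option linter.unusedSectionVars false
set_option linter.unusedVariables false

namespace Cfsg.Agent.Helper49.PsuM

open scoped commutatorElement
open Cfsg.Agent.Helper96.StLift Cfsg.Agent.Helper43.PsuM

universe u

section plift

variable {Γ G : Type u} [Group Γ] [Group G] [Finite Γ] (τ : Γ →* G) (hτ : Function.Surjective τ)
  (hc : τ.ker ≤ Subgroup.center Γ) (p : ℕ) [Fact p.Prime] (hcop : (Nat.card τ.ker).Coprime p)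

include hτ hc hcop

/-- (PL3) -/
theorem plift_map (X : Subgroup G) (hX : IsPGroup p X) : (plift τ p X).map τ = X := by
  have hp : p.Prime := Fact.out
  apply le_antisymm
  · rw [Subgroup.map_le_iff_le_comap]
    exact plift_le_comap τ p X
  · intro x hx
    obtain ⟨g, rfl⟩ := hτ x
    obtain ⟨k, hk⟩ := hX ⟨τ g, hx⟩
    have hk' : (τ g) ^ p ^ k = 1 := by simpa using congrArg Subtype.val hk
    have hk1 : (τ g) ^ p ^ (k + 1) = 1 := by rw [pow_succ, pow_mul, hk', one_pow]
    set m := Nat.card τ.ker with hm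
    have hcop' : Nat.Coprime m (p ^ (k + 1)) := Nat.Coprime.pow_right _ hcop
    have hlt : 1 < p ^ (k + 1) := Nat.one_lt_pow (Nat.succ_ne_zero k) hp.one_lt
    obtain ⟨v, -, hv⟩ := Nat.exists_mul_mod_eq_one_of_coprime hcop' hlt
    have hmv : m * v = p ^ (k + 1) * (m * v / p ^ (k + 1)) + 1 := by
      have := Nat.div_add_mod (m * v) (p ^ (k + 1))
      rw [hv] at this
      exact this.symm
    refine ⟨g ^ (m * v), ?_, ?_⟩
    · apply Subgroup.subset_closure
      refine ⟨?_, k + 1, ?_⟩
      · rw [map_pow, hmv, pow_succ, pow_mul, hk1, one_pow, one_mul]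
        exact hx
      · have hker : g ^ p ^ (k + 1) ∈ τ.ker := by
          rw [MonoidHom.mem_ker, map_pow, hk1]
        have h1 : (g ^ p ^ (k + 1)) ^ m = 1 := by
          have := pow_card_eq_one' (G := τ.ker) (x := ⟨g ^ p ^ (k + 1), hker⟩)
          have h2 := congrArg Subtype.val this
          rw [Subgroup.coe_pow, Subgroup.coe_one] at h2
          exact h2
        rw [← pow_mul, mul_comm (m * v), pow_mul, pow_mul, h1, one_pow]
    · rw [map_pow, hmv, pow_succ, pow_mul, hk1, one_pow, one_mul]

end plift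

end Cfsg.Agent.Helper49.PsuM
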