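import Cfsg.Agent.Helper43.PsuM.RDefs

/-!
# (RED) of helper43's S2089 block R (#14254): split into the `p`-part and the `p'`-part
-/

set_option autoImplicit false
set_option linter.unusedSectionVars false
set_option linter.unusedVariables false

namespace Cfsg.Agent.Helper49.PsuM

open scoped commutatorElement
open Cfsg.Agent.Helper96.StLift Cfsg.Agent.Helper43.PsuM

universe u

/-- a finite abelian group of order divisible by `p` has a subgroup of index `p` -/
theorem RED_exists_index_p {A : Type*} [CommGroup A] [Finite A] (p : ℕ) [Fact p.Prime]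
    (h : p ∣ Nat.card A) : ∃ B : Subgroup A, B.index = p := by
  have hp : p.Prime := Fact.out
  -- `K = A^p`, a proper subgroup
  set K : Subgroup A := (powMonoidHom p : A →* A).range with hK
  obtain ⟨a, ha⟩ := exists_prime_orderOf_dvd_card' p h
  have hKne : K ≠ ⊤ := by
    intro htop
    have hsurj : Function.Surjective (powMonoidHom p : A →* A) := MonoidHom.range_eq_top.mp htop
    have hinj : Function.Injective (powMonoidHom p : A →* A) :=
      Finite.injective_iff_surjective.mpr hsurj
    have h1 : (powMonoidHom p : A →* A) a = (powMonoidHom p : A →* A) 1 := by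
      simp only [powMonoidHom_apply, one_pow]
      rw [← ha]
      exact pow_orderOf_eq_one a
    have h2 := hinj h1
    rw [h2, orderOf_one] at ha
    exact hp.one_lt.ne ha
  -- `A / K` is a nontrivial `p`-group
  have hQ : IsPGroup p (A ⧸ K) := by
    intro q
    obtain ⟨x, rfl⟩ := QuotientGroup.mk_surjective q
    refine ⟨1, ?_⟩
    rw [pow_one, ← QuotientGroup.mk_pow, QuotientGroup.eq_one_iff]
    exact ⟨x, rfl⟩
  obtain ⟨n, hn⟩ := IsPGroup.iff_card.mp hQ
  have hn0 : n ≠ 0 := by
    rintro rfl
    rw [pow_zero] at hn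
    apply hKne
    have : K.index = 1 := by rw [Subgroup.index_eq_card]; exact hn
    exact Subgroup.index_eq_one.mp this
  obtain ⟨Q₀, hQ₀⟩ := Sylow.exists_subgroup_card_pow_prime p
    (n := n - 1) (G := A ⧸ K) (by rw [hn]; exact pow_dvd_pow p (Nat.sub_le n 1))
  have hidx : Q₀.index = p := by
    have e := Subgroup.card_mul_index Q₀
    rw [hQ₀, hn] at e
    have e' : p ^ (n - 1) * Q₀.index = p ^ (n - 1) * p := by
      rw [e, ← pow_succ, Nat.sub_add_cancel (Nat.pos_of_ne_zero hn0)]
    exact Nat.eq_of_mul_eq_mul_left (pow_pos hp.pos _) e'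
  refine ⟨Q₀.comap (QuotientGroup.mk' K), ?_⟩
  exact (Subgroup.index_comap_of_surjective Q₀ (QuotientGroup.mk'_surjective K)).trans hidx

/-- (RED) -/
theorem noStem_of {G : Type u} [Group G] [Finite G] (p : ℕ) [Fact p.Prime]
    (h1 : NoStemP G p) (h2 : NoStemP' G p) : NoStem G := by
  have hp : p.Prime := Fact.out
  intro Γ _ _ τ hst
  obtain ⟨hτ, hcen, hcomm⟩ := hst
  by_cases hdiv : p ∣ Nat.card τ.ker
  · exfalso
    -- an index-`p` subgroup of the kernel
    let _ : CommGroup τ.ker :=
      { (inferInstance : Group τ.ker) with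
        mul_comm := fun a b => by
          apply Subtype.ext
          have := Subgroup.mem_center_iff.mp (hcen a.2) b
          exact this.symm }
    obtain ⟨B, hB⟩ := RED_exists_index_p (A := τ.ker) p hdiv
    set A₀ : Subgroup Γ := B.map τ.ker.subtype with hA₀
    have hA₀le : A₀ ≤ τ.ker := by
      rw [hA₀]
      exact Subgroup.map_subtype_le B
    have hA₀card : Nat.card τ.ker = p * Nat.card A₀ := by
      have e := Subgroup.card_mul_index B
      rw [hB] at e
      rw [hA₀, Subgroup.card_map_of_injective τ.ker.subtype_injective, ← e, mul_comm]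
    have hA₀n : A₀.Normal := by
      refine ⟨fun n hn g => ?_⟩
      have hc := Subgroup.mem_center_iff.mp (hcen (hA₀le hn)) g
      rw [hc, mul_inv_cancel_right]
      exact hn
    let τ' : Γ ⧸ A₀ →* G := QuotientGroup.lift A₀ τ hA₀le
    have hτ' : Function.Surjective τ' := by
      intro x
      obtain ⟨g, rfl⟩ := hτ x
      exact ⟨QuotientGroup.mk g, rfl⟩
    have hker' : τ'.ker = τ.ker.map (QuotientGroup.mk' A₀) := QuotientGroup.ker_lift A₀ τ hA₀le
    have hst' : Cfsg.IsStemExtension τ' := by
      refine ⟨hτ', ?_, ?_⟩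
      · rw [hker']
        rintro _ ⟨g, hg, rfl⟩
        rw [Subgroup.mem_center_iff]
        intro y
        obtain ⟨h, rfl⟩ := QuotientGroup.mk'_surjective A₀ y
        have hc := Subgroup.mem_center_iff.mp (hcen hg) h
        rw [← map_mul, ← map_mul, hc]
      · rw [hker']
        rintro _ ⟨g, hg, rfl⟩
        have hgc : g ∈ commutator Γ := hcomm hg
        rw [commutator_def] at hgc ⊢
        have := Subgroup.mem_map_of_mem (QuotientGroup.mk' A₀) hgc
        rw [Subgroup.map_commutator] at this
        exact Subgroup.commutator_mono le_top le_top this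
    -- the kernel has order `p`
    have hcard' : Nat.card τ'.ker = p := by
      have e1 := Subgroup.card_eq_card_quotient_mul_card_subgroup A₀
      have e2 := Subgroup.card_eq_card_quotient_mul_card_subgroup τ.ker
      have e3 := Subgroup.card_eq_card_quotient_mul_card_subgroup τ'.ker
      rw [Nat.card_congr (QuotientGroup.quotientKerEquivOfSurjective τ hτ).toEquiv] at e2
      rw [Nat.card_congr (QuotientGroup.quotientKerEquivOfSurjective τ' hτ').toEquiv] at e3
      rw [e3, e2, hA₀card] at e1
      have hG : 0 < Nat.card G := Nat.card_pos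
      have hA : 0 < Nat.card A₀ := Nat.card_pos
      have e4 : Nat.card G * (p * Nat.card A₀) = Nat.card G * (Nat.card τ'.ker * Nat.card A₀) := by
        rw [e1]; ring
      have e5 := Nat.eq_of_mul_eq_mul_left hG e4
      exact (Nat.eq_of_mul_eq_mul_right hA e5).symm
    exact h1 (Γ ⧸ A₀) τ' hst' hcard'
  · apply h2 Γ τ ⟨hτ, hcen, hcomm⟩
    exact ((Nat.Prime.coprime_iff_not_dvd hp).mpr hdiv).symm

end Cfsg.Agent.Helper49.PsuM
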