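import Cfsg.Agent.Helper11.RelMax.Defs

/-!
# S3905, case A (helper49, for helper11)

`caseA`: if `N ⊴ G` satisfies the hypothesis of S3905 (`C_G(x)` is a maximal subgroup for every
`x ∈ N \ Z(N)`) and `Z(N) ≰ Z(G)`, then `N / Z(N)` is an elementary abelian `p`-group.
-/

set_option autoImplicit false
set_option linter.unusedSectionVars false
set_option linter.style.haveILetI false

namespace Cfsg.Agent.Helper49.RelMaxA

open Cfsg.Agent.Helper11.RelMax
open scoped commutatorElement

variable {G : Type*} [Group G] [Finite G] {N : Subgroup G} [N.Normal]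

/-- (a) an element `z` of `Z(N)` outside `Z(G)` with `z ^ p ∈ Z(G)` for a prime `p`. -/
theorem exists_z (hA : ¬ ZN N ≤ Subgroup.center G) :
    ∃ z ∈ ZN N, z ∉ Subgroup.center G ∧ ∃ p : ℕ, p.Prime ∧ z ^ p ∈ Subgroup.center G := by
  obtain ⟨z0, hz0, hz0c⟩ := SetLike.not_le_iff_exists.1 hA
  have hn : orderOf (QuotientGroup.mk' (Subgroup.center G) z0) ≠ 1 := by
    rw [Ne, orderOf_eq_one_iff, QuotientGroup.mk'_apply, QuotientGroup.eq_one_iff]
    exact hz0c
  obtain ⟨n, hndef⟩ : ∃ n : ℕ, orderOf (QuotientGroup.mk' (Subgroup.center G) z0) = n := ⟨_, rfl⟩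
  rw [hndef] at hn
  have hp : n.minFac.Prime := Nat.minFac_prime hn
  have hdvd : n.minFac ∣ n := Nat.minFac_dvd n
  have hnpos : n ≠ 0 := by
    rw [← hndef]; exact (orderOf_pos _).ne'
  have ho : orderOf (QuotientGroup.mk' (Subgroup.center G) (z0 ^ (n / n.minFac))) = n.minFac := by
    rw [map_pow]
    have := orderOf_pow_orderOf_div (x := QuotientGroup.mk' (Subgroup.center G) z0)
      (n := n.minFac) (by rw [hndef]; exact hnpos) (by rw [hndef]; exact hdvd)
    rw [hndef] at this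
    exact this
  refine ⟨z0 ^ (n / n.minFac), pow_mem hz0 _, ?_, n.minFac, hp, ?_⟩
  · intro hc
    have h1 : QuotientGroup.mk' (Subgroup.center G) (z0 ^ (n / n.minFac)) = 1 :=
      (QuotientGroup.eq_one_iff _).2 hc
    rw [h1, orderOf_one] at ho
    exact hp.one_lt.ne ho
  · rw [← QuotientGroup.eq_one_iff, ← QuotientGroup.mk'_apply, map_pow]
    have h2 := pow_orderOf_eq_one (QuotientGroup.mk' (Subgroup.center G) (z0 ^ (n / n.minFac)))
    rw [ho] at h2
    exact h2

theorem mul_mem_of_mem_ZN {z x : G} (hz : z ∈ ZN N) (hx : x ∈ N) : x * z ∈ N :=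
  mul_mem hx (ZN_le N hz)

theorem mul_not_cent {z x : G} (hz : z ∈ ZN N)
    (hxZ : x ∉ Subgroup.centralizer (N : Set G)) :
    x * z ∉ Subgroup.centralizer (N : Set G) := by
  intro h'
  apply hxZ
  have : x = x * z * z⁻¹ := by group
  rw [this]
  exact mul_mem h' (inv_mem ((mem_ZN N).1 hz).2)

/-- (b) `C_G(x) ≠ C_G(xz)`. -/
theorem cz_ne_cz_mul (h : Hyp N) {z : G} (hz : z ∈ ZN N) (hzc : z ∉ Subgroup.center G)
    {x : G} (hx : x ∈ N) (hxZ : x ∉ Subgroup.centralizer (N : Set G)) :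
    cz x ≠ cz (x * z) := by
  intro heq
  apply hzc
  rw [Subgroup.mem_center_iff]
  intro g
  obtain ⟨n, hn, m, hm, rfl⟩ := exists_mul h hx hxZ g
  have h1 : n * z = z * n := comm_of_mem_ZN hz hn
  have hm2 : m ∈ cz (x * z) := heq ▸ hm
  have e1 := mem_cz.1 hm
  have e2 := mem_cz.1 hm2
  have h2 : m * z = z * m := by
    calc m * z = x⁻¹ * (x * m) * z := by group
      _ = x⁻¹ * (m * x) * z := by rw [e1]
      _ = x⁻¹ * (m * (x * z)) := by group
      _ = x⁻¹ * (x * z * m) := by rw [e2]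
      _ = z * m := by group
  calc n * m * z = n * (m * z) := by group
    _ = n * (z * m) := by rw [h2]
    _ = (n * z) * m := by group
    _ = z * n * m := by rw [h1]
    _ = z * (n * m) := by group

/-- (c) `x ^ p ∈ Z(N)` for all `x ∈ N`. -/
theorem pow_mem_ZN (h : Hyp N) {z : G} (hz : z ∈ ZN N) (hzc : z ∉ Subgroup.center G) {p : ℕ}
    (hzp : z ^ p ∈ Subgroup.center G) {x : G} (hx : x ∈ N) : x ^ p ∈ ZN N := by
  by_contra hxp
  have hxpc : x ^ p ∉ Subgroup.centralizer (N : Set G) :=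
    not_cent_of_not_mem_ZN (pow_mem hx p) hxp
  have hxZ : x ∉ Subgroup.centralizer (N : Set G) := fun h' => hxpc (pow_mem h' p)
  have hcomm : Commute x z := comm_of_mem_ZN hz hx
  have hpow : (x * z) ^ p = x ^ p * z ^ p := hcomm.mul_pow p
  have hxz : x * z ∈ N := mul_mem_of_mem_ZN hz hx
  have hxzp : (x * z) ^ p ∉ Subgroup.centralizer (N : Set G) := by
    rw [hpow]
    exact mul_not_cent (pow_mem hz p) hxpc
  have e1 : cz ((x * z) ^ p) = cz (x * z) := cz_pow_eq h hxz hxzp
  have e2 : cz (x ^ p) = cz x := cz_pow_eq h hx hxpc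
  have hc := Subgroup.mem_center_iff.1 hzp
  have e3 : cz ((x * z) ^ p) = cz (x ^ p) := by
    rw [hpow]
    ext g
    rw [mem_cz, mem_cz]
    constructor
    · intro h1
      calc g * x ^ p = g * (x ^ p * z ^ p) * (z ^ p)⁻¹ := by group
        _ = x ^ p * z ^ p * g * (z ^ p)⁻¹ := by rw [h1]
        _ = x ^ p * (z ^ p * g) * (z ^ p)⁻¹ := by group
        _ = x ^ p * (g * z ^ p) * (z ^ p)⁻¹ := by rw [hc g]
        _ = x ^ p * g := by group
    · intro h1
      calc g * (x ^ p * z ^ p) = (g * x ^ p) * z ^ p := by group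
        _ = x ^ p * g * z ^ p := by rw [h1]
        _ = x ^ p * (g * z ^ p) := by group
        _ = x ^ p * (z ^ p * g) := by rw [hc g]
        _ = x ^ p * z ^ p * g := by group
  exact cz_ne_cz_mul h hz hzc hx hxZ (by rw [← e2, ← e3, e1])

/-- a subgroup normalizes its intersection with a normal subgroup -/
theorem le_normalizer_inf_left (M : Subgroup G) :
    M ≤ Subgroup.normalizer ((N ⊓ M : Subgroup G) : Set G) := by
  intro m hm
  rw [Subgroup.mem_normalizer_iff]
  intro c
  rw [Subgroup.mem_inf, Subgroup.mem_inf]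
  constructor
  · rintro ⟨h1, h2⟩
    exact ⟨‹N.Normal›.conj_mem c h1 m, mul_mem (mul_mem hm h2) (inv_mem hm)⟩
  · rintro ⟨h1, h2⟩
    refine ⟨?_, ?_⟩
    · have := ‹N.Normal›.conj_mem _ h1 m⁻¹
      rw [inv_inv] at this
      have e : m⁻¹ * (m * c * m⁻¹) * m = c := by group
      rwa [e] at this
    · have e : c = m⁻¹ * (m * c * m⁻¹) * m := by group
      rw [e]
      exact mul_mem (mul_mem (inv_mem hm) h2) hm

/-- (d) `C_N(x)` is normal in `G`. -/
theorem inf_cz_normal (h : Hyp N) {z : G} (hz : z ∈ ZN N) (hzc : z ∉ Subgroup.center G)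
    {x : G} (hx : x ∈ N) (hxZ : x ∉ Subgroup.centralizer (N : Set G)) :
    (N ⊓ cz x).Normal := by
  have hxz : x * z ∈ N := mul_mem_of_mem_ZN hz hx
  have hxzZ : x * z ∉ Subgroup.centralizer (N : Set G) := mul_not_cent hz hxZ
  have heqC : N ⊓ cz x = N ⊓ cz (x * z) := by
    ext n
    rw [Subgroup.mem_inf, Subgroup.mem_inf, mem_cz, mem_cz]
    constructor
    · rintro ⟨hn, hc⟩
      refine ⟨hn, ?_⟩
      have h1 : n * z = z * n := comm_of_mem_ZN hz hn
      calc n * (x * z) = (n * x) * z := by group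
        _ = x * n * z := by rw [hc]
        _ = x * (n * z) := by group
        _ = x * (z * n) := by rw [h1]
        _ = x * z * n := by group
    · rintro ⟨hn, hc⟩
      refine ⟨hn, ?_⟩
      have h1 : n * z = z * n := comm_of_mem_ZN hz hn
      calc n * x = n * (x * z) * z⁻¹ := by group
        _ = x * z * n * z⁻¹ := by rw [hc]
        _ = x * (z * n) * z⁻¹ := by group
        _ = x * (n * z) * z⁻¹ := by rw [h1]
        _ = x * n := by group
  have hne := cz_ne_cz_mul h hz hzc hx hxZ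
  have hsup : cz x ⊔ cz (x * z) = ⊤ := by
    rcases (h x hx hxZ).le_iff.1 (le_sup_left : cz x ≤ cz x ⊔ cz (x * z)) with h1 | h1
    · exact h1
    · exfalso
      apply hne
      have h2 : cz (x * z) ≤ cz x := by
        rw [← h1]; exact le_sup_right
      exact cz_eq_of_le h hxz hxzZ hx hxZ h2
  have h1 : cz x ≤ Subgroup.normalizer ((N ⊓ cz x : Subgroup G) : Set G) :=
    le_normalizer_inf_left (cz x)
  have h2 : cz (x * z) ≤ Subgroup.normalizer ((N ⊓ cz x : Subgroup G) : Set G) := by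
    rw [heqC]
    exact le_normalizer_inf_left (cz (x * z))
  have h3 : Subgroup.normalizer ((N ⊓ cz x : Subgroup G) : Set G) = ⊤ :=
    top_le_iff.1 (hsup ▸ sup_le h1 h2)
  exact Subgroup.normalizer_eq_top_iff.1 h3

/-- In a nilpotent group, a normal subgroup which together with the commutator subgroup generates
the whole group is the whole group. -/
theorem eq_top_of_commutator_sup_eq_top {H : Type*} [Group H] [Group.IsNilpotent H]
    (C : Subgroup H) [C.Normal] (hsup : ∀ a : H, ∃ c ∈ commutator H, ∃ d ∈ C, a = c * d) :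
    C = ⊤ := by
  by_contra hC
  haveI : Nontrivial (H ⧸ C) := by
    rw [← not_subsingleton_iff_nontrivial]
    intro hs
    exact hC (QuotientGroup.subsingleton_iff.1 hs)
  have hlt := Group.IsSolvable.commutator_lt_top_of_nontrivial (H ⧸ C)
  apply hlt.ne
  rw [eq_top_iff]
  intro q _
  induction q using QuotientGroup.induction_on with
  | H a =>
    obtain ⟨c, hc, d, hd, rfl⟩ := hsup a
    have h1 : ((c * d : H) : H ⧸ C) = (c : H ⧸ C) := by
      rw [QuotientGroup.mk_mul, (QuotientGroup.eq_one_iff d).2 hd, mul_one]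
    rw [h1]
    have h2 : (commutator H).map (QuotientGroup.mk' C) ≤ commutator (H ⧸ C) := by
      rw [commutator_def, Subgroup.map_commutator, commutator_def]
      exact Subgroup.commutator_mono le_top le_top
    exact h2 ⟨c, hc, rfl⟩

/-- (e) `[N, N] ≤ C_N(x)` for `x ∈ N \ Z(N)`, if `N` is nilpotent and `C_N(x) ⊴ G`. -/
theorem commutator_le_inf_cz (h : Hyp N) [Group.IsNilpotent ↥N] {x : G} (hx : x ∈ N)
    (hxZ : x ∉ Subgroup.centralizer (N : Set G)) (hnorm : (N ⊓ cz x).Normal) :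
    ⁅N, N⁆ ≤ N ⊓ cz x := by
  haveI := hnorm
  have hLN : ⁅N, N⁆ ⊔ (N ⊓ cz x) ≤ N := sup_le (Subgroup.commutator_le_self N) inf_le_left
  rcases normal_between h (⁅N, N⁆ ⊔ (N ⊓ cz x)) hx hxZ hLN with h1 | h1
  · exact le_sup_left.trans h1
  · exfalso
    rw [sup_assoc, sup_idem] at h1
    haveI : ((N ⊓ cz x).subgroupOf N).Normal := Subgroup.Normal.subgroupOf hnorm N
    have htop : (N ⊓ cz x).subgroupOf N = ⊤ := by
      apply eq_top_of_commutator_sup_eq_top
      intro a
      have ha : (a : G) ∈ ⁅N, N⁆ ⊔ (N ⊓ cz x) := h1 a.2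
      rw [← SetLike.mem_coe, Subgroup.normal_mul] at ha
      obtain ⟨c, hc, d, hd, hcd⟩ := Set.mem_mul.1 ha
      rw [SetLike.mem_coe, ← Subgroup.map_subtype_commutator] at hc
      obtain ⟨c', hc', rfl⟩ := hc
      have hdN : d ∈ N := (Subgroup.mem_inf.1 hd).1
      refine ⟨c', hc', ⟨d, hdN⟩, ?_, ?_⟩
      · rw [Subgroup.mem_subgroupOf]
        exact hd
      · apply Subtype.ext
        rw [Subgroup.coe_mul]
        exact hcd.symm
    apply not_le_cz hx hxZ
    intro n hn
    have : (⟨n, hn⟩ : ↥N) ∈ (N ⊓ cz x).subgroupOf N := by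
      rw [htop]; exact Subgroup.mem_top _
    rw [Subgroup.mem_subgroupOf] at this
    exact (Subgroup.mem_inf.1 this).2

/-- **Case A** of S3905. -/
theorem caseA (h : Hyp N) (hA : ¬ ZN N ≤ Subgroup.center G) : Alt1 N := by
  by_cases hab : N ≤ Subgroup.centralizer (N : Set G)
  · exact alt1_of_abelian hab
  obtain ⟨z, hz, hzc, p, hp, hzp⟩ := exists_z hA
  haveI : Fact p.Prime := ⟨hp⟩
  have hc : ∀ x ∈ N, x ^ p ∈ ZN N := fun x hx => pow_mem_ZN h hz hzc hzp hx
  have hexp : ∀ a : ↥N ⧸ Subgroup.center ↥N, a ^ p = 1 := by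
    intro a
    induction a using QuotientGroup.induction_on with
    | H a =>
      rw [← QuotientGroup.mk_pow, QuotientGroup.eq_one_iff, mem_center_sub_iff]
      rw [Subgroup.coe_pow]
      exact ((mem_ZN N).1 (hc a a.2)).2
  have hPG : IsPGroup p (↥N ⧸ Subgroup.center ↥N) := fun a => ⟨1, by rw [pow_one]; exact hexp a⟩
  haveI : Group.IsNilpotent (↥N ⧸ Subgroup.center ↥N) := hPG.isNilpotent
  haveI : Group.IsNilpotent ↥N := Group.of_quotient_center_nilpotent inferInstance
  have hcomm : ⁅N, N⁆ ≤ Subgroup.centralizer (N : Set G) := by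
    intro c hc'
    rw [Subgroup.mem_centralizer_iff]
    intro x hx
    by_cases hxZ : x ∈ Subgroup.centralizer (N : Set G)
    · have hcN : c ∈ N := Subgroup.commutator_le_self N hc'
      exact ((Subgroup.mem_centralizer_iff.1 hxZ) c hcN).symm
    · have h1 : c ∈ N ⊓ cz x :=
        commutator_le_inf_cz h hx hxZ (inf_cz_normal h hz hzc hx hxZ) hc'
      exact (mem_cz.1 (Subgroup.mem_inf.1 h1).2).symm
  refine ⟨p, hp, ?_, fun a _ => hexp a⟩
  refine ⟨⟨fun a b => ?_⟩⟩
  obtain ⟨a, _⟩ := a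
  obtain ⟨b, _⟩ := b
  apply Subtype.ext
  induction a using QuotientGroup.induction_on with
  | H a =>
  induction b using QuotientGroup.induction_on with
  | H b =>
    show (a : ↥N ⧸ Subgroup.center ↥N) * (b : ↥N ⧸ Subgroup.center ↥N) = b * a
    rw [← QuotientGroup.mk_mul, ← QuotientGroup.mk_mul, QuotientGroup.eq, mem_center_sub_iff]
    apply hcomm
    have e : (((a * b)⁻¹ * (b * a) : ↥N) : G) = ⁅(b : G)⁻¹, (a : G)⁻¹⁆ := by
      rw [commutatorElement_def]
      push_cast
      group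
    rw [e]
    exact Subgroup.commutator_mem_commutator (inv_mem b.2) (inv_mem a.2)

end Cfsg.Agent.Helper49.RelMaxA
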