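import Cfsg.Agent.Helper11.RelMax.Defs
import Cfsg.Agent.Lib.HW0

/-!
# S3905, case β (helper49, for helper11)

`caseBeta`: `N ⊴ G` with the hypothesis of S3905, `Z(N) ≤ Z(G)`, and some `k ∈ N \ Z(N)` which is
central in `G` modulo `Z(N)`.  Then `N / Z(N)` is an elementary abelian `p`-group.
-/

set_option autoImplicit false
set_option linter.unusedSectionVars false
set_option linter.style.haveILetI false

namespace Cfsg.Agent.Helper49.RelMaxB

open Cfsg.Agent.Helper11.RelMax
open scoped commutatorElement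

variable {G : Type*} [Group G] [Finite G] {N : Subgroup G} [N.Normal]

theorem le_normalizer_of_conj_mem {M T : Subgroup G}
    (hn : ∀ m ∈ M, ∀ t ∈ T, m * t * m⁻¹ ∈ T) : M ≤ Subgroup.normalizer (T : Set G) := by
  intro m hm
  rw [Subgroup.mem_normalizer_iff]
  intro t
  constructor
  · exact hn m hm t
  · intro h
    have := hn m⁻¹ (inv_mem hm) _ h
    simpa [mul_assoc] using this

/-- (T2) in case B, commutators with elements of `N` lie in `[N, N]`. -/
theorem comm_mem_commutator (h : Hyp N) (hB : ZN N ≤ Subgroup.center G) {u : G} (hu : u ∈ N)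
    (g : G) : g * u * g⁻¹ * u⁻¹ ∈ ⁅N, N⁆ := by
  by_cases huZ : u ∈ Subgroup.centralizer (N : Set G)
  · have hc : u ∈ Subgroup.center G := hB ((mem_ZN N).2 ⟨hu, huZ⟩)
    have e : g * u * g⁻¹ * u⁻¹ = 1 := by
      rw [Subgroup.mem_center_iff] at hc
      rw [hc g]; group
    rw [e]; exact one_mem _
  · obtain ⟨n, hn, m, hm, rfl⟩ := exists_mul h hu huZ g
    have e1 := mem_cz.1 hm
    have e : n * m * u * (n * m)⁻¹ * u⁻¹ = ⁅n, u⁆ := by
      rw [commutatorElement_def]
      calc n * m * u * (n * m)⁻¹ * u⁻¹ = n * (m * u) * m⁻¹ * n⁻¹ * u⁻¹ := by group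
        _ = n * (u * m) * m⁻¹ * n⁻¹ * u⁻¹ := by rw [e1]
        _ = n * u * n⁻¹ * u⁻¹ := by group
    rw [e]; exact Subgroup.commutator_mem_commutator hn hu

/-- a normal maximal subgroup contains the commutator subgroup -/
theorem commutator_le_of_normal_coatom {M : Subgroup G} [M.Normal] (hM : IsCoatom M) :
    commutator G ≤ M := by
  have hp : M.index.Prime := Cfsg.Agent.S3904.index_prime_of_normal_coatom hM
  rw [← Subgroup.Normal.quotient_commutative_iff_commutator_le]
  have hcard : Nat.card (G ⧸ M) = M.index := rfl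
  haveI : Fact (Nat.card (G ⧸ M)).Prime := ⟨by rw [hcard]; exact hp⟩
  haveI : IsCyclic (G ⧸ M) := isCyclic_of_prime_card (p := Nat.card (G ⧸ M)) rfl
  exact IsCyclic.isMulCommutative

/-- (a) if `u ∈ N` does not commute with `k`, then `C_G(u)` is normal and contains `G'`. -/
theorem commutator_le_cz (h : Hyp N) {k : G} (hk : k ∈ N)
    (hβ : ∀ g : G, g * k * g⁻¹ * k⁻¹ ∈ ZN N) {u : G} (hu : u ∈ N) (huk : u * k ≠ k * u) :
    commutator G ≤ cz u := by
  have huZ : u ∉ Subgroup.centralizer (N : Set G) :=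
    fun h' => huk ((Subgroup.mem_centralizer_iff.1 h') k hk).symm
  have hco := h u hu huZ
  have hkn : Subgroup.zpowers k ≤ Subgroup.normalizer ((cz u : Subgroup G) : Set G) := by
    apply le_normalizer_of_conj_mem
    intro g hg m hm
    -- `g` is a power of `k`, so `g * m * g⁻¹ * m⁻¹ ∈ Z(N)`
    have hgz : ∀ g ∈ Subgroup.zpowers k, ∀ m : G, g * m * g⁻¹ * m⁻¹ ∈ ZN N := by
      intro g hg
      rw [Subgroup.zpowers_eq_closure] at hg
      induction hg using Subgroup.closure_induction with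
      | mem x hx =>
        rw [Set.mem_singleton_iff] at hx
        subst hx
        intro m
        have h1 := inv_mem (hβ m)
        have e : (m * x * m⁻¹ * x⁻¹)⁻¹ = x * m * x⁻¹ * m⁻¹ := by group
        rwa [e] at h1
      | one => intro m; simp
      | mul x y _ _ hx hy =>
        intro m
        have h1 := hy m
        have h2 := hx (y * m * y⁻¹)
        have h3 : x * (y * m * y⁻¹ * m⁻¹) * x⁻¹ ∈ ZN N := (ZN_normal N).conj_mem _ h1 x
        have e : x * y * m * (x * y)⁻¹ * m⁻¹ =
            (x * (y * m * y⁻¹) * x⁻¹ * (y * m * y⁻¹)⁻¹) * (y * m * y⁻¹ * m⁻¹) := by group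
        rw [e]
        exact mul_mem h2 h1
      | inv x _ hx =>
        intro m
        have h1 := hx (x⁻¹ * m * x)
        have h2 := inv_mem h1
        have e : (x * (x⁻¹ * m * x) * x⁻¹ * (x⁻¹ * m * x)⁻¹)⁻¹ = x⁻¹ * m * x⁻¹⁻¹ * m⁻¹ := by
          group
        rwa [e] at h2
    have h1 := hgz g hg m
    have e : g * m * g⁻¹ = (g * m * g⁻¹ * m⁻¹) * m := by group
    rw [e]
    exact mul_mem (ZN_le_cz hu h1) hm
  have hknot : k ∉ cz u := fun h' => huk (mem_cz.1 h').symm
  have hle : cz u ≤ Subgroup.normalizer ((cz u : Subgroup G) : Set G) := Subgroup.le_normalizer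
  have htop : Subgroup.normalizer ((cz u : Subgroup G) : Set G) = ⊤ := by
    rcases hco.le_iff.1 hle with h1 | h1
    · exact h1
    · exfalso
      apply hknot
      rw [← h1]
      exact hkn (Subgroup.mem_zpowers k)
  haveI : (cz u).Normal := Subgroup.normalizer_eq_top_iff.1 htop
  exact commutator_le_of_normal_coatom hco

/-- (b) `[N, N] ≤ Z(N)`. -/
theorem commutator_le_centralizer (h : Hyp N) {k : G} (hk : k ∈ N)
    (hkZ : k ∉ Subgroup.centralizer (N : Set G)) (hβ : ∀ g : G, g * k * g⁻¹ * k⁻¹ ∈ ZN N) :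
    ⁅N, N⁆ ≤ Subgroup.centralizer (N : Set G) := by
  have hNG : ⁅N, N⁆ ≤ commutator G := by
    rw [commutator_def]
    exact Subgroup.commutator_mono le_top le_top
  obtain ⟨u0, hu0, hu0k⟩ : ∃ u0 ∈ N, u0 * k ≠ k * u0 := by
    by_contra hcon
    push Not at hcon
    apply hkZ
    rw [Subgroup.mem_centralizer_iff]
    exact hcon
  intro c hc
  rw [Subgroup.mem_centralizer_iff]
  intro d hd
  by_cases hdk : d * k = k * d
  · have hdu : (d * u0) * k ≠ k * (d * u0) := by
      intro h'
      apply hu0k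
      calc u0 * k = d⁻¹ * (d * u0 * k) := by group
        _ = d⁻¹ * (k * (d * u0)) := by rw [h']
        _ = d⁻¹ * (k * d) * u0 := by group
        _ = d⁻¹ * (d * k) * u0 := by rw [hdk]
        _ = k * u0 := by group
    have h1 : c * (d * u0) = d * u0 * c :=
      mem_cz.1 (commutator_le_cz h hk hβ (mul_mem hd hu0) hdu (hNG hc))
    have h2 : c * u0 = u0 * c := mem_cz.1 (commutator_le_cz h hk hβ hu0 hu0k (hNG hc))
    calc d * c = (d * (c * u0)) * u0⁻¹ := by group
      _ = (d * (u0 * c)) * u0⁻¹ := by rw [h2]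
      _ = (d * u0 * c) * u0⁻¹ := by group
      _ = (c * (d * u0)) * u0⁻¹ := by rw [h1]
      _ = c * d := by group
  · exact (mem_cz.1 (commutator_le_cz h hk hβ hd hdk (hNG hc))).symm

/-- (c) every `C_G(x)`, `x ∈ N \ Z(N)`, is normal in `G`. -/
theorem cz_normal (h : Hyp N) (hB : ZN N ≤ Subgroup.center G)
    (hcomm : ⁅N, N⁆ ≤ Subgroup.centralizer (N : Set G)) {x : G} (hx : x ∈ N)
    (hxZ : x ∉ Subgroup.centralizer (N : Set G)) : (cz x).Normal := by
  have hN : N ≤ Subgroup.normalizer ((cz x : Subgroup G) : Set G) := by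
    apply le_normalizer_of_conj_mem
    intro n hn m hm
    have h1 : m * n * m⁻¹ * n⁻¹ ∈ ⁅N, N⁆ := comm_mem_commutator h hB hn m
    have h2 : m * n * m⁻¹ * n⁻¹ ∈ ZN N :=
      (mem_ZN N).2 ⟨Subgroup.commutator_le_self N h1, hcomm h1⟩
    have h3 : (m * n * m⁻¹ * n⁻¹)⁻¹ ∈ cz x := ZN_le_cz hx (inv_mem h2)
    have e : n * m * n⁻¹ = (m * n * m⁻¹ * n⁻¹)⁻¹ * m := by group
    rw [e]
    exact mul_mem h3 hm
  have hle : cz x ≤ Subgroup.normalizer ((cz x : Subgroup G) : Set G) := Subgroup.le_normalizer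
  have htop : Subgroup.normalizer ((cz x : Subgroup G) : Set G) = ⊤ :=
    top_le_iff.1 (sup_cz_eq_top h hx hxZ ▸ sup_le hN hle)
  exact Subgroup.normalizer_eq_top_iff.1 htop

theorem centralizer_sub_eq (y : ↥N) :
    Subgroup.centralizer ({y} : Set ↥N) = (cz (y : G)).subgroupOf N := by
  ext m
  rw [Subgroup.mem_centralizer_singleton_iff, Subgroup.mem_subgroupOf, mem_cz]
  constructor
  · intro h'
    have := congrArg Subtype.val h'
    simpa using this
  · intro h'
    apply Subtype.ext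
    simpa using h'

/-- **Case β** of S3905. -/
theorem caseBeta (h : Hyp N) (hB : ZN N ≤ Subgroup.center G) {k : G} (hk : k ∈ N)
    (hkZ : k ∉ Subgroup.centralizer (N : Set G)) (hβ : ∀ g : G, g * k * g⁻¹ * k⁻¹ ∈ ZN N) :
    Alt1 N := by
  have hcomm := commutator_le_centralizer h hk hkZ hβ
  have hnormal : ∀ x ∈ N, x ∉ Subgroup.centralizer (N : Set G) → (cz x).Normal :=
    fun x hx hxZ => cz_normal h hB hcomm hx hxZ
  -- hypotheses of `S3904.case1` for the group `↥N`
  have H : ∀ y : ↥N, y ∉ Subgroup.center ↥N →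
      IsCoatom (Subgroup.centralizer ({y} : Set ↥N)) := by
    intro y hy
    rw [mem_center_sub_iff] at hy
    haveI := hnormal y y.2 hy
    have hp : (cz (y : G)).index.Prime :=
      Cfsg.Agent.S3904.index_prime_of_normal_coatom (h y y.2 hy)
    rw [centralizer_sub_eq]
    apply Cfsg.Agent.Lib.HW.isCoatom_of_index_prime
    have e : ((cz (y : G)).subgroupOf N).index = (cz (y : G)).index := by
      show (cz (y : G)).relIndex N = _
      rw [← Subgroup.relIndex_sup_right, sup_cz_eq_top h y.2 hy, Subgroup.relIndex_top_right]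
    rw [e]
    exact hp
  have hn : ∀ y : ↥N, (Subgroup.centralizer ({y} : Set ↥N)).Normal := by
    intro y
    rw [centralizer_sub_eq]
    by_cases hy : (y : G) ∈ Subgroup.centralizer (N : Set G)
    · have : (cz (y : G)).subgroupOf N = ⊤ := by
        rw [Subgroup.subgroupOf_eq_top]
        intro n hn
        rw [mem_cz]
        exact (Subgroup.mem_centralizer_iff.1 hy) n hn
      rw [this]
      infer_instance
    · exact Subgroup.Normal.subgroupOf (hnormal y y.2 hy) N
  have hna : ¬ IsMulCommutative ↥N := by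
    intro hc
    apply hkZ
    rw [Subgroup.mem_centralizer_iff]
    intro n hn
    have := hc.is_comm.comm (⟨n, hn⟩ : ↥N) ⟨k, hk⟩
    exact congrArg Subtype.val this
  exact Cfsg.Agent.S3904.case1 H hna hn

end Cfsg.Agent.Helper49.RelMaxB
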