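import Mathlib
import Cfsg.Agent.Helper83.Special
import Cfsg.Agent.Helper96.StPresA

/-!
# Rank-one Steinberg relations from a partner pair (helper49, for helper96's S5022, WANTED #3472 (P1))

For a special rank one pair `(A, B)`, a partner pair `(a, b)` with `a ^ p = 1` (`p` prime), the
functions `t ↦ a ^ t.val`, `t ↦ b ^ t.val` on `ZMod p` satisfy the relations `Rel` of
`Helper96.StPresA`.
-/

set_option autoImplicit false

namespace Cfsg.Agent.Helper49.RelPartner

open Cfsg.Agent.Helper83 Cfsg.Agent.Helper96.StPres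

variable {G : Type*} [Group G]

section pw

variable {p : ℕ} [Fact p.Prime]

/-- `x ^ s.val`, for `s : ZMod p`. -/
def pw (x : G) (s : ZMod p) : G := x ^ s.val

variable {x : G} (hx : x ^ p = 1)
include hx

theorem pw_add (s s' : ZMod p) : pw x (s + s') = pw x s * pw x s' := by
  unfold pw
  rw [ZMod.val_add, ← pow_eq_pow_mod _ hx, pow_add]

theorem pw_zero : pw x (0 : ZMod p) = 1 := by
  unfold pw
  rw [ZMod.val_zero, pow_zero]

theorem pw_neg (s : ZMod p) : pw x (-s) = (pw x s)⁻¹ := by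
  apply eq_inv_of_mul_eq_one_left
  rw [← pw_add hx, neg_add_cancel, pw_zero hx]

theorem pw_pow (s s' : ZMod p) : (pw x s) ^ s'.val = pw x (s * s') := by
  unfold pw
  rw [ZMod.val_mul, ← pow_eq_pow_mod _ hx, pow_mul]

theorem pw_one : pw x (1 : ZMod p) = x := by
  unfold pw
  rw [ZMod.val_one, pow_one]

end pw

/-- an element `≠ 1` with `x ^ p = 1` has no trivial power with exponent built from smaller
primes -/
theorem qs_of_pow_prime {p : ℕ} [hpp : Fact p.Prime] {x : G} (hx : x ^ p = 1) (hx1 : x ≠ 1) :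
    QS (p - 1) x := by
  intro e he hpe hxe
  have ho : orderOf x = p := by
    rcases (Nat.dvd_prime hpp.out).1 (orderOf_dvd_of_pow_eq_one hx) with h1 | h1
    · exact absurd (orderOf_eq_one_iff.1 h1) hx1
    · exact h1
  have hdvd : p ∣ e := by
    rw [← ho]; exact orderOf_dvd_of_pow_eq_one hxe
  have := hpe p hpp.out hdvd
  have hp1 : 1 < p := hpp.out.one_lt
  omega

/-- the partner pair `(a ^ t, b ^ (t⁻¹))` -/
theorem partner_pw {A B : Subgroup G} (h : Cfsg.IsRankOnePair A B) (hs : SpecialCond A B)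
    {p : ℕ} [hpp : Fact p.Prime] {a b : G} (hp : Partner A B a b) (ha : a ^ p = 1)
    (t : ZMod p) (ht : t ≠ 0) : Partner A B (pw a t) (pw b t⁻¹) := by
  have hb : b ^ p = 1 := (hs.pow_eq_one_iff hp p).mp ha
  have hp1 : 1 < p := hpp.out.one_lt
  have htinv : t⁻¹ ≠ 0 := inv_ne_zero ht
  have hj0 : (t⁻¹).val ≠ 0 := by
    rw [Ne, ZMod.val_eq_zero]; exact htinv
  have hjlt : (t⁻¹).val < p := ZMod.val_lt _
  have hob : orderOf b = p := by
    rcases (Nat.dvd_prime hpp.out).1 (orderOf_dvd_of_pow_eq_one hb) with h1 | h1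
    · exact absurd (orderOf_eq_one_iff.1 h1) hp.2.2.2.1
    · exact h1
  have hbj1 : b ^ (t⁻¹).val ≠ 1 := by
    intro h'
    have := orderOf_dvd_of_pow_eq_one h'
    rw [hob] at this
    have := Nat.le_of_dvd (Nat.pos_of_ne_zero hj0) this
    omega
  obtain ⟨z, hz⟩ := exists_partner_right h (B.pow_mem hp.2.2.1 (t⁻¹).val) hbj1
  have hzj : z ^ (t⁻¹).val = a :=
    special_root (p - 1) A B h hs a b z (t⁻¹).val hp (qs_of_pow_prime ha hp.2.1)
      (Nat.pos_of_ne_zero hj0) (by omega) hz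
  have hzp : z ^ p = 1 := by
    rw [hs.pow_eq_one_iff hz p, ← pow_mul, mul_comm, pow_mul, hb, one_pow]
  have hza : z = pw a t := by
    have h1 : pw z (t⁻¹ * t) = z := by
      rw [inv_mul_cancel₀ ht, pw_one hzp]
    rw [← pw_pow hzp] at h1
    have h2 : pw z t⁻¹ = a := hzj
    rw [h2] at h1
    exact h1.symm
  rw [← hza]
  exact hz

/-- the conjugation relation for the `a`-side -/
theorem conj_true {A B : Subgroup G} (h : Cfsg.IsRankOnePair A B) (hs : SpecialCond A B)
    {p : ℕ} [hpp : Fact p.Prime] {a b : G} (hp : Partner A B a b) (ha : a ^ p = 1)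
    (t u : ZMod p) (ht : t ≠ 0) :
    (pw a t * pw b (-t⁻¹) * pw a t) * pw a u * (pw a t * pw b (-t⁻¹) * pw a t)⁻¹ =
      pw b (-(t⁻¹ ^ 2 * u)) := by
  have hb : b ^ p = 1 := (hs.pow_eq_one_iff hp p).mp ha
  have hpart := partner_pw h hs hp ha t ht
  have hn := hs.n_conj_a hpart
  rw [pw_neg hb]
  have hu : pw a u = (pw a t) ^ (t⁻¹ * u).val := by
    rw [pw_pow ha, ← mul_assoc, mul_inv_cancel₀ ht, one_mul]
  rw [hu, ← conj_pow, hn, inv_pow, pw_pow hb, pw_neg hb]
  congr 2
  ring

/-- **(P1)** -/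
theorem rel_of_partner {G : Type*} [Group G] {A B : Subgroup G} (h : Cfsg.IsRankOnePair A B)
    (hs : SpecialCond A B) {p : ℕ} [Fact p.Prime] {a b : G} (hp : Partner A B a b)
    (ha : a ^ p = 1) :
    Rel (fun (c : Bool) (t : ZMod p) => if c then a ^ t.val else b ^ t.val) := by
  have hb : b ^ p = 1 := (hs.pow_eq_one_iff hp p).mp ha
  constructor
  · intro c t u
    cases c
    · exact pw_add hb t u
    · exact pw_add ha t u
  · intro c t u ht
    cases c
    · exact conj_true (Cfsg.RankOnePair_symm h) hs.swap hp.swap hb t u ht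
    · exact conj_true h hs hp ha t u ht

end Cfsg.Agent.Helper49.RelPartner
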