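import Mathlib
import Cfsg.Agent.Helper81.ResA2.Defs

/-!
# (QS) of helper81's ResA2 sub-farm (#14259, S5289 piece ALL2)
-/

set_option autoImplicit false
set_option linter.unusedSectionVars false
set_option linter.unusedVariables false

universe u

namespace Cfsg.Agent.Helper49.ResA2

open Cfsg.Agent.Helper81.ResA2

variable {G : Type u} [Group G] {p : ℕ} [hp : Fact p.Prime] {N : Subgroup G}

/-- a subgroup between `Q` (order `p²`) and `N` (order `p³`) is one of the two -/
theorem QS_between [Finite G] {Q C : Subgroup G} (hQC : Q ≤ C) (hCN : C ≤ N)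
    (hQ : Nat.card Q = p ^ 2) (hN : Nat.card N = p ^ 3) : C = Q ∨ C = N := by
  have hp' : p.Prime := hp.out
  have h1 : Nat.card C ∣ p ^ 3 := hN ▸ Subgroup.card_dvd_of_le hCN
  have h2 : p ^ 2 ∣ Nat.card C := hQ ▸ Subgroup.card_dvd_of_le hQC
  obtain ⟨j, hj, hCj⟩ := (Nat.dvd_prime_pow hp').mp h1
  rw [hCj] at h2
  have hj2 : 2 ≤ j := (Nat.pow_dvd_pow_iff_le_right hp'.one_lt).mp h2
  have hj' : j = 2 ∨ j = 3 := by omega
  rcases hj' with rfl | rfl
  · left
    exact (Subgroup.eq_of_le_of_card_ge hQC (by rw [hCj, hQ])).symm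
  · right
    exact Subgroup.eq_of_le_of_card_ge hCN (by rw [hCj, hN])

/-- (QS) a subgroup `Q ≤ N` of order `p²` contains `Z(N)` and is abelian. -/
theorem sq_struct (hc : Cf p N) (hZ : Nat.card (zN N) = p) (Q : Subgroup G) (hQN : Q ≤ N) (hQ : Nat.card Q = p ^ 2) :
    zN N ≤ Q ∧ ∀ a ∈ Q, ∀ b ∈ Q, a * b = b * a := by
  have hp' : p.Prime := hp.out
  have : Finite G := hc.fin
  have hab : ∀ a ∈ Q, ∀ b ∈ Q, a * b = b * a := by
    intro a ha b hb
    have := (IsPGroup.isMulCommutative_of_card_eq_prime_sq hQ).is_comm.comm ⟨a, ha⟩ ⟨b, hb⟩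
    exact congrArg Subtype.val this
  refine ⟨?_, hab⟩
  intro z hz
  by_contra hzQ
  obtain ⟨hzN, hzc⟩ := mem_zN.mp hz
  -- `C = C_N(Q)` contains `Q` and `z`
  have hQC : Q ≤ N ⊓ Subgroup.centralizer (Q : Set G) := by
    intro q hq
    refine Subgroup.mem_inf.mpr ⟨hQN hq, ?_⟩
    rw [Subgroup.mem_centralizer_iff]
    intro b hb
    exact hab b hb q hq
  have hzC : z ∈ N ⊓ Subgroup.centralizer (Q : Set G) := by
    refine Subgroup.mem_inf.mpr ⟨hzN, ?_⟩
    rw [Subgroup.mem_centralizer_iff]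
    intro b hb
    exact hzc b (hQN hb)
  rcases QS_between hQC inf_le_left hQ hc.card with h | h
  · rw [h] at hzC
    exact hzQ hzC
  · -- `C_N(Q) = N`: `Q ≤ Z(N)`, impossible by orders
    have hQZ : Q ≤ zN N := by
      intro q hq
      refine mem_zN.mpr ⟨hQN hq, ?_⟩
      intro g hg
      have hgC : g ∈ N ⊓ Subgroup.centralizer (Q : Set G) := by rw [h]; exact hg
      have := Subgroup.mem_centralizer_iff.mp (Subgroup.mem_inf.mp hgC).2 q hq
      exact this.symm
    have hle := Subgroup.card_le_of_le hQZ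
    rw [hQ, hZ] at hle
    have : p < p ^ 2 := by
      calc p = p ^ 1 := (pow_one p).symm
        _ < p ^ 2 := Nat.pow_lt_pow_right hp'.one_lt (by norm_num)
    omega

end Cfsg.Agent.Helper49.ResA2
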