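import Mathlib
import Cfsg.Agent.Helper81.ResA2.Defs
import Cfsg.Agent.Helper49.ResA2_QS

/-!
# (QC) of helper81's ResA2 sub-farm (#14259, S5289 piece ALL2)
-/

set_option autoImplicit false
set_option linter.unusedSectionVars false
set_option linter.unusedVariables false

universe u

namespace Cfsg.Agent.Helper49.ResA2

open Cfsg.Agent.Helper81.ResA2

variable {G : Type u} [Group G] {p : ℕ} [hp : Fact p.Prime] {N : Subgroup G}

/-- (QC) `Q ≤ N` of order `p²` abelian, `x ∈ Q ∖ Z(N)`: `C_N(x) = Q`. -/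
theorem sq_cent (hc : Cf p N) (Q : Subgroup G) (hQN : Q ≤ N) (hQ : Nat.card Q = p ^ 2)
    (hQab : ∀ a ∈ Q, ∀ b ∈ Q, a * b = b * a) :
    ∀ x ∈ Q, x ∉ zN N → ∀ g ∈ N, g * x = x * g → g ∈ Q := by
  have : Finite G := hc.fin
  intro x hxQ hxZ g hgN hgx
  have hQC : Q ≤ N ⊓ Subgroup.centralizer ({x} : Set G) := by
    intro q hq
    refine Subgroup.mem_inf.mpr ⟨hQN hq, ?_⟩
    rw [Subgroup.mem_centralizer_iff]
    intro b hb
    rw [Set.mem_singleton_iff] at hb
    subst hb
    exact hQab b hxQ q hq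
  have hgC : g ∈ N ⊓ Subgroup.centralizer ({x} : Set G) := by
    refine Subgroup.mem_inf.mpr ⟨hgN, ?_⟩
    rw [Subgroup.mem_centralizer_iff]
    intro b hb
    rw [Set.mem_singleton_iff] at hb
    subst hb
    exact hgx.symm
  rcases QS_between hQC inf_le_left hQ hc.card with h | h
  · rw [h] at hgC
    exact hgC
  · exfalso
    apply hxZ
    refine mem_zN.mpr ⟨hQN hxQ, ?_⟩
    intro k hk
    have hkC : k ∈ N ⊓ Subgroup.centralizer ({x} : Set G) := by rw [h]; exact hk
    have := Subgroup.mem_centralizer_iff.mp (Subgroup.mem_inf.mp hkC).2 x rfl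
    exact this.symm

end Cfsg.Agent.Helper49.ResA2
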