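import Mathlib
import Cfsg.Agent.Helper77.Res.Defs
import Cfsg.Agent.S0120
import Cfsg.Agent.Helper76.PGroup

/-!
# (LINE) of helper77's S5289 swarm (#14084): `Ω₁(P) ≅ C_p²` with an `A`-invariant line ⇒ `A` is `p`-closed
-/

set_option autoImplicit false
set_option linter.unusedSectionVars false
set_option linter.unusedVariables false

universe u

namespace Cfsg.Agent.Helper49.Res

open Subgroup Cfsg.Agent.Helper77.Res

variable {Ω : Type u} [Group Ω] {p : ℕ} [hp : Fact p.Prime]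

section localcfg

variable {T P : Subgroup Ω} {A : Subgroup (MulAut ↥P)} {B : Subgroup (MulAut ↥T)}

/-- conjugation by an element of the normalizer, as an automorphism of `P` -/
def LINE_conjAut (P : Subgroup Ω) (g : Ω) (hg : g ∈ Subgroup.normalizer (P : Set Ω)) : MulAut ↥P where
  toFun x := ⟨g * x * g⁻¹, (Subgroup.mem_normalizer_iff.mp hg x).mp x.2⟩
  invFun x := ⟨g⁻¹ * x * g, (Subgroup.mem_normalizer_iff''.mp hg x).mp x.2⟩
  left_inv x := by
    apply Subtype.ext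
    simp [mul_assoc]
  right_inv x := by
    apply Subtype.ext
    simp [mul_assoc]
  map_mul' x y := by
    apply Subtype.ext
    simp [mul_assoc]

theorem LINE_conjAut_apply (P : Subgroup Ω) (g : Ω) (hg : g ∈ Subgroup.normalizer (P : Set Ω))
    (x : P) : ((LINE_conjAut P g hg x : P) : Ω) = g * x * g⁻¹ := rfl

theorem LINE_conjBy_conjAut {T P : Subgroup Ω} (hn : T ≤ Subgroup.normalizer (P : Set Ω))
    (g : Ω) (hg : g ∈ T) : ConjBy T P (LINE_conjAut P g (hn hg)) :=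
  ⟨g, hg, fun _ => rfl⟩

omit hp in
/-- `Ω₁(P) ≤ P` -/
theorem LINE_omega_le (P : Subgroup Ω) : Cfsg.omegaOne p P ≤ P := by
  unfold Cfsg.omegaOne
  rw [Subgroup.closure_le]
  intro x hx
  exact hx.1

omit hp in
/-- automorphisms of `P` preserve `Ω₁(P)` -/
theorem LINE_omega_invariant (P : Subgroup Ω) (α : MulAut ↥P) (x : P)
    (hx : (x : Ω) ∈ Cfsg.omegaOne p P) : ((α x : P) : Ω) ∈ Cfsg.omegaOne p P := by
  have key : ∀ y : Ω, y ∈ Cfsg.omegaOne p P → ∃ h : y ∈ P, ((α ⟨y, h⟩ : P) : Ω) ∈ Cfsg.omegaOne p P := by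
    intro y hy
    unfold Cfsg.omegaOne at hy
    induction hy using Subgroup.closure_induction with
    | mem y hy =>
      refine ⟨hy.1, ?_⟩
      apply Subgroup.subset_closure
      refine ⟨(α ⟨y, hy.1⟩).2, ?_⟩
      have h1 : (⟨y, hy.1⟩ : P) ^ p = 1 := Subtype.ext (by simpa using hy.2)
      have h2 : (α ⟨y, hy.1⟩) ^ p = 1 := by rw [← map_pow, h1, map_one]
      simpa using congrArg (Subtype.val) h2
    | one =>
      refine ⟨P.one_mem, ?_⟩
      have : (⟨1, P.one_mem⟩ : P) = 1 := rfl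
      rw [this, map_one]
      exact Subgroup.one_mem _
    | mul a b _ _ iha ihb =>
      obtain ⟨ha, ha'⟩ := iha
      obtain ⟨hb, hb'⟩ := ihb
      refine ⟨P.mul_mem ha hb, ?_⟩
      have : (⟨a * b, P.mul_mem ha hb⟩ : P) = ⟨a, ha⟩ * ⟨b, hb⟩ := rfl
      rw [this, map_mul]
      exact Subgroup.mul_mem _ ha' hb'
    | inv a _ iha =>
      obtain ⟨ha, ha'⟩ := iha
      refine ⟨P.inv_mem ha, ?_⟩
      have : (⟨a⁻¹, P.inv_mem ha⟩ : P) = (⟨a, ha⟩ : P)⁻¹ := rfl
      rw [this, map_inv]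
      exact Subgroup.inv_mem _ ha'
  obtain ⟨h, h'⟩ := key x hx
  exact h'

/-- conjugation by `g ∈ T` centralizes the `T`-invariant line `L` and acts trivially on `Ω₁(P) / L` -/
theorem LINE_central_action (hc : Cfg p T P A B)
    (hRcard : Nat.card (Cfsg.omegaOne p P) = p ^ 2)
    (L : Subgroup Ω) (hL : L ≤ Cfsg.omegaOne p P) (hLcard : Nat.card L = p)
    (hLinv : ∀ α ∈ A, ∀ x : P, (x : Ω) ∈ L → ((α x : P) : Ω) ∈ L) (g : Ω) (hg : g ∈ T) :
    (∀ l ∈ L, g * l * g⁻¹ = l) ∧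
      (∀ x ∈ Cfsg.omegaOne p P, x⁻¹ * (g * x * g⁻¹) ∈ L) := by
  have hp' : p.Prime := hp.out
  have : Finite T := hc.fin
  have hRP : Cfsg.omegaOne p P ≤ P := LINE_omega_le (p := p) P
  have hRT : Cfsg.omegaOne p P ≤ T := hRP.trans hc.le
  have hLT : L ≤ T := hL.trans hRT
  have hLconj : ∀ t ∈ T, ∀ l ∈ L, t * l * t⁻¹ ∈ L := by
    intro t ht l hl
    have hlP : l ∈ P := hRP (hL hl)
    exact hLinv _ (hc.conj_mem _ (LINE_conjBy_conjAut hc.norm t ht)) ⟨l, hlP⟩ hl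
  have hRconj : ∀ t ∈ T, ∀ x ∈ Cfsg.omegaOne p P, t * x * t⁻¹ ∈ Cfsg.omegaOne p P := by
    intro t ht x hx
    exact LINE_omega_invariant P (LINE_conjAut P t (hc.norm ht)) ⟨x, hRP hx⟩ hx
  let LT : Subgroup T := L.subgroupOf T
  let RT : Subgroup T := (Cfsg.omegaOne p P).subgroupOf T
  have hLTn : LT.Normal := ⟨fun n hn t => by
    rw [Subgroup.mem_subgroupOf] at hn ⊢
    simpa using hLconj t t.2 n hn⟩
  have hRTn : RT.Normal := ⟨fun n hn t => by
    rw [Subgroup.mem_subgroupOf] at hn ⊢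
    simpa using hRconj t t.2 n hn⟩
  have hLTcard : Nat.card LT = p := by
    rw [Nat.card_congr (Subgroup.subgroupOfEquivOfLe hLT).toEquiv, hLcard]
  have hRTcard : Nat.card RT = p ^ 2 := by
    rw [Nat.card_congr (Subgroup.subgroupOfEquivOfLe hRT).toEquiv, hRcard]
  have hLTc : LT ≤ Subgroup.center T :=
    Cfsg.Agent.Helper76.normal_le_center_of_card_prime hc.pgrp LT hLTcard
  refine ⟨?_, ?_⟩
  · intro l hl
    have h1 : (⟨l, hLT hl⟩ : T) ∈ Subgroup.center T := hLTc (by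
      rw [Subgroup.mem_subgroupOf]; exact hl)
    have h2 := Subgroup.mem_center_iff.mp h1 ⟨g, hg⟩
    have h3 : g * l = l * g := congrArg Subtype.val h2
    rw [h3, mul_inv_cancel_right]
  · have hQ : IsPGroup p (T ⧸ LT) := hc.pgrp.to_quotient LT
    let π : T →* T ⧸ LT := QuotientGroup.mk' LT
    have hπ : Function.Surjective π := QuotientGroup.mk'_surjective LT
    let Rb : Subgroup (T ⧸ LT) := RT.map π
    have hRbn : Rb.Normal := Subgroup.Normal.map hRTn π hπ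
    have hLR : LT ≤ RT := fun x hx => by
      rw [Subgroup.mem_subgroupOf] at hx ⊢
      exact hL hx
    have hidx : Rb.index = RT.index :=
      Subgroup.index_map_eq RT hπ (by rw [QuotientGroup.ker_mk']; exact hLR)
    have hRbcard : Nat.card Rb = p := by
      have e1 := Subgroup.card_mul_index Rb
      have e2 := Subgroup.card_mul_index RT
      have e3 := Subgroup.card_eq_card_quotient_mul_card_subgroup LT
      rw [hidx] at e1
      rw [hRTcard] at e2
      rw [hLTcard] at e3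
      have hi : 0 < RT.index := Nat.pos_of_ne_zero Subgroup.index_ne_zero_of_finite
      have e4 : Nat.card (T ⧸ LT) * p = p * RT.index * p := by
        rw [← e3, ← e2]; ring
      have e5 : Nat.card (T ⧸ LT) = p * RT.index := Nat.eq_of_mul_eq_mul_right hp'.pos e4
      rw [e5] at e1
      exact Nat.eq_of_mul_eq_mul_right hi e1
    have hRbc : Rb ≤ Subgroup.center (T ⧸ LT) :=
      Cfsg.Agent.Helper76.normal_le_center_of_card_prime hQ Rb hRbcard
    intro x hx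
    have hxT : x ∈ T := hRT hx
    have h1 : π ⟨x, hxT⟩ ∈ Rb :=
      Subgroup.mem_map_of_mem _ (by rw [Subgroup.mem_subgroupOf]; exact hx)
    have h2 := Subgroup.mem_center_iff.mp (hRbc h1) (π ⟨g, hg⟩)
    have h3 : π ((⟨x, hxT⟩ : T)⁻¹ * (⟨g, hg⟩ * ⟨x, hxT⟩ * (⟨g, hg⟩ : T)⁻¹)) = 1 := by
      simp only [map_mul, map_inv]
      rw [h2]
      group
    rw [QuotientGroup.mk'_apply, QuotientGroup.eq_one_iff] at h3
    exact h3

/-- the kernel of the action of `A` on `L` and on `Ω₁(P) / L` -/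
def LINE_K1 (p : ℕ) (A : Subgroup (MulAut ↥P)) (L : Subgroup Ω) : Subgroup (MulAut ↥P) where
  carrier := {α | α ∈ A ∧ (∀ x : P, (x : Ω) ∈ L → α x = x) ∧
    (∀ x : P, (x : Ω) ∈ Cfsg.omegaOne p P → (x : Ω)⁻¹ * ((α x : P) : Ω) ∈ L)}
  mul_mem' := by
    rintro α α' ⟨hα, hα1, hα2⟩ ⟨hα', hα1', hα2'⟩
    refine ⟨A.mul_mem hα hα', ?_, ?_⟩
    · intro x hx
      rw [MulAut.mul_apply, hα1' x hx, hα1 x hx]
    · intro x hx
      have hl := hα2' x hx
      have e1 : α' x = x * (x⁻¹ * α' x) := by group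
      have hl' : ((x⁻¹ * α' x : P) : Ω) ∈ L := by simpa using hl
      rw [MulAut.mul_apply, e1, map_mul, hα1 _ hl']
      have := L.mul_mem (hα2 x hx) hl'
      simpa [mul_assoc] using this
  one_mem' := by
    refine ⟨A.one_mem, fun x _ => rfl, fun x _ => ?_⟩
    simp
  inv_mem' := by
    rintro α ⟨hα, hα1, hα2⟩
    refine ⟨A.inv_mem hα, ?_, ?_⟩
    · intro x hx
      have := hα1 x hx
      rw [MulAut.inv_apply, ← this, MulEquiv.symm_apply_apply, this]
    · intro x hx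
      have hy : ((α⁻¹ x : P) : Ω) ∈ Cfsg.omegaOne p P := LINE_omega_invariant P α⁻¹ x hx
      have h1 := hα2 (α⁻¹ x) hy
      rw [MulAut.apply_inv_self] at h1
      have h2 := L.inv_mem h1
      simpa using h2

theorem LINE_mem_K1 {A : Subgroup (MulAut ↥P)} {L : Subgroup Ω} {α : MulAut ↥P} :
    α ∈ LINE_K1 p A L ↔ α ∈ A ∧ (∀ x : P, (x : Ω) ∈ L → α x = x) ∧
      (∀ x : P, (x : Ω) ∈ Cfsg.omegaOne p P → (x : Ω)⁻¹ * ((α x : P) : Ω) ∈ L) := Iff.rfl

/-- an element of `K1` of order prime to `p` is trivial -/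
theorem LINE_K1_coprime [Finite P] (hp2 : p ≠ 2) (hPp : IsPGroup p P)
    (hRexp : ∀ r ∈ Cfsg.omegaOne p P, r ^ p = 1)
    (L : Subgroup Ω) (hL : L ≤ Cfsg.omegaOne p P) (β : MulAut ↥P) (hβ : β ∈ LINE_K1 p A L)
    (hcop : (orderOf β).Coprime p) : β = 1 := by
  obtain ⟨-, hβ1, hβ2⟩ := hβ
  apply Cfsg.Agent.S0120.result hp2 hPp β hcop
  intro x hx
  have hxR : (x : Ω) ∈ Cfsg.omegaOne p P := by
    apply Subgroup.subset_closure
    exact ⟨x.2, by simpa using congrArg Subtype.val hx⟩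
  set l : P := x⁻¹ * β x with hl
  have hlL : (l : Ω) ∈ L := by simpa [hl] using hβ2 x hxR
  have hβl : β l = l := hβ1 l hlL
  have hβx : β x = x * l := by rw [hl]; group
  have hpow : ∀ j : ℕ, (β ^ j) x = x * l ^ j := by
    intro j
    induction j with
    | zero => simp
    | succ j ih =>
      rw [pow_succ', MulAut.mul_apply, ih, map_mul, map_pow, hβl, hβx, mul_assoc, ← pow_succ']
  have h1 := hpow (orderOf β)
  rw [pow_orderOf_eq_one, MulAut.one_apply] at h1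
  have h2 : l ^ orderOf β = 1 := by
    have := h1.symm
    rwa [mul_eq_left] at this
  have h3 : l ^ p = 1 := by
    apply Subtype.ext
    simpa using hRexp _ (hL hlL)
  have h4 : l ^ Nat.gcd (orderOf β) p = 1 := pow_gcd_eq_one.mpr ⟨h2, h3⟩
  rw [Nat.Coprime.gcd_eq_one hcop, pow_one] at h4
  rw [hβx, h4, mul_one]

/-- `K1` is a `p`-group -/
theorem LINE_K1_pgroup [Finite P] (hp2 : p ≠ 2) (hPp : IsPGroup p P)
    (hRexp : ∀ r ∈ Cfsg.omegaOne p P, r ^ p = 1)
    (L : Subgroup Ω) (hL : L ≤ Cfsg.omegaOne p P) : IsPGroup p (LINE_K1 p A L) := by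
  have hp' : p.Prime := hp.out
  rintro ⟨α, hα⟩
  have hn : orderOf α ≠ 0 := (orderOf_pos α).ne'
  obtain ⟨e, m, hm, hnm⟩ := Nat.exists_eq_pow_mul_and_not_dvd hn p hp'.ne_one
  refine ⟨e, ?_⟩
  apply Subtype.ext
  rw [Subgroup.coe_pow, Subgroup.coe_one]
  apply LINE_K1_coprime hp2 hPp hRexp L hL (α ^ p ^ e) ((LINE_K1 p A L).pow_mem hα _)
  have hdvd : orderOf (α ^ p ^ e) ∣ m := by
    apply orderOf_dvd_of_pow_eq_one
    rw [← pow_mul, ← hnm, pow_orderOf_eq_one]
  exact Nat.Coprime.coprime_dvd_left hdvd ((Nat.Prime.coprime_iff_not_dvd hp').mpr hm).symm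

/-- (LINE) `R = Ω₁(P) ≅ C_p²` with an `A`-invariant subgroup `L` of order `p` ⇒ `A` is `p`-closed. -/
theorem pclosed_of_line (hp2 : p ≠ 2) (hc : Cfg p T P A B)
    (hRexp : ∀ r ∈ Cfsg.omegaOne p P, r ^ p = 1) (hRcard : Nat.card (Cfsg.omegaOne p P) = p ^ 2)
    (L : Subgroup Ω) (hL : L ≤ Cfsg.omegaOne p P) (hLcard : Nat.card L = p)
    (hLinv : ∀ α ∈ A, ∀ x : P, (x : Ω) ∈ L → ((α x : P) : Ω) ∈ L) : PClosed T P A := by
  have : Finite T := hc.fin
  have : Finite P :=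
    Finite.of_injective (Subgroup.inclusion hc.le) (Subgroup.inclusion_injective hc.le)
  have hPp : IsPGroup p P := hc.pgrp.to_le hc.le
  -- `Aut_T(P) ⊆ K1`
  have hsub : ∀ α : MulAut P, ConjBy T P α → α ∈ LINE_K1 p A L := by
    intro α hα
    obtain ⟨g, hg, hgα⟩ := hα
    obtain ⟨h1, h2⟩ := LINE_central_action hc hRcard L hL hLcard hLinv g hg
    refine ⟨hc.conj_mem α ⟨g, hg, hgα⟩, ?_, ?_⟩
    · intro x hx
      apply Subtype.ext
      rw [hgα x]
      exact h1 _ hx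
    · intro x hx
      rw [hgα x]
      exact h2 _ hx
  -- `K1` is normalized by `A`
  have hnorm : ∀ α ∈ A, ∀ β ∈ LINE_K1 p A L, α * β * α⁻¹ ∈ LINE_K1 p A L := by
    rintro α hα β ⟨hβ, hβ1, hβ2⟩
    refine ⟨A.mul_mem (A.mul_mem hα hβ) (A.inv_mem hα), ?_, ?_⟩
    · intro x hx
      have hy : ((α⁻¹ x : P) : Ω) ∈ L := hLinv _ (A.inv_mem hα) x hx
      rw [MulAut.mul_apply, MulAut.mul_apply, hβ1 _ hy, MulAut.apply_inv_self]
    · intro x hx
      have hy : ((α⁻¹ x : P) : Ω) ∈ Cfsg.omegaOne p P := LINE_omega_invariant P α⁻¹ x hx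
      set y : P := α⁻¹ x with hy'
      set l : P := y⁻¹ * β y with hl
      have hlL : (l : Ω) ∈ L := by simpa [hl] using hβ2 y hy
      have e1 : β y = y * l := by rw [hl]; group
      have e2 : α y = x := by rw [hy', MulAut.apply_inv_self]
      have e3 : (α * β * α⁻¹) x = x * α l := by
        rw [MulAut.mul_apply, MulAut.mul_apply, ← hy', e1, map_mul, e2]
      rw [e3]
      have := hLinv α hα l hlL
      simpa using this
  intro α hα β hβ
  have h1 := hnorm α hα β (hsub β hβ)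
  exact hc.sylow (LINE_K1 p A L) (fun γ hγ => hγ.1) (LINE_K1_pgroup hp2 hPp hRexp L hL) hsub _ h1

end localcfg

end Cfsg.Agent.Helper49.Res
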