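import Mathlib
import Cfsg.Agent.Helper49.FourGroup

set_option autoImplicit false
set_option linter.style.haveILetI false

/-!
Rigidity of fixed-point-free automorphisms of order 3 on four-groups inside an elementary abelian
2-group (helper49): two commuting automorphisms `s`, `s'` of order dividing 3 of `V` whose
commutators `[V, s] ⊆ W`, `[V, s'] ⊆ W'` lie in four-groups on which they act without fixed points,
with `W ∩ W' ≠ 1`, satisfy `s' = s` or `s' = s²`.
-/

namespace Cfsg.Agent.Helper49.Rigid

open Cfsg.Agent.Helper49.JComp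

variable {V : Type*} [CommGroup V]

/-- an automorphism `s` of order dividing 3 of an elementary abelian 2-group `V` with `[V, s] ⊆ W`,
`W` a four-group on which `s` is fixed-point-free. -/
structure Act (s : V ≃* V) (W : Subgroup V) : Prop where
  sq : ∀ v : V, v * v = 1
  cube : ∀ v, s (s (s v)) = v
  four : IsFour W
  comm : ∀ v, s v * v ∈ W
  fpf : ∀ w ∈ W, s w = w → w = 1

/-- `[x, s] = [[x · s² x, s], s]`. -/
theorem comm_eq_comm_comm {s : V ≃* V} (hsq : ∀ v : V, v * v = 1)
    (hcube : ∀ v, s (s (s v)) = v) (x : V) :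
    s (s (x * s (s x)) * (x * s (s x))) * (s (x * s (s x)) * (x * s (s x))) = s x * x := by
  simp only [map_mul, hcube]
  have : s (s x) * s x * (s x * x) * (s x * x * (x * s (s x))) =
      (s (s x) * s (s x)) * (s x * s x) * (x * x) * (s x * x) := by ac_rfl
  rw [this, hsq (s (s x)), hsq (s x), hsq x, one_mul, one_mul, one_mul]

namespace Act

variable {s s' : V ≃* V} {W W' : Subgroup V}

theorem inv_eq (h : Act s W) (v : V) : v⁻¹ = v := inv_eq_of_mul_eq_one_left (h.sq v)

theorem map_mem (h : Act s W) {w : V} (hw : w ∈ W) : s w ∈ W := by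
  have h1 : s w = (s w * w) * w := by rw [mul_assoc, h.sq w, mul_one]
  rw [h1]
  exact mul_mem (h.comm w) hw

theorem norm (h : Act s W) {w : V} (hw : w ∈ W) : w * s w * s (s w) = 1 := by
  apply h.fpf _ (mul_mem (mul_mem hw (h.map_mem hw)) (h.map_mem (h.map_mem hw)))
  rw [map_mul, map_mul, h.cube w]
  ac_rfl

theorem sq_apply (h : Act s W) {w : V} (hw : w ∈ W) : s (s w) = w * s w := by
  have h1 := h.norm hw
  have h2 : s (s w) = (w * s w)⁻¹ := eq_inv_of_mul_eq_one_right h1
  rw [h2, h.inv_eq]

theorem cases (h : Act s W) {t : V} (ht : t ∈ W) (ht1 : t ≠ 1) {w : V} (hw : w ∈ W) :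
    w = 1 ∨ w = t ∨ w = s t ∨ w = s (s t) := by
  by_cases hw1 : w = 1
  · left; exact hw1
  by_cases hwt : w = t
  · right; left; exact hwt
  right; right
  have hst1 : s t ≠ 1 := by
    intro hc
    apply ht1
    have : s t = s 1 := by rw [hc, map_one]
    exact s.injective this
  have hstt : s t ≠ t := fun hc => ht1 (h.fpf t ht hc)
  rcases h.four.eq_or_eq_mul ht ht1 (h.map_mem ht) hw hst1 hstt hw1 hwt with h1 | h1
  · left; exact h1
  · right; rw [h1, h.sq_apply ht]

/-- the square of `s` is again such an automorphism. -/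
theorem sq' (h : Act s W) : Act (s.trans s) W where
  sq := h.sq
  cube := by
    intro v
    simp only [MulEquiv.trans_apply]
    rw [h.cube, h.cube]
  four := h.four
  comm := by
    intro v
    simp only [MulEquiv.trans_apply]
    have h1 : s (s v) * v = (s (s v) * s v) * (s v * v) := by
      rw [mul_assoc, ← mul_assoc (s v) (s v) v, h.sq (s v), one_mul]
    rw [h1]
    exact mul_mem (h.comm (s v)) (h.comm v)
  fpf := by
    intro w hw hfix
    simp only [MulEquiv.trans_apply] at hfix
    apply h.fpf w hw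
    have h1 := congrArg s hfix
    rw [h.cube] at h1
    exact h1.symm

/-- every element of `W` is a commutator. -/
theorem eq_comm (h : Act s W) {w : V} (hw : w ∈ W) : s (s w) * s w = w := by
  have h1 := h.norm hw
  have h2 : s (s w) * s w = w⁻¹ := by
    apply eq_inv_of_mul_eq_one_left
    rw [← h1]
    ac_rfl
  rw [h2, h.inv_eq]

/-- `W'` is invariant under an automorphism commuting with `s'`. -/
theorem map_mem_of_commute (h' : Act s' W') (hcomm : ∀ v, s (s' v) = s' (s v)) {w : V}
    (hw : w ∈ W') : s w ∈ W' := by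
  have h1 := h'.eq_comm hw
  rw [← h1, map_mul, hcomm]
  exact h'.comm (s (s' w))

theorem eq_of_eq (h : Act s W) (h' : Act s' W') (hcomm : ∀ v, s (s' v) = s' (s v)) {t : V}
    (ht : t ∈ W) (ht' : t ∈ W') (ht1 : t ≠ 1) (hst : s' t = s t) : ∀ v, s' v = s v := by
  -- `W ≤ W'`
  have hle : W ≤ W' := by
    intro w hw
    rcases h.cases ht ht1 hw with rfl | rfl | rfl | rfl
    · exact one_mem _
    · exact ht'
    · rw [← hst]; exact h'.map_mem ht'
    · rw [← hst, hcomm, ← hst]; exact h'.map_mem (h'.map_mem ht')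
  have hWW : W = W' := by
    haveI : Finite ↥W' := Nat.finite_of_card_ne_zero (by rw [h'.four.card]; norm_num)
    apply Subgroup.eq_of_le_of_card_ge hle
    rw [h.four.card, h'.four.card]
  -- on `W`
  have hW : ∀ w ∈ W, s' w = s w := by
    intro w hw
    rcases h.cases ht ht1 hw with rfl | rfl | rfl | rfl
    · rw [map_one, map_one]
    · exact hst
    · rw [← hcomm, hst]
    · rw [← hcomm, ← hcomm, hst]
  -- on fixed points
  have hF : ∀ f : V, s f = f → s' f = f := by
    intro f hf
    have hc : s' f * f ∈ W := by rw [hWW]; exact h'.comm f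
    have h1 : s (s' f * f) = s' f * f := by rw [map_mul, hcomm, hf]
    have h2 := h.fpf _ hc h1
    have h3 : s' f = f⁻¹ := eq_inv_of_mul_eq_one_left h2
    rw [h3, h.inv_eq]
  intro v
  obtain ⟨f, hf⟩ : ∃ f, f = v * s v * s (s v) := ⟨_, rfl⟩
  obtain ⟨w, hw⟩ : ∃ w, w = s v * s (s v) := ⟨_, rfl⟩
  have hsf : s f = f := by
    rw [hf, map_mul, map_mul, h.cube]
    ac_rfl
  have hwW : w ∈ W := by
    have h1 : w = s (s v * v) := by rw [hw, map_mul, mul_comm]
    rw [h1]
    exact h.map_mem (h.comm v)
  have hv : v = f * w := by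
    rw [hf, hw]
    have : v * s v * s (s v) * (s v * s (s v)) = v * ((s v * s (s v)) * (s v * s (s v))) := by
      ac_rfl
    rw [this, h.sq, mul_one]
  rw [hv, map_mul, map_mul, hF f hsf, hW w hwW, hsf]

/-- Rigidity. -/
theorem rigid (h : Act s W) (h' : Act s' W') (hcomm : ∀ v, s (s' v) = s' (s v)) {t : V}
    (ht : t ∈ W) (ht' : t ∈ W') (ht1 : t ≠ 1) :
    (∀ v, s' v = s v) ∨ (∀ v, s' v = s (s v)) := by
  -- `W ≤ W'`
  have hle : W ≤ W' := by
    intro w hw
    rcases h.cases ht ht1 hw with rfl | rfl | rfl | rfl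
    · exact one_mem _
    · exact ht'
    · exact map_mem_of_commute h' hcomm ht'
    · exact map_mem_of_commute h' hcomm (map_mem_of_commute h' hcomm ht')
  have hWW : W = W' := by
    haveI : Finite ↥W' := Nat.finite_of_card_ne_zero (by rw [h'.four.card]; norm_num)
    apply Subgroup.eq_of_le_of_card_ge hle
    rw [h.four.card, h'.four.card]
  have hs't : s' t ∈ W := by rw [hWW]; exact h'.map_mem ht'
  have hs't1 : s' t ≠ 1 := by
    intro hc
    apply ht1
    have : s' t = s' 1 := by rw [hc, map_one]
    exact s'.injective this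
  have hs'tt : s' t ≠ t := fun hc => ht1 (h'.fpf t ht' hc)
  rcases h.cases ht ht1 hs't with h1 | h1 | h1 | h1
  · exact absurd h1 hs't1
  · exact absurd h1 hs'tt
  · left
    exact eq_of_eq h h' hcomm ht ht' ht1 h1
  · right
    have hcomm2 : ∀ v, (s.trans s) (s' v) = s' ((s.trans s) v) := by
      intro v
      simp only [MulEquiv.trans_apply]
      rw [hcomm, hcomm]
    have := eq_of_eq h.sq' h' hcomm2 ht ht' ht1 (by simpa using h1)
    intro v
    simpa using this v

end Act

end Cfsg.Agent.Helper49.Rigid
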