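import Mathlib
import Cfsg.Agent.Helper10.Card

set_option autoImplicit false
set_option linter.style.haveILetI false

/-!
A counting lemma (helper49; KS 9.3 / 12.1): an elementary abelian 2-group `W` on which `S₃ = ⟨x, a⟩`
acts with `x` fixed-point-freely, together with an elementary abelian 2-group `A ∋ a` normalizing
`W`, a subgroup `A₁` of index at most 2 in `A` commuting with `x` on `W`, and the Thompson
inequality `|B| |C_W(B)| ≤ |A| |B ∩ W|` for all `B ≤ A`, has order 4.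
-/

namespace Cfsg.Agent.Helper49.S3Count

open Subgroup

variable {L : Type*} [Group L]

theorem mem_centralizer_singleton {g v : L} : g ∈ centralizer ({v} : Set L) ↔ v * g = g * v := by
  rw [mem_centralizer_iff]
  constructor
  · intro h; exact h v rfl
  · rintro h _ rfl; exact h

theorem conj_eq_iff_commute {g v : L} : g * v * g⁻¹ = v ↔ v * g = g * v := by
  constructor
  · intro h
    calc v * g = (g * v * g⁻¹) * g := by rw [h]
      _ = g * v := by group
  · intro h
    calc g * v * g⁻¹ = (v * g) * g⁻¹ := by rw [h]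
      _ = v := by group

theorem mem_centralizer_singleton' {g v : L} :
    g ∈ centralizer ({v} : Set L) ↔ v * g * v⁻¹ = g := by
  rw [mem_centralizer_singleton, conj_eq_iff_commute, eq_comm]

/-- A quasi-fixed vector modulo an invariant subgroup, for an elementary abelian 2-group acting on
an elementary abelian 2-group. -/
theorem exists_quasi_fixed [Finite L] {M F B : Subgroup L}
    (hMc : ∀ u ∈ M, ∀ v ∈ M, u * v = v * u) (hM2 : ∀ v ∈ M, v * v = 1)
    (hBc : ∀ b ∈ B, ∀ b' ∈ B, b * b' = b' * b) (hB2 : ∀ b ∈ B, b * b = 1)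
    (hBM : ∀ b ∈ B, ∀ v ∈ M, b * v * b⁻¹ ∈ M) (hne : ¬ M ≤ F) :
    ∃ v ∈ M, v ∉ F ∧ ∀ b ∈ B, v * (b * v * b⁻¹) ∈ F := by
  classical
  set S : Set L := {v | v ∈ M ∧ v ∉ F} with hS
  have hSne : S.Nonempty := by
    by_contra hc
    rw [Set.not_nonempty_iff_eq_empty] at hc
    apply hne
    intro v hv
    by_contra hvF
    have : v ∈ S := ⟨hv, hvF⟩
    rw [hc] at this
    exact this
  obtain ⟨v, hvS, hmax⟩ := Set.exists_max_image S
    (fun v => Nat.card ↥(B ⊓ centralizer ({v} : Set L))) (Set.toFinite _) hSne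
  refine ⟨v, hvS.1, hvS.2, ?_⟩
  intro b hb
  by_contra hv'
  set v' := v * (b * v * b⁻¹) with hv'def
  have hbv : b * v * b⁻¹ ∈ M := hBM b hb v hvS.1
  have hv'M : v' ∈ M := mul_mem hvS.1 hbv
  have hv'S : v' ∈ S := ⟨hv'M, hv'⟩
  have hbinv : b⁻¹ = b := inv_eq_of_mul_eq_one_left (hB2 b hb)
  have hle : B ⊓ centralizer ({v} : Set L) ≤ B ⊓ centralizer ({v'} : Set L) := by
    intro q hq
    refine mem_inf.2 ⟨(mem_inf.1 hq).1, ?_⟩
    have hqv : v * q = q * v := mem_centralizer_singleton.1 (mem_inf.1 hq).2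
    have hqb : q * b = b * q := hBc q (mem_inf.1 hq).1 b hb
    rw [mem_centralizer_singleton, hv'def]
    have hqb' : q * b⁻¹ = b⁻¹ * q := by rw [hbinv]; exact hqb
    calc v * (b * v * b⁻¹) * q = v * (b * v * (b⁻¹ * q)) := by group
      _ = v * (b * v * (q * b⁻¹)) := by rw [hqb']
      _ = v * (b * (v * q) * b⁻¹) := by group
      _ = v * (b * (q * v) * b⁻¹) := by rw [hqv]
      _ = v * ((b * q) * v * b⁻¹) := by group
      _ = v * ((q * b) * v * b⁻¹) := by rw [hqb]
      _ = (v * q) * (b * v * b⁻¹) := by group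
      _ = (q * v) * (b * v * b⁻¹) := by rw [hqv]
      _ = q * (v * (b * v * b⁻¹)) := by group
  have hbv' : b ∈ B ⊓ centralizer ({v'} : Set L) := by
    refine mem_inf.2 ⟨hb, ?_⟩
    rw [mem_centralizer_singleton, ← conj_eq_iff_commute, hv'def]
    have h1 : b * (v * (b * v * b⁻¹)) * b⁻¹ = (b * v * b⁻¹) * ((b * b) * v * (b * b)⁻¹) := by
      group
    rw [h1, hB2 b hb, inv_one, mul_one, one_mul]
    exact hMc _ hbv _ hvS.1
  have hcard := hmax v' hv'S
  have heq : B ⊓ centralizer ({v} : Set L) = B ⊓ centralizer ({v'} : Set L) :=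
    Subgroup.eq_of_le_of_card_ge hle hcard
  have hbv0 : b ∈ B ⊓ centralizer ({v} : Set L) := by rw [heq]; exact hbv'
  have hcomm : v * b = b * v := mem_centralizer_singleton.1 (mem_inf.1 hbv0).2
  apply hv'
  have : v' = 1 := by
    rw [hv'def, conj_eq_iff_commute.2 hcomm]
    exact hM2 v hvS.1
  rw [this]; exact one_mem _

/-- If every element of `A` lies in `B` or in `B c`, then `|A| ≤ 2 |B|`. -/
theorem card_le_two_mul [Finite L] {A B : Subgroup L} {c : L}
    (h : ∀ b ∈ A, b ∈ B ∨ b * c⁻¹ ∈ B) : Nat.card A ≤ 2 * Nat.card B := by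
  classical
  have : Nat.card A ≤ Nat.card (Bool × B) := by
    apply Nat.card_le_card_of_injective
      (fun b : A => if hb : (b : L) ∈ B then ((false, ⟨b, hb⟩) : Bool × B)
        else (true, ⟨(b : L) * c⁻¹, (h b b.2).resolve_left hb⟩))
    intro b b' hbb'
    by_cases hb : (b : L) ∈ B <;> by_cases hb' : (b' : L) ∈ B
    · simp only [hb, hb', dite_true] at hbb'
      have := congrArg (fun p : Bool × B => (p.2 : L)) hbb'
      exact Subtype.ext this
    · simp only [hb, hb', dite_true, dite_false] at hbb'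
      have := congrArg (fun p : Bool × B => p.1) hbb'
      simp at this
    · simp only [hb, hb', dite_true, dite_false] at hbb'
      have := congrArg (fun p : Bool × B => p.1) hbb'
      simp at this
    · simp only [hb, hb', dite_false] at hbb'
      have := congrArg (fun p : Bool × B => (p.2 : L)) hbb'
      simp only at this
      exact Subtype.ext (mul_right_cancel this)
  rw [Nat.card_prod, Nat.card_eq_fintype_card (α := Bool), Fintype.card_bool] at this
  exact this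

/-- In a group of order 2 two nontrivial elements coincide. -/
theorem eq_of_card_two {F : Subgroup L} (hF : Nat.card F = 2) {f₁ f₂ : L} (h₁ : f₁ ∈ F)
    (h₂ : f₂ ∈ F) (h₁1 : f₁ ≠ 1) (h₂1 : f₂ ≠ 1) : f₁ = f₂ := by
  obtain ⟨x, y, hxy, huniv⟩ := Nat.card_eq_two_iff.1 hF
  have hmem : ∀ z : F, z = x ∨ z = y := by
    intro z
    have : z ∈ ({x, y} : Set F) := by rw [huniv]; trivial
    simpa using this
  have key : ∀ z w : F, z ≠ 1 → w ≠ 1 → z = w := by
    intro z w hz hw
    rcases hmem 1 with h1 | h1 <;> rcases hmem z with hz' | hz' <;> rcases hmem w with hw' | hw'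
    all_goals first
      | (exfalso; apply hz; rw [hz', ← h1])
      | (exfalso; apply hw; rw [hw', ← h1])
      | (rw [hz', hw'])
  have := key ⟨f₁, h₁⟩ ⟨f₂, h₂⟩ (fun hc => h₁1 (congrArg Subtype.val hc))
    (fun hc => h₂1 (congrArg Subtype.val hc))
  exact congrArg Subtype.val this

section S3

variable [Finite L] {X : Subgroup L} {x a : L}

/-- The `S₃`-lemma: `|X| = |C_X(a)|²`. -/
theorem card_eq_sq (hX2 : ∀ w ∈ X, w * w = 1) (hXc : ∀ u ∈ X, ∀ v ∈ X, u * v = v * u)
    (hxX : ∀ w ∈ X, x * w * x⁻¹ ∈ X) (haX : ∀ w ∈ X, a * w * a⁻¹ ∈ X) (ha2 : a * a = 1)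
    (hx3 : x * x * x = 1) (hfpf : ∀ w ∈ X, x * w * x⁻¹ = w → w = 1)
    (hinv : ∀ w ∈ X, (a * x * a⁻¹) * w * (a * x * a⁻¹)⁻¹ = x⁻¹ * w * x) :
    Nat.card X = Nat.card ↥(X ⊓ centralizer ({a} : Set L)) ^ 2 := by
  classical
  set Xa := X ⊓ centralizer ({a} : Set L) with hXa
  have hainv : a⁻¹ = a := inv_eq_of_mul_eq_one_left ha2
  apply le_antisymm
  · -- `|X| ≤ |X_a|²` via `w ↦ w (a w a⁻¹)`
    let f : ↥X →* ↥X := MonoidHom.mk' (fun w => ⟨(w : L) * (a * w * a⁻¹), mul_mem w.2 (haX w w.2)⟩)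
      (by
        intro u v
        apply Subtype.ext
        show (u : L) * v * (a * (u * v) * a⁻¹) = u * (a * u * a⁻¹) * (v * (a * v * a⁻¹))
        have h1 : a * ((u : L) * v) * a⁻¹ = (a * u * a⁻¹) * (a * v * a⁻¹) := by group
        rw [h1]
        have h2 := hXc v v.2 (a * u * a⁻¹) (haX u u.2)
        calc (u : L) * v * ((a * u * a⁻¹) * (a * v * a⁻¹))
            = u * (v * (a * u * a⁻¹)) * (a * v * a⁻¹) := by group
          _ = u * ((a * u * a⁻¹) * v) * (a * v * a⁻¹) := by rw [h2]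
          _ = _ := by group)
    have hker : Nat.card f.ker ≤ Nat.card Xa := by
      apply Nat.card_le_card_of_injective (fun k : f.ker => (⟨((k : X) : L), by
        refine mem_inf.2 ⟨(k : X).2, ?_⟩
        rw [mem_centralizer_singleton']
        have hk : f k = 1 := k.2
        have hk' : ((k : X) : L) * (a * (k : X) * a⁻¹) = 1 := congrArg Subtype.val hk
        have h2 := hX2 _ (k : X).2
        have : a * ((k : X) : L) * a⁻¹ = ((k : X) : L)⁻¹ := by
          exact (eq_inv_of_mul_eq_one_right hk')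
        rw [this]
        exact inv_eq_of_mul_eq_one_left h2⟩ : Xa))
      intro k k' hkk'
      have := congrArg (fun z : Xa => (z : L)) hkk'
      exact Subtype.ext (Subtype.ext this)
    have hrange : Nat.card f.range ≤ Nat.card Xa := by
      apply Nat.card_le_card_of_injective (fun r : f.range => (⟨((r : X) : L), by
        refine mem_inf.2 ⟨(r : X).2, ?_⟩
        obtain ⟨w, hw⟩ := r.2
        rw [mem_centralizer_singleton']
        have hw' : ((r : X) : L) = (w : L) * (a * w * a⁻¹) := (congrArg Subtype.val hw).symm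
        rw [hw']
        have h1 : a * ((w : L) * (a * w * a⁻¹)) * a⁻¹ = (a * w * a⁻¹) * ((a * a) * w * (a * a)⁻¹) := by
          group
        rw [h1, ha2, inv_one, mul_one, one_mul]
        exact hXc _ (haX w w.2) _ w.2⟩ : Xa))
      intro r r' hrr'
      have := congrArg (fun z : Xa => (z : L)) hrr'
      exact Subtype.ext (Subtype.ext this)
    have h1 : Nat.card f.ker * Nat.card f.range = Nat.card X := by
      rw [← Subgroup.index_ker, Subgroup.card_mul_index]
    rw [← h1, pow_two]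
    exact Nat.mul_le_mul hker hrange
  · -- `|X_a|² ≤ |X|`
    set Xa' := Xa.map (MulAut.conj x).toMonoidHom with hXa'
    have hXaX : Xa ≤ X := inf_le_left
    have hXa'X : Xa' ≤ X := by
      rintro _ ⟨w, hw, rfl⟩
      exact hxX w (hXaX hw)
    have hcard' : Nat.card Xa' = Nat.card Xa :=
      Subgroup.card_map_of_injective (MulAut.conj x).injective
    have hinf : Xa ⊓ Xa' = ⊥ := by
      rw [eq_bot_iff]
      rintro w ⟨hw1, ⟨w', hw', hww'⟩⟩
      rw [mem_bot]
      have hwX : w ∈ X := hXaX hw1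
      have hwa : a * w * a⁻¹ = w := mem_centralizer_singleton'.1 (mem_inf.1 hw1).2
      have hw'a : a * w' * a⁻¹ = w' := mem_centralizer_singleton'.1 (mem_inf.1 hw').2
      have hww'' : x * w' * x⁻¹ = w := hww'
      -- `w` is fixed by `x a x⁻¹`
      have h1 : (x * a * x⁻¹) * w * (x * a * x⁻¹)⁻¹ = w := by
        rw [← hww'']
        calc (x * a * x⁻¹) * (x * w' * x⁻¹) * (x * a * x⁻¹)⁻¹ = x * (a * w' * a⁻¹) * x⁻¹ := by group
          _ = x * w' * x⁻¹ := by rw [hw'a]
      -- hence by `(x a x⁻¹) a⁻¹`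
      have h2 : ((x * a * x⁻¹) * a⁻¹) * w * ((x * a * x⁻¹) * a⁻¹)⁻¹ = w := by
        have hwa' : a⁻¹ * w * a = w := by
          calc a⁻¹ * w * a = a⁻¹ * (a * w * a⁻¹) * a := by rw [hwa]
            _ = w := by group
        calc ((x * a * x⁻¹) * a⁻¹) * w * ((x * a * x⁻¹) * a⁻¹)⁻¹
            = (x * a * x⁻¹) * (a⁻¹ * w * a) * (x * a * x⁻¹)⁻¹ := by group
          _ = (x * a * x⁻¹) * w * (x * a * x⁻¹)⁻¹ := by rw [hwa']
          _ = w := h1
      -- `(x a x⁻¹) a⁻¹ = x (a x a⁻¹)⁻¹` acts as `x²`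
      have h3 : (a * x * a⁻¹)⁻¹ * w * (a * x * a⁻¹) = x * w * x⁻¹ := by
        have := hinv (x * w * x⁻¹) (hxX w hwX)
        have h4 : x⁻¹ * (x * w * x⁻¹) * x = w := by group
        rw [h4] at this
        calc (a * x * a⁻¹)⁻¹ * w * (a * x * a⁻¹)
            = (a * x * a⁻¹)⁻¹ * ((a * x * a⁻¹) * (x * w * x⁻¹) * (a * x * a⁻¹)⁻¹) * (a * x * a⁻¹) := by
              rw [this]
          _ = x * w * x⁻¹ := by group
      have h5 : x * (x * w * x⁻¹) * x⁻¹ = w := by
        rw [← h3]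
        calc x * ((a * x * a⁻¹)⁻¹ * w * (a * x * a⁻¹)) * x⁻¹
            = ((x * a * x⁻¹) * a⁻¹) * w * ((x * a * x⁻¹) * a⁻¹)⁻¹ := by group
          _ = w := h2
      apply hfpf w hwX
      have hx3' : x * x = x⁻¹ := by
        have : x * x * x * x⁻¹ = x⁻¹ := by rw [hx3, one_mul]
        rw [← this]; group
      calc x * w * x⁻¹ = x * (x * (x * w * x⁻¹) * x⁻¹) * x⁻¹ := by rw [h5]
        _ = (x * x * x) * w * (x * x * x)⁻¹ := by group
        _ = w := by rw [hx3]; group
    have hnorm : Xa ≤ normalizer (Xa' : Set L) := by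
      intro u hu
      rw [mem_normalizer_iff]
      intro n
      have key : ∀ n ∈ Xa', u * n * u⁻¹ = n := by
        intro n hn
        rw [hXc u (hXaX hu) n (hXa'X hn)]; group
      constructor
      · intro hn; rw [key n hn]; exact hn
      · intro hn
        have hn' : u * n * u⁻¹ ∈ X := hXa'X hn
        have h6 : n = u⁻¹ * (u * n * u⁻¹) * u := by group
        have hm := hXc (u * n * u⁻¹) hn' u (hXaX hu)
        have h7 : u⁻¹ * (u * n * u⁻¹) * u = u * n * u⁻¹ := by
          calc u⁻¹ * (u * n * u⁻¹) * u = u⁻¹ * ((u * n * u⁻¹) * u) := by group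
            _ = u⁻¹ * (u * (u * n * u⁻¹)) := by rw [hm]
            _ = u * n * u⁻¹ := by group
        rw [h6, h7]; exact hn
    have h1 := Cfsg.Agent.Helper10.card_sup_mul_card_inf Xa Xa' hnorm
    rw [hinf, Subgroup.card_bot, mul_one, hcard'] at h1
    rw [pow_two, ← h1]
    exact Subgroup.card_le_of_le (sup_le hXaX hXa'X)

end S3

section Main

variable [Finite L] {W A A₁ : Subgroup L} {x a : L}

/-- The counting theorem. -/
theorem card_eq_four (hW2 : ∀ w ∈ W, w * w = 1) (hWc : ∀ u ∈ W, ∀ v ∈ W, u * v = v * u)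
    (hW1 : W ≠ ⊥)
    (hAc : ∀ b ∈ A, ∀ b' ∈ A, b * b' = b' * b) (hA2 : ∀ b ∈ A, b * b = 1)
    (hAW : ∀ b ∈ A, ∀ w ∈ W, b * w * b⁻¹ ∈ W) (hxW : ∀ w ∈ W, x * w * x⁻¹ ∈ W)
    (hx3 : x * x * x = 1) (hfpf : ∀ w ∈ W, x * w * x⁻¹ = w → w = 1)
    (haA : a ∈ A) (hA₁ : A₁ ≤ A) (hidx : ∀ b ∈ A, b ∈ A₁ ∨ b * a⁻¹ ∈ A₁)
    (hinv : ∀ w ∈ W, (a * x * a⁻¹) * w * (a * x * a⁻¹)⁻¹ = x⁻¹ * w * x)
    (hcomm : ∀ q ∈ A₁, ∀ w ∈ W, q * (x * w * x⁻¹) * q⁻¹ = x * (q * w * q⁻¹) * x⁻¹)
    (TI : ∀ B : Subgroup L, B ≤ A →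
      Nat.card B * Nat.card ↥(W ⊓ centralizer (B : Set L)) ≤ Nat.card A * Nat.card ↥(B ⊓ W)) :
    Nat.card W = 4 := by
  classical
  have ha2 : a * a = 1 := hA2 a haA
  have haW : ∀ w ∈ W, a * w * a⁻¹ ∈ W := hAW a haA
  set F := W ⊓ centralizer (A : Set L) with hF
  have hFW : F ≤ W := inf_le_left
  -- invariance of `C_W(B)` for `B ≤ A₁`
  have hinvar : ∀ B : Subgroup L, B ≤ A₁ →
      (∀ w ∈ W ⊓ centralizer (B : Set L), x * w * x⁻¹ ∈ W ⊓ centralizer (B : Set L)) ∧
      (∀ w ∈ W ⊓ centralizer (B : Set L), a * w * a⁻¹ ∈ W ⊓ centralizer (B : Set L)) := by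
    intro B hB
    constructor
    · intro w hw
      refine mem_inf.2 ⟨hxW w (mem_inf.1 hw).1, ?_⟩
      rw [mem_centralizer_iff]
      intro q hq
      have h1 : q * w * q⁻¹ = w := by
        rw [mem_centralizer_iff.1 (mem_inf.1 hw).2 q hq]; group
      have h2 := hcomm q (hB hq) w (mem_inf.1 hw).1
      rw [h1] at h2
      calc q * (x * w * x⁻¹) = (q * (x * w * x⁻¹) * q⁻¹) * q := by group
        _ = x * w * x⁻¹ * q := by rw [h2]
    · intro w hw
      refine mem_inf.2 ⟨haW w (mem_inf.1 hw).1, ?_⟩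
      rw [mem_centralizer_iff]
      intro q hq
      have h1 : q * w = w * q := mem_centralizer_iff.1 (mem_inf.1 hw).2 q hq
      have h2 : q * a = a * q := hAc q (hA₁ (hB hq)) a haA
      have h3 : a⁻¹ * q = q * a⁻¹ := by
        calc a⁻¹ * q = a⁻¹ * (q * a) * a⁻¹ := by group
          _ = a⁻¹ * (a * q) * a⁻¹ := by rw [h2]
          _ = q * a⁻¹ := by group
      calc q * (a * w * a⁻¹) = (q * a) * w * a⁻¹ := by group
        _ = (a * q) * w * a⁻¹ := by rw [h2]
        _ = a * (q * w) * a⁻¹ := by group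
        _ = a * (w * q) * a⁻¹ := by rw [h1]
        _ = a * w * (q * a⁻¹) := by group
        _ = a * w * (a⁻¹ * q) := by rw [h3]
        _ = a * w * a⁻¹ * q := by group
  -- the square formula for `C_W(B)`, `B ≤ A₁`
  have hsq : ∀ B : Subgroup L, B ≤ A₁ → Nat.card ↥(W ⊓ centralizer (B : Set L)) =
      Nat.card ↥((W ⊓ centralizer (B : Set L)) ⊓ centralizer ({a} : Set L)) ^ 2 := by
    intro B hB
    have hXW : W ⊓ centralizer (B : Set L) ≤ W := inf_le_left
    exact card_eq_sq (fun w hw => hW2 w (hXW hw)) (fun u hu v hv => hWc u (hXW hu) v (hXW hv))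
      (hinvar B hB).1 (hinvar B hB).2 ha2 hx3 (fun w hw => hfpf w (hXW hw))
      (fun w hw => hinv w (hXW hw))
  -- `C_{C_W(A₁)}(a) = F`
  have hF1 : (W ⊓ centralizer (A₁ : Set L)) ⊓ centralizer ({a} : Set L) = F := by
    apply le_antisymm
    · intro w hw
      refine mem_inf.2 ⟨(mem_inf.1 (mem_inf.1 hw).1).1, ?_⟩
      rw [mem_centralizer_iff]
      intro b hb
      have hwa : a * w = w * a := mem_centralizer_singleton.1 (mem_inf.1 hw).2
      have hwA₁ := mem_centralizer_iff.1 (mem_inf.1 (mem_inf.1 hw).1).2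
      rcases hidx b hb with h1 | h1
      · exact hwA₁ b h1
      · have h2 := hwA₁ _ h1
        calc b * w = (b * a⁻¹) * (a * w) := by group
          _ = (b * a⁻¹) * (w * a) := by rw [hwa]
          _ = ((b * a⁻¹) * w) * a := by group
          _ = (w * (b * a⁻¹)) * a := by rw [h2]
          _ = w * b := by group
    · intro w hw
      refine mem_inf.2 ⟨mem_inf.2 ⟨(mem_inf.1 hw).1, ?_⟩, ?_⟩
      · exact centralizer_le hA₁ (mem_inf.1 hw).2
      · rw [mem_centralizer_singleton]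
        exact mem_centralizer_iff.1 (mem_inf.1 hw).2 a haA
  have hcardA : Nat.card A ≤ 2 * Nat.card A₁ := card_le_two_mul hidx
  -- elements of `A ∩ W` are in `F`
  have hAWF : ∀ B : Subgroup L, B ≤ A → B ⊓ W ≤ F := by
    intro B hB w hw
    refine mem_inf.2 ⟨(mem_inf.1 hw).2, ?_⟩
    rw [mem_centralizer_iff]
    intro b hb
    exact hAc b hb w (hB (mem_inf.1 hw).1)
  -- `F ≠ ⊥`
  have hFne : F ≠ ⊥ := by
    have hne : ¬ W ≤ (⊥ : Subgroup L) := fun hc => hW1 (le_bot_iff.1 hc)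
    obtain ⟨v, hvW, hv1, hv⟩ := exists_quasi_fixed hWc hW2 hAc hA2 hAW hne
    intro hbot
    apply hv1
    have : v ∈ F := by
      refine mem_inf.2 ⟨hvW, ?_⟩
      rw [mem_centralizer_iff]
      intro b hb
      have h1 := hv b hb
      rw [mem_bot] at h1
      have h2 : b * v * b⁻¹ = v := by
        have h3 : b * v * b⁻¹ = v⁻¹ := (eq_inv_of_mul_eq_one_right h1)
        rw [h3]
        exact inv_eq_of_mul_eq_one_left (hW2 v hvW)
      exact (conj_eq_iff_commute.1 h2).symm
    rw [hbot] at this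
    exact this
  -- `|F| = 2`
  have hFcard : Nat.card F = 2 := by
    have h1 := TI A₁ hA₁
    rw [hsq A₁ le_rfl, hF1] at h1
    have h2 : Nat.card ↥(A₁ ⊓ W) ≤ Nat.card F := Subgroup.card_le_of_le (hAWF A₁ hA₁)
    have hA₁pos : 0 < Nat.card A₁ := Nat.card_pos
    have hFpos : 0 < Nat.card F := Nat.card_pos
    have h3 : Nat.card A₁ * Nat.card F ^ 2 ≤ 2 * Nat.card A₁ * Nat.card F :=
      h1.trans (Nat.mul_le_mul hcardA h2)
    have h4 : Nat.card F ≤ 2 := by
      by_contra hc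
      push Not at hc
      have h3' : 3 ≤ Nat.card F := hc
      have hnf : 0 < Nat.card A₁ * Nat.card F := Nat.mul_pos hA₁pos hFpos
      have e1 : Nat.card A₁ * Nat.card F ^ 2 = (Nat.card A₁ * Nat.card F) * Nat.card F := by ring
      have e2 : 2 * Nat.card A₁ * Nat.card F = (Nat.card A₁ * Nat.card F) * 2 := by ring
      have e3 : (Nat.card A₁ * Nat.card F) * 3 ≤ (Nat.card A₁ * Nat.card F) * Nat.card F :=
        Nat.mul_le_mul_left _ h3'
      rw [e1, e2] at h3
      omega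
    have h5 : Nat.card F ≠ 1 := fun hc => hFne (Subgroup.card_eq_one.1 hc)
    omega
  -- `M = C_W(a)`
  set M := W ⊓ centralizer ({a} : Set L) with hM
  have hMW : M ≤ W := inf_le_left
  have hFM : F ≤ M := by
    intro w hw
    refine mem_inf.2 ⟨(mem_inf.1 hw).1, ?_⟩
    rw [mem_centralizer_singleton]
    exact mem_centralizer_iff.1 (mem_inf.1 hw).2 a haA
  have hWsq : Nat.card W = Nat.card M ^ 2 :=
    card_eq_sq hW2 hWc hxW haW ha2 hx3 hfpf hinv
  have hMF : M ≤ F := by
    by_contra hne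
    have hA₁c : ∀ b ∈ A₁, ∀ b' ∈ A₁, b * b' = b' * b := fun b hb b' hb' =>
      hAc b (hA₁ hb) b' (hA₁ hb')
    have hA₁M : ∀ b ∈ A₁, ∀ v ∈ M, b * v * b⁻¹ ∈ M := by
      intro b hb v hv
      refine mem_inf.2 ⟨hAW b (hA₁ hb) v (mem_inf.1 hv).1, ?_⟩
      rw [mem_centralizer_singleton']
      have h1 : a * v * a⁻¹ = v := mem_centralizer_singleton'.1 (mem_inf.1 hv).2
      have h2 : a * b = b * a := hAc a haA b (hA₁ hb)
      have h3 : b⁻¹ * a⁻¹ = a⁻¹ * b⁻¹ := by rw [← mul_inv_rev, ← mul_inv_rev, h2]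
      calc a * (b * v * b⁻¹) * a⁻¹ = (a * b) * v * (b⁻¹ * a⁻¹) := by group
        _ = (b * a) * v * (a⁻¹ * b⁻¹) := by rw [h2, h3]
        _ = b * (a * v * a⁻¹) * b⁻¹ := by group
        _ = b * v * b⁻¹ := by rw [h1]
    obtain ⟨v, hvM, hvF, hv⟩ := exists_quasi_fixed
      (fun u hu v hv => hWc u (hMW hu) v (hMW hv)) (fun v hv => hW2 v (hMW hv)) hA₁c
      (fun b hb => hA2 b (hA₁ hb)) hA₁M hne
    have hvW : v ∈ W := hMW hvM
    set B₀ := A₁ ⊓ centralizer ({v} : Set L) with hB₀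
    have hB₀A₁ : B₀ ≤ A₁ := inf_le_left
    -- `|A₁| ≤ 2 |B₀|`
    have hcardA₁ : Nat.card A₁ ≤ 2 * Nat.card B₀ := by
      by_cases hall : A₁ ≤ B₀
      · have : Nat.card A₁ ≤ Nat.card B₀ := Subgroup.card_le_of_le hall
        omega
      · obtain ⟨c, hcA₁, hcB₀⟩ := SetLike.not_le_iff_exists.1 hall
        apply card_le_two_mul (c := c)
        intro b hb
        by_cases hbB₀ : b ∈ B₀
        · left; exact hbB₀
        · right
          refine mem_inf.2 ⟨mul_mem hb (inv_mem hcA₁), ?_⟩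
          have hne1 : ∀ d ∈ A₁, d ∉ B₀ → v * (d * v * d⁻¹) ≠ 1 := by
            intro d hd hdB₀ h1
            apply hdB₀
            refine mem_inf.2 ⟨hd, ?_⟩
            rw [mem_centralizer_singleton, ← conj_eq_iff_commute]
            have h3 : d * v * d⁻¹ = v⁻¹ := (eq_inv_of_mul_eq_one_right h1)
            rw [h3]
            exact inv_eq_of_mul_eq_one_left (hW2 v hvW)
          have h1 := eq_of_card_two hFcard (hv b hb) (hv c hcA₁) (hne1 b hb hbB₀)
            (hne1 c hcA₁ hcB₀)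
          have h2 : b * v * b⁻¹ = c * v * c⁻¹ := mul_left_cancel h1
          rw [mem_centralizer_singleton, ← conj_eq_iff_commute]
          have hbc : c⁻¹ * b = b * c⁻¹ := by
            have := hA₁c b hb c hcA₁
            calc c⁻¹ * b = c⁻¹ * (b * c) * c⁻¹ := by group
              _ = c⁻¹ * (c * b) * c⁻¹ := by rw [this]
              _ = b * c⁻¹ := by group
          calc (b * c⁻¹) * v * (b * c⁻¹)⁻¹ = (c⁻¹ * b) * v * (c⁻¹ * b)⁻¹ := by rw [hbc]
            _ = c⁻¹ * (b * v * b⁻¹) * c := by group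
            _ = c⁻¹ * (c * v * c⁻¹) * c := by rw [h2]
            _ = v := by group
    -- the centralizer of `B₀` in `W`
    have h1 := TI B₀ (hB₀A₁.trans hA₁)
    rw [hsq B₀ hB₀A₁] at h1
    set n := Nat.card ↥((W ⊓ centralizer (B₀ : Set L)) ⊓ centralizer ({a} : Set L)) with hn
    have hn3 : 3 ≤ n := by
      have hle : F ≤ (W ⊓ centralizer (B₀ : Set L)) ⊓ centralizer ({a} : Set L) := by
        intro w hw
        refine mem_inf.2 ⟨mem_inf.2 ⟨(mem_inf.1 hw).1, ?_⟩, (mem_inf.1 (hFM hw)).2⟩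
        exact centralizer_le (hB₀A₁.trans hA₁) (mem_inf.1 hw).2
      have hvmem : v ∈ (W ⊓ centralizer (B₀ : Set L)) ⊓ centralizer ({a} : Set L) := by
        refine mem_inf.2 ⟨mem_inf.2 ⟨hvW, ?_⟩, (mem_inf.1 hvM).2⟩
        rw [mem_centralizer_iff]
        intro q hq
        exact (mem_centralizer_singleton.1 (mem_inf.1 hq).2).symm
      have hlt : Nat.card F < n := by
        rw [hn]
        by_contra hc
        push Not at hc
        have := Subgroup.eq_of_le_of_card_ge hle hc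
        apply hvF
        rw [this]; exact hvmem
      omega
    have h2 : Nat.card ↥(B₀ ⊓ W) ≤ 2 := by
      rw [← hFcard]
      exact Subgroup.card_le_of_le (hAWF B₀ (hB₀A₁.trans hA₁))
    have hB₀pos : 0 < Nat.card B₀ := Nat.card_pos
    have h3 : Nat.card B₀ * n ^ 2 ≤ (2 * (2 * Nat.card B₀)) * 2 := by
      calc Nat.card B₀ * n ^ 2 ≤ Nat.card A * Nat.card ↥(B₀ ⊓ W) := h1
        _ ≤ (2 * (2 * Nat.card B₀)) * 2 :=
          Nat.mul_le_mul (hcardA.trans (Nat.mul_le_mul_left 2 hcardA₁)) h2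
    have h4 : 9 ≤ n ^ 2 := by nlinarith
    nlinarith
  have hMcard : Nat.card M = 2 := by
    rw [← hFcard]
    exact le_antisymm (Subgroup.card_le_of_le hMF) (Subgroup.card_le_of_le hFM)
  rw [hWsq, hMcard]
  norm_num

end Main

end Cfsg.Agent.Helper49.S3Count
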