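import Mathlib

/-!
# (R0a) of #10685 for helper62 (S3333): the Sylow 2-subgroups of `N_G(S)` are dihedral of order 8
when `|S| = 9` and `N_G(S)/S ≅ D₈`.
-/

set_option autoImplicit false

universe u

namespace Cfsg.Agent.Helper49.S6

/-- a Sylow 2-subgroup of a group `N` with a normal subgroup of order 9 and quotient `D₈` maps
isomorphically onto the quotient -/
theorem s6R0a_aux {N : Type u} [Group N] [Finite N] (S' : Subgroup N) [S'.Normal]
    (hS'card : Nat.card S' = 9) (eN : N ⧸ S' ≃* DihedralGroup 4) (T : Sylow 2 N) :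
    Nonempty (↥(T : Subgroup N) ≃* DihedralGroup 4) := by
  classical
  have : Fact (Nat.Prime 2) := ⟨Nat.prime_two⟩
  have : Fact (Nat.Prime 3) := ⟨Nat.prime_three⟩
  have hQcard : Nat.card (N ⧸ S') = 8 := by
    rw [Nat.card_congr eN.toEquiv, DihedralGroup.nat_card]
  have hNcard : Nat.card N = 72 := by
    rw [Subgroup.card_eq_card_quotient_mul_card_subgroup S', hQcard, hS'card]
  -- |T| = 8
  have hTcard : Nat.card (T : Subgroup N) = 8 := by
    obtain ⟨k, hk⟩ := T.isPGroup'.exists_card_eq
    have hmul := (T : Subgroup N).card_mul_index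
    rw [hNcard, hk] at hmul
    have hodd : ¬ 2 ∣ (T : Subgroup N).index := T.not_dvd_index
    have hk6 : k ≤ 6 := by
      by_contra hlt
      have h7 : 2 ^ 7 ≤ 2 ^ k := Nat.pow_le_pow_right (by norm_num) (by omega)
      have hpos : 0 < (T : Subgroup N).index := by
        rcases Nat.eq_zero_or_pos (T : Subgroup N).index with h0 | h0
        · rw [h0] at hmul; omega
        · exact h0
      have : 2 ^ 7 * 1 ≤ 2 ^ k * (T : Subgroup N).index := Nat.mul_le_mul h7 hpos
      omega
    rw [hk]
    interval_cases k <;> norm_num at hmul ⊢ <;> omega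
  -- the map `T → N/S'`
  let φ : ↥(T : Subgroup N) →* N ⧸ S' := (QuotientGroup.mk' S').comp (T : Subgroup N).subtype
  have hS'3 : IsPGroup 3 S' := IsPGroup.of_card (n := 2) (by rw [hS'card]; norm_num)
  have hdisj : Disjoint (T : Subgroup N) S' :=
    IsPGroup.disjoint_of_ne 2 3 (by norm_num) _ _ T.isPGroup' hS'3
  have hinj : Function.Injective φ := by
    rw [injective_iff_map_eq_one]
    intro a ha
    have h1 : (a : N) ∈ S' := by
      have : (QuotientGroup.mk' S') (a : N) = 1 := ha
      rwa [QuotientGroup.mk'_apply, QuotientGroup.eq_one_iff] at this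
    have h2 : (a : N) ∈ (T : Subgroup N) ⊓ S' := ⟨a.2, h1⟩
    rw [hdisj.eq_bot, Subgroup.mem_bot] at h2
    exact Subtype.ext h2
  have hbij : Function.Bijective φ := by
    apply Function.Injective.bijective_of_nat_card_le hinj
    rw [hQcard, hTcard]
  exact ⟨(MulEquiv.ofBijective φ hbij).trans eN⟩

variable {G : Type u} [Group G] [Finite G]

/-- (R0a) the Sylow 2-subgroups of `N = N_G(S)` are dihedral of order 8. -/
theorem sylow_two_iso (S : Subgroup G) (hcard : Nat.card S = 9)
    (eN : ↥(Subgroup.normalizer (S : Set G)) ⧸ S.subgroupOf (Subgroup.normalizer (S : Set G)) ≃*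
      DihedralGroup 4)
    (T : Sylow 2 ↥(Subgroup.normalizer (S : Set G))) :
    Nonempty (↥(T : Subgroup ↥(Subgroup.normalizer (S : Set G))) ≃* DihedralGroup 4) := by
  have hS'card : Nat.card (S.subgroupOf (Subgroup.normalizer (S : Set G))) = 9 := by
    rw [Nat.card_congr (Subgroup.subgroupOfEquivOfLe (Subgroup.le_normalizer)).toEquiv, hcard]
  exact s6R0a_aux _ hS'card eN T

end Cfsg.Agent.Helper49.S6
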