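import Mathlib

/-!
# (Q1) of board #4752 (helper85, S5287): data of a generalized quaternion 2-group of order `≥ 16`
(helper49)
-/

set_option autoImplicit false
set_option linter.style.haveILetI false

namespace Cfsg.Agent.Helper49.SSQ1

open QuaternionGroup

section zmod

variable {n : ℕ}

theorem natCast_n_add_self : ((n : ℕ) : ZMod (2 * n)) + (n : ℕ) = 0 := by
  rw [← Nat.cast_add, ← two_mul]
  exact ZMod.natCast_self (2 * n)

theorem natCast_n_ne_zero (hn : 0 < n) : ((n : ℕ) : ZMod (2 * n)) ≠ 0 := by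
  rw [Ne, ZMod.natCast_eq_zero_iff]
  intro h
  have := Nat.le_of_dvd hn h
  omega

/-- `2 j = 0` in `ZMod (2n)` means `j ∈ {0, n}`. -/
theorem eq_zero_or_of_two_mul (hn : 0 < n) (j : ZMod (2 * n)) (h : 2 * j = 0) :
    j = 0 ∨ j = (n : ℕ) := by
  haveI : NeZero (2 * n) := ⟨by omega⟩
  have hj : ((j.val : ℕ) : ZMod (2 * n)) = j := ZMod.natCast_zmod_val j
  have h1 : ((2 * j.val : ℕ) : ZMod (2 * n)) = 0 := by
    rw [Nat.cast_mul, hj]
    exact_mod_cast h
  rw [ZMod.natCast_eq_zero_iff] at h1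
  have h2 : n ∣ j.val := Nat.dvd_of_mul_dvd_mul_left (by norm_num) h1
  have h3 : j.val < 2 * n := ZMod.val_lt j
  obtain ⟨k, hk⟩ := h2
  have hk2 : k < 2 := by
    by_contra hcon
    have : 2 ≤ k := by omega
    have : n * 2 ≤ n * k := Nat.mul_le_mul_left n this
    omega
  interval_cases k
  · left
    rw [← hj, hk]; simp
  · right
    rw [← hj, hk]; simp

variable (n)

/-- `n / 2` in `ZMod (2n)` -/
def cc : ZMod (2 * n) := ((n / 2 : ℕ) : ZMod (2 * n))

/-- `n / 4` in `ZMod (2n)` -/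
def dd : ZMod (2 * n) := ((n / 4 : ℕ) : ZMod (2 * n))

variable {n}

theorem dd_add_dd (h4 : 4 ∣ n) : dd n + dd n = cc n := by
  unfold dd cc
  rw [← Nat.cast_add]
  congr 1
  omega

theorem cc_add_cc (h4 : 4 ∣ n) : cc n + cc n = ((n : ℕ) : ZMod (2 * n)) := by
  unfold cc
  rw [← Nat.cast_add]
  congr 1
  omega

theorem two_mul_cc (h4 : 4 ∣ n) : 2 * cc n = ((n : ℕ) : ZMod (2 * n)) := by
  have := cc_add_cc h4
  linear_combination this

theorem two_mul_dd (h4 : 4 ∣ n) : 2 * dd n = cc n := by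
  have := dd_add_dd h4
  linear_combination this

theorem four_mul_cc (h4 : 4 ∣ n) : 4 * cc n = 0 := by
  have h1 := two_mul_cc h4
  have h2 := natCast_n_add_self (n := n)
  linear_combination 2 * h1 + h2

theorem four_mul_dd (h4 : 4 ∣ n) : 4 * dd n = ((n : ℕ) : ZMod (2 * n)) := by
  have h1 := two_mul_dd h4
  have h2 := two_mul_cc h4
  linear_combination 2 * h1 + h2

theorem two_mul_cc_ne (hn : 0 < n) (h4 : 4 ∣ n) : 2 * cc n ≠ 0 := by
  rw [two_mul_cc h4]
  exact natCast_n_ne_zero hn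

theorem four_ne_zero' (hn : 4 ≤ n) : (4 : ZMod (2 * n)) ≠ 0 := by
  have h : ((4 : ℕ) : ZMod (2 * n)) ≠ 0 := by
    rw [Ne, ZMod.natCast_eq_zero_iff]
    intro h
    have := Nat.le_of_dvd (by norm_num) h
    omega
  exact_mod_cast h

/-- `4 i = 0` means `i ∈ {0, c, 2c, 3c}`. -/
theorem exists_mul_cc_of_four_mul (hn : 0 < n) (h4 : 4 ∣ n) (i : ZMod (2 * n)) (h : 4 * i = 0) :
    ∃ k : ℕ, i = k * cc n := by
  have h1 : 2 * (2 * i) = 0 := by linear_combination h
  rcases eq_zero_or_of_two_mul hn _ h1 with h2 | h2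
  · rcases eq_zero_or_of_two_mul hn _ h2 with h3 | h3
    · exact ⟨0, by rw [h3]; simp⟩
    · refine ⟨2, ?_⟩
      rw [h3, ← two_mul_cc h4]; norm_num
  · have h3 : 2 * (i - cc n) = 0 := by
      have := two_mul_cc h4
      linear_combination h2 - this
    rcases eq_zero_or_of_two_mul hn _ h3 with h5 | h5
    · refine ⟨1, ?_⟩
      have : i = cc n := by linear_combination h5
      rw [this]; simp
    · refine ⟨3, ?_⟩
      have := two_mul_cc h4
      have : i = 3 * cc n := by linear_combination h5 - this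
      rw [this]; norm_num

/-- `4 i = 0`, `2 i ≠ 0` means `i = ± c`. -/
theorem eq_cc_or_neg (hn : 0 < n) (h4 : 4 ∣ n) (i : ZMod (2 * n)) (h : 4 * i = 0)
    (h2 : 2 * i ≠ 0) : i = cc n ∨ i = - cc n := by
  have h1 : 2 * (2 * i) = 0 := by linear_combination h
  rcases eq_zero_or_of_two_mul hn _ h1 with h3 | h3
  · exact absurd h3 h2
  · have h5 : 2 * (i - cc n) = 0 := by
      have := two_mul_cc h4
      linear_combination h3 - this
    rcases eq_zero_or_of_two_mul hn _ h5 with h6 | h6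
    · left
      linear_combination h6
    · right
      have h7 := two_mul_cc h4
      have h8 := natCast_n_add_self (n := n)
      linear_combination h6 + h7 + h8

end zmod

section quat

variable {n : ℕ}

theorem inv_a' (i : ZMod (2 * n)) : (a i : QuaternionGroup n)⁻¹ = a (-i) := rfl

theorem inv_xa' (i : ZMod (2 * n)) :
    (xa i : QuaternionGroup n)⁻¹ = xa (((n : ℕ) : ZMod (2 * n)) + i) := rfl

theorem a_pow' (i : ZMod (2 * n)) (k : ℕ) :
    (a i : QuaternionGroup n) ^ k = a ((k : ZMod (2 * n)) * i) := by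
  induction k with
  | zero => simp
  | succ k ih =>
    rw [pow_succ, ih, a_mul_a]
    congr 1
    push_cast
    ring

variable (n)

/-- the subgroup `{a i, xa i | 4 i = 0}` -/
def E0 : Subgroup (QuaternionGroup n) where
  carrier := {g | match g with
    | a i => 4 * i = 0
    | xa i => 4 * i = 0}
  one_mem' := by
    show 4 * (0 : ZMod (2 * n)) = 0
    simp
  mul_mem' := by
    have hnn := natCast_n_add_self (n := n)
    rintro (i | i) (j | j) hi hj
    · show 4 * (i + j) = 0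
      have hi' : 4 * i = 0 := hi
      have hj' : 4 * j = 0 := hj
      linear_combination hi' + hj'
    · show 4 * (j - i) = 0
      have hi' : 4 * i = 0 := hi
      have hj' : 4 * j = 0 := hj
      linear_combination hj' - hi'
    · show 4 * (i + j) = 0
      have hi' : 4 * i = 0 := hi
      have hj' : 4 * j = 0 := hj
      linear_combination hi' + hj'
    · show 4 * ((n : ℕ) + j - i) = 0
      have hi' : 4 * i = 0 := hi
      have hj' : 4 * j = 0 := hj
      linear_combination 2 * hnn + hj' - hi'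
  inv_mem' := by
    have hnn := natCast_n_add_self (n := n)
    rintro (i | i) hi
    · show 4 * (-i) = 0
      have hi' : 4 * i = 0 := hi
      linear_combination -hi'
    · show 4 * ((n : ℕ) + i) = 0
      have hi' : 4 * i = 0 := hi
      linear_combination 2 * hnn + hi'

variable {n}

theorem a_mem_E0 (i : ZMod (2 * n)) : a i ∈ E0 n ↔ 4 * i = 0 := Iff.rfl

theorem xa_mem_E0 (i : ZMod (2 * n)) : xa i ∈ E0 n ↔ 4 * i = 0 := Iff.rfl

theorem closure_eq_E0 (hn : 0 < n) (h4 : 4 ∣ n) :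
    Subgroup.closure ({a (cc n), xa 0} : Set (QuaternionGroup n)) = E0 n := by
  apply le_antisymm
  · rw [Subgroup.closure_le]
    rintro x (rfl | hx)
    · exact (a_mem_E0 _).2 (four_mul_cc h4)
    · rw [Set.mem_singleton_iff] at hx
      rw [hx]
      exact (xa_mem_E0 _).2 (by simp)
  · have hu : (a (cc n) : QuaternionGroup n) ∈
        Subgroup.closure ({a (cc n), xa 0} : Set (QuaternionGroup n)) :=
      Subgroup.subset_closure (by simp)
    have hv : (xa 0 : QuaternionGroup n) ∈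
        Subgroup.closure ({a (cc n), xa 0} : Set (QuaternionGroup n)) :=
      Subgroup.subset_closure (by simp)
    have ha : ∀ i : ZMod (2 * n), 4 * i = 0 → (a i : QuaternionGroup n) ∈
        Subgroup.closure ({a (cc n), xa 0} : Set (QuaternionGroup n)) := by
      intro i hi
      obtain ⟨k, rfl⟩ := exists_mul_cc_of_four_mul hn h4 i hi
      rw [← a_pow']
      exact Subgroup.pow_mem _ hu k
    rintro (i | i) hi
    · exact ha i hi
    · have : (xa i : QuaternionGroup n) = xa 0 * a i := by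
        rw [xa_mul_a, zero_add]
      rw [this]
      exact Subgroup.mul_mem _ hv (ha i hi)

/-- the centralizer of `E0` lies in `E0`. -/
theorem cent_E0 (hn : 0 < n) (h4 : 4 ∣ n) (g : QuaternionGroup n)
    (hg : ∀ y ∈ E0 n, g * y = y * g) : g ∈ E0 n := by
  rcases g with i | i
  · have h1 := hg (xa 0) ((xa_mem_E0 _).2 (by simp))
    rw [a_mul_xa, xa_mul_a] at h1
    have h2 : (0 : ZMod (2 * n)) - i = 0 + i := xa.inj h1
    rw [a_mem_E0]
    linear_combination (-2 : ZMod (2 * n)) * h2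
  · exfalso
    have h1 := hg (a (cc n)) ((a_mem_E0 _).2 (four_mul_cc h4))
    rw [a_mul_xa, xa_mul_a] at h1
    have h2 : i + cc n = i - cc n := xa.inj h1
    apply two_mul_cc_ne hn h4
    linear_combination h2

theorem w_not_mem_E0 (hn : 0 < n) (h4 : 4 ∣ n) : (a (dd n) : QuaternionGroup n) ∉ E0 n := by
  rw [a_mem_E0, four_mul_dd h4]
  exact natCast_n_ne_zero hn

theorem w_normalizes_E0 (h4 : 4 ∣ n) (y : QuaternionGroup n) (hy : y ∈ E0 n) :
    a (dd n) * y * (a (dd n))⁻¹ ∈ E0 n := by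
  have hd := two_mul_dd h4
  have hc := four_mul_cc h4
  rcases y with j | j
  · rw [inv_a', a_mul_a, a_mul_a, a_mem_E0]
    have hj : 4 * j = 0 := hy
    linear_combination hj
  · rw [inv_a', a_mul_xa, xa_mul_a, xa_mem_E0]
    have hj : 4 * j = 0 := hy
    linear_combination hj - 4 * hd - hc

/-- the normalizer of `E0` is `E0 ∪ w E0`. -/
theorem norm_E0 (hn : 0 < n) (h4 : 4 ∣ n) (g : QuaternionGroup n)
    (hg : ∀ y ∈ E0 n, g * y * g⁻¹ ∈ E0 n) : g ∈ E0 n ∨ (a (dd n))⁻¹ * g ∈ E0 n := by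
  have hnn := natCast_n_add_self (n := n)
  have hd4 := four_mul_dd h4
  rcases g with i | i
  · have h1 := hg (xa 0) ((xa_mem_E0 _).2 (by simp))
    rw [inv_a', a_mul_xa, xa_mul_a, xa_mem_E0] at h1
    have h2 : 2 * (4 * i) = 0 := by linear_combination (-1 : ZMod (2 * n)) * h1
    rcases eq_zero_or_of_two_mul hn _ h2 with h3 | h3
    · left
      exact (a_mem_E0 _).2 h3
    · right
      rw [inv_a', a_mul_a, a_mem_E0]
      linear_combination h3 - hd4
  · have h1 := hg (xa 0) ((xa_mem_E0 _).2 (by simp))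
    rw [inv_xa', xa_mul_xa, a_mul_xa, xa_mem_E0] at h1
    have h2 : 2 * (4 * i) = 0 := by linear_combination h1
    rcases eq_zero_or_of_two_mul hn _ h2 with h3 | h3
    · left
      exact (xa_mem_E0 _).2 h3
    · right
      rw [inv_a', a_mul_xa, xa_mem_E0]
      linear_combination h3 + hd4 + hnn

theorem orderOf_u (hn : 0 < n) (h4 : 4 ∣ n) : orderOf (a (cc n) : QuaternionGroup n) = 4 := by
  haveI : Fact (Nat.Prime 2) := ⟨Nat.prime_two⟩
  have : orderOf (a (cc n) : QuaternionGroup n) = 2 ^ (1 + 1) := by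
    apply orderOf_eq_prime_pow
    · rw [a_pow', one_def]
      intro h
      have h2 : ((2 ^ 1 : ℕ) : ZMod (2 * n)) * cc n = 0 := a.inj h
      apply two_mul_cc_ne hn h4
      push_cast at h2
      linear_combination h2
    · rw [a_pow', one_def]
      congr 1
      have := four_mul_cc h4
      push_cast
      linear_combination this
  rw [this]; norm_num

theorem t_not_mem_zpowers (hn : 4 ≤ n) (h4 : 4 ∣ n) :
    (a 1 : QuaternionGroup n) ∉ Subgroup.zpowers (a (cc n) : QuaternionGroup n) := by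
  intro h
  have hle : Subgroup.zpowers (a (cc n) : QuaternionGroup n) ≤ E0 n := by
    rw [Subgroup.zpowers_le]
    exact (a_mem_E0 _).2 (four_mul_cc h4)
  have := hle h
  rw [a_mem_E0, mul_one] at this
  exact four_ne_zero' hn this

theorem u_v_not_commute (hn : 0 < n) (h4 : 4 ∣ n) :
    (a (cc n) : QuaternionGroup n) * xa 0 ≠ xa 0 * a (cc n) := by
  intro h
  rw [a_mul_xa, xa_mul_a] at h
  have h2 : (0 : ZMod (2 * n)) - cc n = 0 + cc n := xa.inj h
  apply two_mul_cc_ne hn h4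
  linear_combination (-1 : ZMod (2 * n)) * h2

theorem a_central (i : ZMod (2 * n)) (hi : 2 * i = 0) (g : QuaternionGroup n) :
    g * a i = a i * g := by
  rcases g with j | j
  · rw [a_mul_a, a_mul_a, add_comm]
  · rw [xa_mul_a, a_mul_xa]
    congr 1
    linear_combination hi

/-- a subgroup containing a non-central `a i` contains `u = a (n/2)` (2-group). -/
theorem u_mem_of_a_mem (hn : 0 < n) (h4 : 4 ∣ n) (hQ : IsPGroup 2 (QuaternionGroup n))
    (T : Subgroup (QuaternionGroup n)) (i : ZMod (2 * n)) (hi : a i ∈ T) (h2 : 2 * i ≠ 0) :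
    a (cc n) ∈ T := by
  haveI : Fact (Nat.Prime 2) := ⟨Nat.prime_two⟩
  obtain ⟨k, hk⟩ := (IsPGroup.iff_orderOf.mp hQ) (a i)
  have hsq : (a i : QuaternionGroup n) ^ 2 ≠ 1 := by
    rw [a_pow', one_def]
    intro h
    have h3 : ((2 : ℕ) : ZMod (2 * n)) * i = 0 := a.inj h
    apply h2
    push_cast at h3
    exact h3
  have hk2 : 2 ≤ k := by
    by_contra hcon
    apply hsq
    have hk1 : k ≤ 1 := by omega
    have hd : orderOf (a i : QuaternionGroup n) ∣ 2 := by
      rw [hk]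
      calc 2 ^ k ∣ 2 ^ 1 := pow_dvd_pow 2 hk1
        _ = 2 := pow_one 2
    exact orderOf_dvd_iff_pow_eq_one.mp hd
  obtain ⟨j, rfl⟩ : ∃ j, k = j + 2 := ⟨k - 2, by omega⟩
  set i' : ZMod (2 * n) := ((2 ^ j : ℕ) : ZMod (2 * n)) * i with hi'
  have hy : (a i' : QuaternionGroup n) ∈ T := by
    rw [hi', ← a_pow']
    exact T.pow_mem hi _
  have h4i : 4 * i' = 0 := by
    have h1 : (a i : QuaternionGroup n) ^ (2 ^ (j + 2)) = 1 := by
      rw [← hk]; exact pow_orderOf_eq_one _
    rw [a_pow', one_def] at h1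
    have h3 : ((2 ^ (j + 2) : ℕ) : ZMod (2 * n)) * i = 0 := a.inj h1
    rw [hi']
    push_cast at h3 ⊢
    linear_combination h3
  have h2i : 2 * i' ≠ 0 := by
    intro h
    have h1 : (a i : QuaternionGroup n) ^ (2 ^ (j + 1)) = 1 := by
      rw [a_pow', one_def]
      congr 1
      rw [hi'] at h
      push_cast at h ⊢
      linear_combination h
    have hd : 2 ^ (j + 2) ∣ 2 ^ (j + 1) := by
      rw [← hk]; exact orderOf_dvd_of_pow_eq_one h1
    have := Nat.le_of_dvd (by positivity) hd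
    rw [pow_succ 2 (j + 1)] at this
    have hpos : 0 < 2 ^ (j + 1) := by positivity
    omega
  rcases eq_cc_or_neg hn h4 i' h4i h2i with h | h
  · rw [← h]; exact hy
  · have : (a (cc n) : QuaternionGroup n) = (a i')⁻¹ := by
      rw [inv_a', h, neg_neg]
    rw [this]
    exact T.inv_mem hy

/-- a normal subgroup with a non-central element contains `u`. -/
theorem u_mem_of_normal (hn : 4 ≤ n) (h4 : 4 ∣ n) (hQ : IsPGroup 2 (QuaternionGroup n))
    (T : Subgroup (QuaternionGroup n)) (hT : ∀ g, ∀ y ∈ T, g * y * g⁻¹ ∈ T)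
    (hx : ∃ x ∈ T, ∃ g, g * x ≠ x * g) : a (cc n) ∈ T := by
  have hn0 : 0 < n := by omega
  obtain ⟨x, hxT, g, hgx⟩ := hx
  rcases x with i | i
  · apply u_mem_of_a_mem hn0 h4 hQ T i hxT
    intro h
    exact hgx (a_central i h g)
  · have h1 : a 1 * xa i * (a 1)⁻¹ ∈ T := hT (a 1) _ hxT
    have h2 : (xa i)⁻¹ * (a 1 * xa i * (a 1)⁻¹) ∈ T := T.mul_mem (T.inv_mem hxT) h1
    rw [inv_a', inv_xa', a_mul_xa, xa_mul_a, xa_mul_xa] at h2
    have h3 : ((n : ℕ) : ZMod (2 * n)) + (i - 1 + -1) - ((n : ℕ) + i) = -2 := by ring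
    rw [h3] at h2
    apply u_mem_of_a_mem hn0 h4 hQ T (-2) h2
    intro h
    apply four_ne_zero' hn
    linear_combination (-1 : ZMod (2 * n)) * h

end quat

section iso

variable {n : ℕ}

/-- multiplication by `c = n/2`, as a map `ZMod 4 → ZMod (2n)` -/
noncomputable def phi (h4 : 4 ∣ n) : ZMod (2 * 2) →+ ZMod (2 * n) :=
  ZMod.lift (2 * 2) ⟨zmultiplesHom (ZMod (2 * n)) (cc n), by
    have h := four_mul_cc h4
    simp
    linear_combination h⟩

theorem phi_natCast (h4 : 4 ∣ n) (k : ℕ) :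
    phi h4 ((k : ℕ) : ZMod (2 * 2)) = (k : ZMod (2 * n)) * cc n := by
  unfold phi
  have h1 : ((k : ℕ) : ZMod (2 * 2)) = ((k : ℤ) : ZMod (2 * 2)) := by push_cast; rfl
  rw [h1, ZMod.lift_coe]
  simp

theorem phi_eq (h4 : 4 ∣ n) (j : ZMod (2 * 2)) :
    phi h4 j = ((j.val : ℕ) : ZMod (2 * n)) * cc n := by
  conv_lhs => rw [← ZMod.natCast_zmod_val j]
  exact phi_natCast h4 j.val

theorem phi_two (h4 : 4 ∣ n) : phi h4 ((2 : ℕ) : ZMod (2 * 2)) = ((n : ℕ) : ZMod (2 * n)) := by
  rw [phi_natCast, ← two_mul_cc h4]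
  push_cast
  rfl

theorem four_mul_phi (h4 : 4 ∣ n) (j : ZMod (2 * 2)) : 4 * phi h4 j = 0 := by
  rw [phi_eq]
  have h := four_mul_cc h4
  linear_combination ((j.val : ℕ) : ZMod (2 * n)) * h

theorem phi_injective (hn : 0 < n) (h4 : 4 ∣ n) : Function.Injective (phi h4) := by
  rw [injective_iff_map_eq_zero]
  intro j hj
  rw [phi_eq] at hj
  have hc2 := two_mul_cc_ne hn h4
  have hc4 := four_mul_cc h4
  have hv : j.val < 4 := ZMod.val_lt j
  have hj' : ((j.val : ℕ) : ZMod (2 * 2)) = j := ZMod.natCast_zmod_val j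
  rw [← hj']
  interval_cases h : j.val
  · simp
  · exfalso
    apply hc2
    push_cast at hj
    linear_combination 2 * hj
  · exfalso
    apply hc2
    push_cast at hj
    linear_combination hj
  · exfalso
    apply hc2
    push_cast at hj
    linear_combination 2 * hc4 - 2 * hj

/-- the embedding `Q8 → Q_{4n}` -/
noncomputable def ff (h4 : 4 ∣ n) : QuaternionGroup 2 →* QuaternionGroup n where
  toFun := fun q => match q with
    | a j => a (phi h4 j)
    | xa j => xa (phi h4 j)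
  map_one' := by
    show a (phi h4 0) = 1
    rw [map_zero]; rfl
  map_mul' := by
    rintro (i | i) (j | j)
    · show a (phi h4 (i + j)) = a (phi h4 i) * a (phi h4 j)
      rw [map_add]; rfl
    · show xa (phi h4 (j - i)) = a (phi h4 i) * xa (phi h4 j)
      rw [map_sub]; rfl
    · show xa (phi h4 (i + j)) = xa (phi h4 i) * a (phi h4 j)
      rw [map_add]; rfl
    · show a (phi h4 (((2 : ℕ) : ZMod (2 * 2)) + j - i)) = xa (phi h4 i) * xa (phi h4 j)
      rw [map_sub, map_add, phi_two]; rfl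

theorem ff_a (h4 : 4 ∣ n) (j : ZMod (2 * 2)) : ff h4 (a j) = a (phi h4 j) := rfl

theorem ff_xa (h4 : 4 ∣ n) (j : ZMod (2 * 2)) : ff h4 (xa j) = xa (phi h4 j) := rfl

theorem ff_injective (hn : 0 < n) (h4 : 4 ∣ n) : Function.Injective (ff h4) := by
  have hphi := phi_injective hn h4
  rintro (i | i) (j | j) h
  · rw [ff_a, ff_a] at h
    rw [hphi (a.inj h)]
  · rw [ff_a, ff_xa] at h
    exact absurd h (by simp)
  · rw [ff_xa, ff_a] at h
    exact absurd h (by simp)
  · rw [ff_xa, ff_xa] at h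
    rw [hphi (xa.inj h)]

theorem range_ff (hn : 0 < n) (h4 : 4 ∣ n) : (ff h4).range = E0 n := by
  apply le_antisymm
  · rintro _ ⟨q, rfl⟩
    rcases q with j | j
    · rw [ff_a, a_mem_E0]; exact four_mul_phi h4 j
    · rw [ff_xa, xa_mem_E0]; exact four_mul_phi h4 j
  · rintro (i | i) hi
    · obtain ⟨k, rfl⟩ := exists_mul_cc_of_four_mul hn h4 i hi
      exact ⟨a ((k : ℕ) : ZMod (2 * 2)), by rw [ff_a, phi_natCast]⟩
    · obtain ⟨k, rfl⟩ := exists_mul_cc_of_four_mul hn h4 i hi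
      exact ⟨xa ((k : ℕ) : ZMod (2 * 2)), by rw [ff_xa, phi_natCast]⟩

theorem nonempty_E0_equiv (hn : 0 < n) (h4 : 4 ∣ n) : Nonempty (↥(E0 n) ≃* QuaternionGroup 2) :=
  ⟨((MonoidHom.ofInjective (ff_injective hn h4)).trans
    (MulEquiv.subgroupCongr (range_ff hn h4))).symm⟩

end iso

variable {Ω : Type*} [Group Ω]

/-- **(Q1)** (with the 2-group hypothesis `hS2`, see board #4801/#4857) -/
theorem quaternion_data {S : Subgroup Ω} [Finite S] (n : ℕ) (hn : 4 ≤ n) (h4 : 4 ∣ n)
    (hS2 : IsPGroup 2 ↥S) (e : ↥S ≃* QuaternionGroup n) :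
    ∃ u v w t : Ω, u ∈ S ∧ v ∈ S ∧ w ∈ S ∧ t ∈ S ∧
      Nonempty (↥(Subgroup.closure {u, v}) ≃* QuaternionGroup 2) ∧
      (∀ g ∈ S, (∀ y ∈ Subgroup.closure {u, v}, g * y = y * g) → g ∈ Subgroup.closure {u, v}) ∧
      w ∉ Subgroup.closure {u, v} ∧ (∀ y ∈ Subgroup.closure {u, v}, w * y * w⁻¹ ∈ Subgroup.closure {u, v}) ∧
      (∀ g ∈ S, (∀ y ∈ Subgroup.closure {u, v}, g * y * g⁻¹ ∈ Subgroup.closure {u, v}) →
        g ∈ Subgroup.closure {u, v} ∨ w⁻¹ * g ∈ Subgroup.closure {u, v}) ∧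
      orderOf u = 4 ∧ t * u = u * t ∧ t ∉ Subgroup.zpowers u ∧ u * v ≠ v * u ∧
      (∀ T : Subgroup Ω, T ≤ S → (∀ g ∈ S, ∀ y ∈ T, g * y * g⁻¹ ∈ T) → (∀ x ∈ T, ∀ y ∈ T, x * y = y * x) →
        (∃ x ∈ T, ∃ g ∈ S, g * x ≠ x * g) → u ∈ T) := by
  have hn0 : 0 < n := by omega
  have hQ : IsPGroup 2 (QuaternionGroup n) := hS2.of_equiv e
  -- the embedding of `Q` onto `S`
  set ι : QuaternionGroup n →* Ω := S.subtype.comp e.symm.toMonoidHom with hι
  have hinj : Function.Injective ι := by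
    intro x y hxy
    have : e.symm x = e.symm y := Subtype.ext hxy
    exact e.symm.injective this
  have hιS : ∀ q, ι q ∈ S := fun q => (e.symm q).2
  have hsurj : ∀ g ∈ S, ∃ q, ι q = g := by
    intro g hg
    refine ⟨e ⟨g, hg⟩, ?_⟩
    show ((e.symm (e ⟨g, hg⟩) : S) : Ω) = g
    rw [MulEquiv.symm_apply_apply]
  -- the closure
  have hE : Subgroup.closure ({ι (a (cc n)), ι (xa 0)} : Set Ω) = (E0 n).map ι := by
    rw [← closure_eq_E0 hn0 h4, MonoidHom.map_closure, Set.image_pair]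
  have hmem : ∀ q, ι q ∈ (E0 n).map ι ↔ q ∈ E0 n := fun q => Subgroup.mem_map_iff_mem hinj
  refine ⟨ι (a (cc n)), ι (xa 0), ι (a (dd n)), ι (a 1), hιS _, hιS _, hιS _, hιS _, ?_⟩
  rw [hE]
  refine ⟨?_, ?_, ?_, ?_, ?_, ?_, ?_, ?_, ?_, ?_⟩
  · obtain ⟨e0⟩ := nonempty_E0_equiv hn0 h4
    exact ⟨((E0 n).equivMapOfInjective ι hinj).symm.trans e0⟩
  · intro g hg hc
    obtain ⟨q, rfl⟩ := hsurj g hg
    rw [hmem]
    apply cent_E0 hn0 h4
    intro y hy
    apply hinj
    rw [map_mul, map_mul]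
    exact hc (ι y) ((hmem y).2 hy)
  · rw [hmem]
    exact w_not_mem_E0 hn0 h4
  · rintro _ ⟨y, hy, rfl⟩
    rw [← map_inv, ← map_mul, ← map_mul, hmem]
    exact w_normalizes_E0 h4 y hy
  · intro g hg hc
    obtain ⟨q, rfl⟩ := hsurj g hg
    rw [← map_inv, ← map_mul, hmem, hmem]
    apply norm_E0 hn0 h4
    intro y hy
    have := hc (ι y) ((hmem y).2 hy)
    rw [← map_inv, ← map_mul, ← map_mul, hmem] at this
    exact this
  · rw [orderOf_injective ι hinj]
    exact orderOf_u hn0 h4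
  · rw [← map_mul, ← map_mul, a_mul_a, a_mul_a, add_comm]
  · rw [← MonoidHom.map_zpowers, Subgroup.mem_map_iff_mem hinj]
    exact t_not_mem_zpowers hn h4
  · rw [← map_mul, ← map_mul]
    intro h
    exact u_v_not_commute hn0 h4 (hinj h)
  · intro T hTS hTn _ hx
    have key : a (cc n) ∈ T.comap ι := by
      apply u_mem_of_normal hn h4 hQ
      · intro g y hy
        rw [Subgroup.mem_comap] at hy ⊢
        rw [map_mul, map_mul, map_inv]
        exact hTn (ι g) (hιS g) (ι y) hy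
      · obtain ⟨x, hxT, g, hgS, hgx⟩ := hx
        obtain ⟨x0, rfl⟩ := hsurj x (hTS hxT)
        obtain ⟨g0, rfl⟩ := hsurj g hgS
        refine ⟨x0, hxT, g0, ?_⟩
        intro h
        apply hgx
        rw [← map_mul, ← map_mul, h]
    exact key

end Cfsg.Agent.Helper49.SSQ1
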