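import Mathlib
import Cfsg.Agent.Helper85.SS.AddAut
import Cfsg.Agent.Helper85.SS.Chain
import Cfsg.Agent.Helper87.AutSystem
import Cfsg.Agent.Helper87.Sparse

/-!
# (X4a) of board #4432 (helper85, S5287): a saturated fusion system on `Q8` without a chain of
strongly closed subgroups with cyclic steps

`F` is the system of the group `Inn(S)⟨α⟩` of order `12`, `α` of order `3`.
-/

set_option autoImplicit false

namespace Cfsg.Agent.Helper49.SSX4a

open Cfsg Cfsg.FusionSystem Cfsg.Agent.Helper87 Cfsg.Agent.Helper85.AddAut Cfsg.Agent.Helper85.SS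
open QuaternionGroup

variable {Ω : Type*} [Group Ω]

/-- the map `i ↦ j ↦ k ↦ i` of `Q8` (`i = a 1`, `j = xa 0`, `k = xa 3`) -/
def rot (q : QuaternionGroup 2) : QuaternionGroup 2 :=
  match q with
  | a i => if i = 0 then a 0 else if i = 1 then xa 0 else if i = 2 then a 2 else xa 2
  | xa i => if i = 0 then xa 3 else if i = 1 then a 3 else if i = 2 then xa 1 else a 1

theorem rot_mul : ∀ x y : QuaternionGroup 2, rot (x * y) = rot x * rot y := by decide

theorem rot_rot_rot : ∀ x : QuaternionGroup 2, rot (rot (rot x)) = x := by decide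

/-- the automorphism of order `3` of `Q8` -/
def rotAut : MulAut (QuaternionGroup 2) where
  toFun := rot
  invFun := fun x => rot (rot x)
  left_inv := rot_rot_rot
  right_inv := rot_rot_rot
  map_mul' := rot_mul

theorem rotAut_pow_three : rotAut ^ 3 = 1 := by
  ext x
  show rot (rot (rot x)) = x
  exact rot_rot_rot x

theorem not_commute_rot : ∀ q : QuaternionGroup 2, q ∉ Subgroup.center (QuaternionGroup 2) →
    q * rot q ≠ rot q * q := by decide

theorem a_one_not_mem_center : (a 1 : QuaternionGroup 2) ∉ Subgroup.center (QuaternionGroup 2) := by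
  decide

/-- **(X4a)** -/
theorem exists_bad_q8 {S : Subgroup Ω} [Finite S] (e : ↥S ≃* QuaternionGroup 2) :
    ∃ F : FusionSystem S, F.IsSaturated 2 ∧ ¬ HasChain F := by
  classical
  -- the automorphism of order 3 of `S`
  set α : MulAut S := MulAut.congr e.symm rotAut with hα
  have hα3 : α ^ 3 = 1 := by
    rw [hα, ← map_pow, rotAut_pow_three, map_one]
  have hαe : ∀ s : S, e (α s) = rot (e s) := by
    intro s
    rw [hα]
    simp [MulAut.congr, rotAut]
  have hcard : Nat.card S = 2 ^ 3 := by
    rw [Nat.card_congr e.toEquiv, Nat.card_eq_fintype_card, QuaternionGroup.card]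
    norm_num
  have hS2 : IsPGroup 2 S := IsPGroup.of_card hcard
  set K : Subgroup (MulAut S) := Inn S ⊔ Subgroup.zpowers α with hK
  have hInnK : Inn S ≤ K := le_sup_left
  have hαK : α ∈ K := (le_sup_right : Subgroup.zpowers α ≤ K) (Subgroup.mem_zpowers α)
  refine ⟨autSystem S K hInnK, ?_, ?_⟩
  · exact isSaturated_autSystem hS2 K hInnK
      (mem_inn_of_mem_sup_zpowers (p := 2) α 3 (by norm_num) hα3)
  · intro hch
    -- the image of the centre
    set Z : Subgroup Ω := (Subgroup.center (QuaternionGroup 2)).map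
      (S.subtype.comp e.symm.toMonoidHom) with hZ
    have hZcent : ∀ y ∈ Z, ∀ s ∈ S, y * s = s * y := by
      rintro _ ⟨c, hc, rfl⟩ s hs
      have h1 : c * e ⟨s, hs⟩ = e ⟨s, hs⟩ * c := (Subgroup.mem_center_iff.1 hc (e ⟨s, hs⟩)).symm
      have h2 := congrArg (fun t => ((e.symm t : S) : Ω)) h1
      simpa using h2
    have hSZ : ¬ S ≤ Z := by
      intro h
      obtain ⟨c, hc, hce⟩ := h (e.symm (a 1)).2
      have : e.symm c = e.symm (a 1) := Subtype.ext hce
      rw [e.symm.injective this] at hc
      exact a_one_not_mem_center hc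
    obtain ⟨T, T', x, hxS, hTZ, hT'Z, hTsc, hT'sc, hT'⟩ := hch.exists_step Z hSZ
    have hT'S : T' ≤ S := hT'sc.1
    -- `T'` is abelian
    have hTcen : T ≤ Subgroup.centralizer (T' : Set Ω) := by
      intro t ht
      rw [Subgroup.mem_centralizer_iff]
      intro u hu
      exact (hZcent t (hTZ ht) u (hT'S hu)).symm
    have hT'x : T' ≤ Subgroup.centralizer ({x} : Set Ω) := by
      rw [hT']
      apply sup_le
      · intro t ht
        rw [Subgroup.mem_centralizer_iff]
        intro u hu
        rw [Set.mem_singleton_iff] at hu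
        rw [hu]
        exact (hZcent t (hTZ ht) x hxS).symm
      · rw [Subgroup.zpowers_le, Subgroup.mem_centralizer_iff]
        intro u hu
        rw [Set.mem_singleton_iff] at hu
        rw [hu]
    have hxcen : Subgroup.zpowers x ≤ Subgroup.centralizer (T' : Set Ω) := by
      rw [Subgroup.zpowers_le, Subgroup.mem_centralizer_iff]
      intro u hu
      have := Subgroup.mem_centralizer_iff.1 (hT'x hu) x rfl
      exact this.symm
    have hab : T' ≤ Subgroup.centralizer (T' : Set Ω) := by
      conv_lhs => rw [hT']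
      exact sup_le hTcen hxcen
    -- an element of `T'` outside `Z`
    obtain ⟨q', hq'T, hq'Z⟩ := SetLike.not_le_iff_exists.1 hT'Z
    have hq'S : q' ∈ S := hT'S hq'T
    -- `α q' ∈ T'`
    have hαq' : ((α ⟨q', hq'S⟩ : S) : Ω) ∈ T' := by
      have hmem : autRestrict hT'S α ∈ (autSystem S K hInnK).Hom T' :=
        (mem_autSystem_iff S K hInnK _).2 ⟨hT'S, α, hαK, rfl⟩
      have := hT'sc.2 T' le_rfl (autRestrict hT'S α) hmem ⟨q', hq'T⟩
      rwa [autRestrict_apply] at this
    -- they commute
    have hcomm : q' * ((α ⟨q', hq'S⟩ : S) : Ω) = ((α ⟨q', hq'S⟩ : S) : Ω) * q' :=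
      (Subgroup.mem_centralizer_iff.1 (hab hq'T) _ hαq').symm
    have hcommS : (⟨q', hq'S⟩ : S) * α ⟨q', hq'S⟩ = α ⟨q', hq'S⟩ * ⟨q', hq'S⟩ := Subtype.ext hcomm
    have hcommQ := congrArg e hcommS
    rw [map_mul, map_mul, hαe] at hcommQ
    -- but `e q'` is not central
    have hnc : e ⟨q', hq'S⟩ ∉ Subgroup.center (QuaternionGroup 2) := by
      intro hc
      apply hq'Z
      refine ⟨e ⟨q', hq'S⟩, hc, ?_⟩
      simp
    exact not_commute_rot _ hnc hcommQ

end Cfsg.Agent.Helper49.SSX4a
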