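import Cfsg.Agent.Helper61.Sr.Basic

/-!
# Helper49: piece (G3) `sum_coeff_pow` of WANTED #11950 for helper61 / S3572 (augmentation of `ℤ[H]`)
-/

set_option autoImplicit false
set_option linter.unusedSectionVars false
set_option linter.unusedVariables false

namespace Cfsg.Agent.Helper49.Sr

open Finset DihedralGroup Cfsg.Agent.Helper61.Dih Cfsg.Agent.Helper61.Sr

section General

variable {H : Type*} [Group H] [Fintype H] [DecidableEq H] (S : SRing H)

/-- the sum of the coefficients is the augmentation -/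
theorem sum_coeff_eq_lift (f : MonoidAlgebra ℤ H) :
    ∑ y, f.coeff y = MonoidAlgebra.lift ℤ ℤ H (1 : H →* ℤ) f := by
  rw [MonoidAlgebra.lift_apply, Finsupp.sum_fintype]
  · simp
  · intro i
    simp

theorem lift_ind (T : Finset H) : MonoidAlgebra.lift ℤ ℤ H (1 : H →* ℤ) (ind T) = (T.card : ℤ) := by
  unfold ind
  rw [map_sum]
  simp

/-- (G3) augmentation -/
theorem sum_coeff_pow (T : Finset H) (m : ℕ) :
    ∑ y, (ind T ^ m).coeff y = (T.card : ℤ) ^ m := by
  rw [sum_coeff_eq_lift, map_pow, lift_ind]

end General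

end Cfsg.Agent.Helper49.Sr
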