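/-
helper49: piece (O3) `orb_prim` of helper61's farm for S3572 (#11975).
A union of orbits of the point stabilizer of a primitive group containing a regular
subgroup `ι H`, nonempty and avoiding `1`, generates `H`.
-/
import Cfsg.Agent.Helper61.Sr.Basic

set_option autoImplicit false
set_option linter.unusedSectionVars false
set_option linter.unusedVariables false

namespace Cfsg.Agent.Helper49.Sr

open Finset DihedralGroup Cfsg.Agent.Helper61.Dih Cfsg.Agent.Helper61.Sr

section Concrete

open MulAction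

variable {H : Type*} [Group H] [Fintype H] [DecidableEq H]
variable {G : Type*} [Group G] [MulAction G H]
variable (ι : H →* G) (hι : ∀ h x : H, ι h • x = h * x)

/-- the element `ι (g • b)⁻¹ * g * ι b` of the stabilizer of `1`. -/
def o3_adj (g : G) (b : H) : G := (ι (g • b))⁻¹ * g * ι b

include hι in
theorem o3_adj_smul (g : G) (b y : H) :
    o3_adj ι g b • y = (g • b)⁻¹ * g • (b * y) := by
  unfold o3_adj
  rw [mul_smul, mul_smul, hι, ← map_inv, hι]

include hι in
theorem o3_adj_mem (g : G) (b : H) : o3_adj ι g b ∈ stabilizer G (1 : H) := by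
  rw [mem_stabilizer_iff, o3_adj_smul ι hι, mul_one, inv_mul_cancel]

include hι in
theorem o3_smul_mul (g : G) (b y : H) : g • (b * y) = (g • b) * o3_adj ι g b • y := by
  rw [o3_adj_smul ι hι, mul_inv_cancel_left]

include hι in
theorem o3_subgroup_eq_bot_or_top (hprim : IsPreprimitive G H) (K : Subgroup H)
    (hK : ∀ g ∈ stabilizer G (1 : H), ∀ x ∈ K, g • x ∈ K) : K = ⊥ ∨ K = ⊤ := by
  have hsub : ∀ g : G, ∀ x ∈ K, g • x ∈ K → ∀ k ∈ K, g • k ∈ K := by
    intro g x hx hgx k hk
    have : k = x * (x⁻¹ * k) := by rw [mul_inv_cancel_left]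
    rw [this, o3_smul_mul ι hι]
    exact K.mul_mem hgx (hK _ (o3_adj_mem ι hι g x) _ (K.mul_mem (K.inv_mem hx) hk))
  have hblock : IsBlock G (K : Set H) := by
    rw [isBlock_iff_smul_eq_of_mem]
    intro g a ha hga
    apply Set.Subset.antisymm
    · rintro _ ⟨k, hk, rfl⟩
      exact hsub g a ha hga k hk
    · intro k hk
      refine ⟨g⁻¹ • k, ?_, by simp⟩
      exact hsub g⁻¹ (g • a) hga (by simpa using ha) k hk
  rcases hprim.isTrivialBlock_of_isBlock hblock with h | h
  · left
    rw [Subgroup.eq_bot_iff_forall]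
    intro x hx
    exact h hx K.one_mem
  · right
    rw [eq_top_iff]
    intro x _
    have : x ∈ (K : Set H) := by rw [h]; trivial
    exact this

include hι in
theorem o3_closure_invariant (Y : Set H)
    (hY : ∀ g ∈ stabilizer G (1 : H), ∀ y ∈ Y, g • y ∈ Y) :
    ∀ g ∈ stabilizer G (1 : H), ∀ x ∈ Subgroup.closure Y, g • x ∈ Subgroup.closure Y := by
  intro g hg x hx
  induction hx using Subgroup.closure_induction generalizing g with
  | mem y hy => exact Subgroup.subset_closure (hY g hg y hy)
  | one => rw [mem_stabilizer_iff.mp hg]; exact Subgroup.one_mem _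
  | mul a b _ _ iha ihb =>
    rw [o3_smul_mul ι hι]
    exact Subgroup.mul_mem _ (iha g hg) (ihb _ (o3_adj_mem ι hι g a))
  | inv a _ iha =>
    have h1 := o3_smul_mul ι hι g a⁻¹ a
    rw [inv_mul_cancel, mem_stabilizer_iff.mp hg] at h1
    have : g • a⁻¹ = (o3_adj ι g a⁻¹ • a)⁻¹ := eq_inv_of_mul_eq_one_left h1.symm
    rw [this]
    exact Subgroup.inv_mem _ (iha _ (o3_adj_mem ι hι g a⁻¹))

include hι in
/-- (O3) -/
theorem orb_prim (hprim : IsPreprimitive G H) (T : Finset H)
    (hT : ∀ x y, orbRel G x y → (x ∈ T ↔ y ∈ T)) (hne : T.Nonempty) (h1 : (1 : H) ∉ T) :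
    Subgroup.closure (T : Set H) = ⊤ := by
  have hY : ∀ g ∈ stabilizer G (1 : H), ∀ y ∈ (T : Set H), g • y ∈ (T : Set H) := by
    intro g hg y hy
    have hy' : y ∈ T := by exact_mod_cast hy
    have : g • y ∈ T := (hT y (g • y) ⟨g, hg, rfl⟩).mp hy'
    exact_mod_cast this
  have hK := o3_closure_invariant ι hι (T : Set H) hY
  rcases o3_subgroup_eq_bot_or_top ι hι hprim (Subgroup.closure (T : Set H)) hK with h | h
  · exfalso
    obtain ⟨t, ht⟩ := hne
    have htc : t ∈ Subgroup.closure (T : Set H) :=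
      Subgroup.subset_closure (by exact_mod_cast ht)
    rw [h, Subgroup.mem_bot] at htc
    exact h1 (htc ▸ ht)
  · exact h

end Concrete

end Cfsg.Agent.Helper49.Sr
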