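import Cfsg.Agent.Helper61.Sr.Basic

/-!
# Helper49: piece (T5c) of WANTED #11950 for helper61 / S3572 (Wielandt's counting argument)
-/

set_option autoImplicit false
set_option linter.unusedSectionVars false
set_option linter.unusedVariables false

namespace Cfsg.Agent.Helper49.Sr

open Finset DihedralGroup Cfsg.Agent.Helper61.Dih Cfsg.Agent.Helper61.Sr

section General

variable {H : Type*} [Group H] [Fintype H] [DecidableEq H] (S : SRing H)

/-- (T5c) -/
theorem T5c (hS : S.IsPrim) (P : Subgroup H) [DecidablePred (· ∈ P)] (hP' : P ≠ ⊤)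
    (hper : ∀ T : Finset H, S.IsSet T → ∀ x ∈ T, x ∉ P → ∀ k ∈ P, k * x ∈ T)
    (T : Finset H) (hT : S.IsSet T) (hne : T.Nonempty) (h1 : (1 : H) ∉ T) :
    (T.filter fun t => t ∈ P).card < (T.filter fun t => t ∉ P).card := by
  have hcl : Subgroup.closure (T : Set H) = ⊤ := hS T hT hne h1
  -- some element of `T` lies outside `P`
  obtain ⟨b, hbT, hbP⟩ : ∃ b ∈ T, b ∉ P := by
    by_contra hall
    push Not at hall
    apply hP'
    rw [eq_top_iff, ← hcl, Subgroup.closure_le]
    intro x hx
    exact hall x (Finset.mem_coe.mp hx)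
  set Pf : Finset H := Finset.univ.filter (fun h => h ∈ P) with hPf
  have h2 : (T.filter fun t => t ∈ P).card < Pf.card := by
    apply Finset.card_lt_card
    rw [Finset.ssubset_iff_of_subset]
    · refine ⟨1, ?_, ?_⟩
      · rw [hPf, Finset.mem_filter]
        exact ⟨Finset.mem_univ _, one_mem P⟩
      · rw [Finset.mem_filter]
        exact fun h => h1 h.1
    · intro x hx
      rw [Finset.mem_filter] at hx
      rw [hPf, Finset.mem_filter]
      exact ⟨Finset.mem_univ _, hx.2⟩
  have h3 : Pf.card ≤ (T.filter fun t => t ∉ P).card := by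
    apply Finset.card_le_card_of_injOn (fun k => k * b)
    · intro k hk
      have hkP : k ∈ P := by
        have := Finset.mem_coe.mp hk
        rw [hPf, Finset.mem_filter] at this
        exact this.2
      rw [Finset.mem_coe, Finset.mem_filter]
      refine ⟨hper T hT b hbT hbP k hkP, ?_⟩
      intro hkb
      apply hbP
      have : b = k⁻¹ * (k * b) := by group
      rw [this]
      exact mul_mem (inv_mem hkP) hkb
    · intro k _ k' _ hkk
      exact mul_right_cancel hkk
  exact lt_of_lt_of_le h2 h3

end General

end Cfsg.Agent.Helper49.Sr
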