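import Mathlib.GroupTheory.Sylow
import Mathlib.GroupTheory.Nilpotent

set_option autoImplicit false

/-!
Normalizer growth in `p`-subgroups relative to a subgroup `M` (helper49).
-/

namespace Cfsg.Agent.Helper49

variable {G : Type*} [Group G] {p : ℕ}

/-- If `R` is a finite `p`-subgroup with `N_R(R ∩ M) ≤ M`, then `R ≤ M`. -/
theorem le_of_inf_normalizer_inf_le [Fact p.Prime] [Finite G] {R M : Subgroup G}
    (hR : IsPGroup p R) (h : R ⊓ Subgroup.normalizer ((R ⊓ M : Subgroup G) : Set G) ≤ M) :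
    R ≤ M := by
  haveI : Group.IsNilpotent ↥R := hR.isNilpotent
  have hnc := (normalizerCondition_iff_only_full_group_self_normalizing (G := ↥R)).mp
    Group.normalizerCondition_of_isNilpotent
  set H : Subgroup ↥R := M.subgroupOf R with hH
  have hN : Subgroup.normalizer (H : Set ↥R) = H := by
    apply le_antisymm _ Subgroup.le_normalizer
    intro r hr
    rw [hH, Subgroup.mem_subgroupOf]
    apply h
    refine Subgroup.mem_inf.mpr ⟨r.2, ?_⟩
    rw [Subgroup.mem_normalizer_iff]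
    intro y
    constructor
    · intro hy
      obtain ⟨hyR, hyM⟩ := Subgroup.mem_inf.mp hy
      have h1 : (⟨y, hyR⟩ : ↥R) ∈ H := by rw [hH, Subgroup.mem_subgroupOf]; exact hyM
      have h2 := (Subgroup.mem_normalizer_iff.mp hr ⟨y, hyR⟩).mp h1
      rw [hH, Subgroup.mem_subgroupOf] at h2
      exact Subgroup.mem_inf.mpr ⟨R.mul_mem (R.mul_mem r.2 hyR) (R.inv_mem r.2), by simpa using h2⟩
    · intro hy
      obtain ⟨hyR, hyM⟩ := Subgroup.mem_inf.mp hy
      have hyR' : y ∈ R := by
        have : y = (r : G)⁻¹ * ((r : G) * y * (r : G)⁻¹) * (r : G) := by group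
        rw [this]
        exact R.mul_mem (R.mul_mem (R.inv_mem r.2) hyR) r.2
      have h1 : r * (⟨y, hyR'⟩ : ↥R) * r⁻¹ ∈ H := by
        rw [hH, Subgroup.mem_subgroupOf]; simpa using hyM
      have h2 := (Subgroup.mem_normalizer_iff.mp hr ⟨y, hyR'⟩).mpr h1
      rw [hH, Subgroup.mem_subgroupOf] at h2
      exact Subgroup.mem_inf.mpr ⟨hyR', h2⟩
  have hHtop : H = ⊤ := hnc H hN
  intro r hr
  have : (⟨r, hr⟩ : ↥R) ∈ H := hHtop ▸ Subgroup.mem_top _
  rw [hH, Subgroup.mem_subgroupOf] at this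
  exact this

end Cfsg.Agent.Helper49
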