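import Mathlib.GroupTheory.Sylow
import Mathlib.GroupTheory.Perm.Cycle.Type
import Cfsg.Prelude.Def_SylowChains
import Cfsg.Agent.Helper49.RConj
import Cfsg.Agent.Helper49.SylowGrowth

set_option autoImplicit false

/-!
Strongly `p`-embedded subgroups (classical definition) and connectedness of the graph of Sylow
`p`-subgroups (helper49).
-/

namespace Cfsg.Agent.Helper49

open Cfsg

variable {G : Type*} [Group G] {p : ℕ}

/-- `H` is strongly `p`-embedded in `G` (classical definition). -/
def IsStronglyEmbedded (p : ℕ) (H : Subgroup G) : Prop :=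
  H ≠ ⊤ ∧ p ∣ Nat.card H ∧
    ∀ g : G, g ∉ H → ¬ p ∣ Nat.card ↥(H ⊓ H.map (MulAut.conj g).toMonoidHom)

theorem dvd_card_of_isPGroup_ne_bot [Fact p.Prime] {Q : Subgroup G} (hQ : IsPGroup p Q)
    (hQ1 : Q ≠ ⊥) : p ∣ Nat.card Q := by
  rcases hQ.card_eq_or_dvd with h | h
  · exact absurd (Subgroup.card_eq_one.mp h) hQ1
  · exact h

theorem IsStronglyEmbedded.normalizer_le [Finite G] [Fact p.Prime] {H : Subgroup G}
    (hH : IsStronglyEmbedded p H) {Q : Subgroup G} (hQ : IsPGroup p Q) (hQ1 : Q ≠ ⊥)
    (hQH : Q ≤ H) : Subgroup.normalizer (Q : Set G) ≤ H := by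
  intro g hg
  by_contra hgH
  apply hH.2.2 g hgH
  have hle : Q ≤ H ⊓ H.map (MulAut.conj g).toMonoidHom := by
    intro a ha
    refine ⟨hQH ha, g⁻¹ * a * g, hQH ?_, by simp [MulAut.conj_apply, mul_assoc]⟩
    have := (Subgroup.mem_normalizer_iff.mp (Subgroup.inv_mem _ hg) a).mp ha
    simpa using this
  exact (dvd_card_of_isPGroup_ne_bot hQ hQ1).trans (Subgroup.card_dvd_of_le hle)

theorem IsStronglyEmbedded.le_of_inf_ne_bot [Finite G] [Fact p.Prime] {H : Subgroup G}
    (hH : IsStronglyEmbedded p H) {R : Subgroup G} (hR : IsPGroup p R) (h : R ⊓ H ≠ ⊥) :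
    R ≤ H := by
  apply le_of_inf_normalizer_inf_le hR
  exact inf_le_right.trans (hH.normalizer_le hR.to_inf_left h inf_le_right)

theorem IsStronglyEmbedded.exists_sylow_le [Finite G] [Fact p.Prime] {H : Subgroup G}
    (hH : IsStronglyEmbedded p H) : ∃ P : Sylow p G, (P : Subgroup G) ≤ H ∧ (P : Subgroup G) ≠ ⊥ := by
  obtain ⟨x, hx⟩ := exists_prime_orderOf_dvd_card' p hH.2.1
  have hx' : orderOf (x : G) = p := by rw [Subgroup.orderOf_coe]; exact hx
  have hQ : IsPGroup p (Subgroup.zpowers (x : G)) :=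
    IsPGroup.of_card (n := 1) (by rw [Nat.card_zpowers, hx', pow_one])
  have hQ1 : Subgroup.zpowers (x : G) ≠ ⊥ := by
    intro h
    rw [Subgroup.zpowers_eq_bot] at h
    rw [h, orderOf_one] at hx'
    exact (Fact.out : p.Prime).one_lt.ne hx'
  obtain ⟨P, hP⟩ := hQ.exists_le_sylow
  have hQH : Subgroup.zpowers (x : G) ≤ H := by
    rw [Subgroup.zpowers_le]; exact x.2
  have hne : (P : Subgroup G) ⊓ H ≠ ⊥ := ne_bot_of_le_ne_bot hQ1 (le_inf hP hQH)
  exact ⟨P, hH.le_of_inf_ne_bot P.isPGroup' hne, ne_bot_of_le_ne_bot hQ1 hP⟩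

theorem IsStronglyEmbedded.not_connected [Finite G] [Fact p.Prime] {H : Subgroup G}
    (hH : IsStronglyEmbedded p H) : ¬ IsSylowChainConnected p G := by
  intro hconn
  obtain ⟨P, hPH, hP1⟩ := hH.exists_sylow_le
  obtain ⟨g, hg⟩ : ∃ g : G, g ∉ H := by
    by_contra h
    push Not at h
    exact hH.1 (eq_top_iff.mpr fun x _ => h x)
  obtain ⟨n, c, hc0, hcn, _, hstep⟩ := hconn P (g • P)
  have key : ∀ i : Fin (n + 1), (c i : Subgroup G) ≤ H := by
    intro i
    induction i using Fin.induction with
    | zero => rw [hc0]; exact hPH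
    | succ i ih =>
      apply hH.le_of_inf_ne_bot (c i.succ).isPGroup'
      refine ne_bot_of_le_ne_bot (hstep i).2 ?_
      exact le_inf inf_le_right (inf_le_left.trans ih)
  have h1 := key (Fin.last n)
  rw [hcn] at h1
  have h2 : ((g • P : Sylow p G) : Subgroup G) = (P : Subgroup G).map (MulAut.conj g).toMonoidHom := by
    rw [Sylow.smul_def, Sylow.pointwise_smul_def, Subgroup.pointwise_smul_def]
    rfl
  apply hH.2.2 g hg
  have hle : ((g • P : Sylow p G) : Subgroup G) ≤ H ⊓ H.map (MulAut.conj g).toMonoidHom :=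
    le_inf h1 (h2 ▸ Subgroup.map_mono hPH)
  have hne : ((g • P : Sylow p G) : Subgroup G) ≠ ⊥ := by
    rw [h2]
    intro h
    exact hP1 ((Subgroup.map_eq_bot_iff_of_injective _ (MulAut.conj g).injective).mp h)
  exact (dvd_card_of_isPGroup_ne_bot (g • P).isPGroup' hne).trans (Subgroup.card_dvd_of_le hle)

/-- Adjacency in the graph of Sylow subgroups. -/
def SAdj (p : ℕ) (A B : Sylow p G) : Prop := A ≠ B ∧ (A : Subgroup G) ⊓ (B : Subgroup G) ≠ ⊥

/-- Reachability in the graph of Sylow subgroups. -/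
def SReach (p : ℕ) (A B : Sylow p G) : Prop := Relation.ReflTransGen (SAdj p) A B

theorem SAdj.symm {A B : Sylow p G} (h : SAdj p A B) : SAdj p B A :=
  ⟨h.1.symm, by rw [inf_comm]; exact h.2⟩

theorem SReach.symm {A B : Sylow p G} (h : SReach p A B) : SReach p B A := by
  induction h with
  | refl => exact Relation.ReflTransGen.refl
  | tail _ h2 ih => exact Relation.ReflTransGen.head h2.symm ih

theorem SAdj.sconj (g : G) {A B : Sylow p G} (h : SAdj p A B) : SAdj p (sconj g A) (sconj g B) := by
  refine ⟨fun e => h.1 ?_, ?_⟩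
  · apply Sylow.ext
    have := congrArg (fun P : Sylow p G => (P : Subgroup G)) e
    simp only [coe_sconj] at this
    exact scr_inj.mp this
  · rw [coe_sconj, coe_sconj, ← scr_inf]
    exact scr_ne_bot h.2

theorem SReach.sconj (g : G) {A B : Sylow p G} (h : SReach p A B) :
    SReach p (sconj g A) (sconj g B) := by
  induction h with
  | refl => exact Relation.ReflTransGen.refl
  | tail _ h2 ih => exact Relation.ReflTransGen.tail ih (h2.sconj g)

theorem sconj_one (A : Sylow p G) : sconj 1 A = A := by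
  apply Sylow.ext; rw [coe_sconj, scr_one]

theorem sconj_mul (g h : G) (A : Sylow p G) : sconj (g * h) A = sconj h (sconj g A) := by
  apply Sylow.ext; rw [coe_sconj, coe_sconj, coe_sconj, scr_mul]

theorem sreach_of_inf_ne_bot {A B : Sylow p G} (h : (A : Subgroup G) ⊓ (B : Subgroup G) ≠ ⊥) :
    SReach p A B := by
  by_cases hAB : A = B
  · rw [hAB]; exact Relation.ReflTransGen.refl
  · exact Relation.ReflTransGen.single ⟨hAB, h⟩

theorem chain_of_sreach {A T : Sylow p G} (h : SReach p A T) :
    ∃ (n : ℕ) (c : Fin (n + 1) → Sylow p G), c 0 = A ∧ c (Fin.last n) = T ∧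
      ∀ i : Fin n, c i.castSucc ≠ c i.succ ∧
        (c i.castSucc : Subgroup G) ⊓ (c i.succ : Subgroup G) ≠ ⊥ := by
  unfold SReach at h
  induction h using Relation.ReflTransGen.head_induction_on with
  | refl => exact ⟨0, fun _ => T, rfl, rfl, fun i => i.elim0⟩
  | @head a b hl _ ih =>
    obtain ⟨n, c, hc0, hcn, hstep⟩ := ih
    refine ⟨n + 1, Fin.cons a c, rfl, ?_, ?_⟩
    · rw [← Fin.succ_last, Fin.cons_succ]; exact hcn
    · intro i
      refine Fin.cases ?_ (fun j => ?_) i
      · have h1 : (Fin.cons a c : Fin (n + 2) → Sylow p G) (Fin.succ 0) = b := by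
          rw [Fin.cons_succ]; exact hc0
        have h0 : (Fin.cons a c : Fin (n + 2) → Sylow p G) (Fin.castSucc 0) = a := by
          rw [Fin.castSucc_zero, Fin.cons_zero]
        rw [h1, h0]
        exact hl
      · have e1 : (Fin.cons a c : Fin (n + 2) → Sylow p G) j.succ.castSucc = c j.castSucc := by
          rw [← Fin.succ_castSucc, Fin.cons_succ]
        have e2 : (Fin.cons a c : Fin (n + 2) → Sylow p G) j.succ.succ = c j.succ := by
          rw [Fin.cons_succ]
        rw [e1, e2]
        exact hstep j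

theorem connected_iff_sreach : IsSylowChainConnected p G ↔ ∀ S T : Sylow p G, SReach p S T := by
  constructor
  · intro h S T
    obtain ⟨n, c, hc0, hcn, _, hstep⟩ := h S T
    have key : ∀ i : Fin (n + 1), SReach p S (c i) := by
      intro i
      induction i using Fin.induction with
      | zero => rw [hc0]; exact Relation.ReflTransGen.refl
      | succ i ih => exact Relation.ReflTransGen.tail ih (hstep i)
    have := key (Fin.last n)
    rwa [hcn] at this
  · intro h S T
    by_cases hST : (S : Subgroup G) ⊓ (T : Subgroup G) = ⊥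
    · obtain ⟨n, c, hc0, hcn, hstep⟩ := chain_of_sreach (h S T)
      exact ⟨n, c, hc0, hcn, fun i => by rw [hST]; exact bot_le, hstep⟩
    · by_cases hne : S = T
      · subst hne
        exact ⟨0, fun _ => S, rfl, rfl, fun _ => inf_le_left, fun i => i.elim0⟩
      · refine ⟨1, Fin.cons S (fun _ => T), rfl, rfl, ?_, ?_⟩
        · intro i
          refine Fin.cases ?_ (fun j => ?_) i
          · rw [Fin.cons_zero]; exact inf_le_left
          · rw [Fin.cons_succ]; exact inf_le_right
        · intro i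
          have hi : i = 0 := Subsingleton.elim _ _
          subst hi
          exact ⟨hne, hST⟩

theorem exists_stronglyEmbedded_of_not_sreach [Finite G] [Fact p.Prime] {S T : Sylow p G}
    (hST : ¬ SReach p S T) :
    ∃ H : Subgroup G, IsStronglyEmbedded p H ∧ (S : Subgroup G) ≤ H := by
  let H : Subgroup G :=
    { carrier := {g | SReach p S (sconj g S)}
      mul_mem' := by
        intro a b ha hb
        rw [Set.mem_setOf_eq] at ha hb ⊢
        rw [sconj_mul]
        exact Relation.ReflTransGen.trans hb (ha.sconj b)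
      one_mem' := by
        rw [Set.mem_setOf_eq, sconj_one]
        exact Relation.ReflTransGen.refl
      inv_mem' := by
        intro a ha
        rw [Set.mem_setOf_eq] at ha ⊢
        have := ha.sconj a⁻¹
        rw [← sconj_mul, mul_inv_cancel, sconj_one] at this
        exact this.symm }
  have hmemH : ∀ g : G, g ∈ H ↔ SReach p S (sconj g S) := fun g => Iff.rfl
  have hSH : (S : Subgroup G) ≤ H := by
    intro s hs
    rw [hmemH]
    have : sconj s S = S := by
      apply Sylow.ext; rw [coe_sconj, scr_eq_self_of_mem hs]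
    rw [this]
    exact Relation.ReflTransGen.refl
  have hS1 : (S : Subgroup G) ≠ ⊥ := by
    intro hS
    apply hST
    have hT : (T : Subgroup G) = ⊥ := by
      rw [Subgroup.eq_bot_iff_card, T.card_eq_multiplicity, ← S.card_eq_multiplicity, hS]
      exact Subgroup.card_eq_one.mpr rfl
    have : S = T := Sylow.ext (by rw [hS, hT])
    rw [this]
    exact Relation.ReflTransGen.refl
  refine ⟨H, ⟨?_, ?_, ?_⟩, hSH⟩
  · intro htop
    obtain ⟨g, hg⟩ := exists_sconj_eq S T
    have : g ∈ H := htop ▸ Subgroup.mem_top g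
    rw [hmemH, hg] at this
    exact hST this
  · exact (dvd_card_of_isPGroup_ne_bot S.isPGroup' hS1).trans (Subgroup.card_dvd_of_le hSH)
  · intro g hg hdvd
    apply hg
    obtain ⟨x, hx⟩ := exists_prime_orderOf_dvd_card' p hdvd
    have hx' : orderOf (x : G) = p := by rw [Subgroup.orderOf_coe]; exact hx
    have hx1 : (x : G) ≠ 1 := by
      intro h
      rw [h, orderOf_one] at hx'
      exact (Fact.out : p.Prime).one_lt.ne hx'
    obtain ⟨hxH, y, hyH, hyx⟩ := x.2
    have hyx' : g * y * g⁻¹ = (x : G) := by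
      simpa [MulAut.conj_apply] using hyx
    have hSsyl : IsSylowOf p (S : Subgroup G) H := (isSylowOf_top S).mono_right hSH le_top
    -- every p-element of H lies in a Sylow subgroup reachable from S
    have claim : ∀ z : G, z ∈ H → orderOf z = p →
        ∃ m ∈ H, z ∈ ((sconj m S : Sylow p G) : Subgroup G) := by
      intro z hzH hz
      have hQ : IsPGroup p (Subgroup.zpowers z) :=
        IsPGroup.of_card (n := 1) (by rw [Nat.card_zpowers, hz, pow_one])
      have hQH : Subgroup.zpowers z ≤ H := by rw [Subgroup.zpowers_le]; exact hzH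
      obtain ⟨A, hA, hQA⟩ := exists_isSylowOf_ge hQ hQH
      obtain ⟨m, hm, hmA⟩ := hSsyl.exists_conj hA
      refine ⟨m, hm, ?_⟩
      rw [coe_sconj, hmA]
      exact hQA (Subgroup.mem_zpowers z)
    have hy : orderOf y = p := by
      rw [← hx', ← hyx']
      have : g * y * g⁻¹ = MulAut.conj g y := by simp [MulAut.conj_apply]
      rw [this, MulEquiv.orderOf_eq]
    obtain ⟨m₁, hm₁, hxm₁⟩ := claim x hxH hx'
    obtain ⟨m₂, hm₂, hym₂⟩ := claim y hyH hy
    have hx2 : (x : G) ∈ ((sconj (m₂ * g⁻¹) S : Sylow p G) : Subgroup G) := by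
      rw [sconj_mul, coe_sconj, mem_scr, inv_inv, ← hyx']
      have : g⁻¹ * (g * y * g⁻¹) * g = y := by group
      rw [this]
      exact hym₂
    have hne : ((sconj m₁ S : Sylow p G) : Subgroup G) ⊓
        ((sconj (m₂ * g⁻¹) S : Sylow p G) : Subgroup G) ≠ ⊥ := by
      intro h0
      have : (x : G) ∈ (⊥ : Subgroup G) := h0 ▸ Subgroup.mem_inf.mpr ⟨hxm₁, hx2⟩
      exact hx1 (Subgroup.mem_bot.mp this)
    have h3 : SReach p S (sconj (m₂ * g⁻¹) S) :=
      Relation.ReflTransGen.trans ((hmemH m₁).mp hm₁) (sreach_of_inf_ne_bot hne)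
    have h4 : m₂ * g⁻¹ ∈ H := (hmemH _).mpr h3
    have := H.mul_mem (H.inv_mem h4) hm₂
    simpa using this

theorem exists_stronglyEmbedded_of_not_connected [Finite G] [Fact p.Prime]
    (h : ¬ IsSylowChainConnected p G) : ∃ H : Subgroup G, IsStronglyEmbedded p H := by
  rw [connected_iff_sreach] at h
  push Not at h
  obtain ⟨S, T, hST⟩ := h
  obtain ⟨H, hH, _⟩ := exists_stronglyEmbedded_of_not_sreach hST
  exact ⟨H, hH⟩

/-- If the Sylow graph is disconnected, every Sylow subgroup lies in a strongly embedded subgroup. -/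
theorem exists_stronglyEmbedded_ge [Finite G] [Fact p.Prime]
    (h : ¬ IsSylowChainConnected p G) (P : Sylow p G) :
    ∃ H : Subgroup G, IsStronglyEmbedded p H ∧ (P : Subgroup G) ≤ H := by
  rw [connected_iff_sreach] at h
  push Not at h
  obtain ⟨S, T, hST⟩ := h
  by_cases hSP : SReach p S P
  · have hPT : ¬ SReach p P T := fun hPT => hST (Relation.ReflTransGen.trans hSP hPT)
    exact exists_stronglyEmbedded_of_not_sreach hPT
  · have hPS : ¬ SReach p P S := fun hPS => hSP hPS.symm
    exact exists_stronglyEmbedded_of_not_sreach hPS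

end Cfsg.Agent.Helper49
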