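import Mathlib

/-!
# (BAR) of #10889 for helper95 (S0347 + S1147 + S0340): the arithmetic end of Part B.
`odd_of_pattern_of_vieta` takes the statement of (VIETA) as a hypothesis.
-/

set_option autoImplicit false

namespace Cfsg.Agent.Helper49.SzOrd

/-- (BAR), with the statement of (VIETA) as a hypothesis -/
theorem odd_of_pattern_of_vieta
    (hV : ∀ a b q : ℕ, a + b = 2 * q + 2 → a * b ∣ q ^ 2 + 1 → a * b = q ^ 2 + 1)
    (n q : ℕ) (hn : 2 ≤ n) (hq : q = 2 ^ n)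
    (h : (q + 1 ∣ q ^ 2 + 1) ∨ (2 * q + 1 ∣ q ^ 2 + 1) ∨
      ∃ w w' : ℕ, w ∣ q ^ 2 + 1 ∧ w' ∣ q ^ 2 + 1 ∧ w + w' = 2 * q + 2) : Odd n := by
  have hq4 : 4 ≤ q := by
    rw [hq]
    calc 4 = 2 ^ 2 := by norm_num
      _ ≤ 2 ^ n := Nat.pow_le_pow_right (by norm_num) hn
  obtain ⟨k, hk⟩ : ∃ k, q = k + 1 := ⟨q - 1, by omega⟩
  have e1 : q ^ 2 + 1 = (q + 1) * k + 2 := by rw [hk]; ring
  rcases h with h1 | h2 | ⟨w, w', hw, hw', hsum⟩
  · exfalso
    rw [e1] at h1
    have h3 : (q + 1) ∣ 2 := (Nat.dvd_add_right (dvd_mul_right _ _)).mp h1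
    have := Nat.le_of_dvd (by norm_num) h3
    omega
  · exfalso
    have e : 4 * (q ^ 2 + 1) = (2 * q + 1) * (2 * k + 1) + 5 := by rw [hk]; ring
    have h4 : (2 * q + 1) ∣ 4 * (q ^ 2 + 1) := Dvd.dvd.mul_left h2 4
    rw [e] at h4
    have h5 : (2 * q + 1) ∣ 5 := (Nat.dvd_add_right (dvd_mul_right _ _)).mp h4
    have := Nat.le_of_dvd (by norm_num) h5
    omega
  · have hqeven : Even q := by
      rw [hq]
      exact (Nat.even_pow' (by omega)).mpr even_two
    have hodd : Odd (q ^ 2 + 1) := by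
      have : Even (q ^ 2) := (Nat.even_pow' (by norm_num)).mpr hqeven
      exact this.add_one
    have hg : Nat.gcd w w' = 1 := by
      have hgw : Nat.gcd w w' ∣ w := Nat.gcd_dvd_left _ _
      have hgw' : Nat.gcd w w' ∣ w' := Nat.gcd_dvd_right _ _
      have hgN : Nat.gcd w w' ∣ q ^ 2 + 1 := hgw.trans hw
      have hgs : Nat.gcd w w' ∣ (q + 1) * 2 := by
        have := Nat.dvd_add hgw hgw'
        rw [hsum] at this
        have e : (q + 1) * 2 = 2 * q + 2 := by ring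
        rw [e]
        exact this
      have hgodd : Odd (Nat.gcd w w') := Odd.of_dvd_nat hodd hgN
      have hcop : Nat.Coprime (Nat.gcd w w') 2 := Nat.coprime_two_right.mpr hgodd
      have hgq : Nat.gcd w w' ∣ q + 1 := hcop.dvd_of_dvd_mul_right hgs
      have hg2 : Nat.gcd w w' ∣ 2 := by
        rw [e1] at hgN
        exact (Nat.dvd_add_right (hgq.mul_right k)).mp hgN
      have hle := Nat.le_of_dvd (by norm_num) hg2
      obtain ⟨r, hr⟩ := hgodd
      omega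
    have hmul : w * w' ∣ q ^ 2 + 1 := Nat.Coprime.mul_dvd_of_dvd_of_dvd hg hw hw'
    have hprod := hV w w' q hsum hmul
    have hZ : ((w : ℤ) - w') ^ 2 = 8 * q := by
      have h1 : ((w : ℤ) + w') = 2 * q + 2 := by exact_mod_cast hsum
      have h2 : ((w : ℤ) * w') = q ^ 2 + 1 := by exact_mod_cast hprod
      have e : ((w : ℤ) - w') ^ 2 = ((w : ℤ) + w') ^ 2 - 4 * ((w : ℤ) * w') := by ring
      rw [e, h1, h2]
      ring
    have hd : (((w : ℤ) - w').natAbs) ^ 2 = 8 * q := by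
      have : ((((w : ℤ) - w').natAbs : ℕ) : ℤ) ^ 2 = 8 * q := by
        rw [Int.natCast_natAbs, sq_abs]
        exact hZ
      exact_mod_cast this
    have hd2 : (((w : ℤ) - w').natAbs) ^ 2 = 2 ^ (n + 3) := by
      rw [hd, hq]
      ring
    have hdvd : ((w : ℤ) - w').natAbs ∣ 2 ^ (n + 3) := ⟨((w : ℤ) - w').natAbs, by rw [← hd2]; ring⟩
    obtain ⟨j, hj, hdj⟩ := (Nat.dvd_prime_pow Nat.prime_two).mp hdvd
    rw [hdj, ← pow_mul] at hd2
    have hjn := Nat.pow_right_injective (le_refl 2) hd2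
    rw [Nat.odd_iff]
    omega

end Cfsg.Agent.Helper49.SzOrd
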