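import Cfsg.Agent.Helper49.SzOrdBAR
import Cfsg.Agent.Helper79.SzOrdVIETA

/-!
# (BAR) of #10889 for helper95 (S0347 + S1147 + S0340): hypothesis-free form, using helper79's
(VIETA).
-/

set_option autoImplicit false

namespace Cfsg.Agent.Helper49.SzOrd

/-- (BAR) -/
theorem odd_of_pattern (n q : ℕ) (hn : 2 ≤ n) (hq : q = 2 ^ n)
    (h : (q + 1 ∣ q ^ 2 + 1) ∨ (2 * q + 1 ∣ q ^ 2 + 1) ∨
      ∃ w w' : ℕ, w ∣ q ^ 2 + 1 ∧ w' ∣ q ^ 2 + 1 ∧ w + w' = 2 * q + 2) : Odd n :=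
  odd_of_pattern_of_vieta Cfsg.Agent.Helper79.SzOrd.vieta n q hn hq h

end Cfsg.Agent.Helper49.SzOrd
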