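import Mathlib

/-!
# Cyclic-group facts about the units of a finite field with `q ^ 2` elements

Common lemmas for the pieces (T6), (V3), (V5) of #7815 (helper99, S5954).
-/

set_option autoImplicit false

namespace Cfsg.Agent.Helper49.UNdCyc

variable {F : Type*} [Field F]

/-- a generator of the unit group of a finite field -/
theorem exists_gen [Fintype F] :
    ∃ g : Fˣ, orderOf g = Fintype.card F - 1 ∧ ∀ x : Fˣ, ∃ a : ℕ, x = g ^ a := by
  classical
  obtain ⟨g, hg⟩ := IsCyclic.exists_generator (α := Fˣ)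
  refine ⟨g, ?_, ?_⟩
  · rw [orderOf_eq_card_of_forall_mem_zpowers hg, Nat.card_eq_fintype_card, Fintype.card_units]
  · intro x
    have hx := hg x
    rw [← mem_powers_iff_mem_zpowers] at hx
    obtain ⟨a, ha⟩ := hx
    exact ⟨a, ha.symm⟩

/-- `2 ≤ q` when `|F| = q ^ 2` -/
theorem two_le_of_card [Fintype F] {q : ℕ} (hF : Fintype.card F = q ^ 2) : 2 ≤ q := by
  have h1 : 1 < Fintype.card F := Fintype.one_lt_card
  rw [hF] at h1
  by_contra h
  have : q ≤ 1 := by omega
  have : q ^ 2 ≤ 1 ^ 2 := Nat.pow_le_pow_left this 2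
  omega

/-- every unit is a power of an element of order `d` ... existence of units of a given order -/
theorem exists_unit_orderOf [Fintype F] (d : ℕ) (hd : d ∣ Fintype.card F - 1) :
    ∃ u : Fˣ, orderOf u = d := by
  obtain ⟨g, hg, -⟩ := exists_gen (F := F)
  have h1 : 1 < Fintype.card F := Fintype.one_lt_card
  obtain ⟨k, hk⟩ := hd
  have hk0 : k ≠ 0 := by
    rintro rfl
    rw [mul_zero] at hk
    omega
  have hd0 : d ≠ 0 := by
    rintro rfl
    rw [zero_mul] at hk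
    omega
  refine ⟨g ^ k, ?_⟩
  rw [orderOf_pow_of_dvd hk0 (by rw [hg, hk]; exact dvd_mul_left k d), hg, hk,
    Nat.mul_div_cancel _ (Nat.pos_of_ne_zero hk0)]

/-- the norm-one group of `F`, `|F| = q ^ 2`, is cyclic of order `q + 1` -/
theorem exists_norm_one_gen [Fintype F] {q : ℕ} (hF : Fintype.card F = q ^ 2) :
    ∃ h : Fˣ, orderOf h = q + 1 ∧ ∀ x : Fˣ, x ^ (q + 1) = 1 → ∃ b : ℕ, x = h ^ b := by
  obtain ⟨g, hg, hgen⟩ := exists_gen (F := F)
  have hq := two_le_of_card hF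
  have hM : Fintype.card F - 1 = (q - 1) * (q + 1) := by
    rw [hF]
    obtain ⟨k, rfl⟩ : ∃ k, q = k + 1 := ⟨q - 1, by omega⟩
    have : (k + 1) ^ 2 = (k + 1 - 1) * (k + 1 + 1) + 1 := by
      simp only [Nat.add_sub_cancel]; ring
    omega
  rw [hM] at hg
  have hq1 : q - 1 ≠ 0 := by omega
  refine ⟨g ^ (q - 1), ?_, ?_⟩
  · rw [orderOf_pow_of_dvd hq1 (by rw [hg]; exact dvd_mul_right _ _), hg,
      Nat.mul_div_cancel_left _ (Nat.pos_of_ne_zero hq1)]
  · intro x hx
    obtain ⟨a, rfl⟩ := hgen x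
    rw [← pow_mul] at hx
    have hdvd := orderOf_dvd_of_pow_eq_one hx
    rw [hg] at hdvd
    have h2 : q - 1 ∣ a := Nat.dvd_of_mul_dvd_mul_right (by omega) hdvd
    obtain ⟨b, rfl⟩ := h2
    exact ⟨b, by rw [pow_mul]⟩

/-- `q` is odd when `2 ≠ 0` in `F`, `|F| = q ^ 2` -/
theorem odd_of_two_ne_zero [Fintype F] {q : ℕ} (hF : Fintype.card F = q ^ 2) (h2 : (2 : F) ≠ 0) :
    q % 2 = 1 := by
  by_contra hq
  have hq0 : q % 2 = 0 := by omega
  have hc : Fintype.card F % 2 = 0 := by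
    rw [hF, Nat.pow_mod, hq0]
  have hchar := FiniteField.even_card_iff_char_two.mpr hc
  have h0 : ((ringChar F : ℕ) : F) = 0 := ringChar.Nat.cast_ringChar
  rw [hchar] at h0
  exact h2 (by exact_mod_cast h0)

end Cfsg.Agent.Helper49.UNdCyc
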