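import Mathlib
import Cfsg.Agent.Helper49.UNdCyc

/-!
# (T6) of #7815 (helper99, S5954): the bad scalar for `r = 2`

`lam` is an element of order `2 ^ (e + 1)` of `Fˣ`, `e = v₂(q + 1)`.
-/

set_option autoImplicit false

namespace Cfsg.Agent.Helper49.UNdT6

open Cfsg.Agent.Helper49.UNdCyc

variable {F : Type*} [Field F]

/-- (T6) the bad scalar for `r = 2` -/
theorem exists_bad_z_two [Fintype F] {q : ℕ} (hF : Fintype.card F = q ^ 2) (h2 : (2 : F) ≠ 0)
    {n : ℕ} (hn : Even n)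
    (hcond : ¬ (padicValNat 2 n ≤ padicValNat 2 (q + 1) ∧ q % 4 = 3)) :
    ∃ lam : F, lam ^ (q + 1) = -1 ∧ (-(lam * lam)) ^ (n / 2) = 1 := by
  haveI : Fact (Nat.Prime 2) := ⟨Nat.prime_two⟩
  have hq := two_le_of_card hF
  have hodd := odd_of_two_ne_zero hF h2
  set e := padicValNat 2 (q + 1) with he
  have hM : Fintype.card F - 1 = (q - 1) * (q + 1) := by
    rw [hF]
    obtain ⟨k, rfl⟩ : ∃ k, q = k + 1 := ⟨q - 1, by omega⟩
    have : (k + 1) ^ 2 = (k + 1 - 1) * (k + 1 + 1) + 1 := by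
      simp only [Nat.add_sub_cancel]; ring
    omega
  have hre : 2 ^ e ∣ q + 1 := pow_padicValNat_dvd
  have hre1 : ¬ 2 ^ (e + 1) ∣ q + 1 := pow_succ_padicValNat_not_dvd (by omega)
  have he1 : 1 ≤ e := one_le_padicValNat_of_dvd (by omega) (by omega)
  have hdvd : 2 ^ (e + 1) ∣ Fintype.card F - 1 := by
    rw [hM, pow_succ, mul_comm (2 ^ e) 2]
    exact Nat.mul_dvd_mul (by omega) hre
  obtain ⟨u, hu⟩ := exists_unit_orderOf (F := F) (2 ^ (e + 1)) hdvd
  -- `u ^ (2 ^ e) = -1`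
  have hy : ((u ^ 2 ^ e : Fˣ) : F) = -1 := by
    have ho : orderOf (u ^ 2 ^ e) = 2 := by
      rw [orderOf_pow_of_dvd (by positivity) (by rw [hu]; exact pow_dvd_pow 2 (by omega)), hu,
        pow_succ, Nat.mul_div_cancel_left _ (by positivity)]
    have h1 : (u ^ 2 ^ e) ^ 2 = 1 := by
      have := pow_orderOf_eq_one (u ^ 2 ^ e)
      rwa [ho] at this
    have h1' : ((u ^ 2 ^ e : Fˣ) : F) ^ 2 = 1 := by
      rw [← Units.val_pow_eq_pow_val, h1, Units.val_one]
    have h3 : ((u ^ 2 ^ e : Fˣ) : F) ≠ 1 := by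
      intro h
      have : u ^ 2 ^ e = 1 := Units.ext (by rw [h, Units.val_one])
      rw [this, orderOf_one] at ho
      omega
    have h4 : (((u ^ 2 ^ e : Fˣ) : F) - 1) * (((u ^ 2 ^ e : Fˣ) : F) + 1) = 0 := by
      linear_combination h1'
    rcases mul_eq_zero.mp h4 with h5 | h5
    · exact absurd (sub_eq_zero.mp h5) h3
    · exact eq_neg_of_add_eq_zero_left h5
  obtain ⟨N', hN'⟩ := hre
  have hN'odd : Odd N' := by
    rw [← Nat.not_even_iff_odd]
    rintro ⟨t, ht⟩
    apply hre1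
    rw [hN', ht, pow_succ]
    exact ⟨t, by ring⟩
  refine ⟨(u : F), ?_, ?_⟩
  · rw [hN', pow_mul, ← Units.val_pow_eq_pow_val, hy, hN'odd.neg_one_pow]
  · have hq4 : q % 4 = 1 ∨ q % 4 = 3 := by omega
    rcases hq4 with hq4 | hq4
    · -- `e = 1`
      have he' : e = 1 := by
        by_contra hne
        have h2e : 2 ≤ e := by omega
        have : 2 ^ 2 ∣ q + 1 := (pow_dvd_pow 2 h2e).trans pow_padicValNat_dvd
        omega
      have h1 : (u : F) * (u : F) = -1 := by
        rw [← hy, he', pow_one, Units.val_pow_eq_pow_val, sq]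
      rw [h1, neg_neg, one_pow]
    · have hlt : e < padicValNat 2 n := by
        by_contra hle
        exact hcond ⟨by omega, hq4⟩
      have hn0 : n ≠ 0 := by
        rintro rfl
        simp at hlt
      have h1 : 2 ^ (e + 1) ∣ n := (padicValNat_dvd_iff_le hn0).mpr hlt
      obtain ⟨t, ht⟩ := h1
      have h2' : n / 2 = 2 ^ e * t := by
        rw [ht, pow_succ, mul_comm (2 ^ e) 2, mul_assoc, Nat.mul_div_cancel_left _ (by omega)]
      have h3 : (-((u : F) * (u : F))) ^ 2 ^ e = 1 := by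
        have h4 : ((u : F) * (u : F)) ^ 2 ^ e = 1 := by
          rw [← sq, ← pow_mul, ← pow_succ', ← Units.val_pow_eq_pow_val, ← hu, pow_orderOf_eq_one,
            Units.val_one]
        have h5 : Even (2 ^ e) := (Nat.even_pow' (by omega)).mpr even_two
        rw [neg_pow, h5.neg_one_pow, one_mul, h4]
      rw [h2', pow_mul, h3, one_pow]

end Cfsg.Agent.Helper49.UNdT6
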