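import Mathlib
import Cfsg.Agent.Helper49.UNdCyc

/-!
# (V3) of #7815 (helper99, S5954): `r`-th roots inside the norm-one group
-/

set_option autoImplicit false

namespace Cfsg.Agent.Helper49.UNdV3

open Cfsg.Agent.Helper49.UNdCyc

variable {F : Type*} [Field F]

/-- (V3) -/
theorem exists_unitary_root [Fintype F] {q : ℕ} (hF : Fintype.card F = q ^ 2) (r : ℕ)
    (hr : r.Prime) (n : ℕ) (hn : 1 ≤ n) (hrn : r ∣ n) (z : F) (hz : z ^ (q + 1) = 1)
    (hzn : z ^ (n / r) = 1) (hv : padicValNat r n ≤ padicValNat r (q + 1)) :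
    ∃ lam : F, lam ^ (q + 1) = 1 ∧ lam ^ r = z := by
  haveI : Fact r.Prime := ⟨hr⟩
  have hq := two_le_of_card hF
  obtain ⟨h, hh, hgen⟩ := exists_norm_one_gen hF
  have hz0 : z ≠ 0 := by
    rintro rfl
    rw [zero_pow (by omega)] at hz
    exact zero_ne_one hz
  set zu : Fˣ := Units.mk0 z hz0 with hzu
  have hzu1 : zu ^ (q + 1) = 1 := by
    apply Units.ext
    rw [Units.val_pow_eq_pow_val, Units.val_mk0, hz, Units.val_one]
  obtain ⟨b, hb⟩ := hgen zu hzu1
  have hzu2 : zu ^ (n / r) = 1 := by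
    apply Units.ext
    rw [Units.val_pow_eq_pow_val, Units.val_mk0, hzn, Units.val_one]
  rw [hb, ← pow_mul] at hzu2
  have hdvd : q + 1 ∣ b * (n / r) := by
    have := orderOf_dvd_of_pow_eq_one hzu2
    rwa [hh] at this
  -- the key: some `c` with `h ^ (c * r) = h ^ b`
  have key : ∃ c : ℕ, h ^ (c * r) = h ^ b := by
    by_cases hrN : r ∣ q + 1
    · rcases Nat.eq_zero_or_pos b with hb0 | hb0
      · exact ⟨0, by rw [hb0, zero_mul]⟩
      · have hnr : n / r ≠ 0 := by
          obtain ⟨t, rfl⟩ := hrn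
          rw [Nat.mul_div_cancel_left _ hr.pos]
          rintro rfl
          omega
        have hprod : b * (n / r) ≠ 0 := Nat.mul_ne_zero (by omega) hnr
        have h1 : r ^ padicValNat r (q + 1) ∣ b * (n / r) :=
          (pow_padicValNat_dvd).trans hdvd
        have h2 := (padicValNat_dvd_iff_le hprod).mp h1
        rw [padicValNat.mul (by omega) hnr, padicValNat.div hrn] at h2
        have h3 : 1 ≤ padicValNat r n := one_le_padicValNat_of_dvd (by omega) hrn
        have h4 : 1 ≤ padicValNat r b := by omega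
        obtain ⟨c, hc⟩ := dvd_of_one_le_padicValNat h4
        exact ⟨c, by rw [hc, mul_comm]⟩
    · have hcop : Nat.Coprime r (q + 1) := (Nat.Prime.coprime_iff_not_dvd hr).mpr hrN
      obtain ⟨m, -, hm⟩ := Nat.exists_mul_mod_eq_one_of_coprime hcop (by omega)
      refine ⟨m * b, ?_⟩
      have h1 : h ^ (r * m) = h := by
        rw [← pow_mod_orderOf, hh, hm, pow_one]
      calc h ^ (m * b * r) = (h ^ (r * m)) ^ b := by rw [← pow_mul]; congr 1; ring
        _ = h ^ b := by rw [h1]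
  obtain ⟨c, hc⟩ := key
  refine ⟨((h ^ c : Fˣ) : F), ?_, ?_⟩
  · rw [← Units.val_pow_eq_pow_val, ← pow_mul, mul_comm, pow_mul, ← hh, pow_orderOf_eq_one,
      one_pow, Units.val_one]
  · rw [← Units.val_pow_eq_pow_val, ← pow_mul, hc, ← hb, hzu, Units.val_mk0]

end Cfsg.Agent.Helper49.UNdV3
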