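import Mathlib
import Cfsg.Agent.Helper49.UNdCyc

/-!
# (V5) of #7815 (helper99, S5954): the bad scalar for `r ∣ q + 1`
-/

set_option autoImplicit false

namespace Cfsg.Agent.Helper49.UNdV5

open Cfsg.Agent.Helper49.UNdCyc

variable {F : Type*} [Field F]

/-- (V5) the bad scalar for `r ∣ q + 1` -/
theorem exists_bad_z_r [Fintype F] {q : ℕ} (hF : Fintype.card F = q ^ 2) (r : ℕ) (hr : r.Prime)
    (hrq : r ∣ q + 1) (n : ℕ) (hn : 1 ≤ n) (hv : padicValNat r (q + 1) < padicValNat r n) :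
    ∃ z : F, z ^ (q + 1) = 1 ∧ (¬ ∃ lam : F, lam ^ (q + 1) = 1 ∧ lam ^ r = z) ∧
      z ^ (n / r) = 1 := by
  haveI : Fact r.Prime := ⟨hr⟩
  set e := padicValNat r (q + 1) with he
  have hq := two_le_of_card hF
  have hM : Fintype.card F - 1 = (q - 1) * (q + 1) := by
    rw [hF]
    obtain ⟨k, rfl⟩ : ∃ k, q = k + 1 := ⟨q - 1, by omega⟩
    have : (k + 1) ^ 2 = (k + 1 - 1) * (k + 1 + 1) + 1 := by
      simp only [Nat.add_sub_cancel]; ring
    omega
  have hre : r ^ e ∣ q + 1 := pow_padicValNat_dvd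
  have hre1 : ¬ r ^ (e + 1) ∣ q + 1 := pow_succ_padicValNat_not_dvd (by omega)
  obtain ⟨u, hu⟩ := exists_unit_orderOf (F := F) (r ^ e)
    (by rw [hM]; exact Dvd.dvd.mul_left hre _)
  have huN : u ^ (q + 1) = 1 := by
    obtain ⟨k, hk⟩ := hre
    rw [hk, pow_mul, ← hu, pow_orderOf_eq_one, one_pow]
  refine ⟨(u : F), ?_, ?_, ?_⟩
  · rw [← Units.val_pow_eq_pow_val, huN, Units.val_one]
  · rintro ⟨lam, hlam1, hlam2⟩
    -- `u ^ ((q+1)/r) = 1`
    have h1 : (u : F) ^ ((q + 1) / r) = 1 := by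
      rw [← hlam2, ← pow_mul, Nat.mul_div_cancel' hrq, hlam1]
    have h2 : u ^ ((q + 1) / r) = 1 := by
      apply Units.ext
      rw [Units.val_pow_eq_pow_val, h1, Units.val_one]
    have h3 := orderOf_dvd_of_pow_eq_one h2
    rw [hu] at h3
    apply hre1
    rw [pow_succ, mul_comm]
    exact Nat.mul_dvd_of_dvd_div hrq h3
  · have hn0 : n ≠ 0 := by omega
    have h1 : r ^ (e + 1) ∣ n := (padicValNat_dvd_iff_le hn0).mpr hv
    obtain ⟨t, ht⟩ := h1
    have h2 : n / r = r ^ e * t := by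
      rw [ht, pow_succ, mul_comm (r ^ e) r, mul_assoc, Nat.mul_div_cancel_left _ hr.pos]
    rw [h2, ← Units.val_pow_eq_pow_val, pow_mul, ← hu, pow_orderOf_eq_one, one_pow, Units.val_one]

end Cfsg.Agent.Helper49.UNdV5
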