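import Mathlib
import Cfsg.Prelude.Def_JComponents
import Cfsg.Agent.Lib.Cores
import Cfsg.Agent.Helper53.NormalComplement

set_option autoImplicit false

/-!
Local set-up for a solvable group `L` of characteristic 2 in which `C_L(Ω₁Z(T)) ≤ N_L(T)` for a Sylow
2-subgroup `T` (helper49; KS 12.1): `V = ⟨Ω₁Z(T)^L⟩`, `C = C_L(V)`, `Q = O₂(L)`:
`Q ≤ C ≤ N_L(T)`, every 2-subgroup of `C` lies in `Q`, `[C, T] ≤ Q`, `O₂(L / C) = 1`.
-/

namespace Cfsg.Agent.Helper49.ZN

open Cfsg Subgroup
open scoped commutatorElement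

variable {L : Type*} [Group L]

/-- `V = ⟨Ω₁Z(T)^L⟩`. -/
def vOf (T : Subgroup L) : Subgroup L := Subgroup.normalClosure (omegaCenterOf T : Set L)

/-- `C = C_L(V)`. -/
def cOf (T : Subgroup L) : Subgroup L := Subgroup.centralizer (vOf T : Set L)

instance vOf_normal (T : Subgroup L) : (vOf T).Normal := by
  unfold vOf; infer_instance

instance cOf_normal (T : Subgroup L) : (cOf T).Normal := by
  unfold cOf; infer_instance

theorem omegaCenterOf_le_inf (T : Subgroup L) :
    omegaCenterOf T ≤ T ⊓ Subgroup.centralizer (T : Set L) := by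
  unfold omegaCenterOf omegaOne
  rw [Subgroup.closure_le]
  intro x hx
  exact hx.1

theorem omegaCenterOf_le (T : Subgroup L) : omegaCenterOf T ≤ T :=
  (omegaCenterOf_le_inf T).trans inf_le_left

theorem omegaCenterOf_le_centralizer (T : Subgroup L) :
    omegaCenterOf T ≤ Subgroup.centralizer (T : Set L) :=
  (omegaCenterOf_le_inf T).trans inf_le_right

theorem omegaCenterOf_le_vOf (T : Subgroup L) : omegaCenterOf T ≤ vOf T :=
  Subgroup.le_normalClosure

/-- The hypotheses on `L` and its Sylow 2-subgroup `T`. -/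
structure Setting (T : Sylow 2 L) : Prop where
  char2 : Subgroup.centralizer (pCore 2 L : Set L) ≤ pCore 2 L
  hz : Subgroup.centralizer (omegaCenterOf (T : Subgroup L) : Set L) ≤
    Subgroup.normalizer ((T : Subgroup L) : Set L)

instance pCore_normal' (p : ℕ) : (pCore p L).Normal := by
  have := Cfsg.Agent.Lib.pCore_characteristic (G := L) p
  infer_instance

namespace Setting

variable {T : Sylow 2 L} (h : Setting T)

include h

theorem Q_le_T : pCore 2 L ≤ (T : Subgroup L) := Cfsg.Agent.Lib.pCore_le_sylow T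

theorem Z_le_Q : omegaCenterOf (T : Subgroup L) ≤ pCore 2 L := by
  refine le_trans ?_ h.char2
  refine (omegaCenterOf_le_centralizer _).trans ?_
  exact Subgroup.centralizer_le h.Q_le_T

theorem V_le_Q : vOf (T : Subgroup L) ≤ pCore 2 L := by
  unfold vOf
  exact Subgroup.normalClosure_le_normal h.Z_le_Q

/-- `C_L(Q)` is normal, so contains `V` as soon as it contains `Ω₁Z(T)`. -/
theorem V_le_centralizer_Q : vOf (T : Subgroup L) ≤ Subgroup.centralizer (pCore 2 L : Set L) := by
  unfold vOf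
  apply Subgroup.normalClosure_le_normal
  refine (omegaCenterOf_le_centralizer _).trans ?_
  exact Subgroup.centralizer_le h.Q_le_T

theorem Q_le_C : pCore 2 L ≤ cOf (T : Subgroup L) := by
  unfold cOf
  rw [Subgroup.le_centralizer_iff]
  exact h.V_le_centralizer_Q

theorem C_le_centralizer_Z :
    cOf (T : Subgroup L) ≤ Subgroup.centralizer (omegaCenterOf (T : Subgroup L) : Set L) := by
  unfold cOf
  exact Subgroup.centralizer_le (omegaCenterOf_le_vOf _)

theorem C_le_normalizer_T :
    cOf (T : Subgroup L) ≤ Subgroup.normalizer ((T : Subgroup L) : Set L) :=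
  h.C_le_centralizer_Z.trans h.hz

theorem V_isPGroup : IsPGroup 2 ↥(vOf (T : Subgroup L)) :=
  (Cfsg.Agent.Lib.isPGroup_pCore 2).to_le h.V_le_Q

/-- `V` is abelian. -/
theorem V_comm {u v : L} (hu : u ∈ vOf (T : Subgroup L)) (hv : v ∈ vOf (T : Subgroup L)) :
    u * v = v * u := by
  have h1 := h.V_le_centralizer_Q hu
  rw [Subgroup.mem_centralizer_iff] at h1
  exact (h1 v (h.V_le_Q hv)).symm

/-- A 2-subgroup of `C` lies in `T`. -/
theorem le_T_of_isPGroup {P : Subgroup L} (hPC : P ≤ cOf (T : Subgroup L)) (hP : IsPGroup 2 ↥P) :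
    P ≤ (T : Subgroup L) := by
  have h1 : IsPGroup 2 ↥(P ⊔ (T : Subgroup L)) :=
    IsPGroup.to_sup_of_normal_right' hP T.2 (hPC.trans h.C_le_normalizer_T)
  have h2 := T.is_maximal' h1 le_sup_right
  calc P ≤ P ⊔ (T : Subgroup L) := le_sup_left
    _ = T := h2

/-- A 2-subgroup of `C` lies in `Q = O₂(L)`. -/
theorem le_Q_of_isPGroup [Finite L] {P : Subgroup L} (hPC : P ≤ cOf (T : Subgroup L)) (hP : IsPGroup 2 ↥P) :
    P ≤ pCore 2 L := by
  rw [Cfsg.Agent.Lib.pCore_eq_iInf_sylow]
  apply le_iInf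
  intro T'
  obtain ⟨g, hg⟩ := MulAction.exists_smul_eq L T T'
  -- `T' = g T g⁻¹`
  intro x hx
  have hxT' : g⁻¹ * x * g ∈ (T : Subgroup L) := by
    apply h.le_T_of_isPGroup (P := P.map (MulAut.conj g⁻¹).toMonoidHom)
    · rintro _ ⟨y, hy, rfl⟩
      exact (cOf_normal (T : Subgroup L)).conj_mem y (hPC hy) g⁻¹
    · exact hP.map _
    · exact ⟨x, hx, by simp⟩
  rw [← hg, Sylow.coe_subgroup_smul, Subgroup.mem_pointwise_smul_iff_inv_smul_mem]
  simpa [MulAut.smul_def, mul_assoc] using hxT'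

/-- `C ∩ T = Q`. -/
theorem C_inf_T [Finite L] : cOf (T : Subgroup L) ⊓ (T : Subgroup L) = pCore 2 L :=
  le_antisymm (h.le_Q_of_isPGroup inf_le_left (T.2.to_le inf_le_right))
    (le_inf h.Q_le_C h.Q_le_T)

/-- `[C, T] ≤ Q`. -/
theorem comm_C_T_le [Finite L] : ⁅cOf (T : Subgroup L), (T : Subgroup L)⁆ ≤ pCore 2 L := by
  rw [← h.C_inf_T]
  apply le_inf
  · exact Subgroup.commutator_le_left _ _
  · rw [Subgroup.commutator_le]
    intro c hc t ht
    have hcN := h.C_le_normalizer_T hc
    have h1 : c * t * c⁻¹ ∈ (T : Subgroup L) := (Subgroup.mem_normalizer_iff.1 hcN t).1 ht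
    rw [commutatorElement_def]
    exact mul_mem h1 (inv_mem ht)

/-- A normal subgroup centralizing `Ω₁Z(T)` centralizes `V`. -/
theorem le_C_of_normal_of_le_centralizer {D : Subgroup L} (hD : D.Normal)
    (hDZ : D ≤ Subgroup.centralizer (omegaCenterOf (T : Subgroup L) : Set L)) :
    D ≤ cOf (T : Subgroup L) := by
  unfold cOf
  rw [Subgroup.le_centralizer_iff]
  unfold vOf
  apply Subgroup.normalClosure_le_normal (N := Subgroup.centralizer (D : Set L))
  exact Subgroup.le_centralizer_iff.1 hDZ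

/-- `O₂(L / C) = 1`. -/
theorem pCore_quotient_eq_bot [Finite L] : pCore 2 (L ⧸ cOf (T : Subgroup L)) = ⊥ := by
  set C := cOf (T : Subgroup L) with hC
  set π := QuotientGroup.mk' C with hπ
  have hπs : Function.Surjective π := QuotientGroup.mk'_surjective C
  set D := (pCore 2 (L ⧸ C)).comap π with hD
  have hDn : D.Normal := Subgroup.Normal.comap inferInstance π
  have hDC : D ≤ C := by
    apply h.le_C_of_normal_of_le_centralizer hDn
    intro d hd
    have h1 : π d ∈ pCore 2 (L ⧸ C) := hd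
    have h2 := Cfsg.Agent.Lib.pCore_le_sylow (T.mapSurjective hπs) h1
    rw [Sylow.coe_mapSurjective] at h2
    obtain ⟨t, ht, htd⟩ := h2
    have h3 : t⁻¹ * d ∈ C := by
      have : π (t⁻¹ * d) = 1 := by rw [map_mul, map_inv, htd, inv_mul_cancel]
      rwa [hπ, QuotientGroup.mk'_apply, QuotientGroup.eq_one_iff] at this
    have h4 : t ∈ Subgroup.centralizer (omegaCenterOf (T : Subgroup L) : Set L) := by
      rw [Subgroup.mem_centralizer_iff]
      intro z hz
      have := omegaCenterOf_le_centralizer _ hz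
      rw [Subgroup.mem_centralizer_iff] at this
      exact (this t ht).symm
    have h5 := h.C_le_centralizer_Z h3
    have : d = t * (t⁻¹ * d) := by group
    rw [this]
    exact mul_mem h4 h5
  rw [eq_bot_iff]
  intro y hy
  obtain ⟨d, rfl⟩ := hπs y
  have hdC : d ∈ C := hDC hy
  rw [Subgroup.mem_bot, hπ, QuotientGroup.mk'_apply, QuotientGroup.eq_one_iff]
  exact hdC

end Setting

end Cfsg.Agent.Helper49.ZN
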