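import Mathlib
import Cfsg.Agent.Helper49.ZNLocal
import Cfsg.Agent.Helper49.JComp
import Cfsg.Agent.Helper11.ThompsonIso
import Cfsg.Agent.Helper47.Subnormal

set_option autoImplicit false

/-!
`J(T)`-components of a group `L` in the local set-up of `Helper49/ZNLocal` (helper49; KS 12.1):
given a normal subgroup `D ≥ C` with `D / C` a 3-group and `⟨J(T)^L⟩ D / D` a 2-group, every
`J(T)`-component `K` of `L` satisfies `O₂(K) ≤ O₂(L)`, `[C, K] ≤ O₂(L)` and is subnormal in `L`.
-/

namespace Cfsg.Agent.Helper49.ZN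

open Cfsg Subgroup
open scoped commutatorElement

variable {L : Type*} [Group L]

/-- Library form of statement S2941: a subgroup normalized by `⟨K, J⟩` and normalizing `J`
normalizes `K`, when `K` is generated by its elements of odd order and `K = [K, J]`. -/
theorem le_normalizer_of_normalizes {K J Q : Subgroup L}
    (hgen : Subgroup.closure {g : L | g ∈ K ∧ Odd (orderOf g)} = K) (hKJ : ⁅K, J⁆ = K)
    (hJ2 : IsPGroup 2 ↥J) (hQ1 : K ⊔ J ≤ Subgroup.normalizer (Q : Set L))
    (hQ2 : Q ≤ Subgroup.normalizer (J : Set L)) : Q ≤ Subgroup.normalizer (K : Set L) := by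
  have hJK : J ≤ Subgroup.normalizer (K : Set L) := by
    have := Subgroup.normalizer_commutator_ge_right K J
    rwa [hKJ] at this
  have hconj : ∀ q ∈ Q, ∀ k ∈ K, q * k * q⁻¹ ∈ K ⊔ J := by
    intro q hq
    have : K ≤ (K ⊔ J).comap (MulAut.conj q).toMonoidHom := by
      conv_lhs => rw [← hKJ, Subgroup.commutator_def]
      rw [Subgroup.closure_le]
      rintro _ ⟨k, hk, j, hj, rfl⟩
      show q * ⁅k, j⁆ * q⁻¹ ∈ K ⊔ J
      have hkq : k⁻¹ * q * k ∈ Q := by
        have hkN : k⁻¹ ∈ Subgroup.normalizer (Q : Set L) :=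
          inv_mem (hQ1 (Subgroup.mem_sup_left hk))
        have := (Subgroup.mem_normalizer_iff.1 hkN q).1 hq
        simpa using this
      have h1 : (k⁻¹ * q * k) * j * (k⁻¹ * q * k)⁻¹ ∈ J :=
        (Subgroup.mem_normalizer_iff.1 (hQ2 hkq) j).1 hj
      have h2 : q * j⁻¹ * q⁻¹ ∈ J :=
        (Subgroup.mem_normalizer_iff.1 (hQ2 hq) j⁻¹).1 (inv_mem hj)
      have hkX : k ∈ K ⊔ J := Subgroup.mem_sup_left hk
      have e : q * ⁅k, j⁆ * q⁻¹ =
          k * ((k⁻¹ * q * k) * j * (k⁻¹ * q * k)⁻¹) * k⁻¹ * (q * j⁻¹ * q⁻¹) := by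
        rw [commutatorElement_def]; group
      rw [e]
      exact mul_mem (mul_mem (mul_mem hkX (Subgroup.mem_sup_right h1)) (inv_mem hkX))
        (Subgroup.mem_sup_right h2)
    intro k hk
    exact this hk
  have hconjK : ∀ q ∈ Q, ∀ k ∈ K, q * k * q⁻¹ ∈ K := by
    intro q hq
    have : K ≤ K.comap (MulAut.conj q).toMonoidHom := by
      conv_lhs => rw [← hgen]
      rw [Subgroup.closure_le]
      rintro g ⟨hgK, hgodd⟩
      show q * g * q⁻¹ ∈ K
      apply Cfsg.Agent.Helper49.JComp.mem_left_of_odd_of_mem_sup hJK hJ2 (hconj q hq g hgK)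
      have : orderOf (q * g * q⁻¹) = orderOf g := by
        simpa using orderOf_injective (MulAut.conj q).toMonoidHom (MulAut.conj q).injective g
      rw [this]; exact hgodd
    intro k hk
    exact this hk
  intro q hq
  rw [Subgroup.mem_normalizer_iff]
  intro x
  constructor
  · exact hconjK q hq x
  · intro hh
    have := hconjK q⁻¹ (inv_mem hq) _ hh
    simpa [mul_assoc] using this

/-- `N(T) ≤ N(J(T))`. -/
theorem normalizer_le_normalizer_thompson (T : Subgroup L) :
    Subgroup.normalizer (T : Set L) ≤ Subgroup.normalizer (thompsonSubgroupOf 2 T : Set L) := by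
  intro g hg
  have hT : T.map (MulAut.conj g).toMonoidHom = T := by
    ext x
    rw [Subgroup.mem_map]
    constructor
    · rintro ⟨s, hs, rfl⟩
      exact (Subgroup.mem_normalizer_iff.mp hg s).mp hs
    · intro hx
      refine ⟨g⁻¹ * x * g, ?_, by simp [mul_assoc]⟩
      have := (Subgroup.mem_normalizer_iff.mp (inv_mem hg) x).mp hx
      simpa using this
  have hJ := Cfsg.Agent.Helper11.thompsonSubgroupOf_map 2 (MulAut.conj g).toMonoidHom T
    (fun x _ hx => by simpa using hx)
  rw [hT] at hJ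
  rw [Subgroup.mem_normalizer_iff]
  intro x
  constructor
  · intro hx
    rw [hJ]
    exact ⟨x, hx, rfl⟩
  · intro hx
    rw [hJ] at hx
    obtain ⟨y, hy, hyx⟩ := hx
    have : y = x := by
      have := (MulAut.conj g).injective hyx
      exact this
    rwa [← this]

/-- If `x ^ n ∈ D` with `n` prime to the order of `x`, then `x ∈ D`. -/
theorem mem_of_pow_mem_of_coprime {D : Subgroup L} {x : L} {n : ℕ} (hx : x ^ n ∈ D)
    (hc : n.Coprime (orderOf x)) : x ∈ D := by
  obtain ⟨m, hm⟩ := exists_pow_eq_self_of_coprime hc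
  rw [← hm]
  exact D.pow_mem hx m

/-- The hypothesis coming from the structure of groups with failure of factorization. -/
structure S3Hyp (T : Sylow 2 L) (D : Subgroup L) : Prop where
  normal : D.Normal
  C_le : cOf (T : Subgroup L) ≤ D
  three : ∀ d ∈ D, ∃ k : ℕ, d ^ 3 ^ k ∈ cOf (T : Subgroup L)
  two : ∀ x ∈ Subgroup.normalClosure (thompsonSubgroupOf 2 (T : Subgroup L) : Set L),
    ∃ k : ℕ, x ^ 2 ^ k ∈ D

section comp

variable [Finite L] {T : Sylow 2 L} (h : Setting T) {K : Subgroup L}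
  (hK : IsJComponent (T : Subgroup L) K)

include h hK

theorem comp_data : JComp.Data K (thompsonSubgroupOf 2 (T : Subgroup L)) :=
  JComp.data_of_isJComponent T.2 hK

theorem J_le_T : thompsonSubgroupOf 2 (T : Subgroup L) ≤ (T : Subgroup L) :=
  Cfsg.Agent.Helper49.JComp.thompsonSubgroupOf_le 2 _

/-- `O₂(L)` normalizes every `J(T)`-component. -/
theorem Q_le_normalizer_K : pCore 2 L ≤ Subgroup.normalizer (K : Set L) := by
  have d := comp_data h hK
  apply le_normalizer_of_normalizes d.gen d.comm d.hJ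
  · rw [Subgroup.normalizer_eq_top_iff.2 inferInstance]; exact le_top
  · exact h.Q_le_T.trans (Subgroup.le_normalizer.trans (normalizer_le_normalizer_thompson _))

/-- `K` does not centralize `V`. -/
theorem K_not_le_C : ¬ K ≤ cOf (T : Subgroup L) := by
  intro hKC
  have d := comp_data h hK
  have h1 : K ≤ Subgroup.normalizer (thompsonSubgroupOf 2 (T : Subgroup L) : Set L) :=
    hKC.trans (h.C_le_normalizer_T.trans (normalizer_le_normalizer_thompson _))
  have h2 : K ≤ thompsonSubgroupOf 2 (T : Subgroup L) := by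
    conv_lhs => rw [← d.comm]
    rw [Subgroup.commutator_le]
    intro k hk j hj
    have := (Subgroup.mem_normalizer_iff.1 (h1 hk) j).1 hj
    rw [commutatorElement_def]
    exact mul_mem this (inv_mem hj)
  have h3 : IsPGroup 2 ↥K := d.hJ.to_le h2
  obtain ⟨g, hgK, hgQ, hg3⟩ := d.exists_g
  apply hgQ
  have : g = 1 := by
    obtain ⟨k, hk⟩ := h3 ⟨g, hgK⟩
    have hk' : g ^ 2 ^ k = 1 := by
      have := congrArg Subtype.val hk
      simpa using this
    have h4 : orderOf g ∣ 2 ^ k := orderOf_dvd_of_pow_eq_one hk'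
    have h5 : orderOf g ∣ 3 := orderOf_dvd_of_pow_eq_one hg3
    have h6 : orderOf g ∣ Nat.gcd (2 ^ k) 3 := Nat.dvd_gcd h4 h5
    have h7 : Nat.gcd (2 ^ k) 3 = 1 := by
      have : Nat.Coprime (2 ^ k) 3 := Nat.Coprime.pow_left k (by norm_num)
      exact this
    rw [h7, Nat.dvd_one] at h6
    exact orderOf_eq_one_iff.1 h6
  rw [this]; exact one_mem _

theorem K_le_normalClosure :
    K ≤ Subgroup.normalClosure (thompsonSubgroupOf 2 (T : Subgroup L) : Set L) := by
  have d := comp_data h hK
  conv_lhs => rw [← d.comm]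
  refine (Subgroup.commutator_mono le_top Subgroup.le_normalClosure).trans ?_
  exact Subgroup.commutator_le_right _ _

variable {D : Subgroup L} (hD : S3Hyp T D)

include hD

theorem K_le_D : K ≤ D := by
  have d := comp_data h hK
  conv_lhs => rw [← d.gen]
  rw [Subgroup.closure_le]
  rintro g ⟨hgK, hodd⟩
  obtain ⟨k, hk⟩ := hD.two g (K_le_normalClosure h hK hgK)
  apply mem_of_pow_mem_of_coprime hk
  exact Nat.Coprime.pow_left k (Nat.Coprime.symm hodd.coprime_two_right)

/-- `O₂(K) ≤ O₂(L)`. -/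
theorem QK_le_Q : pCoreOf 2 K ≤ pCore 2 L := by
  have d := comp_data h hK
  apply h.le_Q_of_isPGroup _ d.Q_isPGroup
  intro q hq
  obtain ⟨k, hk⟩ := hD.three q (K_le_D h hK hD (d.Q_le hq))
  apply mem_of_pow_mem_of_coprime hk
  obtain ⟨m, hm⟩ := d.Q_isPGroup ⟨q, hq⟩
  have hm' : q ^ 2 ^ m = 1 := by
    have := congrArg Subtype.val hm
    simpa using this
  have h4 : orderOf q ∣ 2 ^ m := orderOf_dvd_of_pow_eq_one hm'
  obtain ⟨j, -, hj⟩ := (Nat.dvd_prime_pow Nat.prime_two).1 h4
  rw [hj]
  exact Nat.Coprime.pow k j (by norm_num)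

omit hD in
/-- `[K, C] ≤ O₂(L)` (three subgroups lemma modulo `O₂(L)`, as `[C, T] ≤ O₂(L)`). -/
theorem comm_K_C_le : ⁅K, cOf (T : Subgroup L)⁆ ≤ pCore 2 L := by
  have d := comp_data h hK
  set Q := pCore 2 L with hQ
  set C := cOf (T : Subgroup L) with hC
  set J := thompsonSubgroupOf 2 (T : Subgroup L) with hJ
  set π := QuotientGroup.mk' Q with hπ
  have hker : π.ker = Q := QuotientGroup.ker_mk' Q
  have hJC : ⁅J.map π, C.map π⁆ = ⊥ := by
    rw [← Subgroup.map_commutator, eq_bot_iff]
    have h1 : ⁅J, C⁆ ≤ Q := by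
      rw [Subgroup.commutator_comm]
      exact (Subgroup.commutator_mono le_rfl (J_le_T h hK)).trans h.comm_C_T_le
    rintro _ ⟨x, hx, rfl⟩
    rw [Subgroup.mem_bot]
    have : x ∈ π.ker := by rw [hker]; exact h1 hx
    exact this
  have hCn : (C.map π).Normal :=
    Subgroup.Normal.map inferInstance π (QuotientGroup.mk'_surjective Q)
  have h1 : ⁅⁅J.map π, C.map π⁆, K.map π⁆ = ⊥ := by
    rw [hJC]; exact Subgroup.commutator_bot_left _
  have h2 : ⁅⁅C.map π, K.map π⁆, J.map π⁆ = ⊥ := by
    rw [eq_bot_iff, ← hJC, Subgroup.commutator_comm (J.map π)]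
    exact Subgroup.commutator_mono (Subgroup.commutator_le_left _ _) le_rfl
  have h3 := Subgroup.commutator_commutator_eq_bot_of_rotate h1 h2
  rw [← Subgroup.map_commutator K J, d.comm, ← Subgroup.map_commutator] at h3
  intro x hx
  have : π x ∈ (⁅K, C⁆).map π := ⟨x, hx, rfl⟩
  rw [h3, Subgroup.mem_bot] at this
  have h4 : x ∈ π.ker := this
  rwa [hker] at h4

omit hD in
/-- `C` normalizes `K O₂(L)`. -/
theorem C_le_normalizer_KQ :
    cOf (T : Subgroup L) ≤ Subgroup.normalizer ((K ⊔ pCore 2 L : Subgroup L) : Set L) := by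
  have hcomm := comm_K_C_le h hK
  have key : ∀ c ∈ cOf (T : Subgroup L), ∀ x ∈ K ⊔ pCore 2 L, c * x * c⁻¹ ∈ K ⊔ pCore 2 L := by
    intro c hc
    have : K ⊔ pCore 2 L ≤ (K ⊔ pCore 2 L).comap (MulAut.conj c).toMonoidHom := by
      apply sup_le
      · intro k hk
        show c * k * c⁻¹ ∈ K ⊔ pCore 2 L
        have h1 : ⁅k, c⁆ ∈ pCore 2 L := hcomm (Subgroup.commutator_mem_commutator hk hc)
        have e : c * k * c⁻¹ = k * (k⁻¹ * ⁅k, c⁆⁻¹ * k) := by
          rw [commutatorElement_def]; group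
        rw [e]
        refine mul_mem (Subgroup.mem_sup_left hk) (Subgroup.mem_sup_right ?_)
        have hn : (pCore 2 L).Normal := inferInstance
        have := hn.conj_mem _ (inv_mem h1) k⁻¹
        simpa using this
      · intro q hq
        show c * q * c⁻¹ ∈ K ⊔ pCore 2 L
        have hn : (pCore 2 L).Normal := inferInstance
        exact Subgroup.mem_sup_right (hn.conj_mem q hq c)
    intro x hx
    exact this hx
  intro c hc
  rw [Subgroup.mem_normalizer_iff]
  intro x
  constructor
  · exact key c hc x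
  · intro hx
    have := key c⁻¹ (inv_mem hc) _ hx
    simpa [mul_assoc] using this

/-- Every `J(T)`-component of `L` is subnormal in `L`. -/
theorem isSubnormal_of_isJComponent : K.IsSubnormal := by
  have d := comp_data h hK
  set Q := pCore 2 L with hQ
  set C := cOf (T : Subgroup L) with hC
  have hKD : K ≤ D := K_le_D h hK hD
  have hDn : D.Normal := hD.normal
  -- `K ⊔ C` is subnormal in `L`
  have hKC : (K ⊔ C).IsSubnormal := by
    have hle : K ⊔ C ≤ D := sup_le hKD hD.C_le
    refine Subgroup.IsSubnormal.trans hle ?_ hDn.isSubnormal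
    -- inside `D`, modulo `C`
    have hCn : (C.subgroupOf D).Normal := inferInstance
    set π := QuotientGroup.mk' (C.subgroupOf D) with hπ
    have hp : IsPGroup 3 (↥D ⧸ C.subgroupOf D) := by
      intro y
      obtain ⟨x, rfl⟩ := QuotientGroup.mk'_surjective (C.subgroupOf D) y
      obtain ⟨k, hk⟩ := hD.three x.1 x.2
      refine ⟨k, ?_⟩
      rw [← map_pow, QuotientGroup.mk'_apply, QuotientGroup.eq_one_iff]
      exact hk
    have : Fact (Nat.Prime 3) := ⟨Nat.prime_three⟩
    have hsn := Cfsg.Agent.Helper47.isSubnormal_of_isPGroup hp (((K ⊔ C).subgroupOf D).map π)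
    have hcomap : (((K ⊔ C).subgroupOf D).map π).comap π = (K ⊔ C).subgroupOf D := by
      rw [Subgroup.comap_map_eq, QuotientGroup.ker_mk']
      apply sup_eq_left.2
      intro x hx
      exact Subgroup.mem_subgroupOf.2 (Subgroup.mem_sup_right (Subgroup.mem_subgroupOf.1 hx))
    rw [← hcomap]
    exact hsn.comap π
  -- `K ⊔ Q` is normal in `K ⊔ C`
  have hKQle : K ⊔ Q ≤ K ⊔ C := sup_le le_sup_left (h.Q_le_C.trans le_sup_right)
  have hKQ : (K ⊔ Q).IsSubnormal := by
    refine Subgroup.IsSubnormal.trans hKQle ?_ hKC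
    apply Subgroup.Normal.isSubnormal
    apply Subgroup.normal_subgroupOf_of_le_normalizer
    apply sup_le
    · exact le_sup_left.trans Subgroup.le_normalizer
    · exact (C_le_normalizer_KQ h hK)
  -- `K` is normal in `K ⊔ Q`
  refine Subgroup.IsSubnormal.trans le_sup_left ?_ hKQ
  apply Subgroup.Normal.isSubnormal
  apply Subgroup.normal_subgroupOf_of_le_normalizer
  exact sup_le Subgroup.le_normalizer (Q_le_normalizer_K h hK)

end comp

end Cfsg.Agent.Helper49.ZN
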