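import Mathlib
import Cfsg.Agent.Helper49.ZNComp
import Cfsg.Agent.Helper49.FFProd
import Cfsg.Agent.Helper1.FFLib
import Cfsg.Agent.Helper70.PSolvable
import Cfsg.Agent.S0604

set_option autoImplicit false
set_option linter.style.haveILetI false

/-!
The failure-of-factorization structure inside a solvable group `L` of characteristic 2 with
`C_L(Ω₁Z(T)) ≤ N_L(T)` and `J(T) ≰ O₂(L)` (helper49; KS 12.1): the pair
`(V, J(L)C/C)` in the holomorph of `V = ⟨Ω₁Z(T)^L⟩` satisfies the hypotheses of KS 9.3.7, and the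
preimage `dOf T` of `O₃(J(L)C/C)` satisfies `S3Hyp`.
-/

namespace Cfsg.Agent.Helper49.ZN

open Cfsg Subgroup
open Cfsg.Agent.Helper1.Hol Cfsg.Agent.Helper1.FF Cfsg.Agent.Helper49.FFProd

variable {L : Type*} [Group L]

theorem sq_eq_one_of_mem_closure {S : Set L}
    (hcomm : ∀ x ∈ closure S, ∀ y ∈ closure S, x * y = y * x) (hS : ∀ x ∈ S, x ^ 2 = 1) :
    ∀ x ∈ closure S, x ^ 2 = 1 := by
  intro x hx
  induction hx using closure_induction with
  | mem x hx => exact hS x hx
  | one => exact one_pow 2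
  | mul x y hx hy ihx ihy =>
    have hc : Commute x y := hcomm x hx y hy
    rw [hc.mul_pow, ihx, ihy, one_mul]
  | inv x hx ih => rw [inv_pow, ih, inv_one]

namespace Setting

variable {T : Sylow 2 L} (h : Setting T)

include h

theorem sq_eq_one_of_mem_Z {z : L} (hz : z ∈ omegaCenterOf (T : Subgroup L)) : z ^ 2 = 1 := by
  unfold omegaCenterOf omegaOne at hz
  refine sq_eq_one_of_mem_closure ?_ (fun x hx => hx.2) z hz
  intro x hx y hy
  have hx' : x ∈ vOf (T : Subgroup L) := omegaCenterOf_le_vOf _ hx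
  have hy' : y ∈ vOf (T : Subgroup L) := omegaCenterOf_le_vOf _ hy
  exact h.V_comm hx' hy'

theorem sq_eq_one_of_mem_V {v : L} (hv : v ∈ vOf (T : Subgroup L)) : v ^ 2 = 1 := by
  unfold vOf normalClosure at hv
  refine sq_eq_one_of_mem_closure ?_ ?_ v hv
  · intro x hx y hy
    exact h.V_comm hx hy
  · intro x hx
    rw [Group.mem_conjugatesOfSet_iff] at hx
    obtain ⟨z, hz, hzx⟩ := hx
    rw [isConj_iff] at hzx
    obtain ⟨c, rfl⟩ := hzx
    rw [conj_pow, h.sq_eq_one_of_mem_Z hz]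
    group

theorem V_isElementaryAbelian : IsElementaryAbelian 2 (vOf (T : Subgroup L)) := by
  rw [Cfsg.Agent.Helper10.isElementaryAbelian_iff]
  exact ⟨fun a ha b hb => h.V_comm ha hb, fun a ha => h.sq_eq_one_of_mem_V ha⟩

variable [Finite L]


omit h in
theorem J_le_thompson (T : Sylow 2 L) :
    thompsonSubgroupOf 2 (T : Subgroup L) ≤ thompsonSubgroup 2 L := by
  rw [Cfsg.Agent.S0604.result (G := L) (p := 2)]
  exact le_iSup (fun S : Sylow 2 L => thompsonSubgroupOf 2 (S : Subgroup L)) T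

theorem thompson_not_le (hJ : ¬ thompsonSubgroupOf 2 (T : Subgroup L) ≤ pCore 2 L) :
    ¬ thompsonSubgroup 2 L ≤ centralizer (vOf (T : Subgroup L) : Set L) := by
  intro hle
  apply hJ
  rw [← h.C_inf_T]
  refine le_inf ((J_le_thompson T).trans hle) ?_
  exact Cfsg.Agent.Helper49.JComp.thompsonSubgroupOf_le 2 _

/-- the hypotheses of KS 9.3.7 for `(V, J(L)C/C)` in the holomorph of `V`. -/
theorem ffHyp [Group.IsSolvable L] (hJ : ¬ thompsonSubgroupOf 2 (T : Subgroup L) ≤ pCore 2 L) :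
    FFHyp 2 (VV (vOf (T : Subgroup L))) (JH (vOf (T : Subgroup L)) 2) :=
  JH_ffHyp (vOf (T : Subgroup L)) (Cfsg.Agent.Helper70.isPSolvable_of_isSolvable 2)
    h.V_isElementaryAbelian h.pCore_quotient_eq_bot (h.thompson_not_le hJ)

end Setting

/-- the preimage in `L` of `O₃(J(L)C/C)`. -/
def dOf (T : Subgroup L) : Subgroup L :=
  (D3 (VV (vOf T)) (JH (vOf T) 2)).comap (pi (vOf T))

theorem normalClosure_J_le_thompson [Finite L] (T : Sylow 2 L) :
    normalClosure (thompsonSubgroupOf 2 (T : Subgroup L) : Set L) ≤ thompsonSubgroup 2 L := by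
  haveI : (thompsonSubgroup 2 L).Normal := thompson_normal
  exact normalClosure_le_normal (Setting.J_le_thompson T)

theorem conj_map_VV (V : Subgroup L) [V.Normal] (g : L) :
    (VV V).map (MulAut.conj (pi V g)).toMonoidHom = VV V :=
  map_conj_eq_of_mem_normalizer (range_le_normalizer V ⟨g, rfl⟩)

theorem conj_map_JH [Finite L] (V : Subgroup L) [V.Normal] (g : L) :
    (JH V 2).map (MulAut.conj (pi V g)).toMonoidHom = JH V 2 :=
  map_conj_eq_of_mem_normalizer (range_le_normalizer_JH V ⟨g, rfl⟩)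

theorem dOf_normal [Finite L] (T : Subgroup L) : (dOf T).Normal := by
  constructor
  intro d hd g
  unfold dOf at hd ⊢
  rw [mem_comap] at hd ⊢
  have h1 := D3_map (MulAut.conj (pi (vOf T) g)) (conj_map_VV (vOf T) g) (conj_map_JH (vOf T) g)
  rw [← h1]
  refine ⟨pi (vOf T) d, hd, ?_⟩
  simp [MulAut.conj_apply]

theorem s3Hyp [Finite L] [Group.IsSolvable L] {T : Sylow 2 L} (h : Setting T)
    (hJ : ¬ thompsonSubgroupOf 2 (T : Subgroup L) ≤ pCore 2 L) :
    S3Hyp T (dOf (T : Subgroup L)) := by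
  have hyp := h.ffHyp hJ
  refine ⟨dOf_normal _, ?_, ?_, ?_⟩
  · intro c hc
    unfold dOf
    rw [mem_comap]
    have : pi (vOf (T : Subgroup L)) c = 1 := by
      rw [← MonoidHom.mem_ker, ker_pi]; exact hc
    rw [this]; exact one_mem _
  · intro d hd
    refine ⟨1, ?_⟩
    unfold dOf at hd
    rw [mem_comap] at hd
    have h1 := pow_three_of_mem_D3 hyp hd
    rw [pow_one]
    show d ^ 3 ∈ centralizer (vOf (T : Subgroup L) : Set L)
    rw [← ker_pi, MonoidHom.mem_ker, map_pow, h1]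
  · intro x hx
    refine ⟨1, ?_⟩
    have h1 := normalClosure_J_le_thompson T hx
    have h2 : pi (vOf (T : Subgroup L)) x ∈ JH (vOf (T : Subgroup L)) 2 := ⟨x, h1, rfl⟩
    have h3 := sq_mem_D3 hyp h2
    rw [pow_one]
    unfold dOf
    rw [mem_comap, map_pow]
    exact h3

end Cfsg.Agent.Helper49.ZN
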