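import Mathlib
import Cfsg.Agent.Helper49.ZNOff

set_option autoImplicit false
set_option linter.style.haveILetI false

/-!
The subgroup `P` with `|P : O₂(L)| = 3` inverted by an offender `a` of order 2 and normalized by
`J(T)` (helper49; KS 12.1).
-/

namespace Cfsg.Agent.Helper49.ZN

open Cfsg Subgroup Matrix
open Cfsg.Agent.Helper1.Hol Cfsg.Agent.Helper1.FF Cfsg.Agent.Helper1.AutInv
open Cfsg.Agent.Helper49.JComp

/-! ### Groups isomorphic to `SL(2, 2)` -/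

theorem sl22_inv : ∀ b x : SpecialLinearGroup (Fin 2) (ZMod 2), b * b = 1 → b ≠ 1 → x ^ 3 = 1 →
    x ≠ 1 → b * x * b⁻¹ = x⁻¹ := by decide

theorem sl22_three : ∀ x g : SpecialLinearGroup (Fin 2) (ZMod 2), x ≠ 1 → x ^ 3 = 1 → g ^ 3 = 1 →
    g = 1 ∨ g = x ∨ g = x⁻¹ := by decide

theorem sl22_ex : ∃ x : SpecialLinearGroup (Fin 2) (ZMod 2), x ≠ 1 ∧ x ^ 3 = 1 := by decide

section S3

variable {E : Type*} [Group E] (e : E ≃* SpecialLinearGroup (Fin 2) (ZMod 2))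

include e

theorem s3_ex : ∃ x : E, x ≠ 1 ∧ x ^ 3 = 1 := by
  obtain ⟨x, hx1, hx3⟩ := sl22_ex
  refine ⟨e.symm x, ?_, ?_⟩
  · intro hc
    apply hx1
    have := congrArg e hc
    simpa using this
  · rw [← map_pow, hx3, map_one]

theorem s3_inv {b x : E} (hb2 : b * b = 1) (hb1 : b ≠ 1) (hx3 : x ^ 3 = 1) (hx1 : x ≠ 1) :
    b * x * b⁻¹ = x⁻¹ := by
  apply e.injective
  rw [map_mul, map_mul, map_inv, map_inv]
  apply sl22_inv
  · rw [← map_mul, hb2, map_one]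
  · intro hc; apply hb1; apply e.injective; rw [hc, map_one]
  · rw [← map_pow, hx3, map_one]
  · intro hc; apply hx1; apply e.injective; rw [hc, map_one]

theorem s3_three {x g : E} (hx1 : x ≠ 1) (hx3 : x ^ 3 = 1) (hg3 : g ^ 3 = 1) :
    g = 1 ∨ g = x ∨ g = x⁻¹ := by
  have := sl22_three (e x) (e g) (by intro hc; apply hx1; apply e.injective; rw [hc, map_one])
    (by rw [← map_pow, hx3, map_one]) (by rw [← map_pow, hg3, map_one])
  rcases this with h | h | h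
  · left; apply e.injective; rw [h, map_one]
  · right; left; exact e.injective h
  · right; right; apply e.injective; rw [h, map_inv]

end S3

/-! ### The abstract lemma -/

section abstract

variable {M : Type*} [Group M]

theorem eq_one_of_pow_two_pow {C : Subgroup M} (hodd : ∀ c ∈ C, c * c = 1 → c = 1) :
    ∀ (k : ℕ) (c : M), c ∈ C → c ^ 2 ^ k = 1 → c = 1 := by
  intro k
  induction k with
  | zero => intro c _ hc; simpa using hc
  | succ k ih =>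
    intro c hcC hc
    apply hodd c hcC
    apply ih (c * c) (mul_mem hcC hcC)
    rw [← pow_two, ← pow_mul, ← pow_succ']
    exact hc

/-- If a 2-element `j` centralizing `C` (a group without involutions) moves `x` by an element of
`C`, it fixes `x`. -/
theorem conj_eq_of_mem {C : Subgroup M} (hodd : ∀ c ∈ C, c * c = 1 → c = 1) {j x : M}
    (hjC : ∀ c ∈ C, j * c = c * j) (hj2 : ∃ k : ℕ, j ^ 2 ^ k = 1)
    (hz : x⁻¹ * (j * x * j⁻¹) ∈ C) : j * x * j⁻¹ = x := by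
  set z := x⁻¹ * (j * x * j⁻¹) with hzdef
  have h : j * x * j⁻¹ = x * z := by rw [hzdef]; group
  have hc : Commute j z := hjC z hz
  have key : ∀ n : ℕ, j ^ n * x * (j ^ n)⁻¹ = x * z ^ n := by
    intro n
    induction n with
    | zero => simp
    | succ n ih =>
      have h1 : j ^ (n + 1) * x * (j ^ (n + 1))⁻¹ = j * (j ^ n * x * (j ^ n)⁻¹) * j⁻¹ := by
        rw [pow_succ']; group
      rw [h1, ih]
      have h2 : j * (x * z ^ n) * j⁻¹ = (j * x * j⁻¹) * (j * z ^ n * j⁻¹) := by group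
      rw [h2, h]
      have h3 : j * z ^ n * j⁻¹ = z ^ n := by
        have := (hc.pow_right n).eq
        rw [this]; group
      rw [h3, pow_succ', mul_assoc]
  obtain ⟨k, hk⟩ := hj2
  have h1 := key (2 ^ k)
  rw [hk] at h1
  simp at h1
  have hz1 : z = 1 := eq_one_of_pow_two_pow hodd k z hz h1
  rw [h, hz1, mul_one]

theorem exists_inverted (Y C J : Subgroup M) [hCn : C.Normal]
    (hodd : ∀ c ∈ C, c * c = 1 → c = 1)
    (hJC : ∀ j ∈ J, ∀ c ∈ C, j * c = c * j)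
    (hJ2 : ∀ j ∈ J, ∃ k : ℕ, j ^ 2 ^ k = 1)
    (h3 : ∀ y ∈ Y, y ^ 3 ∈ C)
    (hpm : ∀ j ∈ J, ∀ y ∈ Y, y⁻¹ * (j * y * j⁻¹) ∈ C ∨ y * (j * y * j⁻¹) ∈ C)
    (hJY : ∀ j ∈ J, ∀ y ∈ Y, j * y * j⁻¹ ∈ Y)
    {a : M} (haJ : a ∈ J) (ha2 : a * a = 1)
    {y₀ : M} (hy₀ : y₀ ∈ Y) (hy₀C : y₀ ∉ C) (hinv : y₀ * (a * y₀ * a⁻¹) ∈ C) :
    ∃ x ∈ Y, x ∉ C ∧ x ^ 3 = 1 ∧ a * x * a⁻¹ = x⁻¹ ∧
      ∀ j ∈ J, j * x * j⁻¹ = x ∨ j * x * j⁻¹ = x⁻¹ := by
  have hainv : a⁻¹ = a := inv_eq_of_mul_eq_one_left ha2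
  set x := y₀⁻¹ * (a * y₀ * a⁻¹) with hx
  have hxY : x ∈ Y := mul_mem (inv_mem hy₀) (hJY a haJ y₀ hy₀)
  have hxinv : a * x * a⁻¹ = x⁻¹ := by
    have h1 : a * x * a⁻¹ = a * y₀⁻¹ * a * y₀ * (a * a)⁻¹ := by rw [hx]; group
    have h2 : x⁻¹ = a * y₀⁻¹ * a⁻¹ * y₀ := by rw [hx]; group
    rw [h1, h2, ha2, inv_one, mul_one, hainv]
  have hxC : x ∉ C := by
    intro hxC
    apply hy₀C
    have h1 : y₀ * y₀ ∈ C := by
      have : y₀ * y₀ = (y₀ * (a * y₀ * a⁻¹)) * x⁻¹ := by rw [hx]; group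
      rw [this]
      exact mul_mem hinv (inv_mem hxC)
    have h2 := h3 y₀ hy₀
    have : y₀ = y₀ ^ 3 * (y₀ * y₀)⁻¹ := by group
    rw [this]
    exact mul_mem h2 (inv_mem h1)
  have hx3 : x ^ 3 = 1 := by
    have hc := h3 x hxY
    apply hodd _ hc
    have h1 : a * x ^ 3 * a⁻¹ = (x ^ 3)⁻¹ := by
      rw [← conj_pow, hxinv, inv_pow]
    have h2 : a * x ^ 3 * a⁻¹ = x ^ 3 := by
      rw [hJC a haJ _ hc]; group
    rw [h2] at h1
    calc x ^ 3 * x ^ 3 = x ^ 3 * (x ^ 3)⁻¹ := by rw [← h1]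
      _ = 1 := mul_inv_cancel _
  refine ⟨x, hxY, hxC, hx3, hxinv, ?_⟩
  intro j hj
  rcases hpm j hj x hxY with hz | hz
  · left
    exact conj_eq_of_mem hodd (hJC j hj) (hJ2 j hj) hz
  · right
    have hja : j * a ∈ J := mul_mem hj haJ
    have h1 : (j * a) * x * (j * a)⁻¹ = (j * x * j⁻¹)⁻¹ := by
      have : (j * a) * x * (j * a)⁻¹ = j * (a * x * a⁻¹) * j⁻¹ := by group
      rw [this, hxinv]; group
    have hz' : x⁻¹ * ((j * a) * x * (j * a)⁻¹) ∈ C := by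
      rw [h1]
      have : x⁻¹ * (j * x * j⁻¹)⁻¹ = x⁻¹ * (x * (j * x * j⁻¹))⁻¹ * x⁻¹⁻¹ := by group
      rw [this]
      exact hCn.conj_mem _ (inv_mem hz) _
    have h2 := conj_eq_of_mem hodd (hJC _ hja) (hJ2 _ hja) hz'
    rw [h1] at h2
    calc j * x * j⁻¹ = ((j * x * j⁻¹)⁻¹)⁻¹ := (inv_inv _).symm
      _ = x⁻¹ := by rw [h2]

end abstract

end Cfsg.Agent.Helper49.ZN
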