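import Mathlib
import Cfsg.Agent.Helper49.ZNInv

set_option autoImplicit false
set_option linter.style.haveILetI false

/-!
The subgroup `P` with `|P : O₂(L)| = 3` inverted by an offender `a` of order 2 and normalized by
`J(T)`: application of `exists_inverted` (helper49; KS 12.1).
-/

namespace Cfsg.Agent.Helper49.ZN

open Cfsg Subgroup
open scoped commutatorElement
open Cfsg.Agent.Helper1.Hol Cfsg.Agent.Helper1.FF Cfsg.Agent.Helper1.AutInv
open Cfsg.Agent.Helper49.JComp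

variable {L : Type*} [Group L] [Finite L]

/-- The output of this file. -/
structure PData (T : Sylow 2 L) (a : L) (P : Subgroup L) : Prop where
  Q_le : pCore 2 L ≤ P
  relIndex : (pCore 2 L).relIndex P = 3
  J_le : thompsonSubgroupOf 2 (T : Subgroup L) ≤ normalizer (P : Set L)
  inv : ∀ p ∈ P, a * p * a⁻¹ * p ∈ pCore 2 L
  not_le : ¬ P ≤ cOf (T : Subgroup L)

theorem pow_mem_zpowers_of_conj {M : Type*} [Group M] {j x : M}
    (h : j * x * j⁻¹ = x ∨ j * x * j⁻¹ = x⁻¹) {y : M} (hy : y ∈ zpowers x) :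
    j * y * j⁻¹ = y ∨ j * y * j⁻¹ = y⁻¹ := by
  obtain ⟨n, rfl⟩ := mem_zpowers_iff.1 hy
  rcases h with h | h
  · left
    have : j * x ^ n * j⁻¹ = (j * x * j⁻¹) ^ n := by simp
    rw [this, h]
  · right
    have : j * x ^ n * j⁻¹ = (j * x * j⁻¹) ^ n := by simp
    rw [this, h, _root_.inv_zpow]

variable [Group.IsSolvable L] {T : Sylow 2 L}

theorem exists_pData (h : Setting T)
    (hJ : ¬ thompsonSubgroupOf 2 (T : Subgroup L) ≤ pCore 2 L) {A : Subgroup L} {a : L}
    (hd : OffData T A a) : ∃ P, PData T a P := by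
  classical
  have hyp := h.ffHyp hJ
  set V := vOf (T : Subgroup L) with hV
  set φ := pi V with hφ
  set Q := pCore 2 L with hQ
  set C := cOf (T : Subgroup L) with hC
  set J := thompsonSubgroupOf 2 (T : Subgroup L) with hJdef
  have hker : φ.ker = C := ker_pi V
  have hmin := hd.minOff
  set BB := zpowers (φ a) with hBB
  set E := EE 2 (JH V 2) BB with hE
  obtain ⟨e⟩ := (hyp.s616 hmin).2.1
  have hEle : E ≤ JH V 2 := hyp.EE_le hmin
  have haA : a ∈ A := hd.mem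
  have ha2 : a * a = 1 := by
    have := (Cfsg.Agent.Helper10.isElementaryAbelian_iff.1 hd.maxEA.2.1).2 a haA
    rwa [pow_two] at this
  have haJ : a ∈ J := hd.maxEA.le_thompson haA
  have hφa_mem : φ a ∈ E := by
    have h1 : BB ≤ E := le_sup_right
    exact h1 (mem_zpowers _)
  -- the element of order 3
  obtain ⟨xE, hxE1, hxE3⟩ := s3_ex e
  set b : E := ⟨φ a, hφa_mem⟩ with hb
  have hb2 : b * b = 1 := by
    apply Subtype.ext
    show φ a * φ a = 1
    rw [← map_mul, ha2, map_one]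
  have hb1 : b ≠ 1 := by
    intro hc
    apply hd.not_mem
    have : φ a = 1 := congrArg Subtype.val hc
    rw [← MonoidHom.mem_ker, hker] at this
    exact this
  have hbinv := s3_inv e hb2 hb1 hxE3 hxE1
  set xh : HolG V := (xE : HolG V) with hxh
  have hxh1 : xh ≠ 1 := fun hc => hxE1 (Subtype.ext hc)
  have hxh3 : xh ^ 3 = 1 := by
    have := congrArg Subtype.val hxE3
    simpa using this
  have hainv : φ a * xh * (φ a)⁻¹ = xh⁻¹ := by
    have := congrArg Subtype.val hbinv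
    simpa using this
  -- `JH` acts on `⟨xh⟩`
  have hact : ∀ g ∈ JH V 2, g * xh * g⁻¹ = xh ∨ g * xh * g⁻¹ = xh⁻¹ := by
    intro g hg
    obtain ⟨e₁, he₁, c, hc, rfl⟩ := hyp.exists_decomp hmin hg
    have hcomm := hyp.commute_EE_D hmin xh xE.2 c hc
    have h1 : e₁ * c * xh * (e₁ * c)⁻¹ = e₁ * xh * e₁⁻¹ := by
      have : c * xh = xh * c := hcomm.symm
      calc e₁ * c * xh * (e₁ * c)⁻¹ = e₁ * (c * xh) * c⁻¹ * e₁⁻¹ := by group
        _ = e₁ * (xh * c) * c⁻¹ * e₁⁻¹ := by rw [this]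
        _ = e₁ * xh * e₁⁻¹ := by group
    rw [h1]
    set gE : E := ⟨e₁, he₁⟩ * xE * (⟨e₁, he₁⟩ : E)⁻¹ with hgE
    have hg3 : gE ^ 3 = 1 := by
      rw [hgE, conj_pow, hxE3]; group
    have hg1 : gE ≠ 1 := by
      intro hc'
      apply hxE1
      have : xE = (⟨e₁, he₁⟩ : E)⁻¹ * gE * ⟨e₁, he₁⟩ := by rw [hgE]; group
      rw [this, hc']; group
    rcases s3_three e hxE1 hxE3 hg3 with h2 | h2 | h2
    · exact absurd h2 hg1
    · left
      have := congrArg Subtype.val h2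
      simpa [hgE] using this
    · right
      have := congrArg Subtype.val h2
      simpa [hgE] using this
  have hJle : J ≤ thompsonSubgroup 2 L := Setting.J_le_thompson T
  have hactJ : ∀ j ∈ J, φ j * xh * (φ j)⁻¹ = xh ∨ φ j * xh * (φ j)⁻¹ = xh⁻¹ := by
    intro j hj
    exact hact _ ⟨j, hJle hj, rfl⟩
  -- a preimage of `xh`
  obtain ⟨y₀, hy₀J, hy₀⟩ : ∃ y₀ ∈ thompsonSubgroup 2 L, φ y₀ = xh := hEle xE.2
  set Y := (zpowers xh).comap φ with hY
  have hCY : C ≤ Y := by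
    intro c hc
    rw [hY, mem_comap]
    have : φ c = 1 := by rw [← MonoidHom.mem_ker, hker]; exact hc
    rw [this]; exact one_mem _
  -- the quotient
  set π := QuotientGroup.mk' Q with hπ
  have hπs : Function.Surjective π := QuotientGroup.mk'_surjective Q
  have hπker : π.ker = Q := QuotientGroup.ker_mk' Q
  have hπ1 : ∀ g : L, π g = 1 ↔ g ∈ Q := fun g => by rw [← MonoidHom.mem_ker, hπker]
  have hQC : Q ≤ C := h.Q_le_C
  haveI hCn : C.Normal := by rw [hC]; unfold cOf; infer_instance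
  haveI hCmapn : (C.map π).Normal := Subgroup.Normal.map hCn π hπs
  have hmemC : ∀ g : L, π g ∈ C.map π → g ∈ C := by
    intro g hg
    obtain ⟨c, hc, hcg⟩ := hg
    have : c⁻¹ * g ∈ Q := by
      rw [← hπ1, map_mul, map_inv, hcg, inv_mul_cancel]
    have : g = c * (c⁻¹ * g) := by group
    rw [this]
    exact mul_mem hc (hQC ‹_›)
  have hodd : ∀ c ∈ C.map π, c * c = 1 → c = 1 := by
    rintro _ ⟨c, hc, rfl⟩ hcc
    rw [← map_mul, hπ1] at hcc
    rw [hπ1]
    -- `Q ⊔ ⟨c⟩` is a 2-subgroup of `C`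
    have hQp : IsPGroup 2 Q := Cfsg.Agent.Lib.isPGroup_pCore 2
    have hzp : IsPGroup 2 (zpowers c) := by
      obtain ⟨k, hk⟩ := hQp ⟨c * c, hcc⟩
      have hk' : (c * c) ^ 2 ^ k = 1 := by
        have := congrArg Subtype.val hk
        simpa using this
      rw [← pow_two, ← pow_mul, ← pow_succ'] at hk'
      intro g
      obtain ⟨g, hg⟩ := g
      obtain ⟨n, rfl⟩ := mem_zpowers_iff.1 hg
      refine ⟨k + 1, ?_⟩
      apply Subtype.ext
      show (c ^ n) ^ 2 ^ (k + 1) = 1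
      rw [← zpow_natCast, ← _root_.zpow_mul, mul_comm, _root_.zpow_mul, zpow_natCast, hk', one_zpow]
    have hsup : IsPGroup 2 ↥(Q ⊔ zpowers c) :=
      IsPGroup.to_sup_of_normal_left hQp hzp
    have hle : Q ⊔ zpowers c ≤ C := sup_le hQC (zpowers_le.2 hc)
    exact h.le_Q_of_isPGroup hle hsup (le_sup_right (a := Q) (mem_zpowers c))
  have hJC : ∀ j ∈ J.map π, ∀ c ∈ C.map π, j * c = c * j := by
    rintro _ ⟨j, hj, rfl⟩ _ ⟨c, hc, rfl⟩
    have h1 : ⁅c, j⁆ ∈ Q :=
      h.comm_C_T_le (Subgroup.commutator_mem_commutator hc (thompsonSubgroupOf_le 2 _ hj))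
    rw [commutatorElement_def, ← hπ1, map_mul, map_mul, map_mul, map_inv, map_inv] at h1
    have : π c * π j = π j * π c := by
      calc π c * π j = (π c * π j * (π c)⁻¹ * (π j)⁻¹) * (π j * π c) := by group
        _ = π j * π c := by rw [h1, one_mul]
    exact this.symm
  have hJ2 : ∀ j ∈ J.map π, ∃ k : ℕ, j ^ 2 ^ k = 1 := by
    rintro _ ⟨j, hj, rfl⟩
    obtain ⟨k, hk⟩ := T.2 ⟨j, thompsonSubgroupOf_le 2 _ hj⟩
    refine ⟨k, ?_⟩
    have hk' : j ^ 2 ^ k = 1 := by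
      have := congrArg Subtype.val hk
      simpa using this
    rw [← map_pow, hk', map_one]
  have h3 : ∀ y ∈ Y.map π, y ^ 3 ∈ C.map π := by
    rintro _ ⟨y, hy, rfl⟩
    refine ⟨y ^ 3, ?_, by rw [map_pow]⟩
    show y ^ 3 ∈ C
    rw [← hker, MonoidHom.mem_ker, map_pow]
    obtain ⟨n, hn⟩ := mem_zpowers_iff.1 (mem_comap.1 hy)
    rw [← hn, ← zpow_natCast, ← _root_.zpow_mul, mul_comm, _root_.zpow_mul, zpow_natCast, hxh3, one_zpow]
  have hconjY : ∀ j ∈ J, ∀ y ∈ Y, φ j * φ y * (φ j)⁻¹ = φ y ∨ φ j * φ y * (φ j)⁻¹ = (φ y)⁻¹ :=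
    fun j hj y hy => pow_mem_zpowers_of_conj (hactJ j hj) (mem_comap.1 hy)
  have hpm : ∀ j ∈ J.map π, ∀ y ∈ Y.map π,
      y⁻¹ * (j * y * j⁻¹) ∈ C.map π ∨ y * (j * y * j⁻¹) ∈ C.map π := by
    rintro _ ⟨j, hj, rfl⟩ _ ⟨y, hy, rfl⟩
    rcases hconjY j hj y hy with h1 | h1
    · left
      refine ⟨y⁻¹ * (j * y * j⁻¹), ?_, by simp⟩
      show y⁻¹ * (j * y * j⁻¹) ∈ C
      rw [← hker, MonoidHom.mem_ker]
      simp only [map_mul, map_inv]
      rw [h1, inv_mul_cancel]
    · right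
      refine ⟨y * (j * y * j⁻¹), ?_, by simp⟩
      show y * (j * y * j⁻¹) ∈ C
      rw [← hker, MonoidHom.mem_ker]
      simp only [map_mul, map_inv]
      rw [h1, mul_inv_cancel]
  have hJY : ∀ j ∈ J.map π, ∀ y ∈ Y.map π, j * y * j⁻¹ ∈ Y.map π := by
    rintro _ ⟨j, hj, rfl⟩ _ ⟨y, hy, rfl⟩
    refine ⟨j * y * j⁻¹, ?_, by simp⟩
    show j * y * j⁻¹ ∈ Y
    rw [hY, mem_comap]
    simp only [map_mul, map_inv]
    rcases hconjY j hj y hy with h1 | h1
    · rw [h1]; exact mem_comap.1 hy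
    · rw [h1]; exact inv_mem (mem_comap.1 hy)
  have hy₀Y : y₀ ∈ Y := by
    rw [hY, mem_comap, hy₀]; exact mem_zpowers _
  have hy₀C : π y₀ ∉ C.map π := by
    intro hc
    have := hmemC y₀ hc
    rw [← hker, MonoidHom.mem_ker, hy₀] at this
    exact hxh1 this
  have hinv : π y₀ * (π a * π y₀ * (π a)⁻¹) ∈ C.map π := by
    refine ⟨y₀ * (a * y₀ * a⁻¹), ?_, by simp⟩
    show y₀ * (a * y₀ * a⁻¹) ∈ C
    rw [← hker, MonoidHom.mem_ker]
    simp only [map_mul, map_inv]
    rw [hy₀, hainv, mul_inv_cancel]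
  obtain ⟨x, hxY, hxC, hx3, hxinv, hxJ⟩ := exists_inverted (Y.map π) (C.map π) (J.map π)
    hodd hJC hJ2 h3 hpm hJY (a := π a) ⟨a, haJ, rfl⟩ (by rw [← map_mul, ha2, map_one])
    (y₀ := π y₀) ⟨y₀, hy₀Y, rfl⟩ hy₀C hinv
  have hx1 : x ≠ 1 := by
    intro hc
    apply hxC
    rw [hc]; exact one_mem _
  have hord : orderOf x = 3 := by
    have h1 : orderOf x ∣ 3 := orderOf_dvd_of_pow_eq_one hx3
    rcases (Nat.dvd_prime Nat.prime_three).1 h1 with h2 | h2
    · exact absurd (orderOf_eq_one_iff.1 h2) hx1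
    · exact h2
  refine ⟨(zpowers x).comap π, ?_, ?_, ?_, ?_, ?_⟩
  · intro q hq
    rw [mem_comap, (hπ1 q).2 hq]; exact one_mem _
  · have h2 : ((zpowers x).comap π).map π = zpowers x :=
      Subgroup.map_comap_eq_self_of_surjective hπs _
    have h0 : Q.relIndex ((zpowers x).comap π) = (π.ker).relIndex ((zpowers x).comap π) := by
      rw [hπker]
    rw [h0]
    show ((⊥ : Subgroup (L ⧸ Q)).comap π).relIndex _ = 3
    rw [Subgroup.relIndex_comap, h2, Subgroup.relIndex_bot_left, Nat.card_zpowers, hord]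
  · have key : ∀ j ∈ J, ∀ p ∈ (zpowers x).comap π, j * p * j⁻¹ ∈ (zpowers x).comap π := by
      intro j hj p hp
      rw [mem_comap] at hp ⊢
      simp only [map_mul, map_inv]
      rcases pow_mem_zpowers_of_conj (hxJ (π j) ⟨j, hj, rfl⟩) hp with h1 | h1
      · rw [h1]; exact hp
      · rw [h1]; exact inv_mem hp
    intro j hj
    rw [mem_normalizer_iff]
    intro p
    constructor
    · exact key j hj p
    · intro hp
      have := key j⁻¹ (inv_mem hj) _ hp
      have h5 : p = j⁻¹ * (j * p * j⁻¹) * j⁻¹⁻¹ := by group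
      rw [h5]; exact this
  · intro p hp
    rw [mem_comap] at hp
    rw [← hπ1]
    simp only [map_mul, map_inv]
    rcases pow_mem_zpowers_of_conj (Or.inr hxinv) hp with h1 | h1
    · -- impossible unless trivial, but still fine
      obtain ⟨n, hn⟩ := mem_zpowers_iff.1 hp
      have h2 : π a * π p * (π a)⁻¹ = (π p)⁻¹ := by
        rw [← hn]
        have : π a * x ^ n * (π a)⁻¹ = (π a * x * (π a)⁻¹) ^ n := by simp
        rw [this, hxinv, _root_.inv_zpow]
      rw [h2, inv_mul_cancel]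
    · rw [h1, inv_mul_cancel]
  · intro hPC
    obtain ⟨p, hp⟩ := hπs x
    apply hxC
    refine ⟨p, hPC ?_, hp⟩
    rw [mem_comap, hp]; exact mem_zpowers _

end Cfsg.Agent.Helper49.ZN
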