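import Mathlib
import Cfsg.Agent.Helper49.ZNInv2
import Cfsg.Agent.Helper46.SylowIn
import Cfsg.Agent.Helper47.Comm2

set_option autoImplicit false
set_option linter.style.haveILetI false

/-!
The candidate `J(T)`-component `K = O²(P)` (helper49; KS 12.1).
-/

namespace Cfsg.Agent.Helper49.ZN

open Cfsg Subgroup
open scoped commutatorElement
open Cfsg.Agent.Helper49.JComp

section abstract

variable {L : Type*} [Group L]

/-- The subgroup generated by the elements of odd order. -/
def oddClosure (P : Subgroup L) : Subgroup L := closure {g : L | g ∈ P ∧ Odd (orderOf g)}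

theorem oddClosure_le (P : Subgroup L) : oddClosure P ≤ P := by
  unfold oddClosure
  rw [closure_le]
  intro g hg
  exact hg.1

theorem mem_oddClosure {P : Subgroup L} {g : L} (hg : g ∈ P) (hodd : Odd (orderOf g)) :
    g ∈ oddClosure P := Subgroup.subset_closure ⟨hg, hodd⟩

theorem oddClosure_gen (P : Subgroup L) :
    closure {g : L | g ∈ oddClosure P ∧ Odd (orderOf g)} = oddClosure P := by
  apply le_antisymm
  · rw [closure_le]
    intro g hg
    exact hg.1
  · conv_lhs => unfold oddClosure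
    rw [closure_le]
    intro g hg
    exact Subgroup.subset_closure ⟨Subgroup.subset_closure hg, hg.2⟩

theorem orderOf_conj_eq (g x : L) : orderOf (g * x * g⁻¹) = orderOf x :=
  orderOf_injective (MulAut.conj g).toMonoidHom (MulAut.conj g).injective x

theorem normalizer_le_normalizer_oddClosure (P : Subgroup L) :
    normalizer (P : Set L) ≤ normalizer (oddClosure P : Set L) := by
  apply le_normalizer_of_conj_mem
  intro g hg x hx
  unfold oddClosure at hx ⊢
  induction hx using closure_induction with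
  | mem x hx =>
    apply Subgroup.subset_closure
    refine ⟨conj_mem_of_mem_normalizer hg hx.1, ?_⟩
    rw [orderOf_conj_eq]; exact hx.2
  | one => simp
  | mul x y _ _ ihx ihy =>
    have : g * (x * y) * g⁻¹ = (g * x * g⁻¹) * (g * y * g⁻¹) := by group
    rw [this]; exact mul_mem ihx ihy
  | inv x _ ih =>
    have : g * x⁻¹ * g⁻¹ = (g * x * g⁻¹)⁻¹ := by group
    rw [this]; exact inv_mem ih

/-- An odd-order element of a 2-group is trivial; in particular an element of order 3 is not in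
a 2-group. -/
theorem not_mem_of_orderOf_three {Q : Subgroup L} (hQ : IsPGroup 2 ↥Q) {g : L}
    (hg : orderOf g = 3) : g ∉ Q := by
  intro hgQ
  have h1 := eq_one_of_odd_of_mem_isPGroup hQ hgQ (by rw [hg]; decide)
  rw [h1, orderOf_one] at hg
  omega

variable [Finite L]

theorem exists_orderOf_three {Q P : Subgroup L} (hQP : Q ≤ P) (h3 : Q.relIndex P = 3) :
    ∃ g ∈ P, orderOf g = 3 := by
  haveI : Fact (Nat.Prime 3) := ⟨Nat.prime_three⟩
  have h1 : 3 ∣ Nat.card P := by
    rw [← h3]; exact Subgroup.relIndex_dvd_card Q P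
  obtain ⟨g, hg⟩ := exists_prime_orderOf_dvd_card' 3 h1
  refine ⟨g, g.2, ?_⟩
  rw [Subgroup.orderOf_coe]; exact hg

/-- The output of this section. -/
structure KData (Q J : Subgroup L) (a : L) (K : Subgroup L) : Prop where
  gen : closure {g : L | g ∈ K ∧ Odd (orderOf g)} = K
  comm : ⁅K, J⁆ = K
  relIndex : (pCoreOf 2 K).relIndex K = 3
  R_eq : pCoreOf 2 K = K ⊓ Q
  J_le : J ≤ normalizer (K : Set L)
  Q_le : Q ≤ normalizer (K : Set L)
  inv : ∀ k ∈ K, a * k * a⁻¹ * k ∈ pCoreOf 2 K

theorem kData_oddClosure {Q J P : Subgroup L} [hQn : Q.Normal] (hQ2 : IsPGroup 2 ↥Q)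
    (hJ2 : IsPGroup 2 ↥J) (hQP : Q ≤ P) (h3 : Q.relIndex P = 3)
    (hJP : J ≤ normalizer (P : Set L)) {a : L} (haJ : a ∈ J)
    (hinv : ∀ p ∈ P, a * p * a⁻¹ * p ∈ Q) :
    KData Q J a (oddClosure P) ∧ oddClosure P ⊔ Q = P := by
  haveI : Fact (Nat.Prime 2) := ⟨Nat.prime_two⟩
  set K := oddClosure P with hK
  have hKP : K ≤ P := oddClosure_le P
  have hprime : (Q.relIndex P).Prime := by rw [h3]; exact Nat.prime_three
  obtain ⟨g, hgP, hg3⟩ := exists_orderOf_three hQP h3
  have hgK : g ∈ K := mem_oddClosure hgP (by rw [hg3]; decide)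
  have hgQ : g ∉ Q := not_mem_of_orderOf_three hQ2 hg3
  have hJK : J ≤ normalizer (K : Set L) := hJP.trans (normalizer_le_normalizer_oddClosure P)
  have hPK : P ≤ normalizer (K : Set L) :=
    le_normalizer.trans (normalizer_le_normalizer_oddClosure P)
  have hQK : Q ≤ normalizer (K : Set L) := hQP.trans hPK
  -- `K ⊔ Q = P`
  have hsup : K ⊔ Q = P := by
    apply le_antisymm (sup_le hKP hQP)
    exact le_of_relIndex_prime hQP hprime le_sup_right hgP hgQ (le_sup_left (b := Q) hgK)
  -- `R = K ⊓ Q`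
  set R := K ⊓ Q with hR
  have hRK : R ≤ K := inf_le_left
  have hR2 : IsPGroup 2 ↥R := hQ2.to_le inf_le_right
  have hRn : K ≤ normalizer (R : Set L) := by
    apply le_normalizer_of_conj_mem
    intro k hk x hx
    exact mem_inf.2 ⟨K.mul_mem (K.mul_mem hk (mem_inf.1 hx).1) (K.inv_mem hk),
      hQn.conj_mem _ (mem_inf.1 hx).2 _⟩
  have hRidx : R.relIndex K = 3 := by
    rw [hR, Subgroup.inf_relIndex_left]
    have : Q.relIndex (K ⊔ Q) = Q.relIndex K := Subgroup.relIndex_sup_right K Q
    rw [← this, hsup, h3]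
  have hRprime : (R.relIndex K).Prime := by rw [hRidx]; exact Nat.prime_three
  have hgR : g ∉ R := fun hc => hgQ (mem_inf.1 hc).2
  have hcore : pCoreOf 2 K = R := by
    apply le_antisymm
    · rcases le_or_le_of_relIndex_prime (Cfsg.Agent.Helper46.le_pCoreOf hRK hR2 hRn)
        (Cfsg.Agent.Helper46.pCoreOf_le K) hRprime with h1 | h1
      · exact h1
      · exfalso
        exact not_mem_of_orderOf_three (Cfsg.Agent.Helper46.pCoreOf_isPGroup K) hg3 (h1 hgK)
    · exact Cfsg.Agent.Helper46.le_pCoreOf hRK hR2 hRn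
  -- inversion
  have hinvK : ∀ k ∈ K, a * k * a⁻¹ * k ∈ R := by
    intro k hk
    refine mem_inf.2 ⟨?_, hinv k (hKP hk)⟩
    exact K.mul_mem (conj_mem_of_mem_normalizer (hJK haJ) hk) hk
  -- `[K, J] = K`
  have hcomm : ⁅K, J⁆ = K := by
    set N₀ := ⁅K, J⁆ with hN₀
    have hN₀K : N₀ ≤ K := by
      rw [hN₀, Subgroup.commutator_le]
      intro k hk j hj
      rw [commutatorElement_def]
      have h1 : j * k⁻¹ * j⁻¹ ∈ K := conj_mem_of_mem_normalizer (hJK hj) (inv_mem hk)
      have h2 : k * j * k⁻¹ * j⁻¹ = k * (j * k⁻¹ * j⁻¹) := by group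
      rw [h2]; exact mul_mem hk h1
    have hKN₀ : K ≤ normalizer (N₀ : Set L) :=
      Cfsg.Agent.Helper47.le_normalizer_commutator_left K J
    apply le_antisymm hN₀K
    -- the commutator `[g, a]` is outside `Q`
    set c := ⁅g, a⁆ with hc
    have hcN : c ∈ N₀ := Subgroup.commutator_mem_commutator hgK haJ
    have hcQ : c ∉ Q := by
      intro hcQ
      -- `c = g * (a g⁻¹ a⁻¹)` and `a g⁻¹ a⁻¹ g⁻¹ ∈ Q`
      have h1 : a * g⁻¹ * a⁻¹ * g⁻¹ ∈ Q := hinv g⁻¹ (inv_mem hgP)
      have h2 : g * g ∈ Q := by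
        have : g * g = g * ((a * g⁻¹ * a⁻¹ * g⁻¹)⁻¹ * (g⁻¹ * c * g)) * g⁻¹ := by
          rw [hc, commutatorElement_def]; group
        rw [this]
        apply hQn.conj_mem
        refine mul_mem (inv_mem h1) ?_
        have := hQn.conj_mem c hcQ g⁻¹
        simpa using this
      apply hgQ
      have h3' : g = (g * g)⁻¹ := by
        have : g ^ 3 = 1 := by rw [← hg3]; exact pow_orderOf_eq_one g
        have h4 : g * (g * g) = 1 := by rw [← this, pow_succ, pow_two, mul_assoc]
        exact eq_inv_of_mul_eq_one_left h4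
      rw [h3']; exact inv_mem h2
    have hcR : c ∉ R := fun hcR => hcQ (mem_inf.1 hcR).2
    have hsup2 : K ≤ N₀ ⊔ R :=
      le_of_relIndex_prime hRK hRprime le_sup_right (hN₀K hcN) hcR (le_sup_left (b := R) hcN)
    -- odd order elements of `K` lie in `N₀`
    have hgen := oddClosure_gen P
    rw [← hK] at hgen
    rw [← hgen, closure_le]
    intro x hx
    have hx' : x ∈ N₀ ⊔ R := hsup2 hx.1
    exact mem_left_of_odd_of_mem_sup (hRK.trans hKN₀) hR2 hx' hx.2
  refine ⟨⟨oddClosure_gen P, hcomm, ?_, hcore, hJK, hQK, ?_⟩, hsup⟩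
  · rw [hcore]; exact hRidx
  · rw [hcore]; exact hinvK

end abstract

end Cfsg.Agent.Helper49.ZN
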