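import Mathlib
import Cfsg.Agent.Helper49.ZNLocal
import Cfsg.Agent.Helper49.JTransfer
import Cfsg.Agent.Helper46.SylowIn

set_option autoImplicit false

/-!
From the global hypotheses on a ZN-group `G` of characteristic 2 type to the local set-up of
`Helper49/ZNLocal` for a member `L` of `jOvergroups T` (helper49; KS 12.1).
-/

namespace Cfsg.Agent.Helper49.ZN

open Cfsg Subgroup
open scoped commutatorElement

variable {G : Type*} [Group G]

/-- The Sylow 2-subgroup of `↥L` attached to a Sylow 2-subgroup `T` of `L`. -/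
noncomputable def sylowOf [Finite G] {T L : Subgroup G} (h : IsSylowTwoIn T L) : Sylow 2 ↥L :=
  haveI : Fact (Nat.Prime 2) := ⟨Nat.prime_two⟩
  (h.2.1.comap_of_injective L.subtype L.subtype_injective : IsPGroup 2 ↥(T.subgroupOf L)).toSylow
    (by
      have h3 := h.2.2
      rw [Subgroup.relIndex] at h3
      intro hdvd
      exact (Nat.not_even_iff_odd.2 h3) (even_iff_two_dvd.2 hdvd))

theorem coe_sylowOf [Finite G] {T L : Subgroup G} (h : IsSylowTwoIn T L) :
    ((sylowOf h : Sylow 2 ↥L) : Subgroup ↥L) = T.subgroupOf L := rfl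

/-- `O₂(L) ≤ T` for a Sylow 2-subgroup `T` of `L`. -/
theorem pCoreOf_le_of_isSylowTwoIn [Finite G] {T L : Subgroup G} (h : IsSylowTwoIn T L) :
    pCoreOf 2 L ≤ T := by
  have h1 := Cfsg.Agent.Lib.pCore_le_sylow (sylowOf h)
  rw [coe_sylowOf] at h1
  rintro _ ⟨x, hx, rfl⟩
  exact Subgroup.mem_subgroupOf.1 (h1 hx)

/-- A 2-subgroup of `L` containing a Sylow 2-subgroup `T` of `L` equals `T`. -/
theorem eq_of_isSylowTwoIn_of_le [Finite G] {T L P : Subgroup G} (h : IsSylowTwoIn T L)
    (hP : IsPGroup 2 ↥P) (hPL : P ≤ L) (hTP : T ≤ P) : P = T := by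
  have h1 : IsPGroup 2 ↥(P.subgroupOf L) := hP.comap_of_injective L.subtype L.subtype_injective
  have h2 : ((sylowOf h : Sylow 2 ↥L) : Subgroup ↥L) ≤ P.subgroupOf L := by
    rw [coe_sylowOf]
    intro x hx
    exact Subgroup.mem_subgroupOf.2 (hTP (Subgroup.mem_subgroupOf.1 hx))
  have h3 := (sylowOf h).is_maximal' h1 h2
  rw [coe_sylowOf] at h3
  apply le_antisymm _ hTP
  intro x hx
  have : (⟨x, hPL hx⟩ : ↥L) ∈ P.subgroupOf L := Subgroup.mem_subgroupOf.2 hx
  rw [h3] at this
  exact Subgroup.mem_subgroupOf.1 this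

variable [Finite G]

/-- The local set-up holds in every member of `jOvergroups T`. -/
theorem setting_of_mem_jOvergroups
    (hN : ∀ N : Subgroup G, IsTwoLocal N → Group.IsSolvable ↥N)
    (hZ : ∀ S : Sylow 2 G, Subgroup.centralizer (omegaCenterOf (S : Subgroup G) : Set G) ≤
      Subgroup.normalizer ((S : Subgroup G) : Set G))
    {T : Subgroup G} (hT1 : T ≠ ⊥) {L : Subgroup G} (hLT : L ∈ jOvergroups T) :
    Group.IsSolvable ↥L ∧ Setting (sylowOf hLT.1) := by
  obtain ⟨hsyl, hJ, hchar⟩ := hLT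
  have hTL : T ≤ L := hsyl.1
  have hT2 : IsPGroup 2 ↥T := hsyl.2.1
  set Q := pCoreOf 2 L with hQ
  have hQT : Q ≤ T := pCoreOf_le_of_isSylowTwoIn hsyl
  have hQL : Q ≤ L := Cfsg.Agent.Helper46.pCoreOf_le L
  refine ⟨?_, ?_, ?_⟩
  · -- solvability
    have hQ1 : Q ≠ ⊥ := by
      intro hbot
      apply hT1
      rw [eq_bot_iff]
      intro t ht
      have : t ∈ Subgroup.centralizer (Q : Set G) := by
        rw [hbot, Subgroup.mem_centralizer_iff]
        intro y hy
        rw [Subgroup.coe_bot, Set.mem_singleton_iff] at hy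
        rw [hy, one_mul, mul_one]
      have := hchar this
      rwa [hbot] at this
    have hQ2 : IsPGroup 2 ↥Q := hT2.to_le hQT
    have hloc : IsTwoLocal (Subgroup.normalizer (Q : Set G)) := ⟨Q, hQ2, hQ1, rfl⟩
    have hsol := hN _ hloc
    have hLN : L ≤ Subgroup.normalizer (Q : Set G) := Cfsg.Agent.Helper46.pCoreOf_normalized L
    exact Group.isSolvable_of_isSolvable_injective (Subgroup.inclusion_injective hLN)
  · -- characteristic 2
    intro x hx
    have h1 : (x : G) ∈ Subgroup.centralizer (Q : Set G) := by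
      rw [Subgroup.mem_centralizer_iff]
      rintro _ ⟨q, hq, rfl⟩
      have := (Subgroup.mem_centralizer_iff.1 hx) q hq
      have := congrArg Subtype.val this
      simpa using this
    obtain ⟨y, hy, hyx⟩ := hchar h1
    have : y = x := Subtype.ext hyx
    rwa [← this]
  · -- `C_L(Ω₁Z(T)) ≤ N_L(T)`
    have : Fact (Nat.Prime 2) := ⟨Nat.prime_two⟩
    obtain ⟨S, hTS⟩ := hT2.exists_le_sylow
    -- `Ω₁Z(S) ≤ Ω₁Z(T)`
    have hZS : omegaCenterOf (S : Subgroup G) ≤ omegaCenterOf T := by
      unfold omegaCenterOf omegaOne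
      apply Subgroup.closure_mono
      rintro x ⟨hx, hx2⟩
      refine ⟨?_, hx2⟩
      rw [Subgroup.mem_inf] at hx
      have hxT : x ∈ Subgroup.centralizer (T : Set G) := Subgroup.centralizer_le hTS hx.2
      have hxQ : x ∈ Subgroup.centralizer (Q : Set G) := Subgroup.centralizer_le hQT hxT
      exact Subgroup.mem_inf.2 ⟨hQT (hchar hxQ), hxT⟩
    have hST : (S : Subgroup G) ⊓ L = T :=
      eq_of_isSylowTwoIn_of_le hsyl (S.2.to_le inf_le_left) inf_le_right (le_inf hTS hTL)
    intro c hc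
    rw [coe_sylowOf] at hc ⊢
    have hmap : (omegaCenterOf (T.subgroupOf L)).map L.subtype = omegaCenterOf T := by
      rw [← JTransfer.omegaCenterOf_map L.subtype L.subtype_injective,
        Subgroup.subgroupOf_map_subtype, inf_eq_left.2 hTL]
    have hc1 : (c : G) ∈ Subgroup.centralizer (omegaCenterOf T : Set G) := by
      rw [Subgroup.mem_centralizer_iff]
      intro z hz
      rw [SetLike.mem_coe, ← hmap] at hz
      obtain ⟨z', hz', rfl⟩ := hz
      have := (Subgroup.mem_centralizer_iff.1 hc) z' hz'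
      have := congrArg Subtype.val this
      simpa using this
    have hc2 : (c : G) ∈ Subgroup.normalizer ((S : Subgroup G) : Set G) :=
      hZ S (Subgroup.centralizer_le hZS hc1)
    rw [Subgroup.mem_normalizer_iff]
    intro x
    rw [Subgroup.mem_subgroupOf, Subgroup.mem_subgroupOf, ← hST, Subgroup.mem_inf, Subgroup.mem_inf]
    have h3 := (Subgroup.mem_normalizer_iff.1 hc2) (x : G)
    constructor
    · rintro ⟨h4, -⟩
      exact ⟨by simpa using h3.1 h4, (c * x * c⁻¹).2⟩
    · rintro ⟨h4, -⟩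
      exact ⟨h3.2 (by simpa using h4), x.2⟩

end Cfsg.Agent.Helper49.ZN
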