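import Mathlib
import Cfsg.Agent.Helper49.ZNFF
import Cfsg.Agent.Helper49.ZNGlobal

set_option autoImplicit false

/-!
Global consequences for `J(T)`-components in ZN-groups (helper49; KS 12.1).
-/

namespace Cfsg.Agent.Helper49.ZN

open Cfsg Subgroup

variable {G : Type*} [Group G] [Finite G]

/-- `J(T) ≰ O₂(L)`, in the type `↥L`. -/
theorem thompson_not_le_pCore {T L : Subgroup G} (hLT : L ∈ jOvergroups T) :
    ¬ thompsonSubgroupOf 2 ((sylowOf hLT.1 : Sylow 2 ↥L) : Subgroup ↥L) ≤ pCore 2 ↥L := by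
  intro hle
  apply hLT.2.1
  have h1 := Subgroup.map_mono (f := L.subtype) hle
  rw [coe_sylowOf, ← JTransfer.thompson_map L.subtype L.subtype_injective,
    Subgroup.subgroupOf_map_subtype, inf_eq_left.2 hLT.1.1] at h1
  exact h1

/-- KS 12.1.3: every `J(T)`-component in `L ∈ 𝓛(T)` is subnormal in `L`. -/
theorem subnormal_of_mem_jOvergroups
    (hN : ∀ N : Subgroup G, IsTwoLocal N → Group.IsSolvable ↥N)
    (hZ : ∀ S : Sylow 2 G, Subgroup.centralizer (omegaCenterOf (S : Subgroup G) : Set G) ≤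
      Subgroup.normalizer ((S : Subgroup G) : Set G))
    {T : Subgroup G} (hT1 : T ≠ ⊥) {L : Subgroup G} (hLT : L ∈ jOvergroups T)
    {K : Subgroup G} (hK : IsJComponent T K) (hKL : K ≤ L) : (K.subgroupOf L).IsSubnormal := by
  obtain ⟨hsolv, hset⟩ := setting_of_mem_jOvergroups hN hZ hT1 hLT
  haveI := hsolv
  have hK' : IsJComponent (T.subgroupOf L) (K.subgroupOf L) :=
    (JTransfer.isJComponent_subgroupOf_iff hLT.1.1 hKL).2 hK
  exact isSubnormal_of_isJComponent hset hK' (s3Hyp hset (thompson_not_le_pCore hLT))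

end Cfsg.Agent.Helper49.ZN
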