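import Mathlib
import Cfsg.Agent.Helper49.ZNComp2
import Cfsg.Agent.Helper49.S3Count
import Cfsg.Agent.S0027
import Cfsg.Agent.S0055

set_option autoImplicit false
set_option linter.style.haveILetI false

/-!
`W_K` is a four-group for the candidate `J(T)`-component `K` (helper49; KS 12.1).
-/

namespace Cfsg.Agent.Helper49.ZN

open Cfsg Subgroup
open scoped commutatorElement Pointwise
open Cfsg.Agent.Helper49.JComp

variable {L : Type*} [Group L]

theorem normalizer_le_normalizer_inf_normal (K Q : Subgroup L) [hQ : Q.Normal] :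
    normalizer (K : Set L) ≤ normalizer ((K ⊓ Q : Subgroup L) : Set L) := by
  apply le_normalizer_of_conj_mem
  intro n hn x hx
  exact mem_inf.2 ⟨conj_mem_of_mem_normalizer hn (mem_inf.1 hx).1, hQ.conj_mem _ (mem_inf.1 hx).2 _⟩

theorem commutator_le_of_normalizes {U K : Subgroup L} (h : K ≤ normalizer (U : Set L)) :
    ⁅U, K⁆ ≤ U := by
  rw [Subgroup.commutator_le]
  intro u hu k hk
  rw [commutatorElement_def]
  have h1 : k * u⁻¹ * k⁻¹ ∈ U := conj_mem_of_mem_normalizer (h hk) (inv_mem hu)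
  have h2 : u * k * u⁻¹ * k⁻¹ = u * (k * u⁻¹ * k⁻¹) := by group
  rw [h2]; exact mul_mem hu h1

theorem mem_centralizer_zpowers {g w : L} (h : g * w = w * g) :
    w ∈ centralizer ((zpowers g : Subgroup L) : Set L) := by
  rw [mem_centralizer_iff]
  rintro _ ⟨n, rfl⟩
  have : Commute g w := h
  exact (this.zpow_left n).eq

variable [Finite L] [Group.IsSolvable L] {T : Sylow 2 L}

theorem wOf_four (h : Setting T) {A : Subgroup L} {a : L} (hd : OffData T A a) {P : Subgroup L}
    (hP : PData T a P) :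
    Nat.card ↥(wOf (oddClosure P)) = 4 ∧ ∀ w ∈ wOf (oddClosure P), w * w = 1 := by
  classical
  haveI : Fact (Nat.Prime 2) := ⟨Nat.prime_two⟩
  set Q := pCore 2 L with hQ
  set J := thompsonSubgroupOf 2 (T : Subgroup L) with hJdef
  set C := cOf (T : Subgroup L) with hC
  set V := vOf (T : Subgroup L) with hV
  haveI hQn : Q.Normal := by rw [hQ]; infer_instance
  have hQ2 : IsPGroup 2 ↥Q := Cfsg.Agent.Lib.isPGroup_pCore 2
  have hJ2 : IsPGroup 2 ↥J := T.2.to_le (thompsonSubgroupOf_le 2 _)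
  have haA : a ∈ A := hd.mem
  have hAJ : A ≤ J := hd.maxEA.le_thompson
  obtain ⟨hk, hsup⟩ := kData_oddClosure hQ2 hJ2 hP.Q_le hP.relIndex hP.J_le (hAJ haA) hP.inv
  set K := oddClosure P with hK
  set R := pCoreOf 2 K with hR
  set U := omegaCenterOf R with hU
  have hW : wOf K = ⁅U, K⁆ := rfl
  have hRK : R ≤ K := Cfsg.Agent.Helper46.pCoreOf_le K
  have hRQ : R ≤ Q := by rw [hR, hk.R_eq]; exact inf_le_right
  have hR2 : IsPGroup 2 ↥R := hQ2.to_le hRQ
  have hRprime : (R.relIndex K).Prime := by rw [hk.relIndex]; exact Nat.prime_three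
  -- the element of order 3
  obtain ⟨g, hgK, hg3⟩ := exists_orderOf_three hRK hk.relIndex
  have hgR : g ∉ R := not_mem_of_orderOf_three hR2 hg3
  have hggg : g * g * g = 1 := by
    have : g ^ 3 = 1 := by rw [← hg3]; exact pow_orderOf_eq_one g
    rw [← this, pow_succ, pow_two]
  set X := zpowers g with hX
  have hXK : X ≤ K := zpowers_le.2 hgK
  have hKle : K ≤ X ⊔ R :=
    le_of_relIndex_prime hRK hRprime le_sup_right hgK hgR (le_sup_left (b := R) (mem_zpowers g))
  -- normalizers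
  have hNKR : normalizer (K : Set L) ≤ normalizer (R : Set L) := by
    rw [hR, hk.R_eq]; exact normalizer_le_normalizer_inf_normal K Q
  have hNKU : normalizer (K : Set L) ≤ normalizer (U : Set L) :=
    hNKR.trans (normalizer_le_normalizer_omegaCenterOf R)
  have hNKW : normalizer (K : Set L) ≤ normalizer ((⁅U, K⁆ : Subgroup L) : Set L) :=
    le_normalizer_commutator_of_le hNKU le_rfl
  have hKU : K ≤ normalizer (U : Set L) := le_normalizer.trans hNKU
  have hWU : ⁅U, K⁆ ≤ U := commutator_le_of_normalizes hKU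
  have hUea := isElementaryAbelian_omegaCenterOf R
  have hUc := (Cfsg.Agent.Helper10.isElementaryAbelian_iff.1 hUea).1
  have hU2 : ∀ u ∈ U, u * u = 1 := fun u hu => by
    have := (Cfsg.Agent.Helper10.isElementaryAbelian_iff.1 hUea).2 u hu
    rwa [pow_two] at this
  have hUR : U ≤ R := omegaCenterOf_le R
  have hU2g : IsPGroup 2 ↥U := hR2.to_le hUR
  -- `R` centralizes `U`
  have hRU : ∀ r ∈ R, ∀ u ∈ U, r * u * r⁻¹ = u := by
    intro r hr u hu
    have := mem_centralizer_iff.1 (omegaCenterOf_le_centralizer R hu) r hr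
    rw [this]; group
  -- `[U, K] = [U, X]`
  have hWX : ⁅U, K⁆ = ⁅U, X⁆ := by
    apply le_antisymm
    · rw [Subgroup.commutator_le]
      intro u hu k hk'
      have hk2 : k ∈ ((X ⊔ R : Subgroup L) : Set L) := hKle hk'
      rw [Subgroup.coe_mul_of_left_le_normalizer_right X R
        (hXK.trans (Cfsg.Agent.Helper46.pCoreOf_normalized K))] at hk2
      obtain ⟨x', hx', r, hr, rfl⟩ := Set.mem_mul.1 hk2
      have h1 : ⁅u, x' * r⁆ = ⁅u, x'⁆ := by
        rw [commutatorElement_def, commutatorElement_def]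
        have h2 := hRU r hr u⁻¹ (inv_mem hu)
        calc u * (x' * r) * u⁻¹ * (x' * r)⁻¹ = u * x' * (r * u⁻¹ * r⁻¹) * x'⁻¹ := by group
          _ = u * x' * u⁻¹ * x'⁻¹ := by rw [h2]
      rw [h1]
      exact Subgroup.commutator_mem_commutator hu hx'
    · exact Subgroup.commutator_mono le_rfl hXK
  -- cardinalities
  have hXcard : Nat.card X = 3 := by rw [hX, Nat.card_zpowers, hg3]
  have hcop : ∀ {Y : Subgroup L}, IsPGroup 2 ↥Y → (Nat.card X).Coprime (Nat.card Y) := by
    intro Y hY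
    obtain ⟨n, hn⟩ := (IsPGroup.iff_card (p := 2) (G := ↥Y)).1 hY
    rw [hXcard, hn]
    exact Nat.Coprime.pow_right n (by decide)
  -- `g` is fixed point free on `W`
  have hfpf : ∀ w ∈ ⁅U, K⁆, g * w * g⁻¹ = w → w = 1 := by
    intro w hw hgw
    haveI : IsMulCommutative U := hUea.1
    have h55 := (Cfsg.Agent.S0055.result X U (hXK.trans hKU) (hcop hU2g)).1
    have h1 : w ∈ (U ⊓ centralizer (X : Set L)) ⊓ ⁅U, X⁆ := by
      refine mem_inf.2 ⟨mem_inf.2 ⟨hWU hw, ?_⟩, by rw [← hWX]; exact hw⟩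
      apply mem_centralizer_zpowers
      calc g * w = (g * w * g⁻¹) * g := by group
        _ = w * g := by rw [hgw]
    rw [h55, mem_bot] at h1
    exact h1
  -- `W ≠ 1`
  have hWne : ⁅U, K⁆ ≠ ⊥ := by
    intro hbot
    apply hP.not_le
    rw [← hsup]
    have hQC : Q ≤ C := h.Q_le_C
    refine sup_le ?_ hQC
    refine hKle.trans (sup_le ?_ (hRQ.trans hQC))
    rw [hX, zpowers_le]
    -- `g` centralizes `V`
    have hVn : (V : Subgroup L).Normal := by rw [hV]; infer_instance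
    have hXV : X ≤ normalizer (V : Set L) := by
      rw [Subgroup.normalizer_eq_top]; exact le_top
    have h27 := Cfsg.Agent.S0027.result X V hXV (hcop h.V_isPGroup) (Or.inl inferInstance)
    have hV1 : ⁅V, X⁆ ≤ U := by
      have h1 : ⁅V, X⁆ ≤ V := Subgroup.commutator_le_left V X
      have h2 : ⁅V, X⁆ ≤ R := by
        rw [hR, hk.R_eq]
        rw [Subgroup.commutator_le]
        intro v hv x' hx'
        have hvQ : v ∈ Q := h.V_le_Q hv
        have hx'K : x' ∈ K := hXK hx'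
        rw [commutatorElement_def]
        refine mem_inf.2 ⟨?_, ?_⟩
        · exact mul_mem (conj_mem_of_mem_normalizer (hk.Q_le hvQ) hx'K) (inv_mem hx'K)
        · have : v * x' * v⁻¹ * x'⁻¹ = v * (x' * v⁻¹ * x'⁻¹) := by group
          rw [this]
          exact mul_mem hvQ (hQn.conj_mem _ (inv_mem hvQ) _)
      intro y hy
      rw [hU, mem_omegaCenterOf_iff]
      refine ⟨h2 hy, ?_, h.sq_eq_one_of_mem_V (h1 hy)⟩
      exact centralizer_le hRQ (h.V_le_centralizer_Q (h1 hy))
    have hbot2 : ⁅U, X⁆ = ⊥ := by rw [← hWX]; exact hbot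
    have h3 : ⁅⁅V, X⁆, X⁆ = ⊥ := by
      rw [eq_bot_iff, ← hbot2]
      exact Subgroup.commutator_mono hV1 le_rfl
    rw [h27] at h3
    rw [Subgroup.commutator_eq_bot_iff_le_centralizer] at h3
    show g ∈ centralizer (V : Set L)
    rw [mem_centralizer_iff]
    intro v hv
    exact (mem_centralizer_iff.1 (h3 hv) g (mem_zpowers g)).symm
  -- data on `A`
  have hAea := hd.maxEA.2.1
  have hAc := (Cfsg.Agent.Helper10.isElementaryAbelian_iff.1 hAea).1
  have hA2 : ∀ b ∈ A, b * b = 1 := fun b hb => by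
    have := (Cfsg.Agent.Helper10.isElementaryAbelian_iff.1 hAea).2 b hb
    rwa [pow_two] at this
  have hAN : A ≤ normalizer (K : Set L) := hAJ.trans hk.J_le
  have hconjW : ∀ n ∈ normalizer (K : Set L), ∀ w ∈ ⁅U, K⁆, n * w * n⁻¹ ∈ ⁅U, K⁆ :=
    fun n hn w hw => conj_mem_of_mem_normalizer (hNKW hn) hw
  have hRW : ∀ r ∈ R, ∀ w ∈ ⁅U, K⁆, r * w * r⁻¹ = w := fun r hr w hw => hRU r hr w (hWU hw)
  refine ⟨?_, fun w hw => hU2 w (hWU (by rw [← hW]; exact hw))⟩
  rw [hW]
  apply S3Count.card_eq_four (A := A) (A₁ := A ⊓ Q) (x := g) (a := a)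
    (fun w hw => hU2 w (hWU hw)) (fun u hu v hv => hUc u (hWU hu) v (hWU hv)) hWne hAc hA2
    (fun b hb => hconjW b (hAN hb)) (hconjW g (le_normalizer hgK)) hggg hfpf haA inf_le_left
  · -- index
    intro b hb
    rcases hd.cases b hb with h1 | h1
    · left; exact mem_inf.2 ⟨hb, h1⟩
    · right; exact mem_inf.2 ⟨mul_mem hb (inv_mem haA), h1⟩
  · -- inversion
    intro w hw
    have hr : a * g * a⁻¹ * g ∈ R := hk.inv g hgK
    have hw' : g⁻¹ * w * g ∈ ⁅U, K⁆ := by
      have := hconjW g⁻¹ (inv_mem (le_normalizer hgK)) w hw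
      simpa using this
    have h1 := hRW _ hr _ hw'
    calc (a * g * a⁻¹) * w * (a * g * a⁻¹)⁻¹
        = (a * g * a⁻¹ * g) * (g⁻¹ * w * g) * (a * g * a⁻¹ * g)⁻¹ := by group
      _ = g⁻¹ * w * g := h1
  · -- commuting
    intro q hq w hw
    have hqQ : q ∈ Q := (mem_inf.1 hq).2
    have hqN : q ∈ normalizer (K : Set L) := hk.Q_le hqQ
    have hr : q * g * q⁻¹ * g⁻¹ ∈ R := by
      rw [hR, hk.R_eq]
      refine mem_inf.2 ⟨mul_mem (conj_mem_of_mem_normalizer hqN hgK) (inv_mem hgK), ?_⟩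
      have : q * g * q⁻¹ * g⁻¹ = q * (g * q⁻¹ * g⁻¹) := by group
      rw [this]
      exact mul_mem hqQ (hQn.conj_mem _ (inv_mem hqQ) _)
    have hw' : g * (q * w * q⁻¹) * g⁻¹ ∈ ⁅U, K⁆ :=
      hconjW g (le_normalizer hgK) _ (hconjW q hqN w hw)
    have h1 := hRW _ hr _ hw'
    calc q * (g * w * g⁻¹) * q⁻¹
        = (q * g * q⁻¹ * g⁻¹) * (g * (q * w * q⁻¹) * g⁻¹) * (q * g * q⁻¹ * g⁻¹)⁻¹ := by group
      _ = g * (q * w * q⁻¹) * g⁻¹ := h1
  · -- the Thompson inequality
    intro B hBA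
    set CB := ⁅U, K⁆ ⊓ centralizer (B : Set L) with hCB
    have hBea : IsElementaryAbelian 2 B := Cfsg.Agent.Helper10.isElementaryAbelian_mono hAea hBA
    have hCBea : IsElementaryAbelian 2 CB :=
      Cfsg.Agent.Helper10.isElementaryAbelian_mono hUea (inf_le_left.trans hWU)
    have hB₁ea : IsElementaryAbelian 2 (B ⊔ CB) := by
      apply Cfsg.Agent.Helper10.isElementaryAbelian_sup hBea hCBea
      intro b hb c hc
      exact mem_centralizer_iff.1 (mem_inf.1 hc).2 b hb
    have hB₁T : B ⊔ CB ≤ (T : Subgroup L) :=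
      sup_le (hBA.trans hd.maxEA.1)
        (inf_le_left.trans (hWU.trans (hUR.trans (hRQ.trans h.Q_le_T))))
    have hcard : Nat.card ↥(B ⊔ CB) ≤ Nat.card A := hd.maxEA.2.2 _ hB₁T hB₁ea
    have hcen : ∀ b ∈ B, ∀ y ∈ CB, b * y * b⁻¹ = y := by
      intro b hb y hy
      have := mem_centralizer_iff.1 (mem_inf.1 hy).2 b hb
      rw [this]; group
    have e5 := Cfsg.Agent.Helper10.card_sup_mul_card_inf B CB (by
      intro b hb
      rw [mem_normalizer_iff]
      intro y
      constructor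
      · intro hy; rw [hcen b hb y hy]; exact hy
      · intro hy
        have h1 := hcen b⁻¹ (inv_mem hb) _ hy
        have h5 : y = b⁻¹ * (b * y * b⁻¹) * b⁻¹⁻¹ := by group
        rw [h5, h1]; exact hy)
    have hinf : B ⊓ CB = B ⊓ ⁅U, K⁆ := by
      apply le_antisymm
      · exact inf_le_inf_left _ inf_le_left
      · intro y hy
        refine mem_inf.2 ⟨(mem_inf.1 hy).1, mem_inf.2 ⟨(mem_inf.1 hy).2, ?_⟩⟩
        rw [mem_centralizer_iff]
        intro b hb
        exact hAc b (hBA hb) y (hBA (mem_inf.1 hy).1)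
    rw [hinf] at e5
    rw [← e5]
    exact Nat.mul_le_mul_right _ hcard

end Cfsg.Agent.Helper49.ZN
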