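import Mathlib
import Cfsg.Agent.Helper49.ZNW
import Cfsg.Agent.Helper49.JMono
import Cfsg.Agent.Helper49.ZNMain

set_option autoImplicit false
set_option linter.style.haveILetI false

/-!
Existence of `J(T)`-components (helper49; KS 12.1 / 9.3.8).
-/

namespace Cfsg.Agent.Helper49.ZN

open Cfsg Subgroup
open Cfsg.Agent.Helper49.JComp

section typeL

variable {L : Type*} [Group L] [Finite L] [Group.IsSolvable L] {T : Sylow 2 L}

/-- In a solvable group `L` of characteristic 2 with `C_L(Ω₁Z(T)) ≤ N_L(T)` and `J(T) ≰ O₂(L)`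
there is a `J(T)`-component. -/
theorem exists_isJComponent (h : Setting T)
    (hJ : ¬ thompsonSubgroupOf 2 (T : Subgroup L) ≤ pCore 2 L) :
    ∃ K : Subgroup L, IsJComponent (T : Subgroup L) K := by
  haveI : Fact (Nat.Prime 2) := ⟨Nat.prime_two⟩
  obtain ⟨A, a, hd⟩ := exists_offData h hJ
  obtain ⟨P, hP⟩ := exists_pData h hJ hd
  set Q := pCore 2 L with hQ
  set J := thompsonSubgroupOf 2 (T : Subgroup L) with hJdef
  haveI hQn : Q.Normal := by rw [hQ]; infer_instance
  have hQ2 : IsPGroup 2 ↥Q := Cfsg.Agent.Lib.isPGroup_pCore 2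
  have hJ2 : IsPGroup 2 ↥J := T.2.to_le (thompsonSubgroupOf_le 2 _)
  have hAJ : A ≤ J := hd.maxEA.le_thompson
  obtain ⟨hk, hsup⟩ := kData_oddClosure hQ2 hJ2 hP.Q_le hP.relIndex hP.J_le (hAJ hd.mem) hP.inv
  have hW := wOf_four h hd hP
  refine ⟨oddClosure P, hk.gen, hk.comm, hk.relIndex, ?_, hW.1, hW.2⟩
  intro S hS hJS
  exact JMono.thompson_eq_of_sylow T hS.2.1 hJS

end typeL

variable {G : Type*} [Group G] [Finite G]

/-- KS 12.1: every `L ∈ 𝓛(T)` contains a `J(T)`-component. -/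
theorem exists_isJComponent_le
    (hN : ∀ N : Subgroup G, IsTwoLocal N → Group.IsSolvable ↥N)
    (hZ : ∀ S : Sylow 2 G, Subgroup.centralizer (omegaCenterOf (S : Subgroup G) : Set G) ≤
      Subgroup.normalizer ((S : Subgroup G) : Set G))
    {T : Subgroup G} (hT1 : T ≠ ⊥) {L : Subgroup G} (hLT : L ∈ jOvergroups T) :
    ∃ K : Subgroup G, IsJComponent T K ∧ K ≤ L := by
  obtain ⟨hsolv, hset⟩ := setting_of_mem_jOvergroups hN hZ hT1 hLT
  haveI := hsolv
  obtain ⟨K', hK'⟩ := exists_isJComponent hset (thompson_not_le_pCore hLT)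
  rw [coe_sylowOf] at hK'
  have hKL : K'.map L.subtype ≤ L := Subgroup.map_subtype_le K'
  refine ⟨K'.map L.subtype, ?_, hKL⟩
  rw [← JTransfer.isJComponent_subgroupOf_iff hLT.1.1 hKL]
  have : (K'.map L.subtype).subgroupOf L = K' :=
    Subgroup.comap_map_eq_self_of_injective L.subtype_injective K'
  rw [this]
  exact hK'

end Cfsg.Agent.Helper49.ZN
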