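import Mathlib
import Cfsg.Agent.Helper49.ZNOff

set_option autoImplicit false
set_option linter.style.haveILetI false

/-!
An offender of order 2 above a prescribed minimal offender (helper49; KS 12.1 / 9.3.8).
-/

namespace Cfsg.Agent.Helper49.ZN

open Cfsg Subgroup
open Cfsg.Agent.Helper1.Hol Cfsg.Agent.Helper1.FF Cfsg.Agent.Helper1.AutInv
open Cfsg.Agent.Helper49.JComp

variable {L : Type*} [Group L] [Finite L] [Group.IsSolvable L] {T : Sylow 2 L}

/-- Every minimal offender below the image of some `A ∈ 𝒜(T)` is the image of `⟨a⟩` for offender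
data `(A', a)`. -/
theorem exists_offData_of_minOff (h : Setting T)
    (hJ : ¬ thompsonSubgroupOf 2 (T : Subgroup L) ≤ pCore 2 L) {A : Subgroup L}
    (hA : MaxEA 2 (T : Subgroup L) A) :
    ∀ BB : Subgroup (HolG (vOf (T : Subgroup L))),
      IsMinOff 2 (VV (vOf (T : Subgroup L))) (JH (vOf (T : Subgroup L)) 2) BB →
      BB ≤ A.map (pi (vOf (T : Subgroup L))) →
      ∃ A' a, OffData T A' a ∧ zpowers (pi (vOf (T : Subgroup L)) a) = BB := by
  classical
  have hyp := h.ffHyp hJ
  set V := vOf (T : Subgroup L) with hV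
  set φ := pi V with hφ
  intro BB hBBmin hBBA
  have hker : φ.ker = cOf (T : Subgroup L) := ker_pi V
  have hAmax := maxEA_mem_of_sylow T hA
  have hAbo : IsBestOffenderOn 2 (VV V) (A.map φ) :=
    bestOffender_map V (Cfsg.Agent.S0606.result V h.V_isElementaryAbelian A hAmax)
  have hAH : A.map φ ≤ JH V 2 :=
    Subgroup.map_mono (Cfsg.Agent.Helper10.le_thompsonSubgroup hAmax)
  have hBB1 : BB ≠ ⊥ := by
    intro hbot
    apply hBBmin.2.2.1
    rw [hbot]
    exact Subgroup.commutator_bot_right _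
  have hA1 : A.map φ ≠ ⊥ := by
    intro hbot
    apply hBB1
    rw [eq_bot_iff, ← hbot]
    exact hBBA
  -- cardinalities
  have h610A := Cfsg.Agent.S0610.result (VV V) (JH V 2) hyp.hV hyp.hHV hyp.hf hyp.hS1 hyp.hS3
    hyp.hH1 (A.map φ) hAH hAbo hA1
  have h610B := Cfsg.Agent.S0610.result (VV V) (JH V 2) hyp.hV hyp.hHV hyp.hf hyp.hS1 hyp.hS3
    hyp.hH1 BB hBBmin.1 hBBmin.2.1 hBB1
  have h611 := Cfsg.Agent.S0611.result (VV V) (JH V 2) hyp.hV hyp.hHV hyp.hf hyp.hS1 hyp.hS3
    hyp.hH1 BB hBBmin.1 hBBmin.2.1 hBBmin.2.2.1 hBBmin.2.2.2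
  -- pull back
  set B := A ⊓ BB.comap φ with hB
  have hBmap : B.map φ = BB := by
    apply le_antisymm
    · rintro _ ⟨b, hb, rfl⟩
      exact (mem_inf.1 hb).2
    · intro y hy
      obtain ⟨a, ha, rfl⟩ := hBBA hy
      exact ⟨a, mem_inf.2 ⟨ha, hy⟩, rfl⟩
  have hBA : B ≤ A := inf_le_left
  have hBC : B ⊓ centralizer (V : Set L) = A ⊓ centralizer (V : Set L) := by
    apply le_antisymm
    · exact inf_le_inf_right _ inf_le_left
    · intro x hx
      refine mem_inf.2 ⟨mem_inf.2 ⟨(mem_inf.1 hx).1, ?_⟩, (mem_inf.1 hx).2⟩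
      rw [mem_comap]
      have : φ x = 1 := by
        rw [← MonoidHom.mem_ker, hker]; exact (mem_inf.1 hx).2
      rw [this]; exact one_mem _
  set CB := V ⊓ centralizer (B : Set L) with hCB
  set A' := B ⊔ CB with hA'
  -- `A'` is elementary abelian in `T`
  have hAea := hA.2.1
  have hBea : IsElementaryAbelian 2 B := Cfsg.Agent.Helper10.isElementaryAbelian_mono hAea hBA
  have hCBea : IsElementaryAbelian 2 CB :=
    Cfsg.Agent.Helper10.isElementaryAbelian_mono h.V_isElementaryAbelian inf_le_left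
  have hA'ea : IsElementaryAbelian 2 A' := by
    apply Cfsg.Agent.Helper10.isElementaryAbelian_sup hBea hCBea
    intro b hb c hc
    exact mem_centralizer_iff.1 (mem_inf.1 hc).2 b hb
  have hA'T : A' ≤ (T : Subgroup L) :=
    sup_le (hBA.trans hA.1) (inf_le_left.trans (h.V_le_Q.trans h.Q_le_T))
  -- the cardinality of `A'`
  have hcard : Nat.card A ≤ Nat.card A' := by
    have e1 := card_map_pi_mul V A
    have e2 := card_map_pi_mul V B
    rw [hBmap, hBC] at e2
    have e3 := card_VV_inf_centralizer_map V A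
    have e4 := card_VV_inf_centralizer_map V B
    rw [hBmap] at e4
    rw [e3] at h610A
    rw [e4] at h610B
    have hcen : ∀ b ∈ B, ∀ y ∈ CB, b * y * b⁻¹ = y := by
      intro b hb y hy
      have := mem_centralizer_iff.1 (mem_inf.1 hy).2 b hb
      rw [this]; group
    have e5 := Cfsg.Agent.Helper10.card_sup_mul_card_inf B CB (by
      intro b hb
      rw [mem_normalizer_iff]
      intro x
      constructor
      · intro hx; rw [hcen b hb x hx]; exact hx
      · intro hx
        have h1 := hcen b⁻¹ (inv_mem hb) _ hx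
        have h5 : x = b⁻¹ * (b * x * b⁻¹) * b⁻¹⁻¹ := by group
        rw [h5, h1]; exact hx)
    -- `B ⊓ CB ≤ V ⊓ C(A)`
    have hle : B ⊓ CB ≤ V ⊓ centralizer (A : Set L) := by
      intro x hx
      refine mem_inf.2 ⟨(mem_inf.1 (mem_inf.1 hx).2).1, ?_⟩
      rw [mem_centralizer_iff]
      intro y hy
      exact (Cfsg.Agent.Helper10.isElementaryAbelian_iff.1 hAea).1 y hy x (hBA (mem_inf.1 hx).1)
    have e6 : Nat.card ↥(B ⊓ CB) ≤ Nat.card ↥(V ⊓ centralizer (A : Set L)) :=
      Subgroup.card_le_of_le hle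
    have e7 := card_VV V
    -- `|B| |CB| = |A| |C_V(A)|`
    have e8 : Nat.card B * Nat.card CB = Nat.card A * Nat.card ↥(V ⊓ centralizer (A : Set L)) := by
      rw [← e2, ← e1]
      calc Nat.card BB * Nat.card ↥(A ⊓ centralizer (V : Set L)) * Nat.card CB
          = (Nat.card BB * Nat.card CB) * Nat.card ↥(A ⊓ centralizer (V : Set L)) := by ring
        _ = (Nat.card (A.map φ) * Nat.card ↥(V ⊓ centralizer (A : Set L))) *
              Nat.card ↥(A ⊓ centralizer (V : Set L)) := by rw [h610B, h610A]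
        _ = _ := by ring
    have hpos : 0 < Nat.card ↥(V ⊓ centralizer (A : Set L)) := Nat.card_pos
    have e9 : Nat.card A * Nat.card ↥(V ⊓ centralizer (A : Set L)) ≤
        Nat.card A' * Nat.card ↥(V ⊓ centralizer (A : Set L)) := by
      calc Nat.card A * Nat.card ↥(V ⊓ centralizer (A : Set L)) = Nat.card B * Nat.card CB := e8.symm
        _ = Nat.card A' * Nat.card ↥(B ⊓ CB) := e5.symm
        _ ≤ Nat.card A' * Nat.card ↥(V ⊓ centralizer (A : Set L)) := Nat.mul_le_mul_left _ e6
    exact Nat.le_of_mul_le_mul_right e9 hpos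
  have hA'max : MaxEA 2 (T : Subgroup L) A' := hA.of_card_le hA'T hA'ea hcard
  -- the element `a`
  obtain ⟨⟨bb, hbb⟩, hbb1⟩ := (Subgroup.ne_bot_iff_exists_ne_one).1 hBB1
  have hbb1' : bb ≠ 1 := fun hc => hbb1 (Subtype.ext hc)
  have hbbmem : bb ∈ B.map φ := by rw [hBmap]; exact hbb
  obtain ⟨a, haB, hab⟩ := hbbmem
  have hBBcard : Nat.card BB = 2 := h611.1
  have hBBeq : BB = zpowers bb := by
    symm
    apply Subgroup.eq_of_le_of_card_ge (zpowers_le.2 hbb)
    rw [hBBcard, Nat.card_zpowers]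
    have : orderOf bb ≠ 1 := fun hc => hbb1' (orderOf_eq_one_iff.1 hc)
    have hpos : 0 < orderOf bb := orderOf_pos bb
    omega
  have hA'map : A'.map φ = BB := by
    rw [hA', Subgroup.map_sup, hBmap]
    apply sup_eq_left.2
    rintro _ ⟨c, hc, rfl⟩
    have : φ c = 1 := by
      rw [← MonoidHom.mem_ker, hker]
      show c ∈ centralizer (V : Set L)
      rw [mem_centralizer_iff]
      intro v hv
      exact h.V_comm hv (mem_inf.1 hc).1
    rw [this]; exact one_mem _
  have hbb2 : bb * bb = 1 := by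
    have h1 : orderOf bb = 2 := by
      have h2 : Nat.card (zpowers bb) = 2 := by rw [← hBBeq]; exact hBBcard
      rwa [Nat.card_zpowers] at h2
    calc bb * bb = bb ^ 2 := (pow_two bb).symm
      _ = bb ^ orderOf bb := by rw [h1]
      _ = 1 := pow_orderOf_eq_one bb
  have hzp : zpowers (pi (vOf (T : Subgroup L)) a) = BB := by
    rw [hBBeq]
    congr 1
  refine ⟨A', a, ⟨hA'max, mem_sup_left haB, ?_, ?_, ?_⟩, hzp⟩
  · intro haC
    apply hbb1'
    rw [← hab, ← MonoidHom.mem_ker, hker]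
    exact haC
  · intro b hb
    have h1 : φ b ∈ BB := by rw [← hA'map]; exact ⟨b, hb, rfl⟩
    rw [hBBeq] at h1
    have haA' : a ∈ A' := mem_sup_left haB
    -- `φ b = 1` or `φ b = bb`
    have h2 : φ b = 1 ∨ φ b = bb := by
      obtain ⟨n, hn⟩ := mem_zpowers_iff.1 h1
      have hbb2' : bb ^ (2 : ℤ) = 1 := by rw [zpow_ofNat, pow_two]; exact hbb2
      rcases Int.emod_two_eq_zero_or_one n with h3 | h3
      · left
        have : n = 2 * (n / 2) := by omega
        rw [← hn, this, zpow_mul, hbb2', one_zpow]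
      · right
        have : n = 2 * (n / 2) + 1 := by omega
        rw [← hn, this, zpow_add, zpow_mul, hbb2', one_zpow, one_mul, zpow_one]
    rcases h2 with h2 | h2
    · left
      rw [← h.C_inf_T]
      refine mem_inf.2 ⟨?_, hA'T hb⟩
      rw [← hker, MonoidHom.mem_ker]; exact h2
    · right
      rw [← h.C_inf_T]
      refine mem_inf.2 ⟨?_, hA'T (mul_mem hb (inv_mem haA'))⟩
      rw [← hker, MonoidHom.mem_ker, map_mul, map_inv, h2, hab, mul_inv_cancel]
  · rw [hzp]
    exact hBBmin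


end Cfsg.Agent.Helper49.ZN
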