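import Mathlib
import Cfsg.Agent.Helper49.ZNW
import Cfsg.Agent.Helper49.ZNOff2

set_option autoImplicit false
set_option linter.style.haveILetI false

/-!
The image in `L / C_L(V)` of the `J(T)`-component attached to a minimal offender
(helper49; KS 12.1).
-/

namespace Cfsg.Agent.Helper49.ZN

open Cfsg Subgroup
open Cfsg.Agent.Helper1.Hol Cfsg.Agent.Helper1.FF Cfsg.Agent.Helper1.AutInv
open Cfsg.Agent.Helper49.JComp

theorem card_sl22 : Nat.card (Matrix.SpecialLinearGroup (Fin 2) (ZMod 2)) = 6 := by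
  rw [Nat.card_eq_fintype_card]
  decide

variable {L : Type*} [Group L] [Finite L]

omit [Finite L] in
theorem pow_three_mem_of_relIndex {Q P : Subgroup L} [hQ : Q.Normal] (_hQP : Q ≤ P)
    (h3 : Q.relIndex P = 3) {p : L} (hp : p ∈ P) : p ^ 3 ∈ Q := by
  have h1 := Subgroup.pow_index_mem (Q.subgroupOf P) (⟨p, hp⟩ : ↥P)
  have h2 : (Q.subgroupOf P).index = 3 := h3
  rw [h2, Subgroup.mem_subgroupOf] at h1
  simpa using h1

variable [Group.IsSolvable L] {T : Sylow 2 L}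

/-- The image of `P` lies in `E`, and `E` lies in the image of `⟨O²(P), J(T)⟩`. -/
theorem image_pData (h : Setting T)
    (hJ : ¬ thompsonSubgroupOf 2 (T : Subgroup L) ≤ pCore 2 L) {A : Subgroup L} {a : L}
    (hd : OffData T A a) {P : Subgroup L} (hP : PData T a P) :
    P.map (pi (vOf (T : Subgroup L))) ≤
        EE 2 (JH (vOf (T : Subgroup L)) 2) (zpowers (pi (vOf (T : Subgroup L)) a)) ∧
      EE 2 (JH (vOf (T : Subgroup L)) 2) (zpowers (pi (vOf (T : Subgroup L)) a)) ≤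
        (oddClosure P ⊔ thompsonSubgroupOf 2 (T : Subgroup L)).map (pi (vOf (T : Subgroup L))) := by
  classical
  haveI : Fact (Nat.Prime 2) := ⟨Nat.prime_two⟩
  have hyp := h.ffHyp hJ
  set V := vOf (T : Subgroup L) with hV
  set φ := pi V with hφ
  set Q := pCore 2 L with hQ
  set C := cOf (T : Subgroup L) with hC
  set J := thompsonSubgroupOf 2 (T : Subgroup L) with hJdef
  have hker : φ.ker = C := ker_pi V
  have hmin := hd.minOff
  set BB := zpowers (φ a) with hBB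
  set E := EE 2 (JH V 2) BB with hE
  set Dc := JH V 2 ⊓ centralizer ((⁅VV V, E⁆ : Subgroup (HolG V)) : Set (HolG V)) with hDc
  have hEDc : E ⊓ Dc = ⊥ := (hyp.s616 hmin).2.2.2.2.2.2.1
  obtain ⟨e⟩ := (hyp.s616 hmin).2.1
  have hEcard : Nat.card E = 6 := by
    rw [Nat.card_congr e.toEquiv]; exact card_sl22
  haveI hQn : Q.Normal := by rw [hQ]; infer_instance
  have hQC : Q ≤ C := h.Q_le_C
  have hφQ : ∀ q ∈ Q, φ q = 1 := fun q hq => by
    rw [← MonoidHom.mem_ker, hker]; exact hQC hq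
  have haA : a ∈ A := hd.mem
  have ha2 : a * a = 1 := by
    have := (Cfsg.Agent.Helper10.isElementaryAbelian_iff.1 hd.maxEA.2.1).2 a haA
    rwa [pow_two] at this
  have haJ : a ∈ J := hd.maxEA.le_thompson haA
  have hJle : J ≤ thompsonSubgroup 2 L := Setting.J_le_thompson T
  have hbJH : φ a ∈ JH V 2 := ⟨a, hJle haJ, rfl⟩
  have hbE : φ a ∈ E := by
    have h1 : BB ≤ E := le_sup_right
    exact h1 (mem_zpowers _)
  have hb1 : φ a ≠ 1 := by
    intro hc
    apply hd.not_mem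
    rw [← MonoidHom.mem_ker, hker] at hc
    exact hc
  -- images of elements of `P`
  have key : ∀ p ∈ P, φ p ∈ E := by
    intro p hp
    set d := φ p with hd'
    have hinv : φ a * d * (φ a)⁻¹ * d = 1 := by
      have := hφQ _ (hP.inv p hp)
      simpa using this
    have hd3 : d ^ 3 = 1 := by
      rw [hd', ← map_pow]
      exact hφQ _ (pow_three_mem_of_relIndex hP.Q_le hP.relIndex hp)
    have hinv' : φ a * d * (φ a)⁻¹ = d⁻¹ := eq_inv_of_mul_eq_one_left hinv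
    -- `d ∈ JH`
    have hdJH : d ∈ JH V 2 := by
      have hn : d ∈ normalizer (JH V 2 : Set (HolG V)) := range_le_normalizer_JH V ⟨p, rfl⟩
      have h1 : d * (φ a)⁻¹ * d⁻¹ ∈ JH V 2 := (mem_normalizer_iff.1 hn _).1 (inv_mem hbJH)
      have h2 : φ a * (d * (φ a)⁻¹ * d⁻¹) ∈ JH V 2 := mul_mem hbJH h1
      have h3 : φ a * (d * (φ a)⁻¹ * d⁻¹) = d⁻¹ * d⁻¹ := by
        calc φ a * (d * (φ a)⁻¹ * d⁻¹) = (φ a * d * (φ a)⁻¹) * d⁻¹ := by group
          _ = d⁻¹ * d⁻¹ := by rw [hinv']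
      rw [h3] at h2
      have h4 : d = d ^ 3 * (d⁻¹ * d⁻¹) := by group
      rw [h4, hd3, one_mul]; exact h2
    obtain ⟨e₁, he₁, c, hc, hdec⟩ := hyp.exists_decomp hmin hdJH
    have hcomm := hyp.commute_EE_D hmin
    have hce : e₁ * c = c * e₁ := hcomm e₁ he₁ c hc
    have hcb : φ a * c = c * φ a := hcomm _ hbE c hc
    -- `e₁ (b e₁ b⁻¹) = c⁻²`
    have h1 : e₁ * (φ a * e₁ * (φ a)⁻¹) = c⁻¹ * c⁻¹ := by
      have h2 : φ a * (e₁ * c) * (φ a)⁻¹ = (e₁ * c)⁻¹ := by rw [← hdec]; exact hinv'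
      have h3 : φ a * (e₁ * c) * (φ a)⁻¹ = (φ a * e₁ * (φ a)⁻¹) * c := by
        calc φ a * (e₁ * c) * (φ a)⁻¹ = φ a * e₁ * (c * (φ a)⁻¹) := by group
          _ = φ a * e₁ * ((φ a)⁻¹ * c) := by
            have : c * (φ a)⁻¹ = (φ a)⁻¹ * c := by
              calc c * (φ a)⁻¹ = (φ a)⁻¹ * (φ a * c) * (φ a)⁻¹ := by group
                _ = (φ a)⁻¹ * (c * φ a) * (φ a)⁻¹ := by rw [hcb]
                _ = (φ a)⁻¹ * c := by group
            rw [this]
          _ = (φ a * e₁ * (φ a)⁻¹) * c := by group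
      rw [h3] at h2
      have h4 : (e₁ * c)⁻¹ = e₁⁻¹ * c⁻¹ := by rw [hce]; group
      rw [h4] at h2
      calc e₁ * (φ a * e₁ * (φ a)⁻¹) = e₁ * ((φ a * e₁ * (φ a)⁻¹) * c) * c⁻¹ := by group
        _ = e₁ * (e₁⁻¹ * c⁻¹) * c⁻¹ := by rw [h2]
        _ = c⁻¹ * c⁻¹ := by group
    have hbe : φ a * e₁ * (φ a)⁻¹ ∈ E := mul_mem (mul_mem hbE he₁) (inv_mem hbE)
    have hz : c⁻¹ * c⁻¹ ∈ E ⊓ Dc := by
      refine mem_inf.2 ⟨?_, mul_mem (inv_mem hc) (inv_mem hc)⟩
      rw [← h1]; exact mul_mem he₁ hbe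
    rw [hEDc, mem_bot] at hz
    have hc3 : c ^ 3 ∈ E ⊓ Dc := by
      refine mem_inf.2 ⟨?_, pow_mem hc 3⟩
      have h5 : (e₁ * c) ^ 3 = e₁ ^ 3 * c ^ 3 := (Commute.mul_pow hce 3)
      rw [← hdec, hd3] at h5
      have h6 : c ^ 3 = (e₁ ^ 3)⁻¹ := by
        have := h5.symm
        exact eq_inv_of_mul_eq_one_right this
      rw [h6]; exact inv_mem (pow_mem he₁ 3)
    rw [hEDc, mem_bot] at hc3
    have hc1 : c = 1 := by
      have : c = c ^ 3 * (c⁻¹ * c⁻¹) := by group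
      rw [this, hc3, hz, one_mul]
    rw [hdec, hc1, mul_one]; exact he₁
  refine ⟨?_, ?_⟩
  · rintro _ ⟨p, hp, rfl⟩
    exact key p hp
  · -- an element of `P` outside `C`
    obtain ⟨p, hpP, hpC⟩ := SetLike.not_le_iff_exists.1 hP.not_le
    have hd1 : φ p ≠ 1 := by
      intro hc
      apply hpC
      rw [← MonoidHom.mem_ker, hker] at hc
      exact hc
    have hd3 : (φ p) ^ 3 = 1 := by
      rw [← map_pow]
      exact hφQ _ (pow_three_mem_of_relIndex hP.Q_le hP.relIndex hpP)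
    have hord3 : orderOf (φ p) = 3 := by
      have h1 : orderOf (φ p) ∣ 3 := orderOf_dvd_of_pow_eq_one hd3
      rcases (Nat.dvd_prime Nat.prime_three).1 h1 with h2 | h2
      · exact absurd (orderOf_eq_one_iff.1 h2) hd1
      · exact h2
    have hord2 : orderOf (φ a) = 2 := by
      have h1 : orderOf (φ a) ∣ 2 := by
        apply orderOf_dvd_of_pow_eq_one
        rw [pow_two, ← map_mul, ha2, map_one]
      rcases (Nat.dvd_prime Nat.prime_two).1 h1 with h2 | h2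
      · exact absurd (orderOf_eq_one_iff.1 h2) hb1
      · exact h2
    -- `(P ⊔ J).map φ = (K ⊔ J).map φ`
    obtain ⟨-, hsup⟩ := kData_oddClosure (Cfsg.Agent.Lib.isPGroup_pCore 2)
      (T.2.to_le (thompsonSubgroupOf_le 2 _)) hP.Q_le hP.relIndex hP.J_le haJ hP.inv
    have hmap : (P ⊔ J).map φ = (oddClosure P ⊔ J).map φ := by
      have : Q.map φ = ⊥ := by
        rw [eq_bot_iff]
        rintro _ ⟨q, hq, rfl⟩
        rw [mem_bot]; exact hφQ q hq
      conv_lhs => rw [← hsup]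
      rw [Subgroup.map_sup, Subgroup.map_sup, Subgroup.map_sup, this, sup_bot_eq]
    rw [← hmap]
    set F := E ⊓ (P ⊔ J).map φ with hF
    have hdF : φ p ∈ F := mem_inf.2 ⟨key p hpP, ⟨p, mem_sup_left hpP, rfl⟩⟩
    have hbF : φ a ∈ F := mem_inf.2 ⟨hbE, ⟨a, mem_sup_right haJ, rfl⟩⟩
    have h3 : 3 ∣ Nat.card F := by
      have := orderOf_dvd_natCard (⟨φ p, hdF⟩ : F)
      rwa [Subgroup.orderOf_mk, hord3] at this
    have h2 : 2 ∣ Nat.card F := by
      have := orderOf_dvd_natCard (⟨φ a, hbF⟩ : F)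
      rwa [Subgroup.orderOf_mk, hord2] at this
    have h6 : 6 ∣ Nat.card F := Nat.Coprime.mul_dvd_of_dvd_of_dvd (by decide) h2 h3
    have hFE : F = E := by
      apply Subgroup.eq_of_le_of_card_ge inf_le_left
      rw [hEcard]
      exact Nat.le_of_dvd Nat.card_pos h6
    rw [← hFE]; exact inf_le_right

end Cfsg.Agent.Helper49.ZN
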