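import Mathlib
import Cfsg.Agent.Helper49.ZNImage
import Cfsg.Agent.Helper49.ZNExist
import Cfsg.Agent.Helper49.RConj
import Cfsg.Agent.S0612

set_option autoImplicit false
set_option linter.style.haveILetI false

/-!
Generation by `J(T)`-components: `L = ⟨𝒦(L)⟩ N_L(J(T))` (helper49; KS 12.1).
-/

namespace Cfsg.Agent.Helper49.ZN

open Cfsg Subgroup
open Cfsg.Agent.Helper1.Hol Cfsg.Agent.Helper1.FF Cfsg.Agent.Helper1.AutInv
open Cfsg.Agent.Helper49.JComp

variable {L : Type*} [Group L] [Finite L] [Group.IsSolvable L] {T : Sylow 2 L}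

/-- The specific component attached to offender data. -/
theorem isJComponent_oddClosure (h : Setting T) {A : Subgroup L} {a : L} (hd : OffData T A a)
    {P : Subgroup L} (hP : PData T a P) : IsJComponent (T : Subgroup L) (oddClosure P) := by
  haveI : Fact (Nat.Prime 2) := ⟨Nat.prime_two⟩
  set Q := pCore 2 L with hQ
  set J := thompsonSubgroupOf 2 (T : Subgroup L) with hJdef
  haveI hQn : Q.Normal := by rw [hQ]; infer_instance
  have hQ2 : IsPGroup 2 ↥Q := Cfsg.Agent.Lib.isPGroup_pCore 2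
  have hJ2 : IsPGroup 2 ↥J := T.2.to_le (JComp.thompsonSubgroupOf_le 2 _)
  have hAJ : A ≤ J := hd.maxEA.le_thompson
  obtain ⟨hk, hsup⟩ := kData_oddClosure hQ2 hJ2 hP.Q_le hP.relIndex hP.J_le (hAJ hd.mem) hP.inv
  have hW := wOf_four h hd hP
  refine ⟨hk.gen, hk.comm, hk.relIndex, ?_, hW.1, hW.2⟩
  intro S hS hJS
  exact JMono.thompson_eq_of_sylow T hS.2.1 hJS

/-- The family of subgroups `E_B` for minimal offenders `B` below the image of some `A ∈ 𝒜(T)`. -/
def eFam (T : Sylow 2 L) : Set (Subgroup (HolG (vOf (T : Subgroup L)))) :=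
  {E | ∃ (A : Subgroup L) (BB : Subgroup (HolG (vOf (T : Subgroup L)))),
    MaxEA 2 (T : Subgroup L) A ∧
    IsMinOff 2 (VV (vOf (T : Subgroup L))) (JH (vOf (T : Subgroup L)) 2) BB ∧
    BB ≤ A.map (pi (vOf (T : Subgroup L))) ∧ E = EE 2 (JH (vOf (T : Subgroup L)) 2) BB}

omit [Finite L] [Group.IsSolvable L] in
theorem map_sSup_le {M : Type*} [Group M] {𝓘 : Set (Subgroup M)} (ψ : M →* M)
    (h : ∀ E ∈ 𝓘, E.map ψ ∈ 𝓘) : (sSup 𝓘).map ψ ≤ sSup 𝓘 := by
  rw [Subgroup.map_le_iff_le_comap]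
  apply sSup_le
  intro E hE
  rw [← Subgroup.map_le_iff_le_comap]
  exact le_sSup (h E hE)

omit [Finite L] [Group.IsSolvable L] in
theorem comp_conj_hom {M : Type*} [Group M] (f : L →* M) (g : L) :
    f.comp (MulAut.conj g).toMonoidHom = (MulAut.conj (f g)).toMonoidHom.comp f :=
  MonoidHom.ext fun x => by simp [MulAut.conj_apply]

theorem conj_comp_conj_inv {M : Type*} [Group M] (g : M) :
    (MulAut.conj g).toMonoidHom.comp (MulAut.conj g⁻¹).toMonoidHom = MonoidHom.id M :=
  MonoidHom.ext fun x => by simp [MulAut.conj_apply, mul_assoc]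

/-- Every member of `eFam` is covered by a `J(T)`-component and `J(T)`. -/
theorem eFam_le (h : Setting T) (hJ : ¬ thompsonSubgroupOf 2 (T : Subgroup L) ≤ pCore 2 L)
    {E : Subgroup (HolG (vOf (T : Subgroup L)))} (hE : E ∈ eFam T) :
    ∃ K : Subgroup L, IsJComponent (T : Subgroup L) K ∧
      E ≤ (K ⊔ thompsonSubgroupOf 2 (T : Subgroup L)).map (pi (vOf (T : Subgroup L))) := by
  obtain ⟨A, BB, hA, hBB, hBBA, rfl⟩ := hE
  obtain ⟨A', a, hd, hzp⟩ := exists_offData_of_minOff h hJ hA BB hBB hBBA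
  obtain ⟨P, hP⟩ := exists_pData h hJ hd
  refine ⟨oddClosure P, isJComponent_oddClosure h hd hP, ?_⟩
  have := (image_pData h hJ hd hP).2
  rwa [hzp] at this

/-- The image of `J(T)` lies in the join of `eFam`. -/
theorem map_thompson_le_sSup_eFam (h : Setting T)
    (hJ : ¬ thompsonSubgroupOf 2 (T : Subgroup L) ≤ pCore 2 L) :
    (thompsonSubgroupOf 2 (T : Subgroup L)).map (pi (vOf (T : Subgroup L))) ≤ sSup (eFam T) := by
  haveI : Fact (Nat.Prime 2) := ⟨Nat.prime_two⟩
  have hyp := h.ffHyp hJ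
  rw [thompsonSubgroupOf_eq_sSup_maxEA, Subgroup.map_le_iff_le_comap]
  apply sSup_le
  intro A hA
  rw [← Subgroup.map_le_iff_le_comap]
  set V := vOf (T : Subgroup L) with hV
  set φ := pi V with hφ
  have hAmax := maxEA_mem_of_sylow T hA
  have hAbo : IsBestOffenderOn 2 (VV V) (A.map φ) :=
    bestOffender_map V (Cfsg.Agent.S0606.result V h.V_isElementaryAbelian A hAmax)
  have hAH : A.map φ ≤ JH V 2 :=
    Subgroup.map_mono (Cfsg.Agent.Helper10.le_thompsonSubgroup hAmax)
  by_cases hA1 : A.map φ = ⊥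
  · rw [hA1]; exact bot_le
  · obtain ⟨k, B, hB, -, hsup⟩ := Cfsg.Agent.S0612.result (VV V) (JH V 2) hyp.hV hyp.hHV hyp.hf
      hyp.hS1 hyp.hS3 hyp.hH1 (A.map φ) hAH hAbo hA1
    rw [← hsup]
    apply iSup_le
    intro i
    obtain ⟨h1, h2, h3, h4⟩ := hB i
    have hmin : IsMinOff 2 (VV V) (JH V 2) (B i) := ⟨h1.trans hAH, h2, h3, h4⟩
    have hmem : EE 2 (JH V 2) (B i) ∈ eFam T := ⟨A, B i, hA, hmin, h1, rfl⟩
    exact (le_sup_right : B i ≤ EE 2 (JH V 2) (B i)).trans (le_sSup hmem)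

/-- The image of `L` normalizes the join of `eFam`. -/
theorem range_le_normalizer_sSup_eFam (h : Setting T)
    (hJ : ¬ thompsonSubgroupOf 2 (T : Subgroup L) ≤ pCore 2 L) :
    (pi (vOf (T : Subgroup L))).range ≤
      normalizer ((sSup (eFam T) : Subgroup (HolG (vOf (T : Subgroup L)))) :
        Set (HolG (vOf (T : Subgroup L)))) := by
  classical
  haveI : Fact (Nat.Prime 2) := ⟨Nat.prime_two⟩
  have hyp := h.ffHyp hJ
  set V := vOf (T : Subgroup L) with hV
  set φ := pi V with hφ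
  set J := thompsonSubgroupOf 2 (T : Subgroup L) with hJdef
  set C := cOf (T : Subgroup L) with hC
  have hker : φ.ker = C := ker_pi V
  set H₀ := sSup (eFam T) with hH₀
  set Y := (normalizer (H₀ : Set (HolG V))).comap φ with hY
  suffices hYtop : Y = ⊤ by
    rintro _ ⟨l, rfl⟩
    have : l ∈ Y := by rw [hYtop]; trivial
    exact this
  -- `N_L(J(T)) ≤ Y`
  have hNY : normalizer (J : Set L) ≤ Y := by
    have key : ∀ n ∈ normalizer (J : Set L), H₀.map (MulAut.conj (φ n)).toMonoidHom ≤ H₀ := by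
      intro n hn
      apply map_sSup_le
      rintro E ⟨A, BB, hA, hBB, hBBA, rfl⟩
      have hVV := conj_map_VV V n
      have hJH := conj_map_JH V n
      refine ⟨A.map (MulAut.conj n).toMonoidHom, BB.map (MulAut.conj (φ n)).toMonoidHom, ?_,
        isMinOff_map (MulAut.conj (φ n)) hVV hJH hBB, ?_, EE_map (MulAut.conj (φ n)) hJH BB⟩
      · -- `Aⁿ ∈ 𝒜(T)`
        refine hA.of_card_le ?_ (Cfsg.Agent.Helper10.isElementaryAbelian_map hA.2.1 _) ?_
        · have h1 : A.map (MulAut.conj n).toMonoidHom ≤ J.map (MulAut.conj n).toMonoidHom :=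
            Subgroup.map_mono hA.le_thompson
          rw [map_conj_eq_of_mem_normalizer hn] at h1
          exact h1.trans (JComp.thompsonSubgroupOf_le 2 _)
        · exact (Subgroup.card_map_of_injective (MulAut.conj n).injective).ge
      · have h1 := Subgroup.map_mono (f := (MulAut.conj (φ n)).toMonoidHom) hBBA
        refine h1.trans (le_of_eq ?_)
        rw [Subgroup.map_map, Subgroup.map_map, comp_conj_hom]
    intro n hn
    rw [hY, mem_comap]
    apply mem_normalizer_of_map_conj_eq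
    apply le_antisymm (key n hn)
    have h2 := key n⁻¹ (inv_mem hn)
    have h3 := Subgroup.map_mono (f := (MulAut.conj (φ n)).toMonoidHom) h2
    rw [Subgroup.map_map] at h3
    rw [map_inv, conj_comp_conj_inv, Subgroup.map_id] at h3
    exact h3
  -- `J(L) C ≤ Y`
  have hHnorm : ∀ g ∈ JH V 2, g ∈ normalizer (H₀ : Set (HolG V)) := by
    intro g hg
    apply mem_normalizer_of_map_conj_eq
    have key : ∀ g ∈ JH V 2, H₀.map (MulAut.conj g).toMonoidHom ≤ H₀ := by
      intro g hg
      apply map_sSup_le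
      rintro E ⟨A, BB, hA, hBB, hBBA, rfl⟩
      rw [map_conj_eq_of_mem_normalizer (hyp.H_le_normalizer_EE hBB hg)]
      exact ⟨A, BB, hA, hBB, hBBA, rfl⟩
    apply le_antisymm (key g hg)
    have h2 := key g⁻¹ (inv_mem hg)
    have h3 := Subgroup.map_mono (f := (MulAut.conj g).toMonoidHom) h2
    rw [Subgroup.map_map] at h3
    rw [conj_comp_conj_inv, Subgroup.map_id] at h3
    exact h3
  set N₀ := thompsonSubgroup 2 L ⊔ C with hN₀
  have hN₀Y : N₀ ≤ Y := by
    apply sup_le
    · intro j hj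
      rw [hY, mem_comap]
      exact hHnorm _ ⟨j, hj, rfl⟩
    · intro c hc
      rw [hY, mem_comap]
      have : φ c = 1 := by rw [← MonoidHom.mem_ker, hker]; exact hc
      rw [this]; exact one_mem _
  -- Frattini
  haveI hJn : (thompsonSubgroup 2 L).Normal := thompson_normal
  haveI hCn : C.Normal := by rw [hC]; unfold cOf; infer_instance
  haveI hN₀n : N₀.Normal := by rw [hN₀]; infer_instance
  have hsyl : IsSylowOf 2 ((T : Subgroup L) ⊓ N₀) N₀ :=
    (isSylowOf_top T).inf_of_normal le_top inferInstance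
  have hfr := Sylow.normalizer_sup_eq_top hsyl.toSylow
  rw [hsyl.map_toSylow] at hfr
  have hJle : J ≤ (T : Subgroup L) ⊓ N₀ :=
    le_inf (JComp.thompsonSubgroupOf_le 2 _) ((Setting.J_le_thompson T).trans le_sup_left)
  have hJeq : thompsonSubgroupOf 2 ((T : Subgroup L) ⊓ N₀) = J :=
    JMono.thompson_eq_of_between inf_le_left hJle
  have hle : normalizer (((T : Subgroup L) ⊓ N₀ : Subgroup L) : Set L) ≤ normalizer (J : Set L) := by
    rw [← hJeq]; exact JComp.normalizer_le_normalizer_thompson 2 _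
  rw [eq_top_iff, ← hfr]
  exact sup_le (hle.trans hNY) hN₀Y

/-- Generation: `L = ⟨𝒦(L)⟩ N_L(J(T))`. -/
theorem sSup_isJComponent_sup_normalizer (h : Setting T)
    (hJ : ¬ thompsonSubgroupOf 2 (T : Subgroup L) ≤ pCore 2 L) :
    sSup {K : Subgroup L | IsJComponent (T : Subgroup L) K} ⊔
      normalizer (thompsonSubgroupOf 2 (T : Subgroup L) : Set L) = ⊤ := by
  classical
  haveI : Fact (Nat.Prime 2) := ⟨Nat.prime_two⟩
  set V := vOf (T : Subgroup L) with hV
  set φ := pi V with hφ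
  set J := thompsonSubgroupOf 2 (T : Subgroup L) with hJdef
  set C := cOf (T : Subgroup L) with hC
  have hker : φ.ker = C := ker_pi V
  set X := sSup {K : Subgroup L | IsJComponent (T : Subgroup L) K} ⊔ normalizer (J : Set L) with hX
  have hNX : normalizer (J : Set L) ≤ X := le_sup_right
  have hCX : C ≤ X :=
    (h.C_le_normalizer_T.trans (JComp.normalizer_le_normalizer_thompson 2 _)).trans hNX
  have hJX : J ≤ X := le_normalizer.trans hNX
  -- `Ĥ₀ ≤ φ(X)`
  have h1 : sSup (eFam T) ≤ X.map φ := by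
    apply sSup_le
    intro E hE
    obtain ⟨K, hK, hEK⟩ := eFam_le h hJ hE
    refine hEK.trans (Subgroup.map_mono (sup_le ?_ hJX))
    have hKle : K ≤ sSup {K : Subgroup L | IsJComponent (T : Subgroup L) K} :=
      le_sSup (s := {K : Subgroup L | IsJComponent (T : Subgroup L) K}) hK
    exact hKle.trans le_sup_left
  -- `Ĥ ≤ Ĥ₀`
  have h2 : JH V 2 ≤ sSup (eFam T) := by
    unfold JH
    rw [Cfsg.Agent.S0604.result (G := L) (p := 2), Subgroup.map_le_iff_le_comap]
    apply iSup_le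
    intro S
    rw [← Subgroup.map_le_iff_le_comap]
    obtain ⟨g, hg⟩ := MulAction.exists_smul_eq L T S
    have hcoe : (S : Subgroup L) = (T : Subgroup L).map (MulAut.conj g).toMonoidHom := by
      rw [← hg, Sylow.coe_subgroup_smul, Subgroup.pointwise_smul_def]
      rfl
    rw [hcoe, JMono.thompson_conj, Subgroup.map_map]
    rw [comp_conj_hom, ← Subgroup.map_map]
    have h4 := Subgroup.map_mono (f := (MulAut.conj (φ g)).toMonoidHom)
      (map_thompson_le_sSup_eFam h hJ)
    refine h4.trans (le_of_eq ?_)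
    exact map_conj_eq_of_mem_normalizer (range_le_normalizer_sSup_eFam h hJ ⟨g, rfl⟩)
  -- `J(L) ≤ X`
  have hJLX : thompsonSubgroup 2 L ≤ X := by
    intro x hx
    have h3 : φ x ∈ X.map φ := h1 (h2 ⟨x, hx, rfl⟩)
    obtain ⟨y, hy, hyx⟩ := h3
    have h4 : y⁻¹ * x ∈ C := by
      rw [← hker, MonoidHom.mem_ker, map_mul, map_inv, hyx, inv_mul_cancel]
    have : x = y * (y⁻¹ * x) := by group
    rw [this]
    exact mul_mem hy (hCX h4)
  -- Frattini
  set N₀ := thompsonSubgroup 2 L ⊔ C with hN₀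
  haveI hJn : (thompsonSubgroup 2 L).Normal := thompson_normal
  haveI hCn : C.Normal := by rw [hC]; unfold cOf; infer_instance
  haveI hN₀n : N₀.Normal := by rw [hN₀]; infer_instance
  have hsyl : IsSylowOf 2 ((T : Subgroup L) ⊓ N₀) N₀ :=
    (isSylowOf_top T).inf_of_normal le_top inferInstance
  have hfr := Sylow.normalizer_sup_eq_top hsyl.toSylow
  rw [hsyl.map_toSylow] at hfr
  have hJle : J ≤ (T : Subgroup L) ⊓ N₀ :=
    le_inf (JComp.thompsonSubgroupOf_le 2 _) ((Setting.J_le_thompson T).trans le_sup_left)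
  have hJeq : thompsonSubgroupOf 2 ((T : Subgroup L) ⊓ N₀) = J :=
    JMono.thompson_eq_of_between inf_le_left hJle
  have hle : normalizer (((T : Subgroup L) ⊓ N₀ : Subgroup L) : Set L) ≤ normalizer (J : Set L) := by
    rw [← hJeq]; exact JComp.normalizer_le_normalizer_thompson 2 _
  rw [eq_top_iff, ← hfr]
  exact sup_le (hle.trans hNX) (sup_le hJLX hCX)

end Cfsg.Agent.Helper49.ZN
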