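import Mathlib
import Cfsg.Agent.Helper49.ZNExist
import Cfsg.Agent.Helper49.RConj
import Cfsg.Agent.Helper33.SylowSub

set_option autoImplicit false
set_option linter.style.haveILetI false

/-!
Maximal straddling 2-subgroups (helper49; KS 12.1.6).
-/

namespace Cfsg.Agent.Helper49.ZN

open Cfsg Subgroup
open Cfsg.Agent.Helper49.JComp Cfsg.Agent.Helper49.JMono

variable {G : Type*} [Group G] [Finite G]

omit [Finite G] in
theorem isSylowOf_iff_isSylowTwoIn {T L : Subgroup G} : IsSylowOf 2 T L ↔ IsSylowTwoIn T L := by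
  unfold IsSylowOf IsSylowTwoIn
  rw [← even_iff_two_dvd, Nat.not_even_iff_odd]

/-- A nontrivial 2-group has a nontrivial Thompson subgroup. -/
theorem thompson_ne_bot {T : Subgroup G} (hT : IsPGroup 2 ↥T) (hT1 : T ≠ ⊥) :
    thompsonSubgroupOf 2 T ≠ ⊥ := by
  haveI : Fact (Nat.Prime 2) := ⟨Nat.prime_two⟩
  obtain ⟨n, hn⟩ := (IsPGroup.iff_card (p := 2) (G := ↥T)).1 hT
  have hn0 : n ≠ 0 := by
    intro h0
    rw [h0, pow_zero] at hn
    exact hT1 (Subgroup.card_eq_one.1 hn)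
  have h2 : 2 ∣ Nat.card T := by rw [hn]; exact dvd_pow_self 2 hn0
  obtain ⟨x, hx⟩ := exists_prime_orderOf_dvd_card' 2 h2
  have hx2 : orderOf (x : G) = 2 := by rw [Subgroup.orderOf_coe]; exact hx
  have hea : IsElementaryAbelian 2 (zpowers (x : G)) := by
    rw [Cfsg.Agent.Helper10.isElementaryAbelian_iff]
    constructor
    · rintro _ ⟨m, rfl⟩ _ ⟨k, rfl⟩
      exact (Commute.zpow_zpow_self (x : G) m k).eq
    · rintro _ ⟨m, rfl⟩
      rw [← zpow_natCast, ← zpow_mul, mul_comm, zpow_mul, zpow_natCast, ← hx2,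
        pow_orderOf_eq_one, one_zpow]
  obtain ⟨A, hA⟩ := exists_maxEA (G := G) 2 T
  have hle : Nat.card (zpowers (x : G)) ≤ Nat.card A := hA.2.2 _ (zpowers_le.2 x.2) hea
  rw [Nat.card_zpowers, hx2] at hle
  intro hbot
  have hA1 : A = ⊥ := le_bot_iff.1 (hbot ▸ hA.le_thompson)
  rw [hA1, Subgroup.card_bot] at hle
  omega

/-- Lemma A. -/
theorem max_straddle {M T T₁ : Subgroup G} (hT : T ∈ maxStraddlingTwoSubgroups M)
    (hT₁ : T₁ ∈ straddlingTwoSubgroups M) (hJ : thompsonSubgroupOf 2 T ≤ T₁) :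
    thompsonSubgroupOf 2 T₁ = thompsonSubgroupOf 2 T ∧ Nat.card T₁ ≤ Nat.card T := by
  obtain ⟨h1, h2⟩ := hT.2 T₁ hT₁
  have ha : maxElemAbelianOrder T₁ = maxElemAbelianOrder T :=
    le_antisymm h1 (maxElemAbelianOrder_le_of_thompson_le hJ)
  obtain ⟨h3, h4⟩ := h2 ha
  have hle : thompsonSubgroupOf 2 T ≤ thompsonSubgroupOf 2 T₁ := thompson_le_thompson hJ h1
  have heq : thompsonSubgroupOf 2 T = thompsonSubgroupOf 2 T₁ :=
    Subgroup.eq_of_le_of_card_ge hle h3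
  exact ⟨heq.symm, h4 (by rw [heq])⟩

omit [Finite G] in
theorem thompson_scr (g : G) (X : Subgroup G) :
    thompsonSubgroupOf 2 (subgroupConjRight g X) =
      subgroupConjRight g (thompsonSubgroupOf 2 X) := by
  unfold subgroupConjRight
  exact thompson_conj X g⁻¹

/-- Fact 1: `N_G(J(T)) ≤ M`. -/
theorem normalizer_thompson_le (S : Sylow 2 G) {M : Subgroup G}
    (hMJ : normalizer (thompsonSubgroupOf 2 (S : Subgroup G) : Set G) ≤ M) {T : Subgroup G}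
    (hT : T ∈ maxStraddlingTwoSubgroups M) :
    normalizer (thompsonSubgroupOf 2 T : Set G) ≤ M := by
  haveI : Fact (Nat.Prime 2) := ⟨Nat.prime_two⟩
  obtain ⟨hT2, hT1, hTM, -⟩ := hT.1
  set J := thompsonSubgroupOf 2 T with hJ
  set N := normalizer (J : Set G) with hN
  by_contra hNM
  have hJ1 : J ≠ ⊥ := thompson_ne_bot hT2 hT1
  have hJ2 : IsPGroup 2 ↥J := hT2.to_le (JComp.thompsonSubgroupOf_le 2 T)
  have hNloc : IsTwoLocal N := ⟨J, hJ2, hJ1, rfl⟩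
  have hTN : T ≤ N := le_normalizer.trans (JComp.normalizer_le_normalizer_thompson 2 T)
  -- `T` is Sylow in `N ⊓ M`
  obtain ⟨T₁, hT₁syl, hTT₁⟩ := exists_isSylowOf_ge hT2 (le_inf hTN hTM)
  have hT₁str : T₁ ∈ straddlingTwoSubgroups M := by
    refine ⟨hT₁syl.2.1, ?_, hT₁syl.1.trans inf_le_right, N, hNloc, hT₁syl.1.trans inf_le_left, hNM⟩
    intro hbot
    apply hT1
    rw [eq_bot_iff, ← hbot]; exact hTT₁
  have hA := max_straddle hT hT₁str ((JComp.thompsonSubgroupOf_le 2 T).trans hTT₁)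
  have hTeq : T = T₁ := Subgroup.eq_of_le_of_card_ge hTT₁ hA.2
  rw [← hTeq] at hT₁syl
  -- `T` is Sylow in `M`
  obtain ⟨T₂, hT₂syl, hTT₂⟩ := exists_isSylowOf_ge hT2 hTM
  have hTeq₂ : T = T₂ := by
    by_contra hne
    obtain ⟨x, hxT₂, hxN, hxT⟩ :=
      Cfsg.Agent.Helper33.exists_mem_normalizer_not_mem hT₂syl.2.1 hTT₂ hne
    have hxNJ : x ∈ N := JComp.normalizer_le_normalizer_thompson 2 T hxN
    have hxM : x ∈ M := hT₂syl.1 hxT₂
    have hP2 : IsPGroup 2 ↥(T ⊔ zpowers x) :=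
      hT₂syl.2.1.to_le (sup_le hTT₂ (zpowers_le.2 hxT₂))
    have hPle : T ⊔ zpowers x ≤ N ⊓ M :=
      sup_le (le_inf hTN hTM) (zpowers_le.2 (mem_inf.2 ⟨hxNJ, hxM⟩))
    have := hT₁syl.eq_of_le le_sup_left hPle hP2
    apply hxT
    rw [this]
    exact le_sup_right (a := T) (mem_zpowers x)
  rw [← hTeq₂] at hT₂syl
  -- `S` is Sylow in `M`
  have hSM : (S : Subgroup G) ≤ M :=
    (le_normalizer.trans (JComp.normalizer_le_normalizer_thompson 2 _)).trans hMJ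
  obtain ⟨S₂, hS₂syl, hSS₂⟩ := exists_isSylowOf_ge S.2 hSM
  have hSeq : (S : Subgroup G) = S₂ :=
    (isSylowOf_top S).eq_of_le hSS₂ le_top hS₂syl.2.1
  rw [← hSeq] at hS₂syl
  obtain ⟨m, hm, hmT⟩ := hS₂syl.exists_conj hT₂syl
  apply hNM
  have h1 : J = subgroupConjRight m (thompsonSubgroupOf 2 (S : Subgroup G)) := by
    rw [hJ, ← hmT, thompson_scr]
  rw [hN, h1, ← scr_normalizer]
  calc subgroupConjRight m (normalizer (thompsonSubgroupOf 2 (S : Subgroup G) : Set G))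
      ≤ subgroupConjRight m M := scr_mono m hMJ
    _ = M := scr_eq_self_of_mem hm

/-- Fact 2. -/
theorem straddle_of_sylow (S : Sylow 2 G) {M : Subgroup G}
    (hMJ : normalizer (thompsonSubgroupOf 2 (S : Subgroup G) : Set G) ≤ M) {T : Subgroup G}
    (hT : T ∈ maxStraddlingTwoSubgroups M) {L : Subgroup G} (hL2 : IsTwoLocal L)
    (hLM : ¬ L ≤ M) {T₀ : Subgroup G} (hT₀ : IsSylowTwoIn T₀ L)
    (hJT₀ : thompsonSubgroupOf 2 T ≤ T₀) :
    thompsonSubgroupOf 2 T₀ = thompsonSubgroupOf 2 T ∧ T₀ ∈ straddlingTwoSubgroups M := by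
  haveI : Fact (Nat.Prime 2) := ⟨Nat.prime_two⟩
  obtain ⟨hT2, hT1, hTM, -⟩ := hT.1
  have hfact1 := normalizer_thompson_le S hMJ hT
  set J := thompsonSubgroupOf 2 T with hJ
  have hJ1 : J ≠ ⊥ := thompson_ne_bot hT2 hT1
  set T₁ := T₀ ⊓ normalizer (J : Set G) with hT₁
  have hJT₁ : J ≤ T₁ := le_inf hJT₀ le_normalizer
  have hT₁str : T₁ ∈ straddlingTwoSubgroups M := by
    refine ⟨hT₀.2.1.to_le inf_le_left, ?_, inf_le_right.trans hfact1, L, hL2,
      inf_le_left.trans hT₀.1, hLM⟩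
    intro hbot
    apply hJ1
    rw [eq_bot_iff, ← hbot]; exact hJT₁
  have hA := max_straddle hT hT₁str hJT₁
  have hTeq : T₁ = T₀ := by
    by_contra hne
    obtain ⟨x, hxT₀, hxN, hxT₁⟩ :=
      Cfsg.Agent.Helper33.exists_mem_normalizer_not_mem hT₀.2.1 inf_le_left hne
    apply hxT₁
    refine mem_inf.2 ⟨hxT₀, ?_⟩
    have := JComp.normalizer_le_normalizer_thompson 2 T₁ hxN
    rwa [hA.1] at this
  rw [hTeq] at hT₁str hA
  exact ⟨hA.1, hT₁str⟩

omit [Finite G] in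
/-- `C_G(O₂(L)) ≤ O₂(L)` for a 2-local subgroup `L` of a group of characteristic 2 type. -/
theorem centralizer_pCoreOf_le (hL : IsCharacteristicTwoType G) {L : Subgroup G}
    (hL2 : IsTwoLocal L) : centralizer (pCoreOf 2 L : Set G) ≤ pCoreOf 2 L := by
  obtain ⟨R, hR2, hR1, rfl⟩ := hL2
  have hchar := hL.2 R hR2 hR1
  unfold IsOfCharacteristicTwo at hchar
  set L := normalizer (R : Set G) with hLdef
  have hRL : R ≤ L := le_normalizer
  have hRQ : R ≤ pCoreOf 2 L := Cfsg.Agent.Helper46.le_pCoreOf hRL hR2 le_rfl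
  intro x hx
  have hxR : x ∈ centralizer (R : Set G) := centralizer_le hRQ hx
  have hxL : x ∈ L := Subgroup.centralizer_le_normalizer _ hxR
  have h1 : (⟨x, hxL⟩ : ↥L) ∈ centralizer (pCore 2 ↥L : Set ↥L) := by
    rw [mem_centralizer_iff]
    intro q hq
    apply Subtype.ext
    have hq' : (q : G) ∈ pCoreOf 2 L := ⟨q, hq, rfl⟩
    exact mem_centralizer_iff.1 hx q hq'
  exact ⟨⟨x, hxL⟩, hchar h1, rfl⟩

/-- (c): `L ∈ 𝓛(T₀)`. -/
theorem mem_jOvergroups_of_sylow (hL : IsCharacteristicTwoType G) (S : Sylow 2 G) {M : Subgroup G}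
    (hMJ : normalizer (thompsonSubgroupOf 2 (S : Subgroup G) : Set G) ≤ M) {T : Subgroup G}
    (hT : T ∈ maxStraddlingTwoSubgroups M) {L : Subgroup G} (hL2 : IsTwoLocal L)
    (hLM : ¬ L ≤ M) {T₀ : Subgroup G} (hT₀ : IsSylowTwoIn T₀ L)
    (hJT₀ : thompsonSubgroupOf 2 T ≤ T₀) : L ∈ jOvergroups T₀ := by
  have hfact1 := normalizer_thompson_le S hMJ hT
  obtain ⟨hJeq, -⟩ := straddle_of_sylow S hMJ hT hL2 hLM hT₀ hJT₀
  refine ⟨hT₀, ?_, centralizer_pCoreOf_le hL hL2⟩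
  intro hle
  apply hLM
  have hQT₀ : pCoreOf 2 L ≤ T₀ := pCoreOf_le_of_isSylowTwoIn hT₀
  have h1 := thompson_eq_of_between hQT₀ hle
  calc L ≤ normalizer (pCoreOf 2 L : Set G) := Cfsg.Agent.Helper46.pCoreOf_normalized L
    _ ≤ normalizer (thompsonSubgroupOf 2 (pCoreOf 2 L) : Set G) :=
      JComp.normalizer_le_normalizer_thompson 2 _
    _ = normalizer (thompsonSubgroupOf 2 T : Set G) := by rw [h1, hJeq]
    _ ≤ M := hfact1

/-- (d): if `T ≤ L` then `T` is a Sylow 2-subgroup of `L`. -/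
theorem isSylowTwoIn_of_le (S : Sylow 2 G) {M : Subgroup G}
    (hMJ : normalizer (thompsonSubgroupOf 2 (S : Subgroup G) : Set G) ≤ M) {T : Subgroup G}
    (hT : T ∈ maxStraddlingTwoSubgroups M) {L : Subgroup G} (hL2 : IsTwoLocal L)
    (hLM : ¬ L ≤ M) (hTL : T ≤ L) : IsSylowTwoIn T L := by
  haveI : Fact (Nat.Prime 2) := ⟨Nat.prime_two⟩
  obtain ⟨hT2, hT1, hTM, -⟩ := hT.1
  obtain ⟨T₀, hT₀syl, hTT₀⟩ := exists_isSylowOf_ge hT2 hTL
  have hT₀ : IsSylowTwoIn T₀ L := isSylowOf_iff_isSylowTwoIn.1 hT₀syl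
  have hJT₀ : thompsonSubgroupOf 2 T ≤ T₀ := (JComp.thompsonSubgroupOf_le 2 T).trans hTT₀
  obtain ⟨-, hstr⟩ := straddle_of_sylow S hMJ hT hL2 hLM hT₀ hJT₀
  have hA := max_straddle hT hstr hJT₀
  have : T = T₀ := Subgroup.eq_of_le_of_card_ge hTT₀ hA.2
  rw [this]; exact hT₀

end Cfsg.Agent.Helper49.ZN
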