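import Mathlib
import Cfsg.Agent.Helper49.ZNGen
import Cfsg.Agent.Helper49.ZNStraddle

set_option autoImplicit false
set_option linter.style.haveILetI false

/-!
Generation by `J(T)`-components, global form, and the existence of a `J(T)`-component outside `M`
(helper49; KS 12.1.7).
-/

namespace Cfsg.Agent.Helper49.ZN

open Cfsg Subgroup
open Cfsg.Agent.Helper49.JComp

variable {G : Type*} [Group G] [Finite G]

/-- If all `J(T)`-components of `L ∈ 𝓛(T)` and `N_L(J(T))` lie in `M` then `L ≤ M`. -/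
theorem le_of_components_le
    (hN : ∀ N : Subgroup G, IsTwoLocal N → Group.IsSolvable ↥N)
    (hZ : ∀ S : Sylow 2 G, Subgroup.centralizer (omegaCenterOf (S : Subgroup G) : Set G) ≤
      Subgroup.normalizer ((S : Subgroup G) : Set G))
    {T : Subgroup G} (hT1 : T ≠ ⊥) {L : Subgroup G} (hLT : L ∈ jOvergroups T) {M : Subgroup G}
    (hK : ∀ K : Subgroup G, IsJComponent T K → K ≤ L → K ≤ M)
    (hNM : normalizer (thompsonSubgroupOf 2 T : Set G) ⊓ L ≤ M) : L ≤ M := by
  obtain ⟨hsolv, hset⟩ := setting_of_mem_jOvergroups hN hZ hT1 hLT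
  haveI := hsolv
  have hgen := sSup_isJComponent_sup_normalizer hset (thompson_not_le_pCore hLT)
  rw [coe_sylowOf] at hgen
  have hJmap : (thompsonSubgroupOf 2 (T.subgroupOf L)).map L.subtype = thompsonSubgroupOf 2 T := by
    rw [← JTransfer.thompson_map L.subtype L.subtype_injective, Subgroup.subgroupOf_map_subtype,
      inf_eq_left.2 hLT.1.1]
  have h1 : sSup {K' : Subgroup ↥L | IsJComponent (T.subgroupOf L) K'} ≤ M.subgroupOf L := by
    apply sSup_le
    intro K' hK'
    have hKL : K'.map L.subtype ≤ L := Subgroup.map_subtype_le K'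
    have hcomp : IsJComponent T (K'.map L.subtype) := by
      rw [← JTransfer.isJComponent_subgroupOf_iff hLT.1.1 hKL]
      have : (K'.map L.subtype).subgroupOf L = K' :=
        Subgroup.comap_map_eq_self_of_injective L.subtype_injective K'
      rw [this]; exact hK'
    intro k hk
    rw [Subgroup.mem_subgroupOf]
    exact hK _ hcomp hKL ⟨k, hk, rfl⟩
  have h2 : normalizer (thompsonSubgroupOf 2 (T.subgroupOf L) : Set ↥L) ≤ M.subgroupOf L := by
    intro n hn
    rw [Subgroup.mem_subgroupOf]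
    apply hNM
    refine mem_inf.2 ⟨?_, n.2⟩
    have key : ∀ m ∈ normalizer (thompsonSubgroupOf 2 (T.subgroupOf L) : Set ↥L),
        ∀ x ∈ thompsonSubgroupOf 2 T, (m : G) * x * (m : G)⁻¹ ∈ thompsonSubgroupOf 2 T := by
      intro m hm x hx
      rw [← hJmap] at hx ⊢
      obtain ⟨y, hy, rfl⟩ := hx
      exact ⟨m * y * m⁻¹, conj_mem_of_mem_normalizer hm hy, by simp⟩
    rw [mem_normalizer_iff]
    intro x
    constructor
    · exact key n hn x
    · intro hx
      have := key n⁻¹ (inv_mem hn) _ hx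
      have h5 : x = ((n⁻¹ : ↥L) : G) * ((n : G) * x * (n : G)⁻¹) * ((n⁻¹ : ↥L) : G)⁻¹ := by
        simp [mul_assoc]
      rw [h5]; exact this
  have h3 : (⊤ : Subgroup ↥L) ≤ M.subgroupOf L := by
    rw [← hgen]; exact sup_le h1 h2
  intro l hl
  have : (⟨l, hl⟩ : ↥L) ∈ M.subgroupOf L := h3 (mem_top _)
  exact Subgroup.mem_subgroupOf.1 this

/-- KS 12.1.7: for `T ∈ 𝒯*(M)` there is `K ∈ 𝒦₀(T)` outside `M` with `O₂(⟨K, T⟩) ≠ 1`. -/
theorem exists_jComponentsOutside (hL : IsCharacteristicTwoType G)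
    (hN : ∀ N : Subgroup G, IsTwoLocal N → Group.IsSolvable ↥N)
    (hZ : ∀ S : Sylow 2 G, Subgroup.centralizer (omegaCenterOf (S : Subgroup G) : Set G) ≤
      Subgroup.normalizer ((S : Subgroup G) : Set G))
    (S : Sylow 2 G) {M : Subgroup G}
    (hMJ : normalizer (thompsonSubgroupOf 2 (S : Subgroup G) : Set G) ≤ M) {T : Subgroup G}
    (hT : T ∈ maxStraddlingTwoSubgroups M) : (jComponentsOutside M T).Nonempty := by
  haveI : Fact (Nat.Prime 2) := ⟨Nat.prime_two⟩
  obtain ⟨hT2, hT1, hTM, L, hL2, hTL, hLM⟩ := hT.1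
  have hfact1 := normalizer_thompson_le S hMJ hT
  have hTsyl := isSylowTwoIn_of_le S hMJ hT hL2 hLM hTL
  have hLT : L ∈ jOvergroups T :=
    mem_jOvergroups_of_sylow hL S hMJ hT hL2 hLM hTsyl (JComp.thompsonSubgroupOf_le 2 T)
  -- a component outside `M`
  obtain ⟨K, hK, hKL, hKM⟩ : ∃ K, IsJComponent T K ∧ K ≤ L ∧ ¬ K ≤ M := by
    by_contra hcon
    push Not at hcon
    exact hLM (le_of_components_le hN hZ hT1 hLT hcon (inf_le_left.trans hfact1))
  have hdata := data_of_isJComponent hT2 hK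
  refine ⟨K, ⟨hK, ?_⟩, hKM, ?_⟩
  · -- `K ∈ 𝒦₀(T)`
    intro S' hJS' hS'
    set X := normalizer (wOf K : Set G) with hX
    have hXloc : IsTwoLocal X := ⟨wOf K, hdata.W_isPGroup, hdata.W_ne_bot, rfl⟩
    have hKX : K ≤ X := le_normalizer.trans hdata.nK_le_nW
    have hXM : ¬ X ≤ M := fun hc => hKM (hKX.trans hc)
    exact (straddle_of_sylow S hMJ hT hXloc hXM hS' hJS').1
  · -- `O₂(⟨K, T⟩) ≠ 1`
    set Q := pCoreOf 2 L with hQ
    have hQT : Q ≤ T := pCoreOf_le_of_isSylowTwoIn hTsyl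
    have hQ1 : Q ≠ ⊥ := by
      intro hbot
      apply hT1
      rw [eq_bot_iff]
      intro t ht
      have : t ∈ centralizer (Q : Set G) := by
        rw [hbot, mem_centralizer_iff]
        intro y hy
        rw [Subgroup.coe_bot, Set.mem_singleton_iff] at hy
        rw [hy, one_mul, mul_one]
      have h5 : t ∈ Q := hLT.2.2 this
      rwa [hbot] at h5
    have hQle : Q ≤ pCoreOf 2 (K ⊔ T) :=
      Cfsg.Agent.Helper46.le_pCoreOf (hQT.trans le_sup_right) (hT2.to_le hQT)
        ((sup_le hKL hTL).trans (Cfsg.Agent.Helper46.pCoreOf_normalized L))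
    intro hbot
    apply hQ1
    rw [eq_bot_iff, ← hbot]; exact hQle

end Cfsg.Agent.Helper49.ZN
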