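import Mathlib
import Cfsg.Agent.Helper49.ZNFF
import Cfsg.Agent.Helper49.Rigid
import Cfsg.Agent.Helper49.JTransfer

set_option autoImplicit false
set_option linter.style.haveILetI false

/-!
Uniqueness of `J(T)`-components with a given `W_K` in a member of `𝓛(T)` (helper49; KS 12.1):
two `J(T)`-components `K`, `K'` of `L` with `W_K ∩ W_{K'} ≠ 1` are equal; hence `T` normalizes `K`
as soon as `Z(T) ∩ W_K ≠ 1`.
-/

namespace Cfsg.Agent.Helper49.ZN

open Cfsg Subgroup
open Cfsg.Agent.Helper1.Hol Cfsg.Agent.Helper1.FF Cfsg.Agent.Helper49.FFProd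
open Cfsg.Agent.Helper49.JComp
open scoped commutatorElement

variable {L : Type*} [Group L]

/-- `V` as a commutative group. -/
@[reducible] def commGroupV {T : Sylow 2 L} (h : Setting T) : CommGroup ↥(vOf (T : Subgroup L)) :=
  { (inferInstance : Group ↥(vOf (T : Subgroup L))) with
    mul_comm := fun a b => Subtype.ext (h.V_comm a.2 b.2) }

variable [Finite L] [Group.IsSolvable L] {T : Sylow 2 L}

section one

variable (h : Setting T) (hJ : ¬ thompsonSubgroupOf 2 (T : Subgroup L) ≤ pCore 2 L)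
  {K : Subgroup L} (hK : IsJComponent (T : Subgroup L) K)

include h hK in
theorem V_le_normalizer_K : vOf (T : Subgroup L) ≤ normalizer (K : Set L) :=
  h.V_le_Q.trans (Q_le_normalizer_K h hK)

include h hK in
theorem conj_comm_mem_K {k v : L} (hk : k ∈ K) (hv : v ∈ vOf (T : Subgroup L)) :
    k * v * k⁻¹ * v⁻¹ ∈ K := by
  have hvN := V_le_normalizer_K h hK hv
  have h1 : v * k⁻¹ * v⁻¹ ∈ K := (mem_normalizer_iff.1 hvN k⁻¹).1 (inv_mem hk)
  have e : k * v * k⁻¹ * v⁻¹ = k * (v * k⁻¹ * v⁻¹) := by group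
  rw [e]
  exact mul_mem hk h1

omit [Finite L] [Group.IsSolvable L] in
theorem conj_comm_mem_V (T : Subgroup L) {k v : L} (hv : v ∈ vOf T) :
    k * v * k⁻¹ * v⁻¹ ∈ vOf T :=
  mul_mem ((vOf_normal T).conj_mem v hv k) (inv_mem hv)

include h hJ hK in
theorem conj_comm_mem_omega {k v : L} (hk : k ∈ K) (hv : v ∈ vOf (T : Subgroup L)) :
    k * v * k⁻¹ * v⁻¹ ∈ omegaCenterOf (pCoreOf 2 K) := by
  have d := comp_data h hK
  have hD := s3Hyp h hJ
  have huV := conj_comm_mem_V (T : Subgroup L) (k := k) hv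
  have huK := conj_comm_mem_K h hK hk hv
  rw [mem_omegaCenterOf_iff]
  refine ⟨?_, ?_, h.sq_eq_one_of_mem_V huV⟩
  · have hle : vOf (T : Subgroup L) ⊓ K ≤ pCoreOf 2 K := by
      apply Cfsg.Agent.Helper46.le_pCoreOf inf_le_right (h.V_isPGroup.to_le inf_le_left)
      intro κ hκ
      have key : ∀ κ ∈ K, ∀ x ∈ vOf (T : Subgroup L) ⊓ K, κ * x * κ⁻¹ ∈ vOf (T : Subgroup L) ⊓ K := by
        intro κ hκ x hx
        exact ⟨(vOf_normal (T : Subgroup L)).conj_mem x hx.1 κ,
          K.mul_mem (K.mul_mem hκ hx.2) (K.inv_mem hκ)⟩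
      rw [mem_normalizer_iff]
      intro x
      refine ⟨key κ hκ x, fun hx => ?_⟩
      have := key κ⁻¹ (inv_mem hκ) _ hx
      simpa [mul_assoc] using this
    exact hle ⟨huV, huK⟩
  · exact Subgroup.centralizer_le (QK_le_Q h hK hD) (h.V_le_centralizer_Q huV)

include h hJ hK in
/-- `[V, k] ⊆ W_K` for `k ∈ K` of order 3. -/
theorem conj_comm_mem_W {k v : L} (hk : k ∈ K) (hk3 : k ^ 3 = 1)
    (hv : v ∈ vOf (T : Subgroup L)) : k * v * k⁻¹ * v⁻¹ ∈ wOf K := by
  letI := commGroupV h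
  set s : ↥(vOf (T : Subgroup L)) ≃* ↥(vOf (T : Subgroup L)) := MulAut.conjNormal k with hs
  have hsq : ∀ x : ↥(vOf (T : Subgroup L)), x * x = 1 := by
    intro x
    apply Subtype.ext
    have := h.sq_eq_one_of_mem_V x.2
    rw [pow_two] at this
    exact this
  have hcube : ∀ x, s (s (s x)) = x := by
    intro x
    apply Subtype.ext
    rw [hs, MulAut.conjNormal_apply, MulAut.conjNormal_apply, MulAut.conjNormal_apply]
    have hkkk : k * k * k = 1 := by rw [← hk3, pow_succ, pow_two]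
    have e : k * (k * (k * (x : L) * k⁻¹) * k⁻¹) * k⁻¹ = (k * k * k) * x * (k * k * k)⁻¹ := by
      group
    rw [e, hkkk]; group
  set x : ↥(vOf (T : Subgroup L)) := ⟨v, hv⟩ with hx
  have key := Rigid.comm_eq_comm_comm hsq hcube x
  set y : ↥(vOf (T : Subgroup L)) := s (x * s (s x)) * (x * s (s x)) with hy
  have hinv : ∀ z : ↥(vOf (T : Subgroup L)), z⁻¹ = z := fun z => inv_eq_of_mul_eq_one_left (hsq z)
  -- `y ∈ Ω₁Z(O₂(K))`
  have hyO : (y : L) ∈ omegaCenterOf (pCoreOf 2 K) := by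
    have h1 := conj_comm_mem_omega h hJ hK hk (x * s (s x)).2
    have e : (y : L) = k * ((x * s (s x) : ↥(vOf (T : Subgroup L))) : L) * k⁻¹ *
        ((x * s (s x) : ↥(vOf (T : Subgroup L))) : L)⁻¹ := by
      rw [hy]
      have := hinv (x * s (s x))
      have h2 := congrArg Subtype.val this
      rw [Subgroup.coe_inv] at h2
      rw [h2]
      rfl
    rw [e]; exact h1
  have e2 : k * v * k⁻¹ * v⁻¹ = k * (y : L) * k⁻¹ * (y : L)⁻¹ := by
    have h1 := congrArg Subtype.val key
    have h2 : ((s y * y : ↥(vOf (T : Subgroup L))) : L) = k * (y : L) * k⁻¹ * (y : L)⁻¹ := by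
      have := congrArg Subtype.val (hinv y)
      rw [Subgroup.coe_inv] at this
      rw [this]; rfl
    have h3 : ((s x * x : ↥(vOf (T : Subgroup L))) : L) = k * v * k⁻¹ * v⁻¹ := by
      have := congrArg Subtype.val (hinv x)
      rw [Subgroup.coe_inv] at this
      have hxv : (x : L) = v := rfl
      rw [hxv] at this
      rw [this]; rfl
    rw [← h3, ← h2]
    exact h1.symm
  rw [e2]
  have h3 : ⁅k, (y : L)⁆ ∈ ⁅K, omegaCenterOf (pCoreOf 2 K)⁆ := commutator_mem_commutator hk hyO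
  rw [commutator_comm] at h3
  rw [commutatorElement_def] at h3
  exact h3

include h hK in
/-- an element of `K` outside `O₂(K)` does not centralize `V`. -/
theorem not_mem_C_of_not_mem {k : L} (hk : k ∈ K) (hkQ : k ∉ pCoreOf 2 K) (hD : S3Hyp T (dOf (T : Subgroup L))) :
    k ∉ cOf (T : Subgroup L) := by
  intro hkC
  have d := comp_data h hK
  apply K_not_le_C h hK
  exact d.K_le_of ((QK_le_Q h hK hD).trans h.Q_le_C) hk hkQ hkC

include h hJ hK in
/-- `W_K ≤ V`. -/
theorem W_le_V : wOf K ≤ vOf (T : Subgroup L) := by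
  have d := comp_data h hK
  have hD := s3Hyp h hJ
  obtain ⟨k, hk, hkQ, hk3⟩ := d.exists_g
  have hkC := not_mem_C_of_not_mem h hK hk hkQ hD
  -- some `v₀ ∈ V` is moved by `k`
  have hex : ∃ v₀ ∈ vOf (T : Subgroup L), k * v₀ * k⁻¹ * v₀⁻¹ ≠ 1 := by
    by_contra hcon
    apply hkC
    show k ∈ centralizer (vOf (T : Subgroup L) : Set L)
    rw [mem_centralizer_iff]
    intro v hv
    have : k * v * k⁻¹ * v⁻¹ = 1 := by
      by_contra h2
      exact hcon ⟨v, hv, h2⟩
    have e : k * v = (k * v * k⁻¹ * v⁻¹) * (v * k) := by group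
    rw [e, this, one_mul]
  obtain ⟨v₀, hv₀, hne⟩ := hex
  set t := k * v₀ * k⁻¹ * v₀⁻¹ with ht
  have htW : t ∈ wOf K := conj_comm_mem_W h hJ hK hk hk3 hv₀
  have htV : t ∈ vOf (T : Subgroup L) := conj_comm_mem_V _ hv₀
  have hkN : k ∈ normalizer (wOf K : Set L) := d.nK_le_nW (le_normalizer hk)
  set u := k * t * k⁻¹ with hu
  have huW : u ∈ wOf K := (mem_normalizer_iff.1 hkN t).1 htW
  have huV : u ∈ vOf (T : Subgroup L) := (vOf_normal _).conj_mem t htV k
  have hu1 : u ≠ 1 := by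
    intro hc
    apply hne
    have : t = k⁻¹ * u * k := by rw [hu]; group
    rw [this, hc]; group
  have hut : u ≠ t := fun hc => hne (d.eq_one_of_conj_eq hk hkQ hk3 htW hc)
  intro w hw
  by_cases hw1 : w = 1
  · rw [hw1]; exact one_mem _
  by_cases hwt : w = t
  · rw [hwt]; exact htV
  rcases d.four.eq_or_eq_mul htW hne huW hw hu1 hut hw1 hwt with h1 | h1
  · rw [h1]; exact huV
  · rw [h1]; exact mul_mem htV huV

include h hJ hK in
/-- the action of `k` on `V` satisfies the hypotheses of the rigidity lemma. -/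
theorem act_of_mem {k : L} (hk : k ∈ K) (hkQ : k ∉ pCoreOf 2 K) (hk3 : k ^ 3 = 1) :
    @Rigid.Act ↥(vOf (T : Subgroup L)) (commGroupV h) (MulAut.conjNormal k)
      ((wOf K).subgroupOf (vOf (T : Subgroup L))) := by
  letI := commGroupV h
  have d := comp_data h hK
  have hWV := W_le_V h hJ hK
  have hsq : ∀ x : ↥(vOf (T : Subgroup L)), x * x = 1 := by
    intro x
    apply Subtype.ext
    have := h.sq_eq_one_of_mem_V x.2
    rw [pow_two] at this
    exact this
  have hinv : ∀ z : ↥(vOf (T : Subgroup L)), z⁻¹ = z := fun z => inv_eq_of_mul_eq_one_left (hsq z)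
  refine ⟨hsq, ?_, ⟨?_, ?_⟩, ?_, ?_⟩
  · intro x
    apply Subtype.ext
    rw [MulAut.conjNormal_apply, MulAut.conjNormal_apply, MulAut.conjNormal_apply]
    have hkkk : k * k * k = 1 := by rw [← hk3, pow_succ, pow_two]
    have e : k * (k * (k * (x : L) * k⁻¹) * k⁻¹) * k⁻¹ = (k * k * k) * x * (k * k * k)⁻¹ := by
      group
    rw [e, hkkk]; group
  · rw [Nat.card_congr (subgroupOfEquivOfLe hWV).toEquiv]
    exact d.four.card
  · intro w hw
    apply Subtype.ext
    exact d.four.sq w (mem_subgroupOf.1 hw)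
  · intro v
    rw [mem_subgroupOf]
    have h1 := conj_comm_mem_W h hJ hK hk hk3 v.2
    have h2 := congrArg Subtype.val (hinv v)
    rw [Subgroup.coe_inv] at h2
    rw [h2] at h1
    exact h1
  · intro w hw hfix
    apply Subtype.ext
    have h1 := congrArg Subtype.val hfix
    rw [MulAut.conjNormal_apply] at h1
    exact d.eq_one_of_conj_eq hk hkQ hk3 (mem_subgroupOf.1 hw) h1

end one

section two

variable (h : Setting T) (hJ : ¬ thompsonSubgroupOf 2 (T : Subgroup L) ≤ pCore 2 L)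
  {K K' : Subgroup L} (hK : IsJComponent (T : Subgroup L) K)
  (hK' : IsJComponent (T : Subgroup L) K')

include h hJ hK hK' in
/-- Two components sharing a nontrivial element of their `W` agree modulo `C`. -/
theorem le_sup_C_of_mem {t : L} (ht : t ∈ wOf K) (ht' : t ∈ wOf K') (ht1 : t ≠ 1) :
    K' ≤ K ⊔ cOf (T : Subgroup L) := by
  letI := commGroupV h
  have d := comp_data h hK
  have d' := comp_data h hK'
  have hD := s3Hyp h hJ
  have hyp := h.ffHyp hJ
  obtain ⟨k, hk, hkQ, hk3⟩ := d.exists_g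
  obtain ⟨k', hk', hkQ', hk3'⟩ := d'.exists_g
  have hA := act_of_mem h hJ hK hk hkQ hk3
  have hA' := act_of_mem h hJ hK' hk' hkQ' hk3'
  -- `k` and `k'` commute modulo `C`
  have hkD : pi (vOf (T : Subgroup L)) k ∈ D3 (VV (vOf (T : Subgroup L))) (JH (vOf (T : Subgroup L)) 2) :=
    K_le_D h hK hD hk
  have hkD' : pi (vOf (T : Subgroup L)) k' ∈ D3 (VV (vOf (T : Subgroup L))) (JH (vOf (T : Subgroup L)) 2) :=
    K_le_D h hK' hD hk'
  have hc0 : (k' * k)⁻¹ * (k * k') ∈ centralizer (vOf (T : Subgroup L) : Set L) := by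
    rw [← ker_pi, MonoidHom.mem_ker, map_mul, map_inv, map_mul, map_mul, commute_D3 hyp hkD hkD']
    group
  have hcomm : ∀ v : ↥(vOf (T : Subgroup L)),
      (MulAut.conjNormal k) ((MulAut.conjNormal k') v) =
        (MulAut.conjNormal k') ((MulAut.conjNormal k) v) := by
    intro v
    apply Subtype.ext
    rw [MulAut.conjNormal_apply, MulAut.conjNormal_apply, MulAut.conjNormal_apply,
      MulAut.conjNormal_apply]
    have h1 := mem_centralizer_iff.1 hc0 (v : L) v.2
    set c := (k' * k)⁻¹ * (k * k') with hc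
    have e1 : k * k' = k' * k * c := by rw [hc]; group
    have e2 : k * (k' * (v : L) * k'⁻¹) * k⁻¹ = (k * k') * v * (k * k')⁻¹ := by group
    have e3 : k' * (k * (v : L) * k⁻¹) * k'⁻¹ = (k' * k) * (c * v * c⁻¹) * (k' * k)⁻¹ := by
      rw [← h1]; group
    rw [e2, e3, e1]; group
  have htV : t ∈ vOf (T : Subgroup L) := W_le_V h hJ hK ht
  have hk'mem : k' ∈ K ⊔ cOf (T : Subgroup L) := by
    rcases Rigid.Act.rigid hA hA' hcomm (t := ⟨t, htV⟩) (mem_subgroupOf.2 ht)
      (mem_subgroupOf.2 ht') (fun hc => ht1 (congrArg Subtype.val hc)) with h1 | h1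
    · have hc : k⁻¹ * k' ∈ cOf (T : Subgroup L) := by
        show k⁻¹ * k' ∈ centralizer (vOf (T : Subgroup L) : Set L)
        rw [mem_centralizer_iff]
        intro v hv
        have h2 := congrArg Subtype.val (h1 ⟨v, hv⟩)
        rw [MulAut.conjNormal_apply, MulAut.conjNormal_apply] at h2
        have h3 : k' * v = k * v * k⁻¹ * k' := by
          have : k' * v = (k' * v * k'⁻¹) * k' := by group
          rw [this]
          exact congrArg (· * k') h2
        calc v * (k⁻¹ * k') = k⁻¹ * (k * v * k⁻¹ * k') := by group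
          _ = k⁻¹ * (k' * v) := by rw [h3]
          _ = k⁻¹ * k' * v := by group
      have : k' = k * (k⁻¹ * k') := by group
      rw [this]
      exact mul_mem (mem_sup_left hk) (mem_sup_right hc)
    · have hc : (k * k)⁻¹ * k' ∈ cOf (T : Subgroup L) := by
        show (k * k)⁻¹ * k' ∈ centralizer (vOf (T : Subgroup L) : Set L)
        rw [mem_centralizer_iff]
        intro v hv
        have h2 := congrArg Subtype.val (h1 ⟨v, hv⟩)
        rw [MulAut.conjNormal_apply, MulAut.conjNormal_apply, MulAut.conjNormal_apply] at h2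
        have h3 : k' * v = (k * k) * v * (k * k)⁻¹ * k' := by
          have : k' * v = (k' * v * k'⁻¹) * k' := by group
          rw [this]
          have e : (k * k) * v * (k * k)⁻¹ = k * (k * v * k⁻¹) * k⁻¹ := by group
          rw [e]
          exact congrArg (· * k') h2
        calc v * ((k * k)⁻¹ * k') = (k * k)⁻¹ * ((k * k) * v * (k * k)⁻¹ * k') := by group
          _ = (k * k)⁻¹ * (k' * v) := by rw [h3]
          _ = (k * k)⁻¹ * k' * v := by group
      have : k' = (k * k) * ((k * k)⁻¹ * k') := by group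
      rw [this]
      exact mul_mem (mem_sup_left (mul_mem hk hk)) (mem_sup_right hc)
  exact d'.K_le_of (((QK_le_Q h hK' hD).trans h.Q_le_C).trans le_sup_right) hk' hkQ' hk'mem

include h hK hK' in
/-- A component contained in `K C` is contained in `K`. -/
theorem le_of_le_sup_C (hle : K' ≤ K ⊔ cOf (T : Subgroup L)) : K' ≤ K := by
  have d := comp_data h hK
  have d' := comp_data h hK'
  -- first `K' ≤ K ⊔ Q`
  have h1 : K' ≤ K ⊔ pCore 2 L := by
    conv_lhs => rw [← d'.comm]
    rw [commutator_le]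
    intro x hx a ha
    obtain ⟨κ, hκ, c, hc, rfl⟩ := mem_sup_of_normal_right.1 (hle hx)
    have e : ⁅κ * c, a⁆ = κ * ⁅c, a⁆ * (a * κ⁻¹ * a⁻¹) := by
      rw [commutatorElement_def, commutatorElement_def]; group
    rw [e]
    have h2 : ⁅c, a⁆ ∈ pCore 2 L :=
      h.comm_C_T_le (commutator_mem_commutator hc (J_le_T h hK ha))
    have h3 : a * κ⁻¹ * a⁻¹ ∈ K :=
      (mem_normalizer_iff.1 (d.J_le_normalizer ha) κ⁻¹).1 (inv_mem hκ)
    exact mul_mem (mul_mem (mem_sup_left hκ) (mem_sup_right h2)) (mem_sup_left h3)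
  conv_lhs => rw [← d'.gen]
  rw [closure_le]
  rintro g ⟨hg, hodd⟩
  exact mem_left_of_odd_of_mem_sup (Q_le_normalizer_K h hK) (Cfsg.Agent.Lib.isPGroup_pCore 2)
    (h1 hg) hodd

include h hJ hK hK' in
/-- KS 12.1: `J(T)`-components of `L` with `W_K ∩ W_{K'} ≠ 1` are equal. -/
theorem eq_of_mem_inf {t : L} (ht : t ∈ wOf K) (ht' : t ∈ wOf K') (ht1 : t ≠ 1) : K = K' :=
  le_antisymm (le_of_le_sup_C h hK' hK (le_sup_C_of_mem h hJ hK' hK ht' ht ht1))
    (le_of_le_sup_C h hK hK' (le_sup_C_of_mem h hJ hK hK' ht ht' ht1))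

end two

section three

variable (h : Setting T) (hJ : ¬ thompsonSubgroupOf 2 (T : Subgroup L) ≤ pCore 2 L)
  {K : Subgroup L} (hK : IsJComponent (T : Subgroup L) K)

include h hJ hK in
/-- KS 12.1.3(b): if `Z(T) ∩ W_K ≠ 1` then `T` normalizes `K`. -/
theorem T_le_normalizer_of_inf_ne_bot
    (hz : (T : Subgroup L) ⊓ centralizer ((T : Subgroup L) : Set L) ⊓ wOf K ≠ ⊥) :
    (T : Subgroup L) ≤ normalizer (K : Set L) := by
  obtain ⟨⟨z, hzmem⟩, hz1⟩ := (Subgroup.ne_bot_iff_exists_ne_one).1 hz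
  obtain ⟨⟨hzT, hzC⟩, hzW⟩ := hzmem
  have hz1' : z ≠ 1 := fun hc => hz1 (Subtype.ext hc)
  intro g hg
  set f : L →* L := (MulAut.conj g).toMonoidHom with hf
  have hfinj : Function.Injective f := (MulAut.conj g).injective
  have hTf : (T : Subgroup L).map f = T := by
    apply map_conj_eq_of_mem_normalizer
    exact le_normalizer hg
  have hK' : IsJComponent (T : Subgroup L) (K.map f) := by
    have := (JTransfer.isJComponent_map_iff f hfinj (T : Subgroup L) K).2 hK
    rwa [hTf] at this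
  have hzW' : z ∈ wOf (K.map f) := by
    rw [JTransfer.wOf_map f hfinj]
    refine ⟨z, hzW, ?_⟩
    show g * z * g⁻¹ = z
    have := mem_centralizer_iff.1 hzC g hg
    rw [this]; group
  have heq := eq_of_mem_inf h hJ hK hK' hzW hzW' hz1'
  apply mem_normalizer_of_map_conj_eq
  exact heq.symm

end three

end Cfsg.Agent.Helper49.ZN
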