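import Mathlib
import Cfsg.Agent.Helper49.ZNMain
import Cfsg.Agent.Helper49.ZNUniq

set_option autoImplicit false

/-!
KS 12.1.3(b) in global form (helper49): for `L ∈ 𝓛(T)` and a `J(T)`-component `K ≤ L` with
`Z(T) ∩ W_K ≠ 1`, `T` normalizes `K`.
-/

namespace Cfsg.Agent.Helper49.ZN

open Cfsg Subgroup

variable {G : Type*} [Group G] [Finite G]

theorem normalizes_of_mem_jOvergroups
    (hN : ∀ N : Subgroup G, IsTwoLocal N → Group.IsSolvable ↥N)
    (hZ : ∀ S : Sylow 2 G, Subgroup.centralizer (omegaCenterOf (S : Subgroup G) : Set G) ≤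
      Subgroup.normalizer ((S : Subgroup G) : Set G))
    {T : Subgroup G} (hT1 : T ≠ ⊥) {L : Subgroup G} (hLT : L ∈ jOvergroups T)
    {K : Subgroup G} (hK : IsJComponent T K) (hKL : K ≤ L)
    (hZW : T ⊓ Subgroup.centralizer (T : Set G) ⊓ wOf K ≠ ⊥) :
    T ≤ Subgroup.normalizer (K : Set G) := by
  obtain ⟨hsolv, hset⟩ := setting_of_mem_jOvergroups hN hZ hT1 hLT
  haveI := hsolv
  have hTL : T ≤ L := hLT.1.1
  have hK' : IsJComponent (T.subgroupOf L) (K.subgroupOf L) :=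
    (JTransfer.isJComponent_subgroupOf_iff hTL hKL).2 hK
  have hJ' := thompson_not_le_pCore hLT
  -- the hypothesis on `Z(T) ∩ W_K`, in `↥L`
  have hz' : ((sylowOf hLT.1 : Sylow 2 ↥L) : Subgroup ↥L) ⊓
      centralizer (((sylowOf hLT.1 : Sylow 2 ↥L) : Subgroup ↥L) : Set ↥L) ⊓
        wOf (K.subgroupOf L) ≠ ⊥ := by
    obtain ⟨⟨z, hzmem⟩, hz1⟩ := (Subgroup.ne_bot_iff_exists_ne_one).1 hZW
    obtain ⟨⟨hzT, hzC⟩, hzW⟩ := hzmem
    have hz1' : z ≠ 1 := fun hc => hz1 (Subtype.ext hc)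
    have hmap : (wOf (K.subgroupOf L)).map L.subtype = wOf K := by
      rw [← JTransfer.wOf_map L.subtype L.subtype_injective, Subgroup.subgroupOf_map_subtype,
        inf_eq_left.2 hKL]
    have hzW' : z ∈ (wOf (K.subgroupOf L)).map L.subtype := by rw [hmap]; exact hzW
    obtain ⟨z', hz'W, hz'z⟩ := hzW'
    rw [coe_sylowOf]
    intro hbot
    have hmem : z' ∈ T.subgroupOf L ⊓ centralizer ((T.subgroupOf L : Subgroup ↥L) : Set ↥L) ⊓
        wOf (K.subgroupOf L) := by
      refine ⟨⟨?_, ?_⟩, hz'W⟩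
      · show z' ∈ T.subgroupOf L
        rw [mem_subgroupOf]
        have : (z' : G) = z := hz'z
        rw [this]; exact hzT
      · show z' ∈ centralizer ((T.subgroupOf L : Subgroup ↥L) : Set ↥L)
        rw [mem_centralizer_iff]
        intro y hy
        apply Subtype.ext
        have h1 := mem_centralizer_iff.1 hzC (y : G) (mem_subgroupOf.1 hy)
        have : (z' : G) = z := hz'z
        rw [Subgroup.coe_mul, Subgroup.coe_mul, this]
        exact h1
    rw [hbot, mem_bot] at hmem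
    apply hz1'
    rw [← hz'z, hmem]
    rfl
  have main := T_le_normalizer_of_inf_ne_bot hset hJ' hK' hz'
  rw [coe_sylowOf] at main
  intro g hg
  have hgL : g ∈ L := hTL hg
  have hg' : (⟨g, hgL⟩ : ↥L) ∈ normalizer ((K.subgroupOf L : Subgroup ↥L) : Set ↥L) :=
    main (mem_subgroupOf.2 hg)
  rw [mem_normalizer_iff] at hg' ⊢
  intro x
  constructor
  · intro hx
    have := (hg' ⟨x, hKL hx⟩).1 (mem_subgroupOf.2 hx)
    exact mem_subgroupOf.1 this
  · intro hx
    have hxL : x ∈ L := by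
      have : x = g⁻¹ * (g * x * g⁻¹) * g := by group
      rw [this]
      exact mul_mem (mul_mem (inv_mem hgL) (hKL hx)) hgL
    have := (hg' ⟨x, hxL⟩).2 (mem_subgroupOf.2 hx)
    exact mem_subgroupOf.1 this

end Cfsg.Agent.Helper49.ZN
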