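import Mathlib
import Cfsg.Agent.Helper49.ZNGen
import Cfsg.Agent.Helper49.FourGroup2

set_option autoImplicit false
set_option linter.style.haveILetI false

/-!
Every `J(T)`-component of `L` is one of the components attached to a minimal offender
(helper49; KS 12.1): preparation.
-/

namespace Cfsg.Agent.Helper49.ZN

open Cfsg Subgroup Matrix
open Cfsg.Agent.Helper1.Hol Cfsg.Agent.Helper1.FF Cfsg.Agent.Helper1.AutInv
open Cfsg.Agent.Helper49.JComp

theorem sl22_noncomm : ∃ x y : SpecialLinearGroup (Fin 2) (ZMod 2), x * y ≠ y * x := by decide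

/-- An element of `H` centralizing all the planes `[V, E]` is trivial. -/
theorem exists_isMinOff_not_mem_centralizer {G : Type*} [Group G] [Finite G] {V H : Subgroup G}
    (hyp : FFHyp 2 V H) {d : G} (hd : d ∈ H) (hd1 : d ≠ 1) :
    ∃ BB, IsMinOff 2 V H BB ∧ d ∉ centralizer ((⁅V, EE 2 H BB⁆ : Subgroup G) : Set G) := by
  haveI : Fact (Nat.Prime 2) := ⟨Nat.prime_two⟩
  by_contra hcon
  push Not at hcon
  apply hd1
  have hlast := (Cfsg.Agent.S0617.result V H hyp.hV hyp.hHV hyp.hf hyp.hS1 hyp.hS3 hyp.hH1).2.2.2.2.2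
  have hVle : V ≤ centralizer ({d} : Set G) := by
    rw [← hlast]
    apply sup_le
    · intro v hv
      rw [S3Count.mem_centralizer_singleton]
      exact (mem_centralizer_iff.1 hv.2 d hd)
    · apply iSup_le
      intro i
      obtain ⟨A, hA, hi⟩ := exists_minOff_of_idx i
      rw [hi]
      intro u hu
      rw [S3Count.mem_centralizer_singleton]
      exact (mem_centralizer_iff.1 (hcon A hA) u hu).symm
  have hdC : d ∈ H ⊓ centralizer (V : Set G) := by
    refine mem_inf.2 ⟨hd, ?_⟩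
    rw [mem_centralizer_iff]
    intro v hv
    have := hVle hv
    rw [S3Count.mem_centralizer_singleton] at this
    exact this.symm
  rw [hyp.hf, mem_bot] at hdC
  exact hdC

variable {L : Type*} [Group L] [Finite L] [Group.IsSolvable L] {T : Sylow 2 L}

/-- `J(L)C/C` lies in the join of `eFam`. -/
theorem JH_le_sSup_eFam (h : Setting T)
    (hJ : ¬ thompsonSubgroupOf 2 (T : Subgroup L) ≤ pCore 2 L) :
    JH (vOf (T : Subgroup L)) 2 ≤ sSup (eFam T) := by
  haveI : Fact (Nat.Prime 2) := ⟨Nat.prime_two⟩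
  set V := vOf (T : Subgroup L) with hV
  set φ := pi V with hφ
  unfold JH
  rw [Cfsg.Agent.S0604.result (G := L) (p := 2), Subgroup.map_le_iff_le_comap]
  apply iSup_le
  intro S
  rw [← Subgroup.map_le_iff_le_comap]
  obtain ⟨g, hg⟩ := MulAction.exists_smul_eq L T S
  have hcoe : (S : Subgroup L) = (T : Subgroup L).map (MulAut.conj g).toMonoidHom := by
    rw [← hg, Sylow.coe_subgroup_smul, Subgroup.pointwise_smul_def]
    rfl
  rw [hcoe, JMono.thompson_conj, Subgroup.map_map]
  rw [comp_conj_hom, ← Subgroup.map_map]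
  have h4 := Subgroup.map_mono (f := (MulAut.conj (φ g)).toMonoidHom)
    (map_thompson_le_sSup_eFam h hJ)
  refine h4.trans (le_of_eq ?_)
  exact map_conj_eq_of_mem_normalizer (range_le_normalizer_sSup_eFam h hJ ⟨g, rfl⟩)

/-- Every `E_B`, `B` a minimal offender in `J(L)C/C`, belongs to `eFam T`. -/
theorem mem_eFam_of_isMinOff (h : Setting T)
    (hJ : ¬ thompsonSubgroupOf 2 (T : Subgroup L) ≤ pCore 2 L)
    {BB : Subgroup (HolG (vOf (T : Subgroup L)))}
    (hBB : IsMinOff 2 (VV (vOf (T : Subgroup L))) (JH (vOf (T : Subgroup L)) 2) BB) :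
    EE 2 (JH (vOf (T : Subgroup L)) 2) BB ∈ eFam T := by
  haveI : Fact (Nat.Prime 2) := ⟨Nat.prime_two⟩
  by_contra hnot
  have hyp := h.ffHyp hJ
  have h1 : sSup (eFam T) ≤ centralizer
      ((EE 2 (JH (vOf (T : Subgroup L)) 2) BB : Subgroup (HolG (vOf (T : Subgroup L)))) :
        Set (HolG (vOf (T : Subgroup L)))) := by
    apply sSup_le
    rintro E' ⟨A, BB', hA, hBB', hBBA, rfl⟩
    intro e' he'
    rw [mem_centralizer_iff]
    intro e he
    have hne : EE 2 (JH (vOf (T : Subgroup L)) 2) BB ≠ EE 2 (JH (vOf (T : Subgroup L)) 2) BB' := by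
      intro heq
      apply hnot
      rw [heq]
      exact ⟨A, BB', hA, hBB', hBBA, rfl⟩
    exact (hyp.commute_EE_of_ne hBB hBB' hne e he e' he').eq
  have h2 : EE 2 (JH (vOf (T : Subgroup L)) 2) BB ≤ centralizer
      ((EE 2 (JH (vOf (T : Subgroup L)) 2) BB : Subgroup (HolG (vOf (T : Subgroup L)))) :
        Set (HolG (vOf (T : Subgroup L)))) :=
    (hyp.EE_le hBB).trans ((JH_le_sSup_eFam h hJ).trans h1)
  obtain ⟨e⟩ := (hyp.s616 hBB).2.1
  obtain ⟨x, y, hxy⟩ := sl22_noncomm
  apply hxy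
  have h3 := mem_centralizer_iff.1 (h2 (e.symm y).2) (e.symm x) (e.symm x).2
  have h4 : e.symm x * e.symm y = e.symm y * e.symm x := Subtype.ext h3
  have h5 := congrArg e h4
  simpa using h5

end Cfsg.Agent.Helper49.ZN
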