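import Mathlib
import Cfsg.Agent.Helper49.ZNNorm1
import Cfsg.Agent.Helper49.ZNUniq

set_option autoImplicit false
set_option linter.style.haveILetI false

/-!
Every `J(T)`-component of `L` is one of the components attached to a minimal offender
(helper49; KS 12.1).
-/

namespace Cfsg.Agent.Helper49.ZN

open Cfsg Subgroup
open Cfsg.Agent.Helper1.Hol Cfsg.Agent.Helper1.FF Cfsg.Agent.Helper1.AutInv
open Cfsg.Agent.Helper49.JComp

variable {L : Type*} [Group L] [Finite L] [Group.IsSolvable L] {T : Sylow 2 L}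

/-- The plane `[V, E]` is a four-group. -/
theorem UU_isFour (h : Setting T)
    (hJ : ¬ thompsonSubgroupOf 2 (T : Subgroup L) ≤ pCore 2 L)
    {BB : Subgroup (HolG (vOf (T : Subgroup L)))}
    (hBB : IsMinOff 2 (VV (vOf (T : Subgroup L))) (JH (vOf (T : Subgroup L)) 2) BB) :
    IsFour ⁅VV (vOf (T : Subgroup L)), EE 2 (JH (vOf (T : Subgroup L)) 2) BB⁆ := by
  haveI : Fact (Nat.Prime 2) := ⟨Nat.prime_two⟩
  have hyp := h.ffHyp hJ
  refine ⟨?_, ?_⟩
  · have := (hyp.s616 hBB).2.2.1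
    simpa using this
  · intro w hw
    have hwV := hyp.UU_le hBB hw
    have := (Cfsg.Agent.Helper10.isElementaryAbelian_iff.1 hyp.hV).2 w hwV
    rwa [pow_two] at this

/-- The image of a `J(T)`-component lies in `J(L)C/C`. -/
theorem pi_mem_JH (h : Setting T) {K : Subgroup L} (hK : IsJComponent (T : Subgroup L) K) {k : L}
    (hk : k ∈ K) : pi (vOf (T : Subgroup L)) k ∈ JH (vOf (T : Subgroup L)) 2 :=
  ⟨k, normalClosure_J_le_thompson T (K_le_normalClosure h hK hk), rfl⟩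

/-- If `k ∈ K` of order 3 acts nontrivially on the plane `[V, E]` then this plane lies in the
image of `W_K`. -/
theorem exists_mem_wOf_of_mem_UU (h : Setting T)
    (hJ : ¬ thompsonSubgroupOf 2 (T : Subgroup L) ≤ pCore 2 L) {K : Subgroup L}
    (hK : IsJComponent (T : Subgroup L) K) {k : L} (hk : k ∈ K) (hk3 : k ^ 3 = 1)
    {BB : Subgroup (HolG (vOf (T : Subgroup L)))}
    (hBB : IsMinOff 2 (VV (vOf (T : Subgroup L))) (JH (vOf (T : Subgroup L)) 2) BB)
    (hkc : pi (vOf (T : Subgroup L)) k ∉ centralizer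
      ((⁅VV (vOf (T : Subgroup L)), EE 2 (JH (vOf (T : Subgroup L)) 2) BB⁆ :
        Subgroup (HolG (vOf (T : Subgroup L)))) : Set (HolG (vOf (T : Subgroup L)))))
    {u : HolG (vOf (T : Subgroup L))}
    (hu : u ∈ ⁅VV (vOf (T : Subgroup L)), EE 2 (JH (vOf (T : Subgroup L)) 2) BB⁆) :
    ∃ w : ↥(vOf (T : Subgroup L)), (w : L) ∈ wOf K ∧ u = iota (vOf (T : Subgroup L)) w := by
  haveI : Fact (Nat.Prime 2) := ⟨Nat.prime_two⟩
  have hyp := h.ffHyp hJ
  have hUfour := UU_isFour h hJ hBB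
  have hkJ := pi_mem_JH h hK hk
  obtain ⟨e, he, c, hc, hdec⟩ := hyp.exists_decomp hBB hkJ
  have hcomm : e * c = c * e := hyp.commute_EE_D hBB e he c hc
  have hcU := hc.2
  have he3 : e ^ 3 = 1 := by
    have h1 : (e * c) ^ 3 = 1 := by rw [← hdec, ← map_pow, hk3, map_one]
    have hcm : Commute e c := hcomm
    have h2 : (e * c) ^ 3 = e ^ 3 * c ^ 3 := hcm.mul_pow 3
    have h3 : e ^ 3 = (c ^ 3)⁻¹ := eq_inv_of_mul_eq_one_left (by rw [← h2, h1])
    have h4 : e ^ 3 ∈ EE 2 (JH (vOf (T : Subgroup L)) 2) BB ⊓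
        (JH (vOf (T : Subgroup L)) 2 ⊓ centralizer
          ((⁅VV (vOf (T : Subgroup L)), EE 2 (JH (vOf (T : Subgroup L)) 2) BB⁆ :
            Subgroup (HolG (vOf (T : Subgroup L)))) : Set (HolG (vOf (T : Subgroup L))))) := by
      refine mem_inf.2 ⟨pow_mem he 3, ?_⟩
      rw [h3]
      exact inv_mem (pow_mem hc 3)
    rw [(hyp.s616 hBB).2.2.2.2.2.2.1, mem_bot] at h4
    exact h4
  have heU : e ∉ centralizer
      ((⁅VV (vOf (T : Subgroup L)), EE 2 (JH (vOf (T : Subgroup L)) 2) BB⁆ :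
        Subgroup (HolG (vOf (T : Subgroup L)))) : Set (HolG (vOf (T : Subgroup L)))) := by
    intro hec
    apply hkc
    rw [hdec]
    exact mul_mem hec hcU
  have heN := hyp.H_le_normalizer_UU hBB (hyp.EE_le hBB he)
  obtain ⟨u', hu', huu'⟩ := hUfour.exists_comm_eq_of_pow_three heN he3 heU hu
  obtain ⟨v', hv'⟩ := hyp.UU_le hBB hu'
  have hv'' : iota (vOf (T : Subgroup L)) v' = u' := hv'
  have h5 : pi (vOf (T : Subgroup L)) k * u'⁻¹ * (pi (vOf (T : Subgroup L)) k)⁻¹ =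
      e * u'⁻¹ * e⁻¹ := by
    rw [hdec]
    have hc' : c * u'⁻¹ = u'⁻¹ * c := (mem_centralizer_iff.1 hcU _ (inv_mem hu')).symm
    calc e * c * u'⁻¹ * (e * c)⁻¹ = e * (c * u'⁻¹) * c⁻¹ * e⁻¹ := by group
      _ = e * (u'⁻¹ * c) * c⁻¹ * e⁻¹ := by rw [hc']
      _ = e * u'⁻¹ * e⁻¹ := by group
  have h6 : pi (vOf (T : Subgroup L)) k * u'⁻¹ * (pi (vOf (T : Subgroup L)) k)⁻¹ =
      iota (vOf (T : Subgroup L)) (MulAut.conjNormal k v'⁻¹) := by
    rw [← hv'', ← map_inv]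
    exact conj_eq (vOf (T : Subgroup L)) k v'⁻¹
  refine ⟨v' * MulAut.conjNormal k v'⁻¹, ?_, ?_⟩
  · have h7 := conj_comm_mem_W h hJ hK hk hk3 (v := ((v' : L))⁻¹) (inv_mem v'.2)
    have h8 : ((v' * MulAut.conjNormal k v'⁻¹ : ↥(vOf (T : Subgroup L))) : L) =
        (v' : L) * (k * (v' : L)⁻¹ * k⁻¹) := by
      simp [MulAut.conjNormal_apply, mul_assoc]
    rw [h8]
    have h9 : k * (v' : L)⁻¹ * k⁻¹ ∈ vOf (T : Subgroup L) :=
      (vOf_normal (T : Subgroup L)).conj_mem _ (inv_mem v'.2) k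
    rw [h.V_comm v'.2 h9]
    simpa using h7
  · rw [map_mul, ← h6, h5, hv'', huu']
    group

/-- Two components acting nontrivially on the same plane `[V, E]` are equal. -/
theorem eq_of_not_mem_centralizer (h : Setting T)
    (hJ : ¬ thompsonSubgroupOf 2 (T : Subgroup L) ≤ pCore 2 L) {K K' : Subgroup L}
    (hK : IsJComponent (T : Subgroup L) K) (hK' : IsJComponent (T : Subgroup L) K') {k k' : L}
    (hk : k ∈ K) (hk3 : k ^ 3 = 1) (hk' : k' ∈ K') (hk3' : k' ^ 3 = 1)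
    {BB : Subgroup (HolG (vOf (T : Subgroup L)))}
    (hBB : IsMinOff 2 (VV (vOf (T : Subgroup L))) (JH (vOf (T : Subgroup L)) 2) BB)
    (hkc : pi (vOf (T : Subgroup L)) k ∉ centralizer
      ((⁅VV (vOf (T : Subgroup L)), EE 2 (JH (vOf (T : Subgroup L)) 2) BB⁆ :
        Subgroup (HolG (vOf (T : Subgroup L)))) : Set (HolG (vOf (T : Subgroup L)))))
    (hkc' : pi (vOf (T : Subgroup L)) k' ∉ centralizer
      ((⁅VV (vOf (T : Subgroup L)), EE 2 (JH (vOf (T : Subgroup L)) 2) BB⁆ :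
        Subgroup (HolG (vOf (T : Subgroup L)))) : Set (HolG (vOf (T : Subgroup L))))) :
    K = K' := by
  have hUfour := UU_isFour h hJ hBB
  obtain ⟨u, hu, hu1, -⟩ := hUfour.exists_not_mem (one_mem _)
  obtain ⟨w, hw, huw⟩ := exists_mem_wOf_of_mem_UU h hJ hK hk hk3 hBB hkc hu
  obtain ⟨w', hw', huw'⟩ := exists_mem_wOf_of_mem_UU h hJ hK' hk' hk3' hBB hkc' hu
  have hww' : w = w' := iota_injective (vOf (T : Subgroup L)) (huw.symm.trans huw')
  have hw1 : (w : L) ≠ 1 := by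
    intro hc
    apply hu1
    have : w = 1 := Subtype.ext hc
    rw [huw, this, map_one]
  rw [← hww'] at hw'
  exact eq_of_mem_inf h hJ hK hK' hw hw' hw1

/-- Every `J(T)`-component is the component attached to offender data. -/
theorem exists_cData (h : Setting T)
    (hJ : ¬ thompsonSubgroupOf 2 (T : Subgroup L) ≤ pCore 2 L) {K : Subgroup L}
    (hK : IsJComponent (T : Subgroup L) K) :
    ∃ A a P, OffData T A a ∧ PData T a P ∧ K = oddClosure P := by
  haveI : Fact (Nat.Prime 2) := ⟨Nat.prime_two⟩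
  have hyp := h.ffHyp hJ
  have hD := s3Hyp h hJ
  have hker : (pi (vOf (T : Subgroup L))).ker = cOf (T : Subgroup L) := ker_pi _
  have d := comp_data h hK
  obtain ⟨k, hk, hkQ, hk3⟩ := d.exists_g
  have hkC := not_mem_C_of_not_mem h hK hk hkQ hD
  have hφk1 : pi (vOf (T : Subgroup L)) k ≠ 1 := by
    intro hc
    apply hkC
    rw [← hker, MonoidHom.mem_ker]
    exact hc
  obtain ⟨BB₀, hBB₀, hkc₀⟩ :=
    exists_isMinOff_not_mem_centralizer hyp (pi_mem_JH h hK hk) hφk1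
  obtain ⟨A, BB, hA, hBB, hBBA, hE⟩ := mem_eFam_of_isMinOff h hJ hBB₀
  rw [hE] at hkc₀
  obtain ⟨A', a, hd, hzp⟩ := exists_offData_of_minOff h hJ hA BB hBB hBBA
  obtain ⟨P, hP⟩ := exists_pData h hJ hd
  have hK' := isJComponent_oddClosure h hd hP
  have d' := comp_data h hK'
  obtain ⟨k', hk', hkQ', hk3'⟩ := d'.exists_g
  have hkC' := not_mem_C_of_not_mem h hK' hk' hkQ' hD
  have hφk1' : pi (vOf (T : Subgroup L)) k' ≠ 1 := by
    intro hc
    apply hkC'
    rw [← hker, MonoidHom.mem_ker]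
    exact hc
  have hkE' : pi (vOf (T : Subgroup L)) k' ∈ EE 2 (JH (vOf (T : Subgroup L)) 2) BB := by
    have := (image_pData h hJ hd hP).1
    rw [hzp] at this
    exact this ⟨k', oddClosure_le P hk', rfl⟩
  have hkc' : pi (vOf (T : Subgroup L)) k' ∉ centralizer
      ((⁅VV (vOf (T : Subgroup L)), EE 2 (JH (vOf (T : Subgroup L)) 2) BB⁆ :
        Subgroup (HolG (vOf (T : Subgroup L)))) : Set (HolG (vOf (T : Subgroup L)))) := by
    intro hc
    apply hφk1'
    have : pi (vOf (T : Subgroup L)) k' ∈ EE 2 (JH (vOf (T : Subgroup L)) 2) BB ⊓ centralizer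
        ((⁅VV (vOf (T : Subgroup L)), EE 2 (JH (vOf (T : Subgroup L)) 2) BB⁆ :
          Subgroup (HolG (vOf (T : Subgroup L)))) : Set (HolG (vOf (T : Subgroup L)))) :=
      mem_inf.2 ⟨hkE', hc⟩
    rw [hyp.EE_inf_centralizer_UU hBB, mem_bot] at this
    exact this
  exact ⟨A', a, P, hd, hP, eq_of_not_mem_centralizer h hJ hK hK' hk hk3 hk' hk3' hBB hkc₀ hkc'⟩

end Cfsg.Agent.Helper49.ZN
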