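import Mathlib
import Cfsg.Agent.Helper49.ZNNorm2

set_option autoImplicit false
set_option linter.style.haveILetI false

/-!
Distinct `J(T)`-components of `L` normalize each other, and a `J(T)`-component `K` with
`W_K ⊴ L` is normal in `L` (helper49; KS 12.1.4).
-/

namespace Cfsg.Agent.Helper49.ZN

open Cfsg Subgroup
open Cfsg.Agent.Helper1.Hol Cfsg.Agent.Helper1.FF Cfsg.Agent.Helper1.AutInv
open Cfsg.Agent.Helper49.JComp

/-- `IsJComponent T K` depends on `T` only through `J(T)`. -/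
theorem isJComponent_congr {G : Type*} [Group G] {T T' K : Subgroup G}
    (hTT' : thompsonSubgroupOf 2 T = thompsonSubgroupOf 2 T') :
    IsJComponent T K ↔ IsJComponent T' K := by
  unfold IsJComponent
  rw [hTT']

/-- The abstract commutator computation modulo a normal subgroup `Q`: if `a` inverts `x`,
centralizes `y` and `z = [y, x]` modulo `Q`, and `x` centralizes `z` modulo `Q`, then
`z² ∈ Q`. -/
theorem mul_self_mem_of_comm {M : Type*} [Group M] (Q : Subgroup M) [Q.Normal] {a x y : M}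
    (h1 : a * x * a⁻¹ * x ∈ Q) (h2 : a * y * a⁻¹ * y⁻¹ ∈ Q)
    (h3 : (y * x * y⁻¹ * x⁻¹) * a * (y * x * y⁻¹ * x⁻¹)⁻¹ * a⁻¹ ∈ Q)
    (h4 : x * (y * x * y⁻¹ * x⁻¹) * x⁻¹ * (y * x * y⁻¹ * x⁻¹)⁻¹ ∈ Q) :
    (y * x * y⁻¹ * x⁻¹) * (y * x * y⁻¹ * x⁻¹) ∈ Q := by
  rw [← QuotientGroup.eq_one_iff] at h1 h2 h3 h4 ⊢
  simp only [QuotientGroup.mk_mul, QuotientGroup.mk_inv] at h1 h2 h3 h4 ⊢
  generalize (a : M ⧸ Q) = A at *
  generalize (x : M ⧸ Q) = X at *
  generalize (y : M ⧸ Q) = Y at *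
  have eA : A * X * A⁻¹ = X⁻¹ := eq_inv_of_mul_eq_one_left h1
  have eY : A * Y * A⁻¹ = Y := by
    have := eq_of_mul_inv_eq_one h2
    exact this
  set Z := Y * X * Y⁻¹ * X⁻¹ with hZ
  have eZ : A * Z * A⁻¹ = Z := by
    have h5 : Z * A * Z⁻¹ = A := eq_of_mul_inv_eq_one h3
    calc A * Z * A⁻¹ = (Z * A * Z⁻¹) * Z * A⁻¹ := by rw [h5]
      _ = Z * (A * A⁻¹) := by group
      _ = Z := by rw [mul_inv_cancel, mul_one]
  have eXZ : X * Z * X⁻¹ = Z := eq_of_mul_inv_eq_one h4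
  have hZ2 : A * Z * A⁻¹ = Y * X⁻¹ * Y⁻¹ * X := by
    have e1 : A * Z * A⁻¹ =
        (A * Y * A⁻¹) * (A * X * A⁻¹) * (A * Y * A⁻¹)⁻¹ * (A * X * A⁻¹)⁻¹ := by
      rw [hZ]; group
    rw [e1, eA, eY, inv_inv]
  have hZ3 : Y * X⁻¹ * Y⁻¹ = X⁻¹ * Z⁻¹ := by rw [hZ]; group
  have hZ4 : Z = X⁻¹ * Z⁻¹ * X := by
    calc Z = A * Z * A⁻¹ := eZ.symm
      _ = Y * X⁻¹ * Y⁻¹ * X := hZ2
      _ = X⁻¹ * Z⁻¹ * X := by rw [hZ3]
  have hZ5 : X⁻¹ * Z⁻¹ * X = Z⁻¹ := by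
    have : Z⁻¹ = (X * Z * X⁻¹)⁻¹ := by rw [eXZ]
    calc X⁻¹ * Z⁻¹ * X = X⁻¹ * (X * Z * X⁻¹)⁻¹ * X := by rw [← this]
      _ = X⁻¹ * X * Z⁻¹ * (X⁻¹ * X) := by group
      _ = Z⁻¹ := by rw [inv_mul_cancel, one_mul, mul_one]
  rw [hZ5] at hZ4
  calc Z * Z = Z * Z⁻¹ := by rw [← hZ4]
    _ = 1 := mul_inv_cancel Z

variable {L : Type*} [Group L] [Finite L] [Group.IsSolvable L] {T : Sylow 2 L}

omit [Group.IsSolvable L] in
/-- `C/Q` has no involutions. -/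
theorem mem_pCore_of_mul_self_mem (h : Setting T) {c : L} (hc : c ∈ cOf (T : Subgroup L))
    (hcc : c * c ∈ pCore 2 L) : c ∈ pCore 2 L := by
  have hQ2 : IsPGroup 2 ↥(pCore 2 L) := Cfsg.Agent.Lib.isPGroup_pCore 2
  obtain ⟨m, hm⟩ := hQ2 ⟨c * c, hcc⟩
  have hm' : (c * c) ^ 2 ^ m = 1 := by
    have := congrArg Subtype.val hm
    simpa using this
  have hpow : c ^ 2 ^ (m + 1) = 1 := by
    rw [pow_succ', pow_mul, pow_two]
    exact hm'
  have hP : IsPGroup 2 ↥(zpowers c) := by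
    rintro ⟨x, hx⟩
    obtain ⟨n, rfl⟩ := mem_zpowers_iff.1 hx
    refine ⟨m + 1, Subtype.ext ?_⟩
    show (c ^ n) ^ 2 ^ (m + 1) = 1
    rw [← zpow_natCast, ← zpow_mul, mul_comm, zpow_mul, zpow_natCast, hpow, one_zpow]
  exact h.le_Q_of_isPGroup (zpowers_le.2 hc) hP (mem_zpowers c)

omit [Group.IsSolvable L] in
theorem pData_inf_C_le (h : Setting T) {a : L} {P : Subgroup L} (hP : PData T a P) :
    P ⊓ cOf (T : Subgroup L) ≤ pCore 2 L := by
  have hprime : ((pCore 2 L).relIndex P).Prime := by rw [hP.relIndex]; exact Nat.prime_three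
  rcases le_or_le_of_relIndex_prime (le_inf hP.Q_le h.Q_le_C)
    (inf_le_left : P ⊓ cOf (T : Subgroup L) ≤ P) hprime with h1 | h1
  · exact h1
  · exact absurd (h1.trans inf_le_right) hP.not_le

/-- An element of a component outside `O₂(K)` whose image lies in `E` acts nontrivially on
`[V, E]`. -/
theorem not_mem_centralizer_UU_of_mem (h : Setting T)
    (hJ : ¬ thompsonSubgroupOf 2 (T : Subgroup L) ≤ pCore 2 L) {K : Subgroup L}
    (hK : IsJComponent (T : Subgroup L) K) {k : L} (hk : k ∈ K) (hkQ : k ∉ pCoreOf 2 K)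
    {BB : Subgroup (HolG (vOf (T : Subgroup L)))}
    (hBB : IsMinOff 2 (VV (vOf (T : Subgroup L))) (JH (vOf (T : Subgroup L)) 2) BB)
    (hkE : pi (vOf (T : Subgroup L)) k ∈ EE 2 (JH (vOf (T : Subgroup L)) 2) BB) :
    pi (vOf (T : Subgroup L)) k ∉ centralizer
      ((⁅VV (vOf (T : Subgroup L)), EE 2 (JH (vOf (T : Subgroup L)) 2) BB⁆ :
        Subgroup (HolG (vOf (T : Subgroup L)))) : Set (HolG (vOf (T : Subgroup L)))) := by
  haveI : Fact (Nat.Prime 2) := ⟨Nat.prime_two⟩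
  have hyp := h.ffHyp hJ
  have hD := s3Hyp h hJ
  have hker : (pi (vOf (T : Subgroup L))).ker = cOf (T : Subgroup L) := ker_pi _
  have hkC := not_mem_C_of_not_mem h hK hk hkQ hD
  intro hc
  apply hkC
  rw [← hker, MonoidHom.mem_ker]
  have : pi (vOf (T : Subgroup L)) k ∈ EE 2 (JH (vOf (T : Subgroup L)) 2) BB ⊓ centralizer
      ((⁅VV (vOf (T : Subgroup L)), EE 2 (JH (vOf (T : Subgroup L)) 2) BB⁆ :
        Subgroup (HolG (vOf (T : Subgroup L)))) : Set (HolG (vOf (T : Subgroup L)))) :=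
    mem_inf.2 ⟨hkE, hc⟩
  rw [hyp.EE_inf_centralizer_UU hBB, mem_bot] at this
  exact this

/-- KS 12.1: distinct `J(T)`-components of `L` normalize each other. -/
theorem le_normalizer_of_ne (h : Setting T)
    (hJ : ¬ thompsonSubgroupOf 2 (T : Subgroup L) ≤ pCore 2 L) {K K₂ : Subgroup L}
    (hK : IsJComponent (T : Subgroup L) K) (hK₂ : IsJComponent (T : Subgroup L) K₂)
    (hne : K ≠ K₂) : K₂ ≤ normalizer (K : Set L) := by
  haveI : Fact (Nat.Prime 2) := ⟨Nat.prime_two⟩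
  have hyp := h.ffHyp hJ
  have hker : (pi (vOf (T : Subgroup L))).ker = cOf (T : Subgroup L) := ker_pi _
  obtain ⟨A, a, P, hd, hP, hKP⟩ := exists_cData h hJ hK
  obtain ⟨A₂, a₂, P₂, hd₂, hP₂, hKP₂⟩ := exists_cData h hJ hK₂
  have hmin := hd.minOff
  have hmin₂ := hd₂.minOff
  have himP : ∀ p ∈ P, pi (vOf (T : Subgroup L)) p ∈
      EE 2 (JH (vOf (T : Subgroup L)) 2) (zpowers (pi (vOf (T : Subgroup L)) a)) :=
    fun p hp => (image_pData h hJ hd hP).1 ⟨p, hp, rfl⟩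
  have himP₂ : ∀ p ∈ P₂, pi (vOf (T : Subgroup L)) p ∈
      EE 2 (JH (vOf (T : Subgroup L)) 2) (zpowers (pi (vOf (T : Subgroup L)) a₂)) :=
    fun p hp => (image_pData h hJ hd₂ hP₂).1 ⟨p, hp, rfl⟩
  -- `E ≠ E₂`
  have hEne : EE 2 (JH (vOf (T : Subgroup L)) 2) (zpowers (pi (vOf (T : Subgroup L)) a)) ≠
      EE 2 (JH (vOf (T : Subgroup L)) 2) (zpowers (pi (vOf (T : Subgroup L)) a₂)) := by
    intro hEeq
    apply hne
    obtain ⟨k, hk, hkQ, hk3⟩ := (comp_data h hK).exists_g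
    obtain ⟨k₂, hk₂, hkQ₂, hk3₂⟩ := (comp_data h hK₂).exists_g
    have hkP : k ∈ P := oddClosure_le P (hKP ▸ hk)
    have hkP₂ : k₂ ∈ P₂ := oddClosure_le P₂ (hKP₂ ▸ hk₂)
    have hc1 := not_mem_centralizer_UU_of_mem h hJ hK hk hkQ hmin (himP k hkP)
    have hc2 := not_mem_centralizer_UU_of_mem h hJ hK₂ hk₂ hkQ₂ hmin₂ (himP₂ k₂ hkP₂)
    rw [← hEeq] at hc2
    exact eq_of_not_mem_centralizer h hJ hK hK₂ hk hk3 hk₂ hk3₂ hmin hc1 hc2
  have hcomm : ∀ p ∈ P, ∀ p₂ ∈ P₂,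
      pi (vOf (T : Subgroup L)) p * pi (vOf (T : Subgroup L)) p₂ =
        pi (vOf (T : Subgroup L)) p₂ * pi (vOf (T : Subgroup L)) p :=
    fun p hp p₂ hp₂ => (hyp.commute_EE_of_ne hmin hmin₂ hEne _ (himP p hp) _ (himP₂ p₂ hp₂)).eq
  have haE : pi (vOf (T : Subgroup L)) a ∈
      EE 2 (JH (vOf (T : Subgroup L)) 2) (zpowers (pi (vOf (T : Subgroup L)) a)) := by
    have h1 : zpowers (pi (vOf (T : Subgroup L)) a) ≤
        EE 2 (JH (vOf (T : Subgroup L)) 2) (zpowers (pi (vOf (T : Subgroup L)) a)) := le_sup_right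
    exact h1 (mem_zpowers _)
  have haJ : a ∈ thompsonSubgroupOf 2 (T : Subgroup L) := hd.maxEA.le_thompson hd.mem
  have haT : a ∈ (T : Subgroup L) := JComp.thompsonSubgroupOf_le 2 _ haJ
  have hQ2 : IsPGroup 2 ↥(pCore 2 L) := Cfsg.Agent.Lib.isPGroup_pCore 2
  have hJ2 : IsPGroup 2 ↥(thompsonSubgroupOf 2 (T : Subgroup L)) :=
    T.2.to_le (JComp.thompsonSubgroupOf_le 2 _)
  -- `C ≤ N(P)`
  have hCP : cOf (T : Subgroup L) ≤ normalizer (P : Set L) := by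
    have h1 := C_le_normalizer_KQ h hK
    have h2 := (kData_oddClosure hQ2 hJ2 hP.Q_le hP.relIndex hP.J_le haJ hP.inv).2
    rw [hKP, h2] at h1
    exact h1
  -- `a` centralizes `P₂ / Q`
  have hf2 : ∀ p₂ ∈ P₂, a * p₂ * a⁻¹ * p₂⁻¹ ∈ pCore 2 L := by
    intro p₂ hp₂
    apply pData_inf_C_le h hP₂
    refine mem_inf.2 ⟨?_, ?_⟩
    · exact mul_mem (conj_mem_of_mem_normalizer (hP₂.J_le haJ) hp₂) (inv_mem hp₂)
    · rw [← hker, MonoidHom.mem_ker]
      simp only [map_mul, map_inv]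
      have := (hyp.commute_EE_of_ne hmin hmin₂ hEne _ haE _ (himP₂ p₂ hp₂)).eq
      rw [this]
      group
  have key : ∀ p₂ ∈ P₂, ∀ p ∈ P, p₂ * p * p₂⁻¹ ∈ P := by
    intro p₂ hp₂ p hp
    have hcC : p₂ * p * p₂⁻¹ * p⁻¹ ∈ cOf (T : Subgroup L) := by
      rw [← hker, MonoidHom.mem_ker]
      simp only [map_mul, map_inv]
      rw [← hcomm p hp p₂ hp₂]
      group
    have hcQ : p₂ * p * p₂⁻¹ * p⁻¹ ∈ pCore 2 L := by
      apply mem_pCore_of_mul_self_mem h hcC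
      apply mul_self_mem_of_comm (pCore 2 L) (a := a) (hP.inv p hp) (hf2 p₂ hp₂)
      · -- `[c, a] ∈ [C, T] ≤ Q`
        have := h.comm_C_T_le (commutator_mem_commutator hcC haT)
        rwa [commutatorElement_def] at this
      · -- `[p, c] ∈ P ∩ C ≤ Q`
        apply pData_inf_C_le h hP
        refine mem_inf.2 ⟨?_, ?_⟩
        · have h1 : (p₂ * p * p₂⁻¹ * p⁻¹) * p⁻¹ * (p₂ * p * p₂⁻¹ * p⁻¹)⁻¹ ∈ P :=
            conj_mem_of_mem_normalizer (hCP hcC) (inv_mem hp)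
          have e : p * (p₂ * p * p₂⁻¹ * p⁻¹) * p⁻¹ * (p₂ * p * p₂⁻¹ * p⁻¹)⁻¹ =
              p * ((p₂ * p * p₂⁻¹ * p⁻¹) * p⁻¹ * (p₂ * p * p₂⁻¹ * p⁻¹)⁻¹) := by group
          rw [e]
          exact mul_mem hp h1
        · have h1 : p * (p₂ * p * p₂⁻¹ * p⁻¹) * p⁻¹ ∈ cOf (T : Subgroup L) :=
            (cOf_normal (T : Subgroup L)).conj_mem _ hcC p
          exact mul_mem h1 (inv_mem hcC)
    have e : p₂ * p * p₂⁻¹ = (p₂ * p * p₂⁻¹ * p⁻¹) * p := by group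
    rw [e]
    exact mul_mem (hP.Q_le hcQ) hp
  rw [hKP, hKP₂]
  exact (oddClosure_le P₂).trans
    ((le_normalizer_of_conj_mem key).trans (normalizer_le_normalizer_oddClosure P))

/-- KS 12.1.4 (local form): a `J(T)`-component `K` of `L` with `W_K ⊴ L` is normal in `L`. -/
theorem normalizer_eq_top_of_wOf (h : Setting T)
    (hJ : ¬ thompsonSubgroupOf 2 (T : Subgroup L) ≤ pCore 2 L) {K : Subgroup L}
    (hK : IsJComponent (T : Subgroup L) K) (hW : normalizer (wOf K : Set L) = ⊤) :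
    normalizer (K : Set L) = ⊤ := by
  rw [eq_top_iff, ← sSup_isJComponent_sup_normalizer h hJ]
  apply sup_le
  · apply sSup_le
    intro K₂ hK₂
    by_cases hne : K = K₂
    · rw [← hne]; exact le_normalizer
    · exact le_normalizer_of_ne h hJ hK hK₂ hne
  · intro n hn
    set f : L →* L := (MulAut.conj n).toMonoidHom with hf
    have hfinj : Function.Injective f := (MulAut.conj n).injective
    have hJf : thompsonSubgroupOf 2 ((T : Subgroup L).map f) =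
        thompsonSubgroupOf 2 (T : Subgroup L) := by
      rw [JTransfer.thompson_map f hfinj]
      exact map_conj_eq_of_mem_normalizer hn
    have hK' : IsJComponent (T : Subgroup L) (K.map f) :=
      (isJComponent_congr hJf).1 ((JTransfer.isJComponent_map_iff f hfinj (T : Subgroup L) K).2 hK)
    have d := comp_data h hK
    obtain ⟨w, hw1⟩ := (Subgroup.ne_bot_iff_exists_ne_one).1 d.W_ne_bot
    have hwW' : (w : L) ∈ wOf (K.map f) := by
      rw [JTransfer.wOf_map f hfinj]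
      have hnW : n ∈ normalizer (wOf K : Set L) := by rw [hW]; trivial
      rw [hf, map_conj_eq_of_mem_normalizer hnW]
      exact w.2
    have heq := eq_of_mem_inf h hJ hK hK' w.2 hwW' (fun hc => hw1 (Subtype.ext hc))
    apply mem_normalizer_of_map_conj_eq
    exact heq.symm

end Cfsg.Agent.Helper49.ZN
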