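import Mathlib
import Cfsg.Agent.Helper49.ZNNorm3
import Cfsg.Agent.Helper49.ZNStraddle
import Cfsg.Agent.Helper49.ZNMain

set_option autoImplicit false
set_option linter.style.haveILetI false

/-!
KS 12.1.4 (global form): for `K ∈ 𝒦₀(T)`, `N_G(K) = N_G(W_K)`, and `K` is a `J(Tᵍ)`-component
whenever `J(Tᵍ) ≤ N_G(W_K)` (helper49).
-/

namespace Cfsg.Agent.Helper49.ZN

open Cfsg Subgroup
open Cfsg.Agent.Helper49.JComp

variable {G : Type*} [Group G]

/-- A `J`-component is not a 2-group. -/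
theorem Data_not_isPGroup {K J : Subgroup G} (d : Data K J) : ¬ IsPGroup 2 ↥K := by
  intro hK2
  have h1 : K ≤ pCoreOf 2 K := Cfsg.Agent.Helper46.le_pCoreOf le_rfl hK2 le_normalizer
  have h2 : (pCoreOf 2 K).relIndex K = 1 := Subgroup.relIndex_eq_one.2 h1
  rw [d.idx] at h2
  norm_num at h2

variable [Finite G]

/-- The set-up inside `X = N_G(W_K)` for `K ∈ 𝒦₀(T)`. -/
theorem exists_sylow_normalizer_wOf (hL : IsCharacteristicTwoType G) {T : Subgroup G}
    (hT : IsPGroup 2 ↥T) {K : Subgroup G} (hK : K ∈ jComponentsZero T) :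
    ∃ S' : Subgroup G, thompsonSubgroupOf 2 T ≤ S' ∧
      thompsonSubgroupOf 2 S' = thompsonSubgroupOf 2 T ∧
      normalizer (wOf K : Set G) ∈ jOvergroups S' := by
  haveI : Fact (Nat.Prime 2) := ⟨Nat.prime_two⟩
  obtain ⟨hKc, hK0⟩ := hK
  have d := data_of_isJComponent hT hKc
  set X := normalizer (wOf K : Set G) with hX
  have hXloc : IsTwoLocal X := ⟨wOf K, d.W_isPGroup, d.W_ne_bot, rfl⟩
  have hKX : K ≤ X := le_normalizer.trans d.nK_le_nW
  have hJX : thompsonSubgroupOf 2 T ≤ X := d.J_le_normalizer.trans d.nK_le_nW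
  obtain ⟨S', hS'syl, hJS'⟩ := exists_isSylowOf_ge d.hJ hJX
  have hS' : IsSylowTwoIn S' X := isSylowOf_iff_isSylowTwoIn.1 hS'syl
  have hJeq : thompsonSubgroupOf 2 S' = thompsonSubgroupOf 2 T := hK0 S' hJS' hS'
  refine ⟨S', hJS', hJeq, hS', ?_, centralizer_pCoreOf_le hL hXloc⟩
  rw [hJeq]
  intro hle
  apply Data_not_isPGroup d
  have hKle : K ≤ pCoreOf 2 X := by
    conv_lhs => rw [← d.comm]
    rw [commutator_le]
    intro k hk j hj
    have hkN : k ∈ normalizer (pCoreOf 2 X : Set G) :=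
      Cfsg.Agent.Helper46.pCoreOf_normalized X (hKX hk)
    rw [commutatorElement_def]
    exact mul_mem (conj_mem_of_mem_normalizer hkN (hle hj)) (inv_mem (hle hj))
  exact (Cfsg.Agent.Helper46.pCoreOf_isPGroup X).to_le hKle

/-- KS 12.1.4(a): `N_G(W_K) ≤ N_G(K)` for `K ∈ 𝒦₀(T)`. -/
theorem normalizer_wOf_le (hL : IsCharacteristicTwoType G)
    (hN : ∀ N : Subgroup G, IsTwoLocal N → Group.IsSolvable ↥N)
    (hZ : ∀ S : Sylow 2 G, Subgroup.centralizer (omegaCenterOf (S : Subgroup G) : Set G) ≤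
      Subgroup.normalizer ((S : Subgroup G) : Set G))
    {T : Subgroup G} (hT : IsPGroup 2 ↥T) (hT1 : T ≠ ⊥) {K : Subgroup G}
    (hK : K ∈ jComponentsZero T) :
    normalizer (wOf K : Set G) ≤ normalizer (K : Set G) := by
  haveI : Fact (Nat.Prime 2) := ⟨Nat.prime_two⟩
  obtain ⟨S', hJS', hJeq, hXS⟩ := exists_sylow_normalizer_wOf hL hT hK
  obtain ⟨hKc, hK0⟩ := hK
  have d := data_of_isJComponent hT hKc
  set X := normalizer (wOf K : Set G) with hX
  have hKX : K ≤ X := le_normalizer.trans d.nK_le_nW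
  have hS'1 : S' ≠ ⊥ := by
    intro hbot
    apply thompson_ne_bot hT hT1
    rw [eq_bot_iff, ← hbot]
    exact hJS'
  obtain ⟨hsolv, hset⟩ := setting_of_mem_jOvergroups hN hZ hS'1 hXS
  haveI := hsolv
  have hJ' := thompson_not_le_pCore hXS
  have hK' : IsJComponent ((sylowOf hXS.1 : Sylow 2 ↥X) : Subgroup ↥X) (K.subgroupOf X) := by
    rw [coe_sylowOf, JTransfer.isJComponent_subgroupOf_iff hXS.1.1 hKX]
    exact (isJComponent_congr hJeq).2 hKc
  have hmap : (wOf (K.subgroupOf X)).map X.subtype = wOf K := by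
    rw [← JTransfer.wOf_map X.subtype X.subtype_injective, Subgroup.subgroupOf_map_subtype,
      inf_eq_left.2 hKX]
  have hmem : ∀ y : ↥X, y ∈ wOf (K.subgroupOf X) ↔ (y : G) ∈ wOf K := by
    intro y
    rw [← hmap]
    constructor
    · intro hy
      exact ⟨y, hy, rfl⟩
    · rintro ⟨z, hz, hzy⟩
      have : z = y := Subtype.ext hzy
      rwa [← this]
  have hW' : normalizer (wOf (K.subgroupOf X) : Set ↥X) = ⊤ := by
    rw [eq_top_iff]
    intro x _
    rw [mem_normalizer_iff]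
    intro w
    rw [hmem, hmem]
    have := (mem_normalizer_iff.1 x.2) (w : G)
    simpa using this
  have hfin := normalizer_eq_top_of_wOf hset hJ' hK' hW'
  apply le_normalizer_of_conj_mem
  intro x hx k hk
  have hx' : (⟨x, hx⟩ : ↥X) ∈ normalizer ((K.subgroupOf X : Subgroup ↥X) : Set ↥X) := by
    rw [hfin]; trivial
  have := (mem_normalizer_iff.1 hx' ⟨k, hKX hk⟩).1 (mem_subgroupOf.2 hk)
  exact mem_subgroupOf.1 this

/-- KS 12.1.4(b): for `K ∈ 𝒦₀(T)`, `K` is a `J(Tᵍ)`-component whenever `J(Tᵍ) ≤ N_G(W_K)`. -/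
theorem isJComponent_conj_of_le (hL : IsCharacteristicTwoType G)
    (hN : ∀ N : Subgroup G, IsTwoLocal N → Group.IsSolvable ↥N)
    (hZ : ∀ S : Sylow 2 G, Subgroup.centralizer (omegaCenterOf (S : Subgroup G) : Set G) ≤
      Subgroup.normalizer ((S : Subgroup G) : Set G))
    {T : Subgroup G} (hT : IsPGroup 2 ↥T) (hT1 : T ≠ ⊥) {K : Subgroup G}
    (hK : K ∈ jComponentsZero T) {g : G}
    (hg : thompsonSubgroupOf 2 (T.map (MulAut.conj g).toMonoidHom) ≤
      normalizer (wOf K : Set G)) :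
    IsJComponent (T.map (MulAut.conj g).toMonoidHom) K := by
  haveI : Fact (Nat.Prime 2) := ⟨Nat.prime_two⟩
  have hXK := normalizer_wOf_le hL hN hZ hT hT1 hK
  obtain ⟨S', hJS', hJeq, hXS⟩ := exists_sylow_normalizer_wOf hL hT hK
  obtain ⟨hKc, hK0⟩ := hK
  set X := normalizer (wOf K : Set G) with hX
  set J := thompsonSubgroupOf 2 T with hJ
  have hS'syl : IsSylowOf 2 S' X := isSylowOf_iff_isSylowTwoIn.2 hXS.1
  have hTg2 : IsPGroup 2 ↥(T.map (MulAut.conj g).toMonoidHom) := hT.map _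
  have hJg2 : IsPGroup 2 ↥(thompsonSubgroupOf 2 (T.map (MulAut.conj g).toMonoidHom)) :=
    hTg2.to_le (JComp.thompsonSubgroupOf_le 2 _)
  obtain ⟨S'', hS''syl, hJS''⟩ := exists_isSylowOf_ge hJg2 hg
  obtain ⟨m, hmX, hmS⟩ := hS'syl.exists_conj hS''syl
  -- `S'' = S'.map (conj m⁻¹)`
  have hS''eq : S'' = S'.map (MulAut.conj m⁻¹).toMonoidHom := by
    rw [← hmS]; rfl
  have hJS''eq : thompsonSubgroupOf 2 S'' = J.map (MulAut.conj m⁻¹).toMonoidHom := by
    rw [hS''eq, JMono.thompson_conj, hJeq]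
  -- `m(S'') ≤ m(Tᵍ)`
  have hm1 : maxElemAbelianOrder S'' ≤
      maxElemAbelianOrder (T.map (MulAut.conj g).toMonoidHom) := by
    rw [hS''eq, JMono.maxElemAbelianOrder_conj, JMono.maxElemAbelianOrder_conj]
    apply JMono.maxElemAbelianOrder_le_of_thompson_le
    rw [hJeq]
    exact JComp.thompsonSubgroupOf_le 2 T
  have hle : thompsonSubgroupOf 2 (T.map (MulAut.conj g).toMonoidHom) ≤
      thompsonSubgroupOf 2 S'' := JMono.thompson_le_thompson hJS'' hm1
  have hJgeq : thompsonSubgroupOf 2 (T.map (MulAut.conj g).toMonoidHom) =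
      thompsonSubgroupOf 2 (T.map (MulAut.conj m⁻¹).toMonoidHom) := by
    rw [JMono.thompson_conj T m⁻¹, ← hJS''eq]
    apply Subgroup.eq_of_le_of_card_ge hle
    rw [hJS''eq, JMono.thompson_conj]
    rw [Subgroup.card_map_of_injective (MulAut.conj m⁻¹).injective,
      Subgroup.card_map_of_injective (MulAut.conj g).injective]
  rw [isJComponent_congr hJgeq]
  have hmK : m⁻¹ ∈ normalizer (K : Set G) := hXK (inv_mem hmX)
  have hKm : K.map (MulAut.conj m⁻¹).toMonoidHom = K :=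
    Cfsg.Agent.Helper1.FF.map_conj_eq_of_mem_normalizer hmK
  rw [← hKm]
  exact (JTransfer.isJComponent_map_iff (MulAut.conj m⁻¹).toMonoidHom (MulAut.conj m⁻¹).injective
    T K).2 hKc

end Cfsg.Agent.Helper49.ZN
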