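import Mathlib
import Cfsg.Agent.Helper49.FourGroup

set_option autoImplicit false
set_option linter.style.haveILetI false

/-!
Subnormal subgroups generated by elements of odd order are normalized by normal 2-subgroups
(helper49; used for KS 12.1.5).
-/

namespace Cfsg.Agent.Helper49.ZN

open Subgroup
open Cfsg.Agent.Helper49.JComp

/-- If `H` is subnormal in `X` and `P` is a normal 2-subgroup, then every element of odd order of
`H P` lies in `H`. -/
theorem mem_of_odd_of_mem_sup_of_isSubnormal {X : Type*} [Group X] {H : Subgroup X}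
    (hH : H.IsSubnormal) (P : Subgroup X) [hPn : P.Normal] (hP : IsPGroup 2 ↥P) :
    ∀ x ∈ H ⊔ P, Odd (orderOf x) → x ∈ H := by
  induction hH with
  | top => intro x _ _; trivial
  | step H K hle hK hN ih =>
    intro x hx hodd
    have hxK : x ∈ K := ih x (sup_le_sup_right hle P hx) hodd
    obtain ⟨h, hh, p, hp, rfl⟩ := Subgroup.mem_sup_of_normal_right.1 hx
    have hpK : p ∈ K := by
      have : p = h⁻¹ * (h * p) := by group
      rw [this]
      exact mul_mem (inv_mem (hle hh)) hxK
    -- the quotient `K / H`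
    haveI := hN
    set q := QuotientGroup.mk' (H.subgroupOf K) with hq
    have hqh : q ⟨h, hle hh⟩ = 1 := by
      rw [hq, QuotientGroup.mk'_apply, QuotientGroup.eq_one_iff, mem_subgroupOf]
      exact hh
    have hqx : q ⟨h * p, hxK⟩ = q ⟨p, hpK⟩ := by
      have : (⟨h * p, hxK⟩ : ↥K) = ⟨h, hle hh⟩ * ⟨p, hpK⟩ := rfl
      rw [this, map_mul, hqh, one_mul]
    -- `p` has 2-power order, `h * p` has odd order
    obtain ⟨n, hn⟩ := hP ⟨p, hp⟩
    have hp2 : p ^ 2 ^ n = 1 := by
      have := congrArg Subtype.val hn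
      simpa using this
    have h1 : (q ⟨p, hpK⟩) ^ 2 ^ n = 1 := by
      rw [← map_pow]
      have : (⟨p, hpK⟩ : ↥K) ^ 2 ^ n = 1 := Subtype.ext (by simpa using hp2)
      rw [this, map_one]
    have h2 : (q ⟨h * p, hxK⟩) ^ orderOf (h * p) = 1 := by
      rw [← map_pow]
      have : (⟨h * p, hxK⟩ : ↥K) ^ orderOf (h * p) = 1 :=
        Subtype.ext (by simpa using pow_orderOf_eq_one (h * p))
      rw [this, map_one]
    rw [hqx] at h2
    have hcop : Nat.Coprime (2 ^ n) (orderOf (h * p)) :=
      Nat.Coprime.pow_left n (Nat.coprime_two_left.2 hodd)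
    have h3 : q ⟨p, hpK⟩ = 1 := by
      have hd1 := orderOf_dvd_of_pow_eq_one h1
      have hd2 := orderOf_dvd_of_pow_eq_one h2
      have := Nat.dvd_gcd hd1 hd2
      rw [hcop, Nat.dvd_one] at this
      exact orderOf_eq_one_iff.1 this
    rw [← hqx, hq, QuotientGroup.mk'_apply, QuotientGroup.eq_one_iff, mem_subgroupOf] at h3
    exact h3

variable {G : Type*} [Group G]

/-- Subnormality in an intermediate subgroup. -/
theorem isSubnormal_subgroupOf_of_le {K M Y : Subgroup G} (hK : (K.subgroupOf Y).IsSubnormal)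
    (hMY : M ≤ Y) : (K.subgroupOf M).IsSubnormal := by
  have h := hK.comap (Subgroup.inclusion hMY)
  have e : (K.subgroupOf Y).comap (Subgroup.inclusion hMY) = K.subgroupOf M := by
    ext x
    simp [mem_subgroupOf]
  rwa [e] at h

/-- If `K` is subnormal in `Y` and `P ≤ Y` is a 2-subgroup normalized by `Y`, then every element of
odd order of `K P` lies in `K`. -/
theorem mem_of_odd_of_mem_sup_of_subnormal {K Y P : Subgroup G} (hKY : K ≤ Y)
    (hK : (K.subgroupOf Y).IsSubnormal) (hPY : P ≤ Y) (hP : IsPGroup 2 ↥P)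
    (hYP : Y ≤ normalizer (P : Set G)) {x : G} (hx : x ∈ K ⊔ P) (hodd : Odd (orderOf x)) :
    x ∈ K := by
  haveI : (P.subgroupOf Y).Normal := (normal_subgroupOf_iff_le_normalizer hPY).2 hYP
  have hP' : IsPGroup 2 ↥(P.subgroupOf Y) := hP.comap_subtype
  have hxY : x ∈ Y := (sup_le hKY hPY) hx
  have hx' : (⟨x, hxY⟩ : ↥Y) ∈ K.subgroupOf Y ⊔ P.subgroupOf Y := by
    rw [← subgroupOf_sup hKY hPY, mem_subgroupOf]
    exact hx
  have hodd' : Odd (orderOf (⟨x, hxY⟩ : ↥Y)) := by
    have : orderOf (⟨x, hxY⟩ : ↥Y) = orderOf x := by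
      rw [← Subgroup.orderOf_coe]
    rw [this]; exact hodd
  have := mem_of_odd_of_mem_sup_of_isSubnormal hK (P.subgroupOf Y) hP' _ hx' hodd'
  exact mem_subgroupOf.1 this

/-- A subgroup `D` of `Y` all of whose elements conjugate `K` into `K P` normalizes `K`, if `K` is
subnormal in `Y`, generated by its elements of odd order, and `P ≤ Y` is a 2-subgroup normalized
by `Y`. -/
theorem le_normalizer_of_conj_mem_sup {K Y P D : Subgroup G} (hKY : K ≤ Y)
    (hK : (K.subgroupOf Y).IsSubnormal) (hPY : P ≤ Y) (hP : IsPGroup 2 ↥P)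
    (hYP : Y ≤ normalizer (P : Set G))
    (hgen : Subgroup.closure {g : G | g ∈ K ∧ Odd (orderOf g)} = K)
    (hD : ∀ d ∈ D, ∀ x ∈ K, d * x * d⁻¹ ∈ K ⊔ P) : D ≤ normalizer (K : Set G) := by
  apply le_normalizer_of_conj_mem
  intro d hd x hx
  have hmap : K.map (MulAut.conj d).toMonoidHom ≤ K := by
    conv_lhs => rw [← hgen]
    rw [MonoidHom.map_closure, closure_le]
    rintro _ ⟨y, ⟨hyK, hyodd⟩, rfl⟩
    have h1 : d * y * d⁻¹ ∈ K ⊔ P := hD d hd y hyK
    have h2 : Odd (orderOf (d * y * d⁻¹)) := by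
      have : orderOf (d * y * d⁻¹) = orderOf y := by
        have := orderOf_injective (MulAut.conj d).toMonoidHom (MulAut.conj d).injective y
        simpa using this
      rw [this]; exact hyodd
    exact mem_of_odd_of_mem_sup_of_subnormal hKY hK hPY hP hYP h1 h2
  exact hmap ⟨x, hx, rfl⟩

/-- A 2-subgroup of `Y` normalized by `Y` normalizes every subnormal subgroup of `Y` generated by
elements of odd order. -/
theorem le_normalizer_of_subnormal {K Y P : Subgroup G} (hKY : K ≤ Y)
    (hK : (K.subgroupOf Y).IsSubnormal) (hPY : P ≤ Y) (hP : IsPGroup 2 ↥P)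
    (hYP : Y ≤ normalizer (P : Set G))
    (hgen : Subgroup.closure {g : G | g ∈ K ∧ Odd (orderOf g)} = K) :
    P ≤ normalizer (K : Set G) := by
  apply le_normalizer_of_conj_mem_sup hKY hK hPY hP hYP hgen
  intro d hd x hx
  have : d * x * d⁻¹ = d * (x * d⁻¹ * x⁻¹) * x := by group
  rw [this]
  refine mul_mem ?_ (le_sup_left (a := K) hx)
  apply le_sup_right (a := K)
  exact mul_mem hd (conj_mem_of_mem_normalizer (hYP (hKY hx)) (inv_mem hd))

end Cfsg.Agent.Helper49.ZN
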