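import Mathlib
import Cfsg.Agent.Helper49.ZNSub1
import Cfsg.Agent.Helper49.ZNNorm3
import Cfsg.Agent.Helper22.Radical

set_option autoImplicit false
set_option linter.style.haveILetI false

/-!
KS 12.1.5, local part 1 (helper49): a subgroup `K` of `L` generated by elements of odd order with
`|K : O₂(K)| = 3`, subnormal in `Y = ⟨K, J(T)⟩`, where `L = Y O₂(L)`:
`O₂(K) ≤ C = C_L(V)` and the image of `K` in `L / C` lies in `O₃(L / C)`.
-/

namespace Cfsg.Agent.Helper49.ZN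

open Cfsg Subgroup
open Cfsg.Agent.Helper1.Hol Cfsg.Agent.Helper1.FF Cfsg.Agent.Helper1.AutInv
open Cfsg.Agent.Helper49.JComp

variable {L : Type*} [Group L] [Finite L] [Group.IsSolvable L] {T : Sylow 2 L}

/-- The hypotheses on `K`. -/
structure SubHyp (T : Sylow 2 L) (K : Subgroup L) : Prop where
  gen : closure {g : L | g ∈ K ∧ Odd (orderOf g)} = K
  idx : (pCoreOf 2 K).relIndex K = 3
  four : IsFour (wOf K)
  sn : (K.subgroupOf (K ⊔ thompsonSubgroupOf 2 (T : Subgroup L))).IsSubnormal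
  top : K ⊔ thompsonSubgroupOf 2 (T : Subgroup L) ⊔ pCore 2 L = ⊤

namespace SubHyp

variable {K : Subgroup L} (s : SubHyp T K)

include s

theorem QK_le : pCoreOf 2 K ≤ K := Cfsg.Agent.Helper46.pCoreOf_le K

theorem QK_isPGroup : IsPGroup 2 ↥(pCoreOf 2 K) := by
  haveI : Fact (Nat.Prime 2) := ⟨Nat.prime_two⟩
  exact Cfsg.Agent.Helper46.pCoreOf_isPGroup K

theorem K_le_nQK : K ≤ normalizer (pCoreOf 2 K : Set L) := by
  haveI : Fact (Nat.Prime 2) := ⟨Nat.prime_two⟩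
  exact le_normalizer.trans (Cfsg.Agent.Helper21.le_normalizer_pCoreOf le_rfl)

theorem K_le_of {D : Subgroup L} (hQD : pCoreOf 2 K ≤ D) {x : L} (hxK : x ∈ K)
    (hxQ : x ∉ pCoreOf 2 K) (hxD : x ∈ D) : K ≤ D :=
  le_of_relIndex_prime s.QK_le (by rw [s.idx]; exact Nat.prime_three) hQD hxK hxQ hxD

theorem pow_three_mem {x : L} (hx : x ∈ K) : x ^ 3 ∈ pCoreOf 2 K := by
  have hn : ((pCoreOf 2 K).subgroupOf K).Normal :=
    (Subgroup.normal_subgroupOf_iff_le_normalizer s.QK_le).2 s.K_le_nQK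
  have h3 : (⟨x, hx⟩ : ↥K) ^ ((pCoreOf 2 K).subgroupOf K).index ∈ (pCoreOf 2 K).subgroupOf K :=
    Subgroup.pow_index_mem _ _
  have hidx : ((pCoreOf 2 K).subgroupOf K).index = 3 := s.idx
  rw [hidx, Subgroup.mem_subgroupOf] at h3
  simpa using h3

theorem exists_k : ∃ k ∈ K, k ∉ pCoreOf 2 K ∧ k ^ 3 = 1 := by
  have h1 : ∃ g ∈ K, g ∉ pCoreOf 2 K ∧ Odd (orderOf g) := by
    by_contra hcon
    have hle : K ≤ pCoreOf 2 K := by
      conv_lhs => rw [← s.gen]
      rw [Subgroup.closure_le]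
      rintro g ⟨hgK, hodd⟩
      by_contra hgQ
      exact hcon ⟨g, hgK, hgQ, hodd⟩
    have := Subgroup.relIndex_eq_one.2 hle
    rw [s.idx] at this
    omega
  obtain ⟨g, hgK, hgQ, hodd⟩ := h1
  refine ⟨g, hgK, hgQ, ?_⟩
  apply eq_one_of_odd_of_mem_isPGroup s.QK_isPGroup (s.pow_three_mem hgK)
  exact Odd.of_dvd_nat hodd (orderOf_pow_dvd 3)

/-- `L = Y C`. -/
theorem exists_mul_of_top (x : L) :
    ∃ y ∈ K ⊔ thompsonSubgroupOf 2 (T : Subgroup L), ∃ c ∈ pCore 2 L, y * c = x := by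
  have hx : x ∈ K ⊔ thompsonSubgroupOf 2 (T : Subgroup L) ⊔ pCore 2 L := by
    rw [s.top]; trivial
  exact Subgroup.mem_sup_of_normal_right.1 hx

/-- The image of `K` in `L / C` is subnormal. -/
theorem map_mk_isSubnormal (h : Setting T) :
    (K.map (QuotientGroup.mk' (cOf (T : Subgroup L)))).IsSubnormal := by
  set Y := K ⊔ thompsonSubgroupOf 2 (T : Subgroup L) with hY
  set q := QuotientGroup.mk' (cOf (T : Subgroup L)) with hq
  have hsurj : Function.Surjective (q.comp Y.subtype) := by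
    intro z
    obtain ⟨x, rfl⟩ := QuotientGroup.mk'_surjective (cOf (T : Subgroup L)) z
    obtain ⟨y, hy, c, hc, rfl⟩ := s.exists_mul_of_top x
    refine ⟨⟨y, hy⟩, ?_⟩
    have hc1 : q c = 1 := by
      rw [hq, QuotientGroup.mk'_apply, QuotientGroup.eq_one_iff]
      exact h.Q_le_C hc
    rw [MonoidHom.comp_apply, map_mul, hc1, mul_one]
    rfl
  have h1 := s.sn.map hsurj
  have e : (K.subgroupOf Y).map (q.comp Y.subtype) = K.map q := by
    rw [← Subgroup.map_map, Subgroup.subgroupOf_map_subtype, inf_eq_left.2 (le_sup_left : K ≤ Y)]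
  rwa [e] at h1

/-- `O₂(K) ≤ C`. -/
theorem QK_le_C (h : Setting T) : pCoreOf 2 K ≤ cOf (T : Subgroup L) := by
  set q := QuotientGroup.mk' (cOf (T : Subgroup L)) with hq
  have h1 := s.map_mk_isSubnormal h
  have h2 : ((pCoreOf 2 K).map q).IsSubnormal := by
    apply Subgroup.IsSubnormal.step _ _ (Subgroup.map_mono s.QK_le) h1
    rw [Subgroup.normal_subgroupOf_iff_le_normalizer (Subgroup.map_mono s.QK_le)]
    exact (Subgroup.map_mono s.K_le_nQK).trans (Subgroup.le_normalizer_map _)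
  have h3 : IsPGroup 2 ↥((pCoreOf 2 K).map q) := s.QK_isPGroup.map _
  have h4 := Cfsg.Agent.Helper22.le_pCore_of_isSubnormal h2 h3
  rw [h.pCore_quotient_eq_bot] at h4
  intro x hx
  have : q x ∈ (⊥ : Subgroup (L ⧸ cOf (T : Subgroup L))) := h4 ⟨x, hx, rfl⟩
  rwa [mem_bot, hq, QuotientGroup.mk'_apply, QuotientGroup.eq_one_iff] at this

/-- The image of `K` in `L / C` lies in `O₃(L / C)`. -/
theorem map_mk_le_pCore (h : Setting T) :
    K.map (QuotientGroup.mk' (cOf (T : Subgroup L))) ≤ pCore 3 (L ⧸ cOf (T : Subgroup L)) := by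
  set q := QuotientGroup.mk' (cOf (T : Subgroup L)) with hq
  apply Cfsg.Agent.Helper22.le_pCore_of_isSubnormal (s.map_mk_isSubnormal h)
  rintro ⟨_, ⟨x, hx, rfl⟩⟩
  refine ⟨1, ?_⟩
  apply Subtype.ext
  have h1 : q (x ^ 3) = 1 := by
    rw [hq, QuotientGroup.mk'_apply, QuotientGroup.eq_one_iff]
    exact s.QK_le_C h (s.pow_three_mem hx)
  rw [map_pow] at h1
  show (q x) ^ 3 ^ 1 = 1
  rw [pow_one]
  exact h1

/-- Commutators with elements of `K` have 3-power order modulo `C`. -/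
theorem exists_pow_comm_mem_C (h : Setting T) {k : L} (hk : k ∈ K) (a : L) :
    ∃ m : ℕ, (k * a * k⁻¹ * a⁻¹) ^ 3 ^ m ∈ cOf (T : Subgroup L) := by
  haveI : Fact (Nat.Prime 3) := ⟨Nat.prime_three⟩
  set q := QuotientGroup.mk' (cOf (T : Subgroup L)) with hq
  have hN : (pCore 3 (L ⧸ cOf (T : Subgroup L))).Normal := inferInstance
  have h1 : q k ∈ pCore 3 (L ⧸ cOf (T : Subgroup L)) := s.map_mk_le_pCore h ⟨k, hk, rfl⟩
  have h2 : q (k * a * k⁻¹ * a⁻¹) ∈ pCore 3 (L ⧸ cOf (T : Subgroup L)) := by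
    have e : q (k * a * k⁻¹ * a⁻¹) = q k * (q a * (q k)⁻¹ * (q a)⁻¹) := by
      simp [mul_assoc]
    rw [e]
    exact mul_mem h1 (hN.conj_mem _ (inv_mem h1) _)
  obtain ⟨m, hm⟩ := (Cfsg.Agent.Lib.isPGroup_pCore 3 (G := L ⧸ cOf (T : Subgroup L))) ⟨_, h2⟩
  refine ⟨m, ?_⟩
  have h3 : (q (k * a * k⁻¹ * a⁻¹)) ^ 3 ^ m = 1 := by
    have := congrArg Subtype.val hm
    simpa using this
  rw [← map_pow, hq, QuotientGroup.mk'_apply, QuotientGroup.eq_one_iff] at h3
  exact h3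

end SubHyp

end Cfsg.Agent.Helper49.ZN
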