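import Mathlib
import Cfsg.Agent.Helper49.ZNSub2
import Cfsg.Agent.Helper49.ZNNorm2
import Cfsg.Agent.Helper1.FFOrbit

set_option autoImplicit false
set_option linter.style.haveILetI false

/-!
KS 12.1.5, local part 2 (helper49): the image `κ` of an element `k ∈ K` of order 3 in `L / C`
normalizes every `E_B`; if it centralizes all the planes `[V, E_B]` it centralizes `J(L)C/C`.
-/

namespace Cfsg.Agent.Helper49.ZN

open Cfsg Subgroup
open Cfsg.Agent.Helper1.Hol Cfsg.Agent.Helper1.FF Cfsg.Agent.Helper1.AutInv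
open Cfsg.Agent.Helper49.JComp

/-- In the situation of KS 9.3.7, an element normalizing `E_A` and centralizing `[V, E_A]`
centralizes `E_A`. -/
theorem commute_of_mem_centralizer_UU {G : Type*} [Group G] [Finite G] {V H : Subgroup G}
    (hyp : FFHyp 2 V H) {A : Subgroup G} (hA : IsMinOff 2 V H A) {x : G}
    (hxE : x ∈ normalizer ((EE 2 H A : Subgroup G) : Set G))
    (hxU : x ∈ centralizer ((⁅V, EE 2 H A⁆ : Subgroup G) : Set G)) :
    ∀ e ∈ EE 2 H A, x * e = e * x := by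
  haveI : Fact (Nat.Prime 2) := ⟨Nat.prime_two⟩
  intro e he
  have heN : e ∈ normalizer ((⁅V, EE 2 H A⁆ : Subgroup G) : Set G) :=
    hyp.H_le_normalizer_UU hA (hyp.EE_le hA he)
  have heNC := normalizer_le_normalizer_centralizer _ heN
  have h1 : e * x⁻¹ * e⁻¹ ∈ centralizer ((⁅V, EE 2 H A⁆ : Subgroup G) : Set G) :=
    conj_mem_of_mem_normalizer heNC (inv_mem hxU)
  have h2 : x * e * x⁻¹ * e⁻¹ ∈ centralizer ((⁅V, EE 2 H A⁆ : Subgroup G) : Set G) := by
    have : x * e * x⁻¹ * e⁻¹ = x * (e * x⁻¹ * e⁻¹) := by group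
    rw [this]
    exact mul_mem hxU h1
  have h3 : x * e * x⁻¹ * e⁻¹ ∈ EE 2 H A :=
    mul_mem (conj_mem_of_mem_normalizer hxE he) (inv_mem he)
  have h4 : x * e * x⁻¹ * e⁻¹ ∈ EE 2 H A ⊓ centralizer ((⁅V, EE 2 H A⁆ : Subgroup G) : Set G) :=
    mem_inf.2 ⟨h3, h2⟩
  rw [hyp.EE_inf_centralizer_UU hA, mem_bot] at h4
  have h5 := congrArg (fun y => y * e * x) h4
  simpa [mul_assoc] using h5

variable {L : Type*} [Group L] [Finite L] [Group.IsSolvable L] {T : Sylow 2 L}

/-- Every `E_B` is the `E` of an offender of order 2 coming from `𝒜(T)`. -/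
theorem exists_offData_EE_eq (h : Setting T)
    (hJ : ¬ thompsonSubgroupOf 2 (T : Subgroup L) ≤ pCore 2 L)
    {BB : Subgroup (HolG (vOf (T : Subgroup L)))}
    (hBB : IsMinOff 2 (VV (vOf (T : Subgroup L))) (JH (vOf (T : Subgroup L)) 2) BB) :
    ∃ A a, OffData T A a ∧ EE 2 (JH (vOf (T : Subgroup L)) 2) BB =
      EE 2 (JH (vOf (T : Subgroup L)) 2) (zpowers (pi (vOf (T : Subgroup L)) a)) := by
  obtain ⟨A, BB₁, hA, hBB₁, hle, heq⟩ := mem_eFam_of_isMinOff h hJ hBB
  obtain ⟨A', a, hd, hz⟩ := exists_offData_of_minOff h hJ hA BB₁ hBB₁ hle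
  exact ⟨A', a, hd, by rw [heq, hz]⟩

/-- Basic facts on the image of an offender of order 2. -/
theorem OffData.image_facts (h : Setting T) {A : Subgroup L} {a : L} (hd : OffData T A a) :
    pi (vOf (T : Subgroup L)) a ≠ 1 ∧
      pi (vOf (T : Subgroup L)) a * pi (vOf (T : Subgroup L)) a = 1 ∧
      pi (vOf (T : Subgroup L)) a ∈
        EE 2 (JH (vOf (T : Subgroup L)) 2) (zpowers (pi (vOf (T : Subgroup L)) a)) := by
  refine ⟨?_, ?_, ?_⟩
  · intro h1
    apply hd.not_mem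
    have : a ∈ (pi (vOf (T : Subgroup L))).ker := h1
    rwa [ker_pi] at this
  · have h1 : a ^ 2 = 1 :=
      (Cfsg.Agent.Helper10.isElementaryAbelian_iff.1 hd.maxEA.2.1).2 a hd.mem
    rw [← map_mul, ← pow_two, h1, map_one]
  · unfold EE
    exact Subgroup.mem_sup_right (mem_zpowers _)

namespace SubHyp

variable {K : Subgroup L} (s : SubHyp T K)

include s

/-- The image of `k ∈ K` normalizes `E_a`. -/
theorem pi_mem_normalizer_EE (h : Setting T)
    (hJ : ¬ thompsonSubgroupOf 2 (T : Subgroup L) ≤ pCore 2 L) {A : Subgroup L} {a : L}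
    (hd : OffData T A a) {k : L} (hk : k ∈ K) :
    pi (vOf (T : Subgroup L)) k ∈ normalizer
      ((EE 2 (JH (vOf (T : Subgroup L)) 2) (zpowers (pi (vOf (T : Subgroup L)) a)) :
        Subgroup (HolG (vOf (T : Subgroup L)))) : Set (HolG (vOf (T : Subgroup L)))) := by
  haveI : Fact (Nat.Prime 2) := ⟨Nat.prime_two⟩
  have hyp := h.ffHyp hJ
  set V := vOf (T : Subgroup L) with hV
  set φ := pi V with hφ
  set H := JH V 2 with hH
  set t := φ a with ht
  set κ := φ k with hκ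
  obtain ⟨ht1, htt, htE⟩ := hd.image_facts h
  have hκV : κ ∈ normalizer (VV V : Set (HolG V)) := range_le_normalizer V ⟨k, rfl⟩
  have hκH : κ ∈ normalizer (H : Set (HolG V)) := range_le_normalizer_JH V ⟨k, rfl⟩
  have hBB := hd.minOff
  have hBB' := hyp.minOff_conj hBB hκV hκH
  have hEconj := FFHyp.EE_conj (p := 2) (zpowers t) hκH
  by_contra hnot
  have hne : EE 2 H (zpowers t) ≠ EE 2 H ((zpowers t).map (MulAut.conj κ).toMonoidHom) := by
    intro heq
    apply hnot
    apply mem_normalizer_of_map_conj_eq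
    rw [hEconj, ← heq]
  have hcomm := hyp.commute_EE_of_ne hBB hBB' hne
  have hdisj := hyp.disjoint_EE_of_ne hBB hBB' hne
  have ht' : κ * t * κ⁻¹ ∈ EE 2 H ((zpowers t).map (MulAut.conj κ).toMonoidHom) := by
    rw [← hEconj]
    exact ⟨t, htE, rfl⟩
  have hc := (hcomm t htE _ ht').eq
  set c := κ * t * κ⁻¹ * t⁻¹ with hcdef
  have hcc : c * c = 1 := by
    have e1 : (κ * t * κ⁻¹) * (κ * t * κ⁻¹) = 1 := by
      have : (κ * t * κ⁻¹) * (κ * t * κ⁻¹) = κ * (t * t) * κ⁻¹ := by group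
      rw [this, htt]; group
    have e2 : t⁻¹ = t := inv_eq_of_mul_eq_one_left htt
    rw [hcdef, e2]
    calc κ * t * κ⁻¹ * t * (κ * t * κ⁻¹ * t)
        = κ * t * κ⁻¹ * (t * (κ * t * κ⁻¹)) * t := by group
      _ = κ * t * κ⁻¹ * ((κ * t * κ⁻¹) * t) * t := by rw [hc]
      _ = ((κ * t * κ⁻¹) * (κ * t * κ⁻¹)) * (t * t) := by group
      _ = 1 := by rw [e1, htt, one_mul]
  obtain ⟨m, hm⟩ := s.exists_pow_comm_mem_C h hk a
  have hc3 : c ^ 3 ^ m = 1 := by
    have : c = φ (k * a * k⁻¹ * a⁻¹) := by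
      rw [hcdef, hκ, ht]; simp
    rw [this, ← map_pow]
    have hmem : (k * a * k⁻¹ * a⁻¹) ^ 3 ^ m ∈ φ.ker := by
      rw [hφ, ker_pi]; exact hm
    exact hmem
  have hc1 : c = 1 := by
    have hd1 : orderOf c ∣ 2 := orderOf_dvd_of_pow_eq_one (by rw [pow_two]; exact hcc)
    have hd2 : orderOf c ∣ 3 ^ m := orderOf_dvd_of_pow_eq_one hc3
    have hcop : Nat.Coprime 2 (3 ^ m) := Nat.Coprime.pow_right m (by norm_num)
    have := Nat.dvd_gcd hd1 hd2
    rw [hcop, Nat.dvd_one] at this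
    exact orderOf_eq_one_iff.1 this
  have heq : κ * t * κ⁻¹ = t := by
    have := congrArg (fun y => y * t) hc1
    simpa [hcdef] using this
  rw [heq] at ht'
  apply ht1
  exact (Subgroup.disjoint_def.1 hdisj) htE ht'

/-- The image of `k ∈ K` normalizes the plane `[V, E_a]`. -/
theorem pi_mem_normalizer_UU (h : Setting T)
    (hJ : ¬ thompsonSubgroupOf 2 (T : Subgroup L) ≤ pCore 2 L) {A : Subgroup L} {a : L}
    (hd : OffData T A a) {k : L} (hk : k ∈ K) :
    pi (vOf (T : Subgroup L)) k ∈ normalizer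
      ((⁅VV (vOf (T : Subgroup L)),
        EE 2 (JH (vOf (T : Subgroup L)) 2) (zpowers (pi (vOf (T : Subgroup L)) a))⁆ :
        Subgroup (HolG (vOf (T : Subgroup L)))) : Set (HolG (vOf (T : Subgroup L)))) := by
  have h1 := s.pi_mem_normalizer_EE h hJ hd hk
  have h2 : pi (vOf (T : Subgroup L)) k ∈
      normalizer (VV (vOf (T : Subgroup L)) : Set (HolG (vOf (T : Subgroup L)))) :=
    range_le_normalizer _ ⟨k, rfl⟩
  apply mem_normalizer_of_map_conj_eq
  rw [Subgroup.map_commutator, map_conj_eq_of_mem_normalizer h1, map_conj_eq_of_mem_normalizer h2]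

/-- If the image of `k ∈ K` centralizes all the planes, it centralizes `J(L)C/C`. -/
theorem commute_JH_of_forall (h : Setting T)
    (hJ : ¬ thompsonSubgroupOf 2 (T : Subgroup L) ≤ pCore 2 L) {k : L} (hk : k ∈ K)
    (hall : ∀ A a, OffData T A a → pi (vOf (T : Subgroup L)) k ∈ centralizer
      ((⁅VV (vOf (T : Subgroup L)),
        EE 2 (JH (vOf (T : Subgroup L)) 2) (zpowers (pi (vOf (T : Subgroup L)) a))⁆ :
        Subgroup (HolG (vOf (T : Subgroup L)))) : Set (HolG (vOf (T : Subgroup L))))) :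
    ∀ x ∈ JH (vOf (T : Subgroup L)) 2,
      pi (vOf (T : Subgroup L)) k * x = x * pi (vOf (T : Subgroup L)) k := by
  haveI : Fact (Nat.Prime 2) := ⟨Nat.prime_two⟩
  have hyp := h.ffHyp hJ
  set V := vOf (T : Subgroup L) with hV
  set φ := pi V with hφ
  set H := JH V 2 with hH
  have hle : H ≤ centralizer ({φ k} : Set (HolG V)) := by
    conv_lhs => rw [← hyp.iSup_idx]
    apply iSup_le
    intro i
    obtain ⟨BB, hBB, hi⟩ := exists_minOff_of_idx i
    rw [hi]
    obtain ⟨A, a, hd, heq⟩ := exists_offData_EE_eq h hJ hBB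
    rw [heq]
    intro e he
    rw [S3Count.mem_centralizer_singleton]
    exact commute_of_mem_centralizer_UU hyp hd.minOff (s.pi_mem_normalizer_EE h hJ hd hk)
      (hall A a hd) e he
  intro x hx
  have := hle hx
  rw [S3Count.mem_centralizer_singleton] at this
  exact this

end SubHyp

end Cfsg.Agent.Helper49.ZN
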