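import Mathlib
import Cfsg.Agent.Helper49.ZNSub3

set_option autoImplicit false
set_option linter.style.haveILetI false

/-!
KS 12.1.5, local part 3 (helper49): if the image of `k ∈ K` of order 3 does not centralize a plane
`[V, E_a]`, this plane is (the image of) `W_K`, and `J(T)` normalizes `W_K`.
-/

namespace Cfsg.Agent.Helper49.ZN

open Cfsg Subgroup
open Cfsg.Agent.Helper1.Hol Cfsg.Agent.Helper1.FF Cfsg.Agent.Helper1.AutInv
open Cfsg.Agent.Helper49.JComp

section pre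

variable {L : Type*} [Group L] (V : Subgroup L) [V.Normal]

/-- The preimage in `V ≤ L` of a subgroup of the holomorph. -/
def pre (U : Subgroup (HolG V)) : Subgroup L := (U.comap (iota V)).map V.subtype

theorem mem_pre_iff {U : Subgroup (HolG V)} {x : L} :
    x ∈ pre V U ↔ ∃ w : ↥V, iota V w ∈ U ∧ (w : L) = x := by
  unfold pre
  constructor
  · rintro ⟨w, hw, rfl⟩
    exact ⟨w, hw, rfl⟩
  · rintro ⟨w, hw, rfl⟩
    exact ⟨w, hw, rfl⟩

theorem pre_le (U : Subgroup (HolG V)) : pre V U ≤ V := by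
  intro x hx
  obtain ⟨w, -, rfl⟩ := (mem_pre_iff V).1 hx
  exact w.2

theorem card_pre {U : Subgroup (HolG V)} (hU : U ≤ VV V) : Nat.card (pre V U) = Nat.card U := by
  unfold pre
  rw [Subgroup.card_map_of_injective V.subtype_injective]
  have h1 : (U.comap (iota V)).map (iota V) = U := by
    rw [Subgroup.map_comap_eq, inf_eq_right]
    exact hU
  conv_rhs => rw [← h1]
  rw [Subgroup.card_map_of_injective (iota_injective V)]

theorem comap_normalizer_le_normalizer_pre (U : Subgroup (HolG V)) :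
    (normalizer (U : Set (HolG V))).comap (pi V) ≤ normalizer (pre V U : Set L) := by
  apply le_normalizer_of_conj_mem
  intro g hg x hx
  obtain ⟨w, hw, rfl⟩ := (mem_pre_iff V).1 hx
  rw [mem_pre_iff]
  refine ⟨MulAut.conjNormal g w, ?_, ?_⟩
  · rw [← conj_eq]
    exact conj_mem_of_mem_normalizer hg hw
  · rw [MulAut.conjNormal_apply]

end pre

variable {L : Type*} [Group L] [Finite L] [Group.IsSolvable L] {T : Sylow 2 L}

namespace SubHyp

variable {K : Subgroup L} (s : SubHyp T K)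

include s

/-- Normal 2-subgroups of `Y = ⟨K, J(T)⟩` of the form `Y ∩ N`, `N` normal in `L`, normalize `K`. -/
theorem inf_le_normalizer {N : Subgroup L} [hN : N.Normal] (hN2 : IsPGroup 2 ↥N) :
    (K ⊔ thompsonSubgroupOf 2 (T : Subgroup L)) ⊓ N ≤ normalizer (K : Set L) := by
  apply le_normalizer_of_subnormal le_sup_left s.sn inf_le_left (hN2.to_le inf_le_right) ?_ s.gen
  apply Cfsg.Agent.Helper21.le_normalizer_inf_of_le le_normalizer
  rw [normalizer_eq_top]
  exact le_top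

theorem thompson_le_normalizer_wOf_of_not_mem (h : Setting T)
    (hJ : ¬ thompsonSubgroupOf 2 (T : Subgroup L) ≤ pCore 2 L) {A : Subgroup L} {a : L}
    (hd : OffData T A a) {k : L} (hk : k ∈ K) (hkQ : k ∉ pCoreOf 2 K) (hk3 : k ^ 3 = 1)
    (hkc : pi (vOf (T : Subgroup L)) k ∉ centralizer
      ((⁅VV (vOf (T : Subgroup L)),
        EE 2 (JH (vOf (T : Subgroup L)) 2) (zpowers (pi (vOf (T : Subgroup L)) a))⁆ :
        Subgroup (HolG (vOf (T : Subgroup L)))) : Set (HolG (vOf (T : Subgroup L))))) :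
    thompsonSubgroupOf 2 (T : Subgroup L) ≤ normalizer (wOf K : Set L) := by
  haveI : Fact (Nat.Prime 2) := ⟨Nat.prime_two⟩
  have hyp := h.ffHyp hJ
  set V := vOf (T : Subgroup L) with hV
  set φ := pi V with hφ
  set H := JH V 2 with hH
  set t := φ a with ht
  set κ := φ k with hκ
  set E := EE 2 H (zpowers t) with hE
  set U := ⁅VV V, E⁆ with hU
  set J := thompsonSubgroupOf 2 (T : Subgroup L) with hJdef
  set Y := K ⊔ J with hY
  obtain ⟨ht1, htt, htE⟩ := hd.image_facts h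
  have hUfour : IsFour U := UU_isFour h hJ hd.minOff
  have hκU : κ ∈ normalizer (U : Set (HolG V)) := s.pi_mem_normalizer_UU h hJ hd hk
  have hκ3 : κ ^ 3 = 1 := by rw [hκ, ← map_pow, hk3, map_one]
  have hUV : U ≤ VV V := hyp.UU_le hd.minOff
  have hker : φ.ker = cOf (T : Subgroup L) := ker_pi V
  -- the 2-group `P = Y ∩ V` normalizes `K`
  set P := Y ⊓ V with hP
  have hKY : K ≤ Y := le_sup_left
  have hPK : P ≤ normalizer (K : Set L) := s.inf_le_normalizer h.V_isPGroup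
  have hYP : Y ≤ normalizer (P : Set L) := by
    apply Cfsg.Agent.Helper21.le_normalizer_inf_of_le le_normalizer
    rw [normalizer_eq_top]
    exact le_top
  -- a nontrivial element `u₀ = iota w₀` of `U` with `w₀ ∈ A`
  have htU : t ∉ centralizer (U : Set (HolG V)) := by
    intro htc
    apply ht1
    have : t ∈ E ⊓ centralizer (U : Set (HolG V)) := mem_inf.2 ⟨htE, htc⟩
    rw [hyp.EE_inf_centralizer_UU hd.minOff, mem_bot] at this
    exact this
  have htN : t ∈ normalizer (U : Set (HolG V)) :=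
    hyp.H_le_normalizer_UU hd.minOff (hyp.EE_le hd.minOff htE)
  obtain ⟨u, hu, hut⟩ : ∃ u ∈ U, u * t ≠ t * u := by
    by_contra hcon
    push Not at hcon
    apply htU
    rw [mem_centralizer_iff]
    exact hcon
  obtain ⟨v, hv⟩ := hUV hu
  have hv' : iota V v = u := hv
  set w₀ : ↥V := v * MulAut.conjNormal a v⁻¹ with hw₀
  have hw₀L : (w₀ : L) = (v : L) * (a * (v : L)⁻¹ * a⁻¹) := by
    simp [hw₀, MulAut.conjNormal_apply, mul_assoc]
  have hiw₀ : iota V w₀ = u * (t * u⁻¹ * t⁻¹) := by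
    rw [hw₀, map_mul, ← conj_eq, map_inv, hv']
  have hu₀U : iota V w₀ ∈ U := by
    rw [hiw₀]
    exact mul_mem hu (conj_mem_of_mem_normalizer htN (inv_mem hu))
  have hu₀1 : iota V w₀ ≠ 1 := by
    rw [hiw₀]
    intro h1
    apply hut
    have h2 := congrArg (fun y => y * t * u) h1
    simpa [mul_assoc] using h2
  have ha2 : a * a = 1 := by
    have h1 : a ^ 2 = 1 :=
      (Cfsg.Agent.Helper10.isElementaryAbelian_iff.1 hd.maxEA.2.1).2 a hd.mem
    rwa [pow_two] at h1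
  have hw₀sq : (w₀ : L) * (w₀ : L) = 1 := by
    have := h.sq_eq_one_of_mem_V w₀.2
    rwa [pow_two] at this
  have haw₀ : a * (w₀ : L) = (w₀ : L) * a := by
    have e1 : a * ((v : L) * (a * (v : L)⁻¹ * a⁻¹)) * a⁻¹ =
        ((v : L) * (a * (v : L)⁻¹ * a⁻¹))⁻¹ := by
      calc a * ((v : L) * (a * (v : L)⁻¹ * a⁻¹)) * a⁻¹
          = (a * (v : L) * a⁻¹) * ((a * a) * (v : L)⁻¹ * (a * a)⁻¹) := by group
        _ = (a * (v : L) * a⁻¹) * (v : L)⁻¹ := by rw [ha2]; group
        _ = ((v : L) * (a * (v : L)⁻¹ * a⁻¹))⁻¹ := by group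
    rw [← hw₀L] at e1
    have e2 : (w₀ : L)⁻¹ = (w₀ : L) := inv_eq_of_mul_eq_one_left hw₀sq
    rw [e2] at e1
    calc a * (w₀ : L) = a * (w₀ : L) * a⁻¹ * a := by group
      _ = (w₀ : L) * a := by rw [e1]
  have hQw₀ : ∀ q ∈ pCore 2 L, q * (w₀ : L) = (w₀ : L) * q := by
    intro q hq
    exact mem_centralizer_iff.1 (h.V_le_centralizer_Q w₀.2) q hq
  have hw₀A : (w₀ : L) ∈ A := by
    have hB : V ⊓ centralizer (A : Set L) ≤ A := by
      apply hd.maxEA.le_of_commute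
      · exact inf_le_left.trans (h.V_le_Q.trans h.Q_le_T)
      · exact Cfsg.Agent.Helper10.isElementaryAbelian_mono h.V_isElementaryAbelian inf_le_left
      · intro x hx b hb
        exact (mem_centralizer_iff.1 hb.2 x hx)
    apply hB
    refine mem_inf.2 ⟨w₀.2, ?_⟩
    rw [mem_centralizer_iff]
    intro b hb
    rcases hd.cases b hb with hbQ | hbQ
    · exact hQw₀ b hbQ
    · have e : b = (b * a⁻¹) * a := by group
      rw [e]
      calc b * a⁻¹ * a * (w₀ : L) = b * a⁻¹ * (a * (w₀ : L)) := by group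
        _ = b * a⁻¹ * ((w₀ : L) * a) := by rw [haw₀]
        _ = (b * a⁻¹ * (w₀ : L)) * a := by group
        _ = ((w₀ : L) * (b * a⁻¹)) * a := by rw [hQw₀ _ hbQ]
        _ = (w₀ : L) * (b * a⁻¹ * a) := by group
  have hw₀P : (w₀ : L) ∈ P :=
    mem_inf.2 ⟨le_sup_right (a := K) (hd.maxEA.le_thompson hw₀A), w₀.2⟩
  -- every element of `U` comes from `P`
  have good_conj : ∀ x : HolG V, (∃ w : ↥V, (w : L) ∈ P ∧ iota V w = x) →
      ∃ w : ↥V, (w : L) ∈ P ∧ iota V w = κ * x * κ⁻¹ := by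
    rintro _ ⟨w, hw, rfl⟩
    refine ⟨MulAut.conjNormal k w, ?_, ?_⟩
    · rw [MulAut.conjNormal_apply]
      exact conj_mem_of_mem_normalizer (hYP (hKY hk)) hw
    · rw [hκ, hφ, conj_eq]
  have hu₁U : κ * iota V w₀ * κ⁻¹ ∈ U := conj_mem_of_mem_normalizer hκU hu₀U
  have hu₁1 : κ * iota V w₀ * κ⁻¹ ≠ 1 := by
    intro h1
    apply hu₀1
    have h2 := congrArg (fun y => κ⁻¹ * y * κ) h1
    simpa [mul_assoc] using h2
  have hu₁0 : κ * iota V w₀ * κ⁻¹ ≠ iota V w₀ := by
    intro h1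
    exact hu₀1 (hUfour.eq_one_of_conj_eq_of_pow_three hκU hκ3 hkc hu₀U h1)
  have hgood : ∀ x ∈ U, ∃ w : ↥V, (w : L) ∈ P ∧ iota V w = x := by
    intro x hx
    obtain ⟨w₁, hw₁, hw₁e⟩ := good_conj _ ⟨w₀, hw₀P, rfl⟩
    by_cases hx1 : x = 1
    · exact ⟨1, one_mem _, by rw [map_one, hx1]⟩
    by_cases hx0 : x = iota V w₀
    · exact ⟨w₀, hw₀P, hx0.symm⟩
    rcases hUfour.eq_or_eq_mul hu₀U hu₀1 hu₁U hx hu₁1 hu₁0 hx1 hx0 with h1 | h1
    · exact ⟨w₁, hw₁, by rw [hw₁e, h1]⟩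
    · refine ⟨w₀ * w₁, mul_mem hw₀P hw₁, ?_⟩
      rw [map_mul, hw₁e, h1]
  -- every element of `U` is a commutator with `k` of an element of `U`, and lies in `K`
  have hcomm : ∀ x ∈ U, ∃ w' : ↥V, iota V w' ∈ U ∧ (w' : L) ∈ P ∧
      iota V (w' * MulAut.conjNormal k w'⁻¹) = x := by
    intro x hx
    obtain ⟨u', hu', hxu'⟩ := hUfour.exists_comm_eq_of_pow_three hκU hκ3 hkc hx
    obtain ⟨w', hw'P, hw'⟩ := hgood u' hu'
    refine ⟨w', by rw [hw']; exact hu', hw'P, ?_⟩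
    rw [map_mul, ← conj_eq, map_inv, hw', hxu', hκ, hφ]
    group
  have hcoe : ∀ w' : ↥V, ((w' * MulAut.conjNormal k w'⁻¹ : ↥V) : L) =
      (w' : L) * k * (w' : L)⁻¹ * k⁻¹ := by
    intro w'
    simp [MulAut.conjNormal_apply, mul_assoc]
  set Ũ := pre V U with hŨ
  have hŨK : Ũ ≤ K := by
    intro x hx
    obtain ⟨w, hw, rfl⟩ := (mem_pre_iff V).1 hx
    obtain ⟨w', -, hw'P, hw'e⟩ := hcomm _ hw
    have := iota_injective V hw'e
    rw [← this, hcoe]
    exact mul_mem (conj_mem_of_mem_normalizer (hPK hw'P) hk) (inv_mem hk)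
  have hŨV : Ũ ≤ V := pre_le V U
  have hCle : cOf (T : Subgroup L) ≤ (normalizer (U : Set (HolG V))).comap φ := by
    intro c hc
    rw [mem_comap]
    have : φ c = 1 := by
      rw [← MonoidHom.mem_ker, hker]; exact hc
    rw [this]; exact one_mem _
  have hKŨ : K ≤ normalizer (Ũ : Set L) := by
    refine le_trans ?_ (comap_normalizer_le_normalizer_pre V U)
    exact s.K_le_of ((s.QK_le_C h).trans hCle) hk hkQ hκU
  have hŨQ : Ũ ≤ pCoreOf 2 K :=
    Cfsg.Agent.Helper46.le_pCoreOf hŨK (h.V_isPGroup.to_le hŨV) hKŨ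
  have hŨΩ : Ũ ≤ omegaCenterOf (pCoreOf 2 K) := by
    intro x hx
    rw [mem_omegaCenterOf_iff]
    refine ⟨hŨQ hx, ?_, h.sq_eq_one_of_mem_V (hŨV hx)⟩
    rw [mem_centralizer_iff]
    intro q hq
    have hqC : q ∈ centralizer (V : Set L) := s.QK_le_C h hq
    exact (mem_centralizer_iff.1 hqC x (hŨV hx)).symm
  have hŨW : Ũ ≤ wOf K := by
    intro x hx
    obtain ⟨w, hw, rfl⟩ := (mem_pre_iff V).1 hx
    obtain ⟨w', hw'U, -, hw'e⟩ := hcomm _ hw
    have := iota_injective V hw'e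
    rw [← this, hcoe]
    have hw'Ũ : (w' : L) ∈ Ũ := (mem_pre_iff V).2 ⟨w', hw'U, rfl⟩
    have := Subgroup.commutator_mem_commutator (hŨΩ hw'Ũ) hk
    rw [commutatorElement_def] at this
    exact this
  have hŨeq : Ũ = wOf K := by
    apply Subgroup.eq_of_le_of_card_ge hŨW
    rw [hŨ, card_pre V hUV, hUfour.card, s.four.card]
  rw [← hŨeq]
  refine le_trans ?_ (comap_normalizer_le_normalizer_pre V U)
  intro j hj
  rw [mem_comap]
  apply hyp.H_le_normalizer_UU hd.minOff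
  exact ⟨j, Setting.J_le_thompson T hj, rfl⟩

end SubHyp

end Cfsg.Agent.Helper49.ZN
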