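import Mathlib
import Cfsg.Agent.Helper49.ZNSub4

set_option autoImplicit false
set_option linter.style.haveILetI false

/-!
KS 12.1.5, local theorem (helper49): in `L = ⟨K, J(T)⟩ O₂(L)`, with `K` subnormal in `⟨K, J(T)⟩`,
generated by elements of odd order, `|K : O₂(K)| = 3` and `W_K` a four-group, `J(T)` normalizes
`W_K`.
-/

namespace Cfsg.Agent.Helper49.ZN

open Cfsg Subgroup
open Cfsg.Agent.Helper1.Hol Cfsg.Agent.Helper1.FF Cfsg.Agent.Helper1.AutInv
open Cfsg.Agent.Helper49.JComp
open scoped commutatorElement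

/-- `N_G(K) ≤ N_G(W_K)`. -/
theorem normalizer_le_normalizer_wOf {G : Type*} [Group G] [Finite G] (K : Subgroup G) :
    normalizer (K : Set G) ≤ normalizer (wOf K : Set G) := by
  haveI : Fact (Nat.Prime 2) := ⟨Nat.prime_two⟩
  unfold wOf
  apply le_normalizer_commutator_of_le _ le_rfl
  exact (Cfsg.Agent.Helper21.le_normalizer_pCoreOf le_rfl).trans
    (normalizer_le_normalizer_omegaCenterOf _)

variable {L : Type*} [Group L] [Finite L] [Group.IsSolvable L] {T : Sylow 2 L}

namespace SubHyp

variable {K : Subgroup L} (s : SubHyp T K)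

include s

/-- If `[K, J(T)] ≤ C` then `J(T)` normalizes `K`. -/
theorem thompson_le_normalizer_of_comm_le (h : Setting T)
    (hC : ∀ x ∈ K, ∀ j ∈ thompsonSubgroupOf 2 (T : Subgroup L),
      x⁻¹ * (j * x * j⁻¹) ∈ cOf (T : Subgroup L)) :
    thompsonSubgroupOf 2 (T : Subgroup L) ≤ normalizer (K : Set L) := by
  set J := thompsonSubgroupOf 2 (T : Subgroup L) with hJdef
  set Y := K ⊔ J with hY
  set C := cOf (T : Subgroup L) with hCdef
  have hJT : J ≤ (T : Subgroup L) := thompsonSubgroupOf_le 2 _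
  have hQ : ∀ x ∈ K, ∀ j ∈ J, x⁻¹ * (j * x * j⁻¹) ∈ pCore 2 L := by
    intro x hx j hj
    set π := QuotientGroup.mk' (pCore 2 L) with hπ
    have hker : ∀ y : L, π y = 1 ↔ y ∈ pCore 2 L := by
      intro y
      rw [hπ, QuotientGroup.mk'_apply, QuotientGroup.eq_one_iff]
    have key : π j * π x * (π j)⁻¹ = π x := by
      apply conj_eq_of_mem (C := C.map π)
      · rintro _ ⟨c, hc, rfl⟩ hcc
        rw [← map_mul, hker] at hcc
        rw [hker]
        exact mem_pCore_of_mul_self_mem h hc hcc
      · rintro _ ⟨c, hc, rfl⟩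
        have h1 : ⁅c, j⁆ ∈ pCore 2 L :=
          h.comm_C_T_le (Subgroup.commutator_mem_commutator hc (hJT hj))
        rw [← hker, commutatorElement_def] at h1
        have h2 := congrArg (fun y => y * π j * π c) h1
        simp only [map_mul, map_inv] at h2
        have h3 : π c * π j = π j * π c := by simpa [mul_assoc] using h2
        exact h3.symm
      · obtain ⟨n, hn⟩ := T.2 ⟨j, hJT hj⟩
        refine ⟨n, ?_⟩
        have h1 : j ^ 2 ^ n = 1 := by
          have := congrArg Subtype.val hn
          simpa using this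
        rw [← map_pow, h1, map_one]
      · refine ⟨x⁻¹ * (j * x * j⁻¹), hC x hx j hj, ?_⟩
        simp only [map_mul, map_inv]
    rw [← hker]
    simp only [map_mul, map_inv]
    rw [key]
    group
  have hYP : Y ≤ normalizer ((Y ⊓ pCore 2 L : Subgroup L) : Set L) := by
    apply Cfsg.Agent.Helper21.le_normalizer_inf_of_le le_normalizer
    rw [normalizer_eq_top]
    exact le_top
  apply le_normalizer_of_conj_mem_sup (Y := Y) (P := Y ⊓ pCore 2 L) le_sup_left s.sn inf_le_left
    ((Cfsg.Agent.Lib.isPGroup_pCore 2).to_le inf_le_right) hYP s.gen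
  intro j hj x hx
  have e : j * x * j⁻¹ = x * (x⁻¹ * (j * x * j⁻¹)) := by group
  rw [e]
  refine mul_mem (Subgroup.mem_sup_left hx) (Subgroup.mem_sup_right (mem_inf.2 ⟨?_, hQ x hx j hj⟩))
  have hxY : x ∈ Y := Subgroup.mem_sup_left hx
  have hjY : j ∈ Y := Subgroup.mem_sup_right hj
  exact mul_mem (inv_mem hxY) (mul_mem (mul_mem hjY hxY) (inv_mem hjY))

/-- The local theorem. -/
theorem thompson_le_normalizer_wOf (h : Setting T)
    (hJ : ¬ thompsonSubgroupOf 2 (T : Subgroup L) ≤ pCore 2 L) :
    thompsonSubgroupOf 2 (T : Subgroup L) ≤ normalizer (wOf K : Set L) := by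
  obtain ⟨k, hk, hkQ, hk3⟩ := s.exists_k
  by_cases hall : ∀ A a, OffData T A a → pi (vOf (T : Subgroup L)) k ∈ centralizer
      ((⁅VV (vOf (T : Subgroup L)),
        EE 2 (JH (vOf (T : Subgroup L)) 2) (zpowers (pi (vOf (T : Subgroup L)) a))⁆ :
        Subgroup (HolG (vOf (T : Subgroup L)))) : Set (HolG (vOf (T : Subgroup L))))
  · have hcomm := s.commute_JH_of_forall h hJ hk hall
    set V := vOf (T : Subgroup L) with hV
    set φ := pi V with hφ
    set J := thompsonSubgroupOf 2 (T : Subgroup L) with hJdef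
    have hker : φ.ker = cOf (T : Subgroup L) := ker_pi V
    have hKD : K ≤ (centralizer ((J.map φ : Subgroup (HolG V)) : Set (HolG V))).comap φ := by
      apply s.K_le_of _ hk hkQ
      · rw [mem_comap, mem_centralizer_iff]
        rintro _ ⟨j, hj, rfl⟩
        exact (hcomm (φ j) ⟨j, Setting.J_le_thompson T hj, rfl⟩).symm
      · intro q hq
        rw [mem_comap]
        have : φ q = 1 := by
          rw [← MonoidHom.mem_ker, hker]; exact s.QK_le_C h hq
        rw [this]; exact one_mem _
    refine le_trans ?_ (normalizer_le_normalizer_wOf K)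
    apply s.thompson_le_normalizer_of_comm_le h
    intro x hx j hj
    rw [← hker, MonoidHom.mem_ker]
    have h1 := mem_centralizer_iff.1 (hKD hx) (φ j) ⟨j, hj, rfl⟩
    simp only [map_mul, map_inv]
    rw [h1]
    group
  · push Not at hall
    obtain ⟨A, a, hd, hkc⟩ := hall
    exact s.thompson_le_normalizer_wOf_of_not_mem h hJ hd hk hkQ hk3 hkc

end SubHyp

end Cfsg.Agent.Helper49.ZN
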