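import Mathlib
import Cfsg.Agent.Helper49.ZNSub5
import Cfsg.Agent.Helper49.ZNNorm4

set_option autoImplicit false
set_option linter.style.haveILetI false

/-!
KS 12.1.5, global form (helper49): for `L ∈ jOvergroups T` and `K ≤ L` subnormal in `⟨K, J(T)⟩`,
generated by elements of odd order, with `|K : O₂(K)| = 3` and `W_K` a four-group, `J(T)`
normalizes `W_K`.
-/

namespace Cfsg.Agent.Helper49.ZN

open Cfsg Subgroup
open Cfsg.Agent.Helper49.JComp Cfsg.Agent.Helper49.JMono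

variable {G : Type*} [Group G] [Finite G]

/-- The case `L = ⟨K, J(T)⟩ O₂(L)`. -/
theorem thompson_le_normalizer_wOf_of_top
    (hN : ∀ N : Subgroup G, IsTwoLocal N → Group.IsSolvable ↥N)
    (hZ : ∀ S : Sylow 2 G, Subgroup.centralizer (omegaCenterOf (S : Subgroup G) : Set G) ≤
      Subgroup.normalizer ((S : Subgroup G) : Set G))
    {T : Subgroup G} (hT1 : T ≠ ⊥) {L : Subgroup G} (hLT : L ∈ jOvergroups T)
    {K : Subgroup G} (hKL : K ≤ L)
    (hgen : closure {g : G | g ∈ K ∧ Odd (orderOf g)} = K)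
    (hidx : (pCoreOf 2 K).relIndex K = 3) (hfour : IsFour (wOf K))
    (hsn : (K.subgroupOf (K ⊔ thompsonSubgroupOf 2 T)).IsSubnormal)
    (htop : K ⊔ thompsonSubgroupOf 2 T ⊔ pCoreOf 2 L = L) :
    thompsonSubgroupOf 2 T ≤ normalizer (wOf K : Set G) := by
  obtain ⟨hsolv, hset⟩ := setting_of_mem_jOvergroups hN hZ hT1 hLT
  haveI := hsolv
  have hJ' := thompson_not_le_pCore hLT
  have hcoe : ((sylowOf hLT.1 : Sylow 2 ↥L) : Subgroup ↥L) = T.subgroupOf L := coe_sylowOf hLT.1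
  have hf : Function.Injective L.subtype := L.subtype_injective
  have hTL : T ≤ L := hLT.1.1
  have hKh : (K.subgroupOf L).map L.subtype = K := by
    rw [Subgroup.subgroupOf_map_subtype, inf_eq_left.2 hKL]
  have hJh : (thompsonSubgroupOf 2 ((sylowOf hLT.1 : Sylow 2 ↥L) : Subgroup ↥L)).map L.subtype =
      thompsonSubgroupOf 2 T := by
    rw [hcoe, ← JTransfer.thompson_map L.subtype hf, Subgroup.subgroupOf_map_subtype,
      inf_eq_left.2 hTL]
  have hYh : (K.subgroupOf L ⊔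
      thompsonSubgroupOf 2 ((sylowOf hLT.1 : Sylow 2 ↥L) : Subgroup ↥L)).map L.subtype =
      K ⊔ thompsonSubgroupOf 2 T := by
    rw [Subgroup.map_sup, hKh, hJh]
  have hW : (wOf (K.subgroupOf L)).map L.subtype = wOf K := by
    rw [← JTransfer.wOf_map L.subtype hf, hKh]
  have s : SubHyp (sylowOf hLT.1) (K.subgroupOf L) := by
    refine ⟨?_, ?_, ⟨?_, ?_⟩, ?_, ?_⟩
    · apply Subgroup.map_injective hf
      rw [← JTransfer.odd_closure_map L.subtype hf, hKh]
      exact hgen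
    · rw [← hidx]
      conv_rhs => rw [← hKh, JTransfer.pCoreOf_map L.subtype hf,
        Subgroup.relIndex_map_map_of_injective _ _ hf]
    · rw [← hfour.card, ← hW, Subgroup.card_map_of_injective hf]
    · intro w hw
      apply hf
      rw [map_mul, map_one]
      apply hfour.sq
      rw [← hW]
      exact ⟨w, hw, rfl⟩
    · set Yh := K.subgroupOf L ⊔
        thompsonSubgroupOf 2 ((sylowOf hLT.1 : Sylow 2 ↥L) : Subgroup ↥L) with hYhdef
      have hmem : ∀ x : ↥Yh, L.subtype (Yh.subtype x) ∈ K ⊔ thompsonSubgroupOf 2 T := by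
        intro x
        rw [← hYh]
        exact ⟨x.1, x.2, rfl⟩
      set ψ : ↥Yh →* ↥(K ⊔ thompsonSubgroupOf 2 T) :=
        (L.subtype.comp Yh.subtype).codRestrict (K ⊔ thompsonSubgroupOf 2 T) hmem with hψ
      have h1 := hsn.comap ψ
      have e : (K.subgroupOf (K ⊔ thompsonSubgroupOf 2 T)).comap ψ =
          (K.subgroupOf L).subgroupOf Yh := by
        ext x
        simp only [mem_comap, mem_subgroupOf]
        rfl
      rwa [e] at h1
    · have h1 : (K ⊔ thompsonSubgroupOf 2 T ⊔ pCoreOf 2 L).subgroupOf L = ⊤ := by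
        rw [htop]; exact Subgroup.subgroupOf_self L
      rw [← hYh] at h1
      have h3 : ((K.subgroupOf L ⊔
          thompsonSubgroupOf 2 ((sylowOf hLT.1 : Sylow 2 ↥L) : Subgroup ↥L) ⊔
            pCore 2 ↥L).map L.subtype).subgroupOf L = ⊤ := by
        rw [Subgroup.map_sup]
        exact h1
      rw [← h3]
      unfold Subgroup.subgroupOf
      rw [Subgroup.comap_map_eq_self_of_injective hf]
  have hfin := s.thompson_le_normalizer_wOf hset hJ'
  rw [← hJh, ← hW]
  exact (Subgroup.map_mono hfin).trans (Subgroup.le_normalizer_map _)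

/-- KS 12.1.5, in the form `J(T) ≤ N_G(W_K)`. -/
theorem thompson_le_normalizer_wOf_of_subnormal
    (hN : ∀ N : Subgroup G, IsTwoLocal N → Group.IsSolvable ↥N)
    (hZ : ∀ S : Sylow 2 G, Subgroup.centralizer (omegaCenterOf (S : Subgroup G) : Set G) ≤
      Subgroup.normalizer ((S : Subgroup G) : Set G))
    {T : Subgroup G} (hT : IsPGroup 2 ↥T) (hT1 : T ≠ ⊥) {L : Subgroup G}
    (hLT : L ∈ jOvergroups T) {K : Subgroup G} (hKL : K ≤ L)
    (hgen : closure {g : G | g ∈ K ∧ Odd (orderOf g)} = K)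
    (hidx : (pCoreOf 2 K).relIndex K = 3) (hfour : IsFour (wOf K))
    (hsn : (K.subgroupOf (K ⊔ thompsonSubgroupOf 2 T)).IsSubnormal) :
    thompsonSubgroupOf 2 T ≤ normalizer (wOf K : Set G) := by
  haveI : Fact (Nat.Prime 2) := ⟨Nat.prime_two⟩
  set J := thompsonSubgroupOf 2 T with hJdef
  set Y := K ⊔ J with hY
  set Q := pCoreOf 2 L with hQ
  set L₄ := Y ⊔ Q with hL₄
  have hJT : J ≤ T := thompsonSubgroupOf_le 2 T
  have hTL : T ≤ L := hLT.1.1
  have hQT : Q ≤ T := pCoreOf_le_of_isSylowTwoIn hLT.1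
  have hQ2 : IsPGroup 2 ↥Q := hT.to_le hQT
  have hYL : Y ≤ L := sup_le hKL (hJT.trans hTL)
  have hL₄L : L₄ ≤ L := sup_le hYL (hQT.trans hTL)
  have hJQ : J ⊔ Q ≤ L₄ := sup_le (le_sup_right.trans le_sup_left) le_sup_right
  obtain ⟨T₄, hT₄syl, hJQT₄⟩ := exists_isSylowOf_ge (hT.to_le (sup_le hJT hQT)) hJQ
  have hT₄2 : IsPGroup 2 ↥T₄ := hT₄syl.2.1
  obtain ⟨S, hSsyl, hT₄S⟩ := exists_isSylowOf_ge hT₄2 (hT₄syl.1.trans hL₄L)
  have hTsyl : IsSylowOf 2 T L := isSylowOf_iff_isSylowTwoIn.2 hLT.1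
  obtain ⟨m, hmL, hmS⟩ := hTsyl.exists_conj hSsyl
  have hSeq : S = T.map (MulAut.conj m⁻¹).toMonoidHom := by
    rw [← hmS]; rfl
  have hJT₄le : J ≤ T₄ := le_sup_left.trans hJQT₄
  have hJS : thompsonSubgroupOf 2 S = J := by
    rw [hSeq]
    apply thompson_conj_eq_of_le
    rw [← hSeq]
    exact hJT₄le.trans hT₄S
  have hJT₄ : thompsonSubgroupOf 2 T₄ = J := by
    rw [← hJS]
    apply thompson_eq_of_between hT₄S
    rw [hJS]
    exact hJT₄le
  have hQL₄ : Q ≤ pCoreOf 2 L₄ :=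
    Cfsg.Agent.Helper46.le_pCoreOf le_sup_right hQ2
      (hL₄L.trans (Cfsg.Agent.Helper46.pCoreOf_normalized L))
  by_cases hJle : J ≤ pCoreOf 2 L₄
  · have hP : pCoreOf 2 L₄ ⊓ Y ≤ normalizer (K : Set G) := by
      apply le_normalizer_of_subnormal (Y := Y) le_sup_left hsn inf_le_right
        ((Cfsg.Agent.Helper46.pCoreOf_isPGroup L₄).to_le inf_le_left) _ hgen
      exact Cfsg.Agent.Helper21.le_normalizer_inf_of_le
        ((le_sup_left : Y ≤ L₄).trans (Cfsg.Agent.Helper46.pCoreOf_normalized L₄)) le_normalizer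
    exact ((le_inf hJle le_sup_right).trans hP).trans (normalizer_le_normalizer_wOf K)
  · have hL₄T₄ : L₄ ∈ jOvergroups T₄ := by
      refine ⟨isSylowOf_iff_isSylowTwoIn.1 hT₄syl, ?_, ?_⟩
      · rw [hJT₄]; exact hJle
      · exact (Subgroup.centralizer_le hQL₄).trans (hLT.2.2.trans hQL₄)
    have hT₄1 : T₄ ≠ ⊥ := by
      intro hb
      apply thompson_ne_bot hT hT1
      rw [eq_bot_iff, ← hb]
      exact hJT₄le
    have htop : K ⊔ thompsonSubgroupOf 2 T₄ ⊔ pCoreOf 2 L₄ = L₄ := by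
      rw [hJT₄]
      apply le_antisymm
      · exact sup_le le_sup_left (Cfsg.Agent.Helper46.pCoreOf_le L₄)
      · exact sup_le_sup_left hQL₄ _
    have := thompson_le_normalizer_wOf_of_top hN hZ hT₄1 hL₄T₄ (K := K)
      (le_sup_left.trans (le_sup_left : Y ≤ L₄)) hgen hidx hfour (by rw [hJT₄]; exact hsn) htop
    rwa [hJT₄] at this

end Cfsg.Agent.Helper49.ZN
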