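import Mathlib
import Cfsg.Agent.Helper49.ZNNorm4
import Cfsg.Agent.Helper49.ZNGen2

set_option autoImplicit false
set_option linter.style.haveILetI false

/-!
KS 12.1.8: uniqueness of the maximal 2-local subgroup containing `⟨K, J(T)⟩` (helper49).
-/

namespace Cfsg.Agent.Helper49.ZN

open Cfsg Subgroup
open Cfsg.Agent.Helper49.JComp

variable {G : Type*} [Group G]

/-- A subgroup permuting a family of subgroups normalizes its join. -/
theorem le_normalizer_sSup_of_perm {𝒞 : Set (Subgroup G)} {H : Subgroup G}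
    (h : ∀ x ∈ H, ∀ E ∈ 𝒞, E.map (MulAut.conj x).toMonoidHom ∈ 𝒞) :
    H ≤ normalizer ((sSup 𝒞 : Subgroup G) : Set G) := by
  apply le_normalizer_of_conj_mem
  intro x hx y hy
  have h1 : sSup 𝒞 ≤ (sSup 𝒞).comap (MulAut.conj x).toMonoidHom := by
    apply sSup_le
    intro E hE e he
    rw [mem_comap]
    have h2 : E.map (MulAut.conj x).toMonoidHom ≤ sSup 𝒞 := le_sSup (h x hx E hE)
    exact h2 ⟨e, he, rfl⟩
  have h3 := h1 hy
  rw [mem_comap] at h3
  simpa [MulAut.conj_apply] using h3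

/-- A subgroup normalizing every member of a family normalizes its join. -/
theorem le_normalizer_sSup {𝒞 : Set (Subgroup G)} {H : Subgroup G}
    (h : ∀ E ∈ 𝒞, H ≤ normalizer (E : Set G)) :
    H ≤ normalizer ((sSup 𝒞 : Subgroup G) : Set G) := by
  apply le_normalizer_sSup_of_perm
  intro x hx E hE
  rw [Cfsg.Agent.Helper1.FF.map_conj_eq_of_mem_normalizer (h E hE hx)]
  exact hE

theorem map_conj_mul (K : Subgroup G) (a b : G) :
    (K.map (MulAut.conj b).toMonoidHom).map (MulAut.conj a).toMonoidHom =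
      K.map (MulAut.conj (a * b)).toMonoidHom := by
  rw [Subgroup.map_map]
  congr 1
  ext x
  simp [MulAut.conj_apply, mul_assoc]

theorem map_conj_one (K : Subgroup G) : K.map (MulAut.conj (1 : G)).toMonoidHom = K := by
  ext x
  simp [MulAut.conj_apply]

/-- Conjugation by an element of `N_G(J(T))` preserves `J(T)`-components. -/
theorem isJComponent_map_conj_of_mem_normalizer {T K : Subgroup G} {n : G}
    (hn : n ∈ normalizer (thompsonSubgroupOf 2 T : Set G)) (hK : IsJComponent T K) :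
    IsJComponent T (K.map (MulAut.conj n).toMonoidHom) := by
  set f : G →* G := (MulAut.conj n).toMonoidHom with hf
  have hfinj : Function.Injective f := (MulAut.conj n).injective
  have hJf : thompsonSubgroupOf 2 (T.map f) = thompsonSubgroupOf 2 T := by
    rw [JTransfer.thompson_map f hfinj]
    exact Cfsg.Agent.Helper1.FF.map_conj_eq_of_mem_normalizer hn
  exact (isJComponent_congr hJf).1 ((JTransfer.isJComponent_map_iff f hfinj T K).2 hK)

variable [Finite G]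

/-- Every 2-local subgroup lies in a maximal 2-local subgroup. -/
theorem exists_isMaximalTwoLocal_ge {N : Subgroup G} (hN : IsTwoLocal N) :
    ∃ L, IsMaximalTwoLocal L ∧ N ≤ L := by
  obtain ⟨L, hNL, hL⟩ := Finite.exists_le_maximal (p := fun X : Subgroup G => IsTwoLocal X) hN
  exact ⟨L, ⟨hL.1, fun N' hN' hLN' => le_antisymm (hL.2 hN' hLN') hLN'⟩, hNL⟩

/-- Distinct `J(T)`-components of `L ∈ 𝓛(T)` normalize each other (global form). -/
theorem le_normalizer_of_ne_global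
    (hN : ∀ N : Subgroup G, IsTwoLocal N → Group.IsSolvable ↥N)
    (hZ : ∀ S : Sylow 2 G, Subgroup.centralizer (omegaCenterOf (S : Subgroup G) : Set G) ≤
      Subgroup.normalizer ((S : Subgroup G) : Set G))
    {T : Subgroup G} (hT1 : T ≠ ⊥) {L : Subgroup G} (hLT : L ∈ jOvergroups T)
    {K₁ K₂ : Subgroup G} (hK₁ : IsJComponent T K₁) (hK₂ : IsJComponent T K₂) (h₁ : K₁ ≤ L)
    (h₂ : K₂ ≤ L) : K₂ ≤ normalizer (K₁ : Set G) := by
  by_cases hne : K₁ = K₂
  · rw [hne]; exact le_normalizer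
  obtain ⟨hsolv, hset⟩ := setting_of_mem_jOvergroups hN hZ hT1 hLT
  haveI := hsolv
  have hJ' := thompson_not_le_pCore hLT
  have hK₁' : IsJComponent ((sylowOf hLT.1 : Sylow 2 ↥L) : Subgroup ↥L) (K₁.subgroupOf L) := by
    rw [coe_sylowOf, JTransfer.isJComponent_subgroupOf_iff hLT.1.1 h₁]; exact hK₁
  have hK₂' : IsJComponent ((sylowOf hLT.1 : Sylow 2 ↥L) : Subgroup ↥L) (K₂.subgroupOf L) := by
    rw [coe_sylowOf, JTransfer.isJComponent_subgroupOf_iff hLT.1.1 h₂]; exact hK₂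
  have hne' : K₁.subgroupOf L ≠ K₂.subgroupOf L := by
    intro heq
    apply hne
    rw [Subgroup.subgroupOf_inj, inf_eq_left.2 h₁, inf_eq_left.2 h₂] at heq
    exact heq
  have hmain := le_normalizer_of_ne hset hJ' hK₁' hK₂' hne'
  apply le_normalizer_of_conj_mem
  intro x hx k hk
  have hx' : (⟨x, h₂ hx⟩ : ↥L) ∈ normalizer ((K₁.subgroupOf L : Subgroup ↥L) : Set ↥L) :=
    hmain (mem_subgroupOf.2 hx)
  have := (mem_normalizer_iff.1 hx' ⟨k, h₁ hk⟩).1 (mem_subgroupOf.2 hk)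
  exact mem_subgroupOf.1 this

section straddle

variable (hL : IsCharacteristicTwoType G) (S : Sylow 2 G) {M : Subgroup G}
  (hMJ : normalizer (thompsonSubgroupOf 2 (S : Subgroup G) : Set G) ≤ M) {T : Subgroup G}
  (hT : T ∈ maxStraddlingTwoSubgroups M)

include hL S hMJ hT in
/-- A 2-local subgroup outside `M` containing `J(T)` belongs to `𝓛(T₁)` for a Sylow 2-subgroup
`T₁` with `J(T₁) = J(T)`. -/
theorem exists_sylow_ge_thompson {L₁ : Subgroup G} (hL₁ : IsTwoLocal L₁) (hL₁M : ¬ L₁ ≤ M)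
    (hJL : thompsonSubgroupOf 2 T ≤ L₁) :
    ∃ T₁, thompsonSubgroupOf 2 T₁ = thompsonSubgroupOf 2 T ∧ L₁ ∈ jOvergroups T₁ ∧ T₁ ≠ ⊥ := by
  haveI : Fact (Nat.Prime 2) := ⟨Nat.prime_two⟩
  obtain ⟨hT2, hT1, -, -⟩ := hT.1
  have hJ2 : IsPGroup 2 ↥(thompsonSubgroupOf 2 T) := hT2.to_le (JComp.thompsonSubgroupOf_le 2 T)
  obtain ⟨T₁, hsyl, hJT₁⟩ := exists_isSylowOf_ge hJ2 hJL
  have hT₁ : IsSylowTwoIn T₁ L₁ := isSylowOf_iff_isSylowTwoIn.1 hsyl
  refine ⟨T₁, (straddle_of_sylow S hMJ hT hL₁ hL₁M hT₁ hJT₁).1,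
    mem_jOvergroups_of_sylow hL S hMJ hT hL₁ hL₁M hT₁ hJT₁, ?_⟩
  intro hbot
  apply thompson_ne_bot hT2 hT1
  rw [eq_bot_iff, ← hbot]
  exact hJT₁

include S hMJ hT in
/-- A `J(T)`-component outside `M` belongs to `𝒦₀(T)`. -/
theorem mem_jComponentsZero_of_not_le {K : Subgroup G} (hK : IsJComponent T K) (hKM : ¬ K ≤ M) :
    K ∈ jComponentsZero T := by
  obtain ⟨hT2, -, -, -⟩ := hT.1
  have hdata := data_of_isJComponent hT2 hK
  refine ⟨hK, ?_⟩
  intro S' hJS' hS'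
  have hXloc : IsTwoLocal (normalizer (wOf K : Set G)) :=
    ⟨wOf K, hdata.W_isPGroup, hdata.W_ne_bot, rfl⟩
  have hKX : K ≤ normalizer (wOf K : Set G) := le_normalizer.trans hdata.nK_le_nW
  have hXM : ¬ normalizer (wOf K : Set G) ≤ M := fun hc => hKM (hKX.trans hc)
  exact (straddle_of_sylow S hMJ hT hXloc hXM hS' hJS').1

end straddle

/-- `O₂` of the join of a family of pairwise normalizing `J`-components is nontrivial. -/
theorem pCoreOf_sSup_ne_bot {K J : Subgroup G} (d : Data K J) {𝒞 : Set (Subgroup G)}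
    (hK𝒞 : K ∈ 𝒞) (hnorm : ∀ E ∈ 𝒞, E ≤ normalizer (K : Set G)) :
    pCoreOf 2 (sSup 𝒞) ≠ ⊥ := by
  haveI : Fact (Nat.Prime 2) := ⟨Nat.prime_two⟩
  have hKle : K ≤ sSup 𝒞 := le_sSup hK𝒞
  have hNK : sSup 𝒞 ≤ normalizer (K : Set G) := sSup_le hnorm
  have h1 : pCoreOf 2 K ≤ pCoreOf 2 (sSup 𝒞) :=
    Cfsg.Agent.Helper46.le_pCoreOf (d.Q_le.trans hKle) d.Q_isPGroup (hNK.trans d.nK_le_nQ)
  intro hbot
  apply d.W_ne_bot
  rw [eq_bot_iff, ← hbot]
  exact d.W_le_Q.trans h1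

end Cfsg.Agent.Helper49.ZN
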