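import Mathlib
import Cfsg.Agent.Helper49.ZNUnique

set_option autoImplicit false
set_option linter.style.haveILetI false

/-!
KS 12.1.8: uniqueness of the maximal 2-local subgroup containing `⟨K, J(T)⟩` (helper49): the key
step and the uniqueness statement.
-/

namespace Cfsg.Agent.Helper49.ZN

open Cfsg Subgroup
open Cfsg.Agent.Helper49.JComp

variable {G : Type*} [Group G] [Finite G]

section main

variable (hL : IsCharacteristicTwoType G)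
  (hN : ∀ N : Subgroup G, IsTwoLocal N → Group.IsSolvable ↥N)
  (hZ : ∀ S : Sylow 2 G, Subgroup.centralizer (omegaCenterOf (S : Subgroup G) : Set G) ≤
    Subgroup.normalizer ((S : Subgroup G) : Set G))
  (S : Sylow 2 G) {M : Subgroup G}
  (hMJ : normalizer (thompsonSubgroupOf 2 (S : Subgroup G) : Set G) ≤ M) {T : Subgroup G}
  (hT : T ∈ maxStraddlingTwoSubgroups M)

include hL hN hZ S hMJ hT in
/-- If `K'` is a `J(T)`-component outside `M` and `L₂` a maximal 2-local subgroup containing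
`⟨K', J(T)⟩`, then every `J(T)`-component `K''` normalizing `K'` lies in `L₂`. -/
theorem le_of_le_normalizer {L₂ : Subgroup G} (hL₂ : IsMaximalTwoLocal L₂)
    (hJL₂ : thompsonSubgroupOf 2 T ≤ L₂) {K' : Subgroup G} (hK' : IsJComponent T K')
    (hK'M : ¬ K' ≤ M) (hK'L₂ : K' ≤ L₂) {K'' : Subgroup G} (hK'' : IsJComponent T K'')
    (hK''n : K'' ≤ normalizer (K' : Set G)) : K'' ≤ L₂ := by
  haveI : Fact (Nat.Prime 2) := ⟨Nat.prime_two⟩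
  obtain ⟨hT2, hT1, -, -⟩ := hT.1
  have hL₂M : ¬ L₂ ≤ M := fun hc => hK'M (hK'L₂.trans hc)
  obtain ⟨T₂, hJ₂, hLT₂, hT₂1⟩ := exists_sylow_ge_thompson hL S hMJ hT hL₂.1 hL₂M hJL₂
  have d' := data_of_isJComponent hT2 hK'
  -- the set-up in `X' = N_G(K') = N_G(W_{K'})`
  have hK'0 := mem_jComponentsZero_of_not_le S hMJ hT hK' hK'M
  obtain ⟨S', hJS', hJeq, hXS⟩ := exists_sylow_normalizer_wOf hL hT2 hK'0
  have hS'1 : S' ≠ ⊥ := by
    intro hbot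
    apply thompson_ne_bot hT2 hT1
    rw [eq_bot_iff, ← hbot]
    exact hJS'
  -- the `N_{L₂}(J)`-conjugates of `K'`
  set 𝒞₂ : Set (Subgroup G) := {K₃ | ∃ m ∈ normalizer (thompsonSubgroupOf 2 T : Set G) ⊓ L₂,
    K₃ = K'.map (MulAut.conj m).toMonoidHom} with h𝒞₂
  have hK'𝒞 : K' ∈ 𝒞₂ := ⟨1, one_mem _, (map_conj_one K').symm⟩
  have hcomp : ∀ K₃ ∈ 𝒞₂, IsJComponent T K₃ ∧ K₃ ≤ L₂ := by
    rintro K₃ ⟨m, hm, rfl⟩
    refine ⟨isJComponent_map_conj_of_mem_normalizer hm.1 hK', ?_⟩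
    rintro _ ⟨x, hx, rfl⟩
    exact mul_mem (mul_mem hm.2 (hK'L₂ hx)) (inv_mem hm.2)
  -- members of `𝒞₂` normalize `K'`
  have hnK' : ∀ K₃ ∈ 𝒞₂, K₃ ≤ normalizer (K' : Set G) := by
    intro K₃ hK₃
    obtain ⟨h1, h2⟩ := hcomp K₃ hK₃
    exact le_normalizer_of_ne_global hN hZ hT₂1 hLT₂ ((isJComponent_congr hJ₂).2 hK')
      ((isJComponent_congr hJ₂).2 h1) hK'L₂ h2
  -- `K''` normalizes the members of `𝒞₂`
  have hK''X : K'' ≤ normalizer (wOf K' : Set G) := hK''n.trans d'.nK_le_nW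
  have hnK'' : ∀ K₃ ∈ 𝒞₂, K'' ≤ normalizer (K₃ : Set G) := by
    intro K₃ hK₃
    obtain ⟨h1, -⟩ := hcomp K₃ hK₃
    have hK₃X : K₃ ≤ normalizer (wOf K' : Set G) := (hnK' K₃ hK₃).trans d'.nK_le_nW
    exact le_normalizer_of_ne_global hN hZ hS'1 hXS ((isJComponent_congr hJeq).2 h1)
      ((isJComponent_congr hJeq).2 hK'') hK₃X hK''X
  have hK''N : K'' ≤ normalizer ((sSup 𝒞₂ : Subgroup G) : Set G) := le_normalizer_sSup hnK''
  -- `L₂` normalizes the join of `𝒞₂`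
  have hL₂N : L₂ ≤ normalizer ((sSup 𝒞₂ : Subgroup G) : Set G) := by
    apply le_of_components_le hN hZ hT₂1 hLT₂
    · intro K_c hK_c hK_cL
      apply le_normalizer_sSup
      intro K₃ hK₃
      obtain ⟨h1, h2⟩ := hcomp K₃ hK₃
      exact le_normalizer_of_ne_global hN hZ hT₂1 hLT₂ ((isJComponent_congr hJ₂).2 h1) hK_c h2 hK_cL
    · rw [hJ₂]
      apply le_normalizer_sSup_of_perm
      rintro x hx K₃ ⟨m, hm, rfl⟩
      exact ⟨x * m, mul_mem hx hm, map_conj_mul K' x m⟩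
  -- `O₂` of the join
  have hR1 : pCoreOf 2 (sSup 𝒞₂) ≠ ⊥ := pCoreOf_sSup_ne_bot d' hK'𝒞 hnK'
  have hR2 : IsPGroup 2 ↥(pCoreOf 2 (sSup 𝒞₂)) := Cfsg.Agent.Helper46.pCoreOf_isPGroup _
  have hloc : IsTwoLocal (normalizer ((pCoreOf 2 (sSup 𝒞₂) : Subgroup G) : Set G)) :=
    ⟨_, hR2, hR1, rfl⟩
  have hNR : normalizer ((sSup 𝒞₂ : Subgroup G) : Set G) ≤
      normalizer ((pCoreOf 2 (sSup 𝒞₂) : Subgroup G) : Set G) :=
    Cfsg.Agent.Helper21.le_normalizer_pCoreOf le_rfl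
  have heq := hL₂.2 _ hloc (hL₂N.trans hNR)
  rw [← heq]
  exact hK''N.trans hNR

include hL hN hZ S hMJ hT in
/-- KS 12.1.8 (uniqueness): two maximal 2-local subgroups containing `⟨K, J(T)⟩` are equal. -/
theorem maximalTwoLocal_unique {K : Subgroup G} (hK : IsJComponent T K) (hKM : ¬ K ≤ M)
    {L₁ L₂ : Subgroup G} (hL₁ : IsMaximalTwoLocal L₁) (hL₂ : IsMaximalTwoLocal L₂)
    (h₁ : K ⊔ thompsonSubgroupOf 2 T ≤ L₁) (h₂ : K ⊔ thompsonSubgroupOf 2 T ≤ L₂) : L₁ = L₂ := by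
  haveI : Fact (Nat.Prime 2) := ⟨Nat.prime_two⟩
  obtain ⟨hT2, hT1, -, -⟩ := hT.1
  have hfact1 := normalizer_thompson_le S hMJ hT
  have hKL₁ : K ≤ L₁ := le_sup_left.trans h₁
  have hKL₂ : K ≤ L₂ := le_sup_left.trans h₂
  have hJL₁ : thompsonSubgroupOf 2 T ≤ L₁ := le_sup_right.trans h₁
  have hJL₂ : thompsonSubgroupOf 2 T ≤ L₂ := le_sup_right.trans h₂
  have hL₁M : ¬ L₁ ≤ M := fun hc => hKM (hKL₁.trans hc)
  have hL₂M : ¬ L₂ ≤ M := fun hc => hKM (hKL₂.trans hc)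
  obtain ⟨T₁, hJ₁, hLT₁, hT₁1⟩ := exists_sylow_ge_thompson hL S hMJ hT hL₁.1 hL₁M hJL₁
  obtain ⟨T₂, hJ₂, hLT₂, hT₂1⟩ := exists_sylow_ge_thompson hL S hMJ hT hL₂.1 hL₂M hJL₂
  have d := data_of_isJComponent hT2 hK
  set 𝒮 : Set (Subgroup G) := {K' | IsJComponent T K' ∧ ¬ K' ≤ M ∧ K' ≤ L₁ ∧ K' ≤ L₂} with h𝒮
  have hK𝒮 : K ∈ 𝒮 := ⟨hK, hKM, hKL₁, hKL₂⟩
  -- conjugates by `N_G(J) ∩ Lᵢ` stay in `𝒮`
  have hconjM : ∀ {K' : Subgroup G} {n : G}, n ∈ normalizer (thompsonSubgroupOf 2 T : Set G) →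
      ¬ K' ≤ M → ¬ K'.map (MulAut.conj n).toMonoidHom ≤ M := by
    intro K' n hn hK'M hc
    apply hK'M
    intro x hx
    have hnM : n ∈ M := hfact1 hn
    have h1 : n * x * n⁻¹ ∈ M := hc ⟨x, hx, rfl⟩
    have : x = n⁻¹ * (n * x * n⁻¹) * n := by group
    rw [this]
    exact mul_mem (mul_mem (inv_mem hnM) h1) hnM
  have hconjL : ∀ {K' L' : Subgroup G} {n : G}, n ∈ L' → K' ≤ L' →
      K'.map (MulAut.conj n).toMonoidHom ≤ L' := by
    rintro K' L' n hn hK'L _ ⟨x, hx, rfl⟩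
    exact mul_mem (mul_mem hn (hK'L hx)) (inv_mem hn)
  have hperm₁ : ∀ x ∈ normalizer (thompsonSubgroupOf 2 T : Set G) ⊓ L₁, ∀ K' ∈ 𝒮,
      K'.map (MulAut.conj x).toMonoidHom ∈ 𝒮 := by
    rintro x ⟨hxJ, hxL⟩ K' ⟨h1, h2, h3, h4⟩
    have hK'' := isJComponent_map_conj_of_mem_normalizer hxJ h1
    have hK''L₁ := hconjL hxL h3
    refine ⟨hK'', hconjM hxJ h2, hK''L₁, ?_⟩
    have hn : K'.map (MulAut.conj x).toMonoidHom ≤ normalizer (K' : Set G) :=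
      le_normalizer_of_ne_global hN hZ hT₁1 hLT₁ ((isJComponent_congr hJ₁).2 h1)
        ((isJComponent_congr hJ₁).2 hK'') h3 hK''L₁
    exact le_of_le_normalizer hL hN hZ S hMJ hT hL₂ hJL₂ h1 h2 h4 hK'' hn
  have hperm₂ : ∀ x ∈ normalizer (thompsonSubgroupOf 2 T : Set G) ⊓ L₂, ∀ K' ∈ 𝒮,
      K'.map (MulAut.conj x).toMonoidHom ∈ 𝒮 := by
    rintro x ⟨hxJ, hxL⟩ K' ⟨h1, h2, h3, h4⟩
    have hK'' := isJComponent_map_conj_of_mem_normalizer hxJ h1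
    have hK''L₂ := hconjL hxL h4
    refine ⟨hK'', hconjM hxJ h2, ?_, hK''L₂⟩
    have hn : K'.map (MulAut.conj x).toMonoidHom ≤ normalizer (K' : Set G) :=
      le_normalizer_of_ne_global hN hZ hT₂1 hLT₂ ((isJComponent_congr hJ₂).2 h1)
        ((isJComponent_congr hJ₂).2 hK'') h4 hK''L₂
    exact le_of_le_normalizer hL hN hZ S hMJ hT hL₁ hJL₁ h1 h2 h3 hK'' hn
  -- both `Lᵢ` normalize the join of `𝒮`
  have hL₁N : L₁ ≤ normalizer ((sSup 𝒮 : Subgroup G) : Set G) := by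
    apply le_of_components_le hN hZ hT₁1 hLT₁
    · intro K_c hK_c hK_cL
      apply le_normalizer_sSup
      rintro K' ⟨h1, h2, h3, h4⟩
      exact le_normalizer_of_ne_global hN hZ hT₁1 hLT₁ ((isJComponent_congr hJ₁).2 h1) hK_c h3 hK_cL
    · rw [hJ₁]
      exact le_normalizer_sSup_of_perm hperm₁
  have hL₂N : L₂ ≤ normalizer ((sSup 𝒮 : Subgroup G) : Set G) := by
    apply le_of_components_le hN hZ hT₂1 hLT₂
    · intro K_c hK_c hK_cL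
      apply le_normalizer_sSup
      rintro K' ⟨h1, h2, h3, h4⟩
      exact le_normalizer_of_ne_global hN hZ hT₂1 hLT₂ ((isJComponent_congr hJ₂).2 h1) hK_c h4 hK_cL
    · rw [hJ₂]
      exact le_normalizer_sSup_of_perm hperm₂
  have hnK : ∀ K' ∈ 𝒮, K' ≤ normalizer (K : Set G) := by
    rintro K' ⟨h1, h2, h3, h4⟩
    exact le_normalizer_of_ne_global hN hZ hT₁1 hLT₁ ((isJComponent_congr hJ₁).2 hK)
      ((isJComponent_congr hJ₁).2 h1) hKL₁ h3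
  have hR1 : pCoreOf 2 (sSup 𝒮) ≠ ⊥ := pCoreOf_sSup_ne_bot d hK𝒮 hnK
  have hR2 : IsPGroup 2 ↥(pCoreOf 2 (sSup 𝒮)) := Cfsg.Agent.Helper46.pCoreOf_isPGroup _
  have hloc : IsTwoLocal (normalizer ((pCoreOf 2 (sSup 𝒮) : Subgroup G) : Set G)) :=
    ⟨_, hR2, hR1, rfl⟩
  have hNR : normalizer ((sSup 𝒮 : Subgroup G) : Set G) ≤
      normalizer ((pCoreOf 2 (sSup 𝒮) : Subgroup G) : Set G) :=
    Cfsg.Agent.Helper21.le_normalizer_pCoreOf le_rfl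
  have heq₁ := hL₁.2 _ hloc (hL₁N.trans hNR)
  have heq₂ := hL₂.2 _ hloc (hL₂N.trans hNR)
  rw [← heq₁, ← heq₂]

end main

end Cfsg.Agent.Helper49.ZN
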